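import Groth.Agent.Lib.Helper5.DualBasis
import Groth.Prelude.Def_FlatMod2

/-!
# Finite locally free modules on a scheme have local dual bases
-/

set_option autoImplicit false

universe u

open CategoryTheory Limits Opposite AlgebraicGeometry TopologicalSpace

noncomputable section

namespace Groth.Agent.Lib.Helper5.LocBasisScheme

open Groth.Agent.Lib.Helper17.IHom Groth.Agent.Lib.Helper5.DualBasis

section coprod

variable {A : Type*} [Category A] [Preadditive A] {n : ℕ} (T : A) [HasCoproduct (fun _ : Fin n => T)]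

/-- the projections of a finite copower -/
def proj (k : Fin n) : (∐ fun _ : Fin n => T) ⟶ T :=
  Sigma.desc (fun j => if j = k then 𝟙 T else 0)

lemma sum_proj_ι : ∑ k : Fin n, proj T k ≫ Sigma.ι (fun _ : Fin n => T) k = 𝟙 _ := by
  apply Sigma.hom_ext
  intro j
  rw [Preadditive.comp_sum, Category.comp_id]
  have : ∀ k : Fin n, Sigma.ι (fun _ : Fin n => T) j ≫ proj T k ≫ Sigma.ι (fun _ : Fin n => T) k =
      if k = j then Sigma.ι (fun _ : Fin n => T) j else 0 := by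
    intro k
    unfold proj
    rw [Sigma.ι_desc_assoc]
    by_cases h : j = k
    · subst h
      simp
    · rw [if_neg h, if_neg (fun h' => h h'.symm), zero_comp]
  rw [Finset.sum_congr rfl (fun k _ => this k), Finset.sum_ite_eq' Finset.univ j]
  simp

end coprod

variable {X : Scheme.{u}} (E : X.Modules) (V : X.Opens)

lemma image_preimage_of_le {W : X.Opens} (h : W ≤ V) : V.ι ''ᵁ (V.ι ⁻¹ᵁ W) = W := by
  rw [Scheme.Hom.image_preimage_eq_opensRange_inf, Scheme.Opens.opensRange_ι]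
  exact inf_eq_right.2 h

/-- the unit module on the open subscheme -/
abbrev unitV : (↑V : Scheme.{u}).Modules := SheafOfModules.unit (↑V : Scheme.{u}).ringCatSheaf

lemma restrict_smul (W' : (↑V : Scheme.{u}).Opens) (r : Γ(X, V.ι ''ᵁ W')) (m : Γ(E, V.ι ''ᵁ W')) :
    (@HSMul.hSMul Γ(↑V, W') Γ(E.restrict V.ι, W') Γ(E.restrict V.ι, W') _ r m) = r • m := by
  have h := Scheme.Opens.ι_appIso V W'
  change (((V.ι.appIso W').inv r : Γ(X, V.ι ''ᵁ W')) • m : Γ(E, V.ι ''ᵁ W')) = r • m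
  rw [h]
  rfl

/-- the map on sections induced by `b`, with the types of `X` -/
def bApp (b : E.restrict V.ι ⟶ unitV V) (W' : (↑V : Scheme.{u}).Opens) :
    Γ(E, V.ι ''ᵁ W') →+ Γ(X, V.ι ''ᵁ W') :=
  (b.app W').hom

lemma bApp_smul (b : E.restrict V.ι ⟶ unitV V) (W' : (↑V : Scheme.{u}).Opens)
    (r : Γ(X, V.ι ''ᵁ W')) (m : Γ(E, V.ι ''ᵁ W')) :
    bApp E V b W' (r • m) = r * bApp E V b W' m := by
  rw [← restrict_smul]
  exact Scheme.Modules.Hom.app_smul b (U := W') r m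

lemma bApp_nat (b : E.restrict V.ι ⟶ unitV V) {W₁' W₂' : (↑V : Scheme.{u}).Opens} (h : W₂' ≤ W₁')
    (m : Γ(E, V.ι ''ᵁ W₁')) :
    X.presheaf.map (homOfLE (V.ι.image_mono h)).op (bApp E V b W₁' m) =
      bApp E V b W₂' (E.presheaf.map (homOfLE (V.ι.image_mono h)).op m) := by
  have := PresheafOfModules.naturality_apply b.val (homOfLE h).op m
  exact this.symm

/-- the map on sections induced by `a` -/
def aApp (a : unitV V ⟶ E.restrict V.ι) (W' : (↑V : Scheme.{u}).Opens) :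
    Γ(X, V.ι ''ᵁ W') →+ Γ(E, V.ι ''ᵁ W') :=
  (a.app W').hom

lemma aApp_mul (a : unitV V ⟶ E.restrict V.ι) (W' : (↑V : Scheme.{u}).Opens)
    (r y : Γ(X, V.ι ''ᵁ W')) :
    aApp E V a W' (r * y) = r • aApp E V a W' y := by
  rw [← restrict_smul]
  exact Scheme.Modules.Hom.app_smul a (U := W') r y

lemma aApp_nat (a : unitV V ⟶ E.restrict V.ι) {W₁' W₂' : (↑V : Scheme.{u}).Opens} (h : W₂' ≤ W₁')
    (y : Γ(X, V.ι ''ᵁ W₁')) :
    E.presheaf.map (homOfLE (V.ι.image_mono h)).op (aApp E V a W₁' y) =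
      aApp E V a W₂' (X.presheaf.map (homOfLE (V.ι.image_mono h)).op y) := by
  have := PresheafOfModules.naturality_apply a.val (homOfLE h).op y
  exact this.symm

lemma E_map_map {U₁ U₂ U₃ : X.Opens} (i : U₁ ⟶ U₂) (j : U₂ ⟶ U₃) (k : U₁ ⟶ U₃)
    (x : Γ(E, U₃)) :
    E.presheaf.map i.op (E.presheaf.map j.op x) = E.presheaf.map k.op x := by
  have hk : i ≫ j = k := Subsingleton.elim _ _
  rw [← ConcreteCategory.comp_apply, ← E.presheaf.map_comp, ← op_comp, hk]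

lemma E_map_id {U : X.Opens} (i : U ⟶ U) (x : Γ(E, U)) : E.presheaf.map i.op x = x := by
  have : i = 𝟙 U := Subsingleton.elim _ _
  rw [this, op_id, E.presheaf.map_id]
  rfl

lemma X_map_map {U₁ U₂ U₃ : X.Opens} (i : U₁ ⟶ U₂) (j : U₂ ⟶ U₃) (k : U₁ ⟶ U₃)
    (x : Γ(X, U₃)) :
    X.presheaf.map i.op (X.presheaf.map j.op x) = X.presheaf.map k.op x := by
  have hk : i ≫ j = k := Subsingleton.elim _ _
  rw [← ConcreteCategory.comp_apply, ← X.presheaf.map_comp, ← op_comp, hk]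

lemma X_map_id {U : X.Opens} (i : U ⟶ U) (x : Γ(X, U)) : X.presheaf.map i.op x = x := by
  have : i = 𝟙 U := Subsingleton.elim _ _
  rw [this, op_id, X.presheaf.map_id]
  rfl

lemma E_map_smul {U₁ U₂ : X.Opens} (i : U₁ ⟶ U₂) (r : Γ(X, U₂)) (x : Γ(E, U₂)) :
    E.presheaf.map i.op (r • x) = X.presheaf.map i.op r • E.presheaf.map i.op x :=
  Scheme.Modules.map_smul E i r x

variable {V}

/-- `ι''ι⁻¹W ⟶ W` -/
def dn {W : X.Opens} (h : W ≤ V) : V.ι ''ᵁ (V.ι ⁻¹ᵁ W) ⟶ W := homOfLE (image_preimage_of_le V h).le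

/-- `W ⟶ ι''ι⁻¹W` -/
def up {W : X.Opens} (h : W ≤ V) : W ⟶ V.ι ''ᵁ (V.ι ⁻¹ᵁ W) := homOfLE (image_preimage_of_le V h).ge

/-- the coordinate function attached to `b` -/
def coord (b : E.restrict V.ι ⟶ unitV V) {W : X.Opens} (h : W ≤ V) : Γ(E, W) →+ Γ(X, W) :=
  ((X.presheaf.map (up h).op).hom : Γ(X, V.ι ''ᵁ (V.ι ⁻¹ᵁ W)) →+* Γ(X, W)).toAddMonoidHom.comp
    ((bApp E V b (V.ι ⁻¹ᵁ W)).comp (E.presheaf.map (dn h).op).hom)

lemma coord_apply (b : E.restrict V.ι ⟶ unitV V) {W : X.Opens} (h : W ≤ V) (e : Γ(E, W)) :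
    coord E b h e = X.presheaf.map (up h).op (bApp E V b (V.ι ⁻¹ᵁ W) (E.presheaf.map (dn h).op e)) :=
  rfl

lemma coord_smul (b : E.restrict V.ι ⟶ unitV V) {W : X.Opens} (h : W ≤ V) (r : Γ(X, W))
    (e : Γ(E, W)) : coord E b h (r • e) = r * coord E b h e := by
  rw [coord_apply, coord_apply, E_map_smul, bApp_smul, map_mul, X_map_map _ _ (𝟙 W), X_map_id]

lemma coord_nat (b : E.restrict V.ι ⟶ unitV V) {W₁ W₂ : X.Opens} (h₁ : W₁ ≤ V) (i : W₂ ⟶ W₁)
    (e : Γ(E, W₁)) :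
    X.presheaf.map i.op (coord E b h₁ e) =
      coord E b ((leOfHom i).trans h₁) (E.presheaf.map i.op e) := by
  have h' : V.ι ⁻¹ᵁ W₂ ≤ V.ι ⁻¹ᵁ W₁ := fun x hx => leOfHom i hx
  rw [coord_apply, coord_apply,
    X_map_map i (up h₁) (up ((leOfHom i).trans h₁) ≫ homOfLE (V.ι.image_mono h')),
    ← X_map_map (up ((leOfHom i).trans h₁)) (homOfLE (V.ι.image_mono h')), bApp_nat E V b h',
    E_map_map E _ (dn h₁) (dn ((leOfHom i).trans h₁) ≫ i),
    ← E_map_map E (dn ((leOfHom i).trans h₁)) i]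

/-- the generator attached to `a` -/
def gen (a : unitV V ⟶ E.restrict V.ι) {W : X.Opens} (h : W ≤ V) : Γ(E, W) :=
  E.presheaf.map (up h).op (aApp E V a (V.ι ⁻¹ᵁ W) 1)

lemma gen_nat (a : unitV V ⟶ E.restrict V.ι) {W₁ W₂ : X.Opens} (h₁ : W₁ ≤ V) (i : W₂ ⟶ W₁) :
    E.presheaf.map i.op (gen E a h₁) = gen E a ((leOfHom i).trans h₁) := by
  have h' : V.ι ⁻¹ᵁ W₂ ≤ V.ι ⁻¹ᵁ W₁ := fun x hx => leOfHom i hx
  unfold gen
  rw [E_map_map E i (up h₁) (up ((leOfHom i).trans h₁) ≫ homOfLE (V.ι.image_mono h')),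
    ← E_map_map E (up ((leOfHom i).trans h₁)) (homOfLE (V.ι.image_mono h')), aApp_nat E V a h',
    map_one]

/-- `a (b m)` in terms of coordinates and generators -/
lemma up_aApp_bApp (a : unitV V ⟶ E.restrict V.ι) (b : E.restrict V.ι ⟶ unitV V) {W : X.Opens}
    (h : W ≤ V) (e : Γ(E, W)) :
    E.presheaf.map (up h).op (aApp E V a (V.ι ⁻¹ᵁ W)
      (bApp E V b (V.ι ⁻¹ᵁ W) (E.presheaf.map (dn h).op e))) = coord E b h e • gen E a h := by
  have h1 : bApp E V b (V.ι ⁻¹ᵁ W) (E.presheaf.map (dn h).op e) =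
      bApp E V b (V.ι ⁻¹ᵁ W) (E.presheaf.map (dn h).op e) * 1 := (mul_one _).symm
  rw [h1, aApp_mul, E_map_smul]
  rfl

lemma sum_app_apply {Y : Scheme.{u}} {M N : Y.Modules} {ι : Type*} (s : Finset ι)
    (φ : ι → (M ⟶ N)) (U : Y.Opens) (m : Γ(M, U)) :
    ((∑ k ∈ s, φ k).app U).hom m = ∑ k ∈ s, ((φ k).app U).hom m := by
  classical
  induction s using Finset.induction_on with
  | empty => simp
  | insert k s hk ih =>
    rw [Finset.sum_insert hk, Finset.sum_insert hk, Scheme.Modules.Hom.add_app, ← ih]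
    rfl

variable {n : ℕ} (a : Fin n → (unitV V ⟶ E.restrict V.ι)) (b : Fin n → (E.restrict V.ι ⟶ unitV V))
  (hab : ∑ k, b k ≫ a k = 𝟙 _)

include hab in
lemma sum_aApp_bApp (W' : (↑V : Scheme.{u}).Opens) (m : Γ(E, V.ι ''ᵁ W')) :
    m = ∑ k, aApp E V (a k) W' (bApp E V (b k) W' m) := by
  have h1 := sum_app_apply Finset.univ (fun k => b k ≫ a k) W' m
  rw [hab] at h1
  exact h1

include hab in
lemma total {W : X.Opens} (h : W ≤ V) (e : Γ(E, W)) :
    e = ∑ k, coord E (b k) h e • gen E (a k) h := by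
  have h1 : e = E.presheaf.map (up h).op (E.presheaf.map (dn h).op e) := by
    rw [E_map_map E (up h) (dn h) (𝟙 W), E_map_id]
  have h2 := sum_aApp_bApp E a b hab (V.ι ⁻¹ᵁ W) (E.presheaf.map (dn h).op e)
  conv_lhs => rw [h1, h2]
  rw [map_sum]
  exact Finset.sum_congr rfl (fun k _ => up_aApp_bApp E (a k) (b k) h e)

/-- the local dual basis attached to a finite decomposition of the identity -/
def locBasis : LocBasis (toPMod (O := X.sheaf) E) V n where
  s k := gen E (a k) le_rfl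
  c k {W} g := coord E (b k) (leOfHom g)
  c_smul k {W} g r e := coord_smul E (b k) (leOfHom g) r e
  c_nat k {W W'} g h e := coord_nat E (b k) (leOfHom g) h e
  total {W} g e := by
    refine (total E a b hab (leOfHom g) e).trans (Finset.sum_congr rfl fun k _ => ?_)
    congr 1
    exact (gen_nat E (a k) le_rfl g).symm

variable (V) in
/-- a trivialization gives a local dual basis -/
theorem nonempty_locBasis_of_iso (e : E.restrict V.ι ≅ FlatMod.freeMod (↑V) n) :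
    Nonempty (LocBasis (toPMod (O := X.sheaf) E) V n) := by
  refine ⟨locBasis E (fun k => Sigma.ι (fun _ : Fin n => unitV V) k ≫ e.inv)
    (fun k => e.hom ≫ proj (unitV V) k) ?_⟩
  have h1 : ∀ k : Fin n, (e.hom ≫ proj (unitV V) k) ≫ Sigma.ι (fun _ : Fin n => unitV V) k ≫ e.inv =
      e.hom ≫ (proj (unitV V) k ≫ Sigma.ι (fun _ : Fin n => unitV V) k) ≫ e.inv := by
    intro k
    simp only [Category.assoc]
  rw [Finset.sum_congr rfl (fun k _ => h1 k), ← Preadditive.comp_sum, ← Preadditive.sum_comp,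
    sum_proj_ι]
  simp

/-- **Finite locally free modules have local dual bases.** -/
theorem hasLocBases_of_isFinLocFree (hE : FlatMod.IsFinLocFree E) :
    HasLocBases (O := X.sheaf) E := by
  intro Y
  let S : Sieve Y :=
    { arrows := fun W _ => ∃ n : ℕ, Nonempty (LocBasis (toPMod (O := X.sheaf) E) W n)
      downward_closed := by
        rintro W W' g ⟨n, ⟨lb⟩⟩ h
        exact ⟨n, ⟨lb.pullback h⟩⟩ }
  refine ⟨S, ?_, fun g hg => hg⟩
  intro x hx
  obtain ⟨U, n, hxU, ⟨e⟩⟩ := hE x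
  obtain ⟨lb⟩ := nonempty_locBasis_of_iso E U e
  refine ⟨U ⊓ Y, homOfLE inf_le_right, ⟨n, ⟨lb.pullback (homOfLE inf_le_left)⟩⟩, ⟨hxU, hx⟩⟩

end Groth.Agent.Lib.Helper5.LocBasisScheme
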