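import Mathlib.LinearAlgebra.TensorProduct.Basic
import Mathlib.Algebra.BigOperators.Group.Finset.Basic

/-!
# Base change of a module with a finite coordinate system

If `E` has a finite coordinate system `(s_i, c_i)` over `R` and `E'` has the coordinate system
`(η s_i, c'_i)` over `R'`, compatible along `φ : R → R'`, then `M ⊗_R E → M ⊗_{R'} E'` is bijective.
-/

set_option autoImplicit false

open TensorProduct

namespace Groth.Agent.Lib.Helper5.BaseChangeBasis

variable {R R' : Type*} [CommRing R] [CommRing R'] (φ : R →+* R')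
  {M M' E E' : Type*} [AddCommGroup M] [Module R M] [AddCommGroup M'] [Module R' M']
  [AddCommGroup E] [Module R E] [AddCommGroup E'] [Module R' E']
  (t : M ≃+ M') (ht : ∀ (r : R) (m : M), t (r • m) = φ r • t m)
  (η : E →+ E')
  {n : ℕ} (s : Fin n → E) (c : Fin n → E →+ R) (c' : Fin n → E' →+ R')
  (hc' : ∀ (i : Fin n) (r' : R') (e' : E'), c' i (r' • e') = r' * c' i e')
  (tot : ∀ e : E, e = ∑ i, c i e • s i) (tot' : ∀ e' : E', e' = ∑ i, c' i e' • η (s i))
  (compat : ∀ (i : Fin n) (e : E), c' i (η e) = φ (c i e))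

include ht in
lemma t_symm_smul (r : R) (m' : M') : t.symm (φ r • m') = r • t.symm m' := by
  apply t.injective
  rw [ht, AddEquiv.apply_symm_apply, AddEquiv.apply_symm_apply]

/-- the inverse map -/
noncomputable def rho : M' ⊗[R'] E' →+ M ⊗[R] E :=
  liftAddHom
    (AddMonoidHom.mk' (fun m' => AddMonoidHom.mk' (fun e' => ∑ i, t.symm (c' i e' • m') ⊗ₜ[R] s i)
      (by
        intro e e'
        rw [← Finset.sum_add_distrib]
        refine Finset.sum_congr rfl fun i _ => ?_
        rw [map_add, add_smul, map_add, add_tmul]))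
      (by
        intro m m'
        ext e'
        show ∑ i, t.symm (c' i e' • (m + m')) ⊗ₜ[R] s i =
          ∑ i, t.symm (c' i e' • m) ⊗ₜ[R] s i + ∑ i, t.symm (c' i e' • m') ⊗ₜ[R] s i
        rw [← Finset.sum_add_distrib]
        refine Finset.sum_congr rfl fun i _ => ?_
        rw [smul_add, map_add, add_tmul]))
    (by
      intro r' m' e'
      show ∑ i, t.symm (c' i e' • r' • m') ⊗ₜ[R] s i = ∑ i, t.symm (c' i (r' • e') • m') ⊗ₜ[R] s i
      refine Finset.sum_congr rfl fun i _ => ?_
      rw [hc', mul_smul, smul_comm])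

lemma rho_tmul (m' : M') (e' : E') :
    rho t s c' hc' (m' ⊗ₜ[R'] e') = ∑ i, t.symm (c' i e' • m') ⊗ₜ[R] s i := rfl

include ht tot compat in
lemma rho_iota (ι : M ⊗[R] E →+ M' ⊗[R'] E') (hι : ∀ m e, ι (m ⊗ₜ[R] e) = t m ⊗ₜ[R'] η e)
    (x : M ⊗[R] E) : rho t s c' hc' (ι x) = x := by
  induction x using TensorProduct.induction_on with
  | zero => rw [map_zero, map_zero]
  | tmul m e =>
    rw [hι, rho_tmul]
    conv_rhs => rw [tot e, tmul_sum]
    refine Finset.sum_congr rfl fun i _ => ?_
    rw [compat, t_symm_smul φ t ht, AddEquiv.symm_apply_apply, smul_tmul]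
  | add x y hx hy => rw [map_add, map_add, hx, hy]

include tot' in
lemma iota_rho (ι : M ⊗[R] E →+ M' ⊗[R'] E') (hι : ∀ m e, ι (m ⊗ₜ[R] e) = t m ⊗ₜ[R'] η e)
    (y : M' ⊗[R'] E') : ι (rho t s c' hc' y) = y := by
  induction y using TensorProduct.induction_on with
  | zero => rw [map_zero, map_zero]
  | tmul m' e' =>
    rw [rho_tmul, map_sum]
    conv_rhs => rw [tot' e', tmul_sum]
    refine Finset.sum_congr rfl fun i _ => ?_
    rw [hι, AddEquiv.apply_symm_apply, smul_tmul]
  | add x y hx hy => rw [map_add, map_add, hx, hy]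

include ht tot tot' compat hc' in
theorem bijective (ι : M ⊗[R] E →+ M' ⊗[R'] E')
    (hι : ∀ m e, ι (m ⊗ₜ[R] e) = t m ⊗ₜ[R'] η e) : Function.Bijective ι :=
  ⟨Function.LeftInverse.injective (rho_iota φ t ht η s c c' hc' tot compat ι hι),
    Function.RightInverse.surjective (iota_rho t η s c' hc' tot' ι hι)⟩

end Groth.Agent.Lib.Helper5.BaseChangeBasis
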