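import Groth.Agent.Lib.Helper22.DeltaMV
import Groth.Agent.Lib.Helper22.RightDerivedExact

/-!
# Precomposition of a δ-functor with an exact functor

* `precompDelta T E`: the δ-functor `X ↦ T^n (E X)` for an exact functor `E`;
* `rightDerivedPrecompIso`: for `E` exact sending injectives to `G`-acyclic objects and `G` left
  exact, `R^q (E ⋙ G) ≅ E ⋙ R^q G`.
-/

set_option autoImplicit false

universe v u v' u' v'' u''

open CategoryTheory CategoryTheory.Limits

namespace Groth.Agent.Lib.Helper5.PrecompDelta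

open Groth.Agent.Lib.Helper22.DeltaMV Groth.Agent.Lib.Helper22

variable {A : Type u} [Category.{v} A] [Abelian A] {B : Type u'} [Category.{v'} B] [Abelian B]
  {D : Type u''} [Category.{v''} D] [Abelian D]

/-- Precomposition of a δ-functor with an exact functor. -/
noncomputable def precompDelta (T : DeltaF.CohDeltaFunctor B D ℕ) (E : A ⥤ B) [E.Additive]
    [PreservesFiniteLimits E] [PreservesFiniteColimits E] : DeltaF.CohDeltaFunctor A D ℕ where
  F n := E ⋙ T.F n
  additive n := inferInstance
  δ S hS n₀ n₁ h := T.δ (S.map E) (hS.map_of_exact E) n₀ n₁ h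
  δ_natural {S S'} hS hS' φ n₀ n₁ h :=
    T.δ_natural (hS.map_of_exact E) (hS'.map_of_exact E) (E.mapShortComplex.map φ) n₀ n₁ h
  exact₂ S hS n := T.exact₂ (S.map E) (hS.map_of_exact E) n
  comp_δ S hS n₀ n₁ h := T.comp_δ (S.map E) (hS.map_of_exact E) n₀ n₁ h
  exact₃ S hS n₀ n₁ h := T.exact₃ (S.map E) (hS.map_of_exact E) n₀ n₁ h
  δ_comp S hS n₀ n₁ h := T.δ_comp (S.map E) (hS.map_of_exact E) n₀ n₁ h
  exact₁ S hS n₀ n₁ h := T.exact₁ (S.map E) (hS.map_of_exact E) n₀ n₁ h

variable [EnoughInjectives A] [EnoughInjectives B]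

section

variable (E : A ⥤ B) (G : B ⥤ D) [E.Additive] [G.Additive]
  [PreservesFiniteLimits E] [PreservesFiniteColimits E] [PreservesFiniteLimits G]

/-- the δ-functor `X ↦ R^n G (E X)` -/
noncomputable abbrev TT : DeltaF.CohDeltaFunctor A D ℕ := precompDelta (RD G) E

lemma TT_F (n : ℕ) : (TT E G).F n = E ⋙ G.rightDerived n := rfl

lemma TT_zeroMono : (TT E G).ZeroMono := by
  intro S hS
  haveI : Mono S.f := hS.mono_f
  haveI : Mono (E.map S.f) := inferInstance
  haveI : Mono (G.map (E.map S.f)) := inferInstance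
  have h2 := G.rightDerivedZeroIsoSelf.hom.naturality (E.map S.f)
  have h3 : Mono ((G.rightDerived 0).map (E.map S.f) ≫
      G.rightDerivedZeroIsoSelf.hom.app (E.obj S.X₂)) := by
    rw [h2]
    infer_instance
  exact mono_of_mono ((G.rightDerived 0).map (E.map S.f))
    (G.rightDerivedZeroIsoSelf.hom.app (E.obj S.X₂))

lemma TT_isEffaceable
    (hacyc : ∀ (I : A), Injective I → ∀ n : ℕ, IsZero ((G.rightDerived (n + 1)).obj (E.obj I))) :
    (TT E G).IsEffaceable := by
  intro n X
  refine ⟨Injective.under X, Injective.ι X, inferInstance, ?_⟩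
  exact (hacyc (Injective.under X) inferInstance n).eq_of_tgt _ _

/-- the degree zero iso -/
noncomputable def TT0Iso : E ⋙ G ≅ (TT E G).F 0 :=
  Functor.isoWhiskerLeft E G.rightDerivedZeroIsoSelf.symm

/-- **Right derived functors of `E ⋙ G`** for `E` exact with `E(injective)` being `G`-acyclic. -/
noncomputable def rightDerivedPrecompIso
    (hacyc : ∀ (I : A), Injective I → ∀ n : ℕ, IsZero ((G.rightDerived (n + 1)).obj (E.obj I)))
    (q : ℕ) : (E ⋙ G).rightDerived q ≅ E ⋙ G.rightDerived q :=
  DimShift.rightDerivedIsoOfNatIso (TT0Iso E G) q ≪≫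
    { hom := (θ (TT E G) (TT_isEffaceable E G hacyc) (TT_zeroMono E G)).hom.app q
      inv := (θ (TT E G) (TT_isEffaceable E G hacyc) (TT_zeroMono E G)).inv.app q
      hom_inv_id := by
        have h := congrArg (fun φ : RD ((TT E G).F 0) ⟶ RD ((TT E G).F 0) => φ.app q)
          (θ (TT E G) (TT_isEffaceable E G hacyc) (TT_zeroMono E G)).hom_inv_id
        exact h
      inv_hom_id := by
        have h := congrArg (fun φ : TT E G ⟶ TT E G => φ.app q)
          (θ (TT E G) (TT_isEffaceable E G hacyc) (TT_zeroMono E G)).inv_hom_id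
        exact h }

end

end Groth.Agent.Lib.Helper5.PrecompDelta
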