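import Groth.Agent.Lib.Helper5.ExtDerived
import Groth.Agent.Lib.Helper5.PrecompDelta
import Mathlib.CategoryTheory.Adjunction.Additive

/-!
# `Ext^q(L X, Y) ≅ Ext^q(X, R Y)` for an adjunction of exact functors
-/

set_option autoImplicit false

universe v u u'

open CategoryTheory CategoryTheory.Limits Opposite Abelian

noncomputable section

namespace Groth.Agent.Lib.Helper5.ExtAdj

open Groth.Agent.Lib.Helper5

variable {A : Type u} [Category.{v} A] [Abelian A] [HasExt.{v} A] [EnoughInjectives A]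
  {B : Type u'} [Category.{v} B] [Abelian B] [HasExt.{v} B] [EnoughInjectives B]
  {L : A ⥤ B} {R : B ⥤ A} (adj : L ⊣ R) [L.Additive] [R.Additive]

/-- `Hom(L X, -) ≅ Hom(X, R -)` as functors to abelian groups -/
def coyonedaAdjIso (X : A) : ExtDer.G (L.obj X) ≅ R ⋙ ExtDer.G X :=
  NatIso.ofComponents (fun Y => (adj.homAddEquiv X Y).toAddCommGrpIso) (by
    intro Y Y' f
    ext g
    exact adj.homEquiv_naturality_right g f)

variable [PreservesFiniteLimits L] [PreservesFiniteColimits R] [PreservesFiniteLimits R]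

include adj in
lemma isZero_rightDerived_obj_R (X : A) (I : B) (hI : Injective I) (n : ℕ) :
    IsZero (((ExtDer.G X).rightDerived (n + 1)).obj (R.obj I)) := by
  haveI : L.PreservesMonomorphisms := inferInstance
  haveI : Injective (R.obj I) := Injective.injective_of_adjoint adj I
  exact Functor.isZero_rightDerived_obj_injective_succ _ _ _

/-- `Ext^q(L X, -) ≅ R ⋙ Ext^q(X, -)` -/
def extFunctorIso (X : A) (q : ℕ) : extFunctorObj (L.obj X) q ≅ R ⋙ extFunctorObj X q :=
  (ExtDer.extIso (L.obj X) q).symm ≪≫ ExtDer.rightDerivedMapIso (coyonedaAdjIso adj X) q ≪≫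
    PrecompDelta.rightDerivedPrecompIso R (ExtDer.G X)
      (fun I hI n => isZero_rightDerived_obj_R adj X I hI n) q ≪≫
    Functor.isoWhiskerLeft R (ExtDer.extIso X q)

include adj in
theorem nonempty_ext_addEquiv (X : A) (Y : B) (q : ℕ) :
    Nonempty (Ext (L.obj X) Y q ≃+ Ext X (R.obj Y) q) :=
  ⟨((extFunctorIso adj X q).app Y).addCommGroupIsoToAddEquiv⟩

end Groth.Agent.Lib.Helper5.ExtAdj
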