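import Mathlib.CategoryTheory.Abelian.RightDerived
import Mathlib.Algebra.Homology.ShortComplex.ExactFunctor
import Mathlib.Algebra.Homology.ShortComplex.PreservesHomology

/-!
# Right derived functors and post-composition with an exact functor
`R^q(F ⋙ E) ≅ R^q F ⋙ E` for `E` exact.
-/

set_option autoImplicit false
universe v v' v'' u u' u''
open CategoryTheory CategoryTheory.Limits

namespace Groth.Agent.Lib.Helper5.RDPost

variable {C : Type u} [Category.{v} C] [Abelian C] [HasInjectiveResolutions C]
  {D : Type u'} [Category.{v'} D] [Abelian D]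
  {D' : Type u''} [Category.{v''} D'] [Abelian D']
  (F : C ⥤ D) [F.Additive] (E : D ⥤ D') [E.Additive] [E.PreservesHomology]

/-- homology commutes with an exact functor -/
noncomputable def homologyMapIso (K : CochainComplex D ℕ) (q : ℕ) :
    (HomologicalComplex.homologyFunctor D' _ q).obj ((E.mapHomologicalComplex _).obj K) ≅
      E.obj ((HomologicalComplex.homologyFunctor D _ q).obj K) :=
  (K.sc q).mapHomologyIso E

lemma homologyMapIso_naturality {K L : CochainComplex D ℕ} (φ : K ⟶ L) (q : ℕ) :
    (HomologicalComplex.homologyFunctor D' _ q).map ((E.mapHomologicalComplex _).map φ) ≫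
      (homologyMapIso E L q).hom =
    (homologyMapIso E K q).hom ≫ E.map ((HomologicalComplex.homologyFunctor D _ q).map φ) :=
  ShortComplex.mapHomologyIso_hom_naturality
    ((HomologicalComplex.shortComplexFunctor D _ q).map φ) E

/-- component of `R^q(F ⋙ E) ≅ R^q F ⋙ E` -/
noncomputable def postIsoApp (q : ℕ) (X : C) :
    ((F ⋙ E).rightDerived q).obj X ≅ E.obj ((F.rightDerived q).obj X) :=
  (injectiveResolution X).isoRightDerivedObj (F ⋙ E) q ≪≫
    homologyMapIso E ((F.mapHomologicalComplex _).obj (injectiveResolution X).cocomplex) q ≪≫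
    E.mapIso ((injectiveResolution X).isoRightDerivedObj F q).symm

/-- `R^q(F ⋙ E) ≅ R^q F ⋙ E` for `E` exact. -/
noncomputable def rightDerivedPostIso (q : ℕ) : (F ⋙ E).rightDerived q ≅ F.rightDerived q ⋙ E :=
  NatIso.ofComponents (postIsoApp F E q) (by
    intro X Y f
    have h1 := InjectiveResolution.isoRightDerivedObj_hom_naturality f (injectiveResolution X)
      (injectiveResolution Y) (InjectiveResolution.desc f _ _)
      (InjectiveResolution.desc_commutes_zero f _ _) (F ⋙ E) q
    have h2 := InjectiveResolution.isoRightDerivedObj_inv_naturality f (injectiveResolution X)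
      (injectiveResolution Y) (InjectiveResolution.desc f _ _)
      (InjectiveResolution.desc_commutes_zero f _ _) F q
    have h3 := homologyMapIso_naturality E
      ((F.mapHomologicalComplex _).map (InjectiveResolution.desc f (injectiveResolution Y)
        (injectiveResolution X))) q
    have h2' := congrArg E.map h2
    rw [E.map_comp, E.map_comp] at h2'
    let KX := (F.mapHomologicalComplex (ComplexShape.up ℕ)).obj (injectiveResolution X).cocomplex
    let KY := (F.mapHomologicalComplex (ComplexShape.up ℕ)).obj (injectiveResolution Y).cocomplex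
    change ((F ⋙ E).rightDerived q).map f ≫
      ((injectiveResolution Y).isoRightDerivedObj (F ⋙ E) q).hom ≫
        (homologyMapIso E KY q).hom ≫ E.map ((injectiveResolution Y).isoRightDerivedObj F q).inv =
      (((injectiveResolution X).isoRightDerivedObj (F ⋙ E) q).hom ≫
        (homologyMapIso E KX q).hom ≫ E.map ((injectiveResolution X).isoRightDerivedObj F q).inv) ≫
          E.map ((F.rightDerived q).map f)
    refine (Category.assoc _ _ _).symm.trans ?_
    refine (congrArg (· ≫ (homologyMapIso E KY q).hom ≫
      E.map ((injectiveResolution Y).isoRightDerivedObj F q).inv) h1).trans ?_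
    refine (Category.assoc _ _ _).trans ?_
    refine Eq.trans ?_ (Category.assoc _ _ _).symm
    refine congrArg (((injectiveResolution X).isoRightDerivedObj (F ⋙ E) q).hom ≫ ·) ?_
    refine (Category.assoc _ _ _).symm.trans ?_
    refine (congrArg (· ≫ E.map ((injectiveResolution Y).isoRightDerivedObj F q).inv) h3).trans ?_
    refine (Category.assoc _ _ _).trans ?_
    refine Eq.trans ?_ (Category.assoc _ _ _).symm
    exact congrArg ((homologyMapIso E KX q).hom ≫ ·) h2'.symm)

end Groth.Agent.Lib.Helper5.RDPost
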