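import Groth.Agent.Lib.Helper5.TensorDual
import Groth.Agent.Lib.Helper5.LocBasisScheme
import Groth.Agent.Lib.Helper5.RDPost
import Groth.Agent.Lib.Helper17.ProjFormula
import Groth.Agent.Lib.Helper22.RightDerivedExact
import Groth.Agent.Lib.Helper5.ExtAdj

/-!
# Consequences of `- ⊗ E^∨ ≅ Hom(E, -)` for modules with local dual bases

Flatness, injectivity of `E ⊗ I`, and `Ext^q(E ⊗ F, G) ≅ Ext^q(F, G) ⊗ E^∨`.
-/

set_option autoImplicit false

universe u

open CategoryTheory Limits Opposite

noncomputable section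

namespace Groth.Agent.Lib.Helper5.FinLocFreeDual

open Groth.Agent.Lib.Helper17.IHom Groth.Agent.Lib.Helper17.Tensor
  Groth.Agent.Lib.Helper5.DualBasis Groth.Agent.Lib.Helper5.TensorDual
  Groth.Agent.Lib.Helper17.ProjFormula

section site

variable {C : Type u} [SmallCategory C] {J : GrothendieckTopology C} {O : Sheaf J CommRingCat.{u}}

/-- `- ⊗ M` -/
abbrev TT (M : ModSite.Mod O) : ModSite.Mod O ⥤ ModSite.Mod O := (ModSite.tensorBi O).flip.obj M

lemma preservesFiniteLimits_HFun (E : ModSite.Mod O) : PreservesFiniteLimits (HFun E) := by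
  have h : PreservesLimitsOfSize.{0, 0} (HFun E) := (HAdj E).rightAdjoint_preservesLimits
  infer_instance

lemma preservesFiniteLimits_TT_dual (E : ModSite.Mod O) (hE : HasLocBases E) :
    PreservesFiniteLimits (TT (dual E)) := by
  haveI := preservesFiniteLimits_HFun E
  exact preservesFiniteLimits_of_natIso (tensorDualIso E hE).symm

lemma preservesFiniteLimits_TT (E : ModSite.Mod O) (hE : HasLocBases E) :
    PreservesFiniteLimits (TT E) := by
  haveI := preservesFiniteLimits_HFun (dual E)
  exact preservesFiniteLimits_of_natIso (tensorIsoHomDual E hE).symm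

/-- modules with local dual bases are flat -/
theorem isFlat (E : ModSite.Mod O) (hE : HasLocBases E) : ModSite.IsFlat E :=
  (isFlat_iff E).2 (preservesFiniteLimits_TT E hE)

/-- the dual of a module with local dual bases is flat -/
theorem isFlat_dual (E : ModSite.Mod O) (hE : HasLocBases E) : ModSite.IsFlat (dual E) :=
  (isFlat_iff (dual E)).2 (preservesFiniteLimits_TT_dual E hE)

/-- `I ⊗ E` is injective for `I` injective and `E` with local dual bases -/
theorem injective_TT_obj (E : ModSite.Mod O) (hE : HasLocBases E) (I : ModSite.Mod O)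
    [Injective I] : Injective ((TT E).obj I) := by
  haveI := preservesFiniteLimits_TT_dual E hE
  haveI : (TT (dual E)).PreservesMonomorphisms := inferInstance
  haveI : Injective ((HFun (dual E)).obj I) := Injective.injective_of_adjoint (HAdj (dual E)) I
  exact Injective.of_iso ((tensorIsoHomDual E hE).app I).symm inferInstance

/-- `E ⊗ I` is injective for `I` injective and `E` with local dual bases -/
theorem injective_tens (E : ModSite.Mod O) (hE : HasLocBases E) (I : ModSite.Mod O)
    [Injective I] : Injective (tens E I) :=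
  Injective.of_iso (braidIso I E) (injective_TT_obj E hE I)

/-- `Hom(M ⊗ N, -) ≅ Hom(N, -) ⋙ Hom(M, -)` -/
def HFunTensIso (M N : ModSite.Mod O) : HFun (tens M N) ≅ HFun N ⋙ HFun M :=
  ((HAdj (tens M N)).ofNatIsoLeft (assocNatIso M N).symm).rightAdjointUniq
    ((HAdj M).comp (HAdj N))

/-- `Hom(-, -)` is invariant under isomorphisms in the first variable -/
def HFunCongr {M M' : ModSite.Mod O} (e : M ≅ M') : HFun M ≅ HFun M' :=
  ((HAdj M).ofNatIsoLeft ((ModSite.tensorBi O).flip.mapIso e)).rightAdjointUniq (HAdj M')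

/-- `Hom(M, -) ≅ Hom(F, -) ⊗ E^∨` for `M ≅ E ⊗ F` -/
def sheafHomTensIso (E F M : ModSite.Mod O) (hE : HasLocBases E) (e : M ≅ tens E F)
    [ModSite.HasSheafHom F] [ModSite.HasSheafHom M] :
    ModSite.sheafHom M ≅ ModSite.sheafHom F ⋙ TT (dual E) :=
  sheafHomIso M ≪≫ HFunCongr e ≪≫ HFunTensIso E F ≪≫
    Functor.isoWhiskerLeft (HFun F) (tensorDualIso E hE).symm ≪≫
    Functor.isoWhiskerRight (sheafHomIso F).symm (TT (dual E))

/-- `Ext^q(M, G) ≅ Ext^q(F, G) ⊗ E^∨` for `M ≅ E ⊗ F` -/
theorem nonempty_extSh_iso (E F M : ModSite.Mod O) (hE : HasLocBases E) (e : M ≅ tens E F)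
    [ModSite.HasSheafHom E] [ModSite.HasSheafHom F] [ModSite.HasSheafHom M]
    [HasInjectiveResolutions (ModSite.Mod O)] (q : ℕ) (G : ModSite.Mod O) :
    Nonempty ((ModSite.extSh M q).obj G ≅
      tens ((ModSite.extSh F q).obj G) ((ModSite.sheafHom E).obj (ModSite.unit O))) := by
  haveI := preservesFiniteLimits_TT_dual E hE
  haveI : (TT (dual E)).PreservesHomology := Functor.preservesHomologyOfExact _
  let α := sheafHomTensIso E F M hE e
  let i1 := (Groth.Agent.Lib.Helper22.DimShift.rightDerivedIsoOfNatIso α q).app G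
  let i2 := (Groth.Agent.Lib.Helper5.RDPost.rightDerivedPostIso (ModSite.sheafHom F)
    (TT (dual E)) q).app G
  let i3 : tens ((ModSite.extSh F q).obj G) (dual E) ≅
      tens ((ModSite.extSh F q).obj G) ((ModSite.sheafHom E).obj (ModSite.unit O)) :=
    ((ModSite.tensorBi O).obj ((ModSite.extSh F q).obj G)).mapIso
      (sheafHomObjIso E (ModSite.unit O)).symm
  exact ⟨i1 ≪≫ i2 ≪≫ i3⟩

/-- the adjunction `- ⊗ E ⊣ - ⊗ E^∨` -/
def tensorDualAdj (E : ModSite.Mod O) (hE : HasLocBases E) [ModSite.HasSheafHom E] :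
    TT E ⊣ TT ((ModSite.sheafHom E).obj (ModSite.unit O)) :=
  (HAdj E).ofNatIsoRight ((tensorDualIso E hE).symm ≪≫
    (ModSite.tensorBi O).flip.mapIso (sheafHomObjIso E (ModSite.unit O)).symm)

/-- `Ext^i(F ⊗ E, G) ≅ Ext^i(F, G ⊗ E^∨)` -/
theorem nonempty_ext_addEquiv (E F G : ModSite.Mod O) (hE : HasLocBases E)
    [ModSite.HasSheafHom E] [HasExt.{u} (ModSite.Mod O)] (i : ℕ) :
    Nonempty (Abelian.Ext (tens F E) G i ≃+
      Abelian.Ext F (tens G ((ModSite.sheafHom E).obj (ModSite.unit O))) i) := by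
  haveI : EnoughInjectives (ModSite.Mod O) := Groth.Agent.S0485.result J (ModSite.ringSh O)
  haveI := preservesFiniteLimits_TT E hE
  haveI := preservesFiniteLimits_HFun E
  haveI : PreservesFiniteLimits (TT ((ModSite.sheafHom E).obj (ModSite.unit O))) :=
    preservesFiniteLimits_of_natIso ((tensorDualIso E hE).symm ≪≫
      (ModSite.tensorBi O).flip.mapIso (sheafHomObjIso E (ModSite.unit O)).symm)
  exact Groth.Agent.Lib.Helper5.ExtAdj.nonempty_ext_addEquiv (tensorDualAdj E hE) F G i

end site

section scheme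

open AlgebraicGeometry Groth.Agent.Lib.Helper5.LocBasisScheme

variable {X : Scheme.{u}}

/-- `E ⊗ I` is injective for `I` injective and `E` finite locally free -/
theorem injective_tensorMod (I E : X.Modules) [hI : Injective I] (hE : FlatMod.IsFinLocFree E) :
    Injective (CohB1.tensorMod E I) :=
  @injective_tens _ _ _ X.sheaf E (hasLocBases_of_isFinLocFree E hE) I hI

end scheme

end Groth.Agent.Lib.Helper5.FinLocFreeDual
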