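import Groth.Agent.Lib.Helper5.PullbackBasis
import Groth.Agent.Lib.Helper5.BaseChangeBasis
import Groth.Agent.Lib.Helper5.FinLocFreeDual
import Groth.Agent.Lib.Helper5.PrecompDelta

/-!
# The projection formula for finite locally free modules

`f_* M ⊗ E ≅ f_* (M ⊗ f^* E)` for `E` with local bases, naturally in `M`.
-/

set_option autoImplicit false

universe u

open CategoryTheory Limits Opposite AlgebraicGeometry TopologicalSpace MonoidalCategory

noncomputable section

namespace Groth.Agent.Lib.Helper5.ProjFormulaLF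

open Groth.Agent.Lib.Helper17.IHom Groth.Agent.Lib.Helper5.DualBasis
  Groth.Agent.Lib.Helper5.LocBasisScheme Groth.Agent.Lib.Helper17.Tensor
  Groth.Agent.Lib.Helper5.LocLift Groth.Agent.Lib.Helper5.TensorDual
  Groth.Agent.Lib.Helper5.PullbackBasis Groth.Agent.Lib.Helper17.LocInj

section un

variable {C : Type u} [SmallCategory C] {J : GrothendieckTopology C} {O : Sheaf J CommRingCat.{u}}

lemma un_comp_cou (S : ModSite.Mod O) : un (toPMod S) ≫ pv (cou S).hom = 𝟙 (toPMod S) :=
  (PresheafOfModules.sheafificationAdjunction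
    (𝟙 (ModSite.ringSh O).obj)).right_triangle_components S

variable {D E : ModSite.Mod O} (pa : Pairing (toPMod D) (toPMod E))

lemma tauP_eq (hpa : HasLocDualBases pa) (G : ModSite.Mod O) :
    tauP pa G = un (toPMod G ⊗ toPMod D) ≫ pv (tauIso pa hpa G).hom := by
  have h1 : pv (tauIso pa hpa G).hom =
      pv ((shF O).map (tauP pa G)) ≫ pv (cou (sheafIHom E G)).hom := rfl
  rw [h1, ← Category.assoc, ← un_naturality, Category.assoc, un_comp_cou, Category.comp_id]

lemma appE_comp {A B B' : PMod O} (a : A ⟶ B) (b : B ⟶ B') {W : C} (x : A.obj (op W)) :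
    appE (a ≫ b) x = appE b (appE a x) := rfl

lemma bijective_appE_of_isIso {A B : ModSite.Mod O} (φ : A ⟶ B) [IsIso φ] (W : C) :
    Function.Bijective (fun x : (toPMod A).obj (op W) => appE (pv φ) x) := by
  refine ⟨Function.LeftInverse.injective (g := fun y => appE (pv (inv φ)) y) ?_,
    Function.RightInverse.surjective (g := fun y => appE (pv (inv φ)) y) ?_⟩
  · intro x
    show appE (pv (inv φ)) (appE (pv φ) x) = x
    have : pv φ ≫ pv (inv φ) = 𝟙 _ := congrArg (fun t => pv t) (IsIso.hom_inv_id φ)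
    rw [← appE_comp, this]
    rfl
  · intro y
    show appE (pv φ) (appE (pv (inv φ)) y) = y
    have : pv (inv φ) ≫ pv φ = 𝟙 _ := congrArg (fun t => pv t) (IsIso.inv_hom_id φ)
    rw [← appE_comp, this]
    rfl

/-- the unit of sheafification of `G ⊗ D` is bijective on sections where dual bases exist -/
theorem un_bijective (hpa : HasLocDualBases pa) (G : ModSite.Mod O) {V W : C} {n : ℕ}
    (db : DualBases pa V n) (h : W ⟶ V) :
    Function.Bijective (fun x : (toPMod G ⊗ toPMod D : PMod O).obj (op W) =>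
      appE (un (toPMod G ⊗ toPMod D)) x) := by
  have h1 : Function.Bijective (fun x : (toPMod G ⊗ toPMod D : PMod O).obj (op W) =>
      appE (tauP pa G) x) := tau_bijective (P := toPMod G) db h
  have h2 := bijective_appE_of_isIso (tauIso pa hpa G).hom W
  have h3 : ∀ x : (toPMod G ⊗ toPMod D : PMod O).obj (op W),
      appE (tauP pa G) x = appE (pv (tauIso pa hpa G).hom) (appE (un (toPMod G ⊗ toPMod D)) x) := by
    intro x
    rw [← appE_comp, ← tauP_eq]
  constructor
  · intro x y hxy
    apply h1.1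
    show appE (tauP pa G) x = appE (tauP pa G) y
    rw [h3, h3]
    exact congrArg _ hxy
  · intro z
    obtain ⟨x, hx⟩ := h1.2 (appE (pv (tauIso pa hpa G).hom) z)
    refine ⟨x, h2.1 ?_⟩
    show appE (pv (tauIso pa hpa G).hom) (appE (un (toPMod G ⊗ toPMod D)) x) = _
    rw [← h3]
    exact hx

end un

section scheme

variable {X Y : Scheme.{u}} (f : X ⟶ Y) (E : Y.Modules) (M : X.Modules)

/-- `f^* E` -/
abbrev pE : X.Modules := (Scheme.Modules.pullback f).obj E

/-- `M ⊗ f^* E` -/
abbrev TX : X.Modules := tens (O := X.sheaf) M (pE f E)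

/-- `f_* (M ⊗ f^* E)` -/
abbrev TY : Y.Modules := (Scheme.Modules.pushforward f).obj (TX f E M)

/-- `f_* M` -/
abbrev fM : Y.Modules := (Scheme.Modules.pushforward f).obj M

/-- the unit of sheafification of `M ⊗ f^* E` -/
abbrev unX : (toPMod (O := X.sheaf) M ⊗ toPMod (O := X.sheaf) (pE f E) : PMod X.sheaf) ⟶
    toPMod (O := X.sheaf) (TX f E M) :=
  un (toPMod (O := X.sheaf) M ⊗ toPMod (O := X.sheaf) (pE f E))

lemma ofX_add (N : X.Modules) {W : Y.Opens}
    (m m' : (toPMod (O := X.sheaf) N).obj (op (f ⁻¹ᵁ W))) :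
    ofX f N (m + m') = ofX f N m + ofX f N m' := rfl

lemma ofX_smul (N : X.Modules) {W : Y.Opens} (r : Y.sheaf.obj.obj (op W))
    (m : (toPMod (O := X.sheaf) N).obj (op (f ⁻¹ᵁ W))) :
    ofX f N (φs f r • m) = r • ofX f N m := rfl

lemma ofX_rs (N : X.Modules) {W W₂ : Y.Opens} (h : W₂ ⟶ W)
    (m : (toPMod (O := X.sheaf) N).obj (op (f ⁻¹ᵁ W))) :
    ofX f N (rs (toPMod (O := X.sheaf) N) ((Opens.map f.base).map h) m) =
      rs (toPMod (O := Y.sheaf) ((Scheme.Modules.pushforward f).obj N)) h (ofX f N m) := rfl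

/-- the value of the projection formula map on a pure tensor -/
def piVal {W : Y.Opens} (m : (toPMod (O := Y.sheaf) (fM f M)).obj (op W))
    (e : (toPMod (O := Y.sheaf) E).obj (op W)) :
    (toPMod (O := Y.sheaf) (TY f E M)).obj (op W) :=
  ofX f (TX f E M) (appT (unX f E M) (toX f M m) (ηs f E e))

/-- the bilinear map underlying the projection formula map -/
def piBil (W : Y.Opens) :
    (toPMod (O := Y.sheaf) (fM f M)).obj (op W) →ₗ[Y.sheaf.obj.obj (op W)]
      (toPMod (O := Y.sheaf) E).obj (op W) →ₗ[Y.sheaf.obj.obj (op W)]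
        (toPMod (O := Y.sheaf) (TY f E M)).obj (op W) :=
  LinearMap.mk₂ (Y.sheaf.obj.obj (op W)) (fun m e => piVal f E M m e)
    (fun m m' e => by
      unfold piVal
      rw [toX_add, appT_add_left, ofX_add])
    (fun r m e => by
      unfold piVal
      rw [toX_smul, appT_smul_left, ofX_smul])
    (fun m e e' => by
      unfold piVal
      rw [ηs_add, appT_add_right, ofX_add])
    (fun r m e => by
      unfold piVal
      rw [ηs_smul, appT_smul_right, ofX_smul])

/-- the projection formula map on presheaves of modules -/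
def piPre : (toPMod (O := Y.sheaf) (fM f M) ⊗ toPMod (O := Y.sheaf) E : PMod Y.sheaf) ⟶
    toPMod (O := Y.sheaf) (TY f E M) where
  app W := ModuleCat.ofHom
    (X := (toPMod (O := Y.sheaf) (fM f M) ⊗ toPMod (O := Y.sheaf) E : PMod Y.sheaf).obj W)
    (Y := (toPMod (O := Y.sheaf) (TY f E M)).obj W)
    (TensorProduct.lift (piBil f E M W.unop))
  naturality {W W₂} h := by
    apply ModuleCat.MonoidalCategory.tensor_ext
    intro m e
    show piVal f E M (rs (toPMod (O := Y.sheaf) (fM f M)) h.unop m)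
        (rs (toPMod (O := Y.sheaf) E) h.unop e) =
      rs (toPMod (O := Y.sheaf) (TY f E M)) h.unop (piVal f E M m e)
    unfold piVal
    rw [toX_rs, ηs_rs, ← appT_naturality, ofX_rs]

lemma appT_piPre {W : Y.Opens} (m : (toPMod (O := Y.sheaf) (fM f M)).obj (op W))
    (e : (toPMod (O := Y.sheaf) E).obj (op W)) :
    appT (piPre f E M) m e = piVal f E M m e := rfl

/-- the comparison of presheaf tensor products `(f_*M)(W) ⊗ E(W) → M(f⁻¹W) ⊗ (f^*E)(f⁻¹W)` -/
def iotaW (W : Y.Opens) :
    TensorProduct (Y.sheaf.obj.obj (op W)) ((toPMod (O := Y.sheaf) (fM f M)).obj (op W))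
      ((toPMod (O := Y.sheaf) E).obj (op W)) →+
    TensorProduct (X.sheaf.obj.obj (op (f ⁻¹ᵁ W))) ((toPMod (O := X.sheaf) M).obj (op (f ⁻¹ᵁ W)))
      ((toPMod (O := X.sheaf) (pE f E)).obj (op (f ⁻¹ᵁ W))) :=
  TensorProduct.liftAddHom
    (AddMonoidHom.mk' (fun m => AddMonoidHom.mk'
      (fun e => toX f M m ⊗ₜ[X.sheaf.obj.obj (op (f ⁻¹ᵁ W))] ηs f E e)
      (by
        intro e e'
        rw [ηs_add, TensorProduct.tmul_add]))
      (by
        intro m m'
        ext e
        show toX f M (m + m') ⊗ₜ[X.sheaf.obj.obj (op (f ⁻¹ᵁ W))] ηs f E e =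
          toX f M m ⊗ₜ[X.sheaf.obj.obj (op (f ⁻¹ᵁ W))] ηs f E e +
            toX f M m' ⊗ₜ[X.sheaf.obj.obj (op (f ⁻¹ᵁ W))] ηs f E e
        rw [toX_add, TensorProduct.add_tmul]))
    (by
      intro r m e
      show toX f M (r • m) ⊗ₜ[X.sheaf.obj.obj (op (f ⁻¹ᵁ W))] ηs f E e =
        toX f M m ⊗ₜ[X.sheaf.obj.obj (op (f ⁻¹ᵁ W))] ηs f E (r • e)
      rw [toX_smul, ηs_smul, TensorProduct.smul_tmul])

lemma iotaW_tmul (W : Y.Opens) (m : (toPMod (O := Y.sheaf) (fM f M)).obj (op W))
    (e : (toPMod (O := Y.sheaf) E).obj (op W)) :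
    iotaW f E M W (m ⊗ₜ[Y.sheaf.obj.obj (op W)] e) =
      toX f M m ⊗ₜ[X.sheaf.obj.obj (op (f ⁻¹ᵁ W))] ηs f E e := rfl

/-- `toX` as an additive equivalence -/
def toXEquiv (W : Y.Opens) : (toPMod (O := Y.sheaf) (fM f M)).obj (op W) ≃+
    (toPMod (O := X.sheaf) M).obj (op (f ⁻¹ᵁ W)) where
  toFun := toX f M
  invFun := ofX f M
  left_inv _ := rfl
  right_inv _ := rfl
  map_add' _ _ := rfl

theorem iotaW_bijective {V : Y.Opens} {n : ℕ} (lb : LocBasis (toPMod (O := Y.sheaf) E) V n)
    {W : Y.Opens} (g : W ⟶ V) : Function.Bijective (iotaW f E M W) := by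
  refine Groth.Agent.Lib.Helper5.BaseChangeBasis.bijective (R := Y.sheaf.obj.obj (op W))
    (R' := X.sheaf.obj.obj (op (f ⁻¹ᵁ W))) (f.app W).hom (toXEquiv f M W)
    (fun r m => toX_smul f M r m)
    (AddMonoidHom.mk' (fun e => ηs f E e) (ηs_add f E))
    (fun i => rs (toPMod (O := Y.sheaf) E) g (lb.s i)) (fun i => lb.c i g)
    (fun i => (pullbackLocBasis f E V lb).c i ((Opens.map f.base).map g))
    (fun i r' e' => (pullbackLocBasis f E V lb).c_smul i _ r' e')
    (fun e => lb.total g e) ?_ ?_ (iotaW f E M W) (fun m e => iotaW_tmul f E M W m e)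
  · intro e'
    have h := (pullbackLocBasis f E V lb).total ((Opens.map f.base).map g) e'
    refine h.trans (Finset.sum_congr rfl fun i _ => ?_)
    rw [pullbackLocBasis_s, ← ηs_rs]
    rfl
  · intro i e
    exact pullbackLocBasis_c_ηs f E V lb i g e


/-- **`f^* E` has local bases** when `E` does. -/
theorem hasLocBases_pullback (hE : HasLocBases (O := Y.sheaf) E) :
    HasLocBases (O := X.sheaf) (pE f E) := by
  intro U'
  let S : Sieve U' :=
    { arrows := fun W _ => ∃ n : ℕ, Nonempty (LocBasis (toPMod (O := X.sheaf) (pE f E)) W n)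
      downward_closed := by
        rintro W W' g ⟨n, ⟨lb⟩⟩ h
        exact ⟨n, ⟨lb.pullback h⟩⟩ }
  refine ⟨S, ?_, fun g hg => hg⟩
  intro x hx
  obtain ⟨T, hT, hT'⟩ := hE ⊤
  obtain ⟨V, g, hg, hxV⟩ := hT (f.base x) trivial
  obtain ⟨n, ⟨lb⟩⟩ := hT' g hg
  exact ⟨f ⁻¹ᵁ V ⊓ U', homOfLE inf_le_right,
    ⟨n, ⟨(pullbackLocBasis f E V lb).pullback (homOfLE inf_le_left)⟩⟩, ⟨hxV, hx⟩⟩

lemma piPre_app_eq {W : Y.Opens}
    (x : (toPMod (O := Y.sheaf) (fM f M) ⊗ toPMod (O := Y.sheaf) E : PMod Y.sheaf).obj (op W)) :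
    appE (piPre f E M) x = ofX f (TX f E M) (appE (unX f E M) (iotaW f E M W x)) := by
  induction x using TensorProduct.induction_on with
  | zero =>
    have h1 : appE (piPre f E M) (0 : (toPMod (O := Y.sheaf) (fM f M) ⊗
        toPMod (O := Y.sheaf) E : PMod Y.sheaf).obj (op W)) = 0 :=
      map_zero ((piPre f E M).app (op W)).hom
    have h2 : iotaW f E M W 0 = 0 := map_zero _
    have h3 : appE (unX f E M) (0 : (toPMod (O := X.sheaf) M ⊗
        toPMod (O := X.sheaf) (pE f E) : PMod X.sheaf).obj (op (f ⁻¹ᵁ W))) = 0 :=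
      map_zero ((unX f E M).app (op (f ⁻¹ᵁ W))).hom
    exact h1.trans ((congrArg (fun t => ofX f (TX f E M) (appE (unX f E M) t)) h2).trans
      (congrArg (ofX f (TX f E M)) h3)).symm
  | tmul m e => rfl
  | add x y hx hy =>
    have h1 : appE (piPre f E M) (x + y) = appE (piPre f E M) x + appE (piPre f E M) y :=
      appE_add (piPre f E M) x y
    have h2 : iotaW f E M W (x + y) = iotaW f E M W x + iotaW f E M W y := map_add _ _ _
    have h3 := appE_add (unX f E M) (iotaW f E M W x) (iotaW f E M W y)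
    have h4 : appE (piPre f E M) x + appE (piPre f E M) y =
        ofX f (TX f E M) (appE (unX f E M) (iotaW f E M W x)) +
          ofX f (TX f E M) (appE (unX f E M) (iotaW f E M W y)) := by
      rw [hx, hy]
    exact h1.trans (h4.trans ((congrArg (fun t => ofX f (TX f E M) (appE (unX f E M) t)) h2).trans
      (congrArg (ofX f (TX f E M)) h3)).symm)

theorem piPre_bijective (hE' : HasLocBases (O := X.sheaf) (pE f E)) {V : Y.Opens} {n : ℕ}
    (lb : LocBasis (toPMod (O := Y.sheaf) E) V n) {W : Y.Opens} (g : W ⟶ V) :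
    Function.Bijective (fun x : (toPMod (O := Y.sheaf) (fM f M) ⊗
      toPMod (O := Y.sheaf) E : PMod Y.sheaf).obj (op W) => appE (piPre f E M) x) := by
  have h1 := iotaW_bijective f E M lb g
  have h2 := un_bijective (pa := (evPa (pE f E)).swap) (hasLocDualBases_evPa _ hE').swap M
    ((dualBasesOfLocBasis (pullbackLocBasis f E V lb)).swap) ((Opens.map f.base).map g)
  have h3 := piPre_app_eq f E M (W := W)
  constructor
  · intro x y hxy
    apply h1.1
    apply h2.1
    have : appE (piPre f E M) x = appE (piPre f E M) y := hxy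
    rw [h3, h3] at this
    exact this
  · intro z
    obtain ⟨t, ht⟩ := h2.2 (toX f (TX f E M) z)
    obtain ⟨x, hx⟩ := h1.2 t
    refine ⟨x, ?_⟩
    show appE (piPre f E M) x = z
    rw [h3, hx]
    exact congrArg (ofX f (TX f E M)) ht

lemma isLocallyInjective_piPre (hE : HasLocBases (O := Y.sheaf) E) :
    Presheaf.IsLocallyInjective (Opens.grothendieckTopology Y) (ab (O := Y.sheaf) (piPre f E M)) := by
  have hE' := hasLocBases_pullback f E hE
  constructor
  intro W x y hxy
  obtain ⟨S, hS, hS'⟩ := hE W.unop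
  refine (Opens.grothendieckTopology Y).superset_covering ?_ hS
  intro V g hg
  obtain ⟨n, ⟨lb⟩⟩ := hS' g hg
  have inj := (piPre_bijective f E M hE' lb (𝟙 V)).1
  have h1 : appE (piPre f E M) (rs (toPMod (O := Y.sheaf) (fM f M) ⊗
        toPMod (O := Y.sheaf) E : PMod Y.sheaf) g x) =
      appE (piPre f E M) (rs (toPMod (O := Y.sheaf) (fM f M) ⊗
        toPMod (O := Y.sheaf) E : PMod Y.sheaf) g y) := by
    rw [appE_rs, appE_rs]
    exact congrArg _ hxy
  exact inj h1

lemma isLocallySurjective_piPre (hE : HasLocBases (O := Y.sheaf) E) :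
    Presheaf.IsLocallySurjective (Opens.grothendieckTopology Y)
      (ab (O := Y.sheaf) (piPre f E M)) := by
  have hE' := hasLocBases_pullback f E hE
  constructor
  intro W ψ
  obtain ⟨S, hS, hS'⟩ := hE W
  refine (Opens.grothendieckTopology Y).superset_covering ?_ hS
  intro V g hg
  obtain ⟨n, ⟨lb⟩⟩ := hS' g hg
  obtain ⟨z, hz⟩ := (piPre_bijective f E M hE' lb (𝟙 V)).2
    (rs (toPMod (O := Y.sheaf) (TY f E M)) g ψ)
  exact ⟨z, hz⟩

lemma isIso_shF_map_piPre (hE : HasLocBases (O := Y.sheaf) E) :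
    IsIso ((shF Y.sheaf).map (piPre f E M)) := by
  haveI := isLocallyInjective_piPre f E M hE
  haveI := isLocallySurjective_piPre f E M hE
  exact isIso_sheafify_map_of_W _
    ((Opens.grothendieckTopology Y).W_of_isLocallyBijective (ab (O := Y.sheaf) (piPre f E M)))

/-- **The projection formula** `f_* M ⊗ E ≅ f_* (M ⊗ f^* E)` for `E` with local bases. -/
def PiIso (hE : HasLocBases (O := Y.sheaf) E) : tens (O := Y.sheaf) (fM f M) E ≅ TY f E M :=
  haveI := isIso_shF_map_piPre f E M hE
  asIso ((shF Y.sheaf).map (piPre f E M)) ≪≫ cou (O := Y.sheaf) (TY f E M)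

lemma PiIso_hom (hE : HasLocBases (O := Y.sheaf) E) :
    (PiIso f E M hE).hom = (shF Y.sheaf).map (piPre f E M) ≫ (cou (O := Y.sheaf) (TY f E M)).hom :=
  rfl

variable {M} in
lemma piPre_naturality {M' : X.Modules} (a : M ⟶ M') :
    (pv (O := Y.sheaf) ((Scheme.Modules.pushforward f).map a) ▷ toPMod (O := Y.sheaf) E) ≫
        piPre f E M' =
      piPre f E M ≫ pv (O := Y.sheaf)
        ((Scheme.Modules.pushforward f).map (tensR (O := X.sheaf) a (pE f E))) := by
  apply tensor_hom_ext
  intro W m e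
  have hun : (pv (O := X.sheaf) a ▷ toPMod (O := X.sheaf) (pE f E)) ≫ unX f E M' =
      unX f E M ≫ pv (O := X.sheaf) (tensR (O := X.sheaf) a (pE f E)) :=
    un_naturality (O := X.sheaf) (pv (O := X.sheaf) a ▷ toPMod (O := X.sheaf) (pE f E))
  have h1 := congrArg (fun t => appT t (toX f M m) (ηs f E e)) hun
  exact congrArg (ofX f (TX f E M')) h1

variable {M} in
lemma PiIso_naturality (hE : HasLocBases (O := Y.sheaf) E) {M' : X.Modules} (a : M ⟶ M') :
    tensR (O := Y.sheaf) ((Scheme.Modules.pushforward f).map a) E ≫ (PiIso f E M' hE).hom =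
      (PiIso f E M hE).hom ≫
        (Scheme.Modules.pushforward f).map (tensR (O := X.sheaf) a (pE f E)) := by
  let b : TY f E M ⟶ TY f E M' :=
    (Scheme.Modules.pushforward f).map (tensR (O := X.sheaf) a (pE f E))
  have h1 : (shF Y.sheaf).map (pv (O := Y.sheaf) b) ≫ (cou (O := Y.sheaf) (TY f E M')).hom =
      (cou (O := Y.sheaf) (TY f E M)).hom ≫ b := cou_naturality (O := Y.sheaf) b
  have h3 := piPre_naturality f E a
  have h4 : (shF Y.sheaf).map (pv (O := Y.sheaf) ((Scheme.Modules.pushforward f).map a) ▷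
        toPMod (O := Y.sheaf) E) ≫ (shF Y.sheaf).map (piPre f E M') =
      (shF Y.sheaf).map (piPre f E M) ≫ (shF Y.sheaf).map (pv (O := Y.sheaf) b) := by
    rw [← Functor.map_comp, ← Functor.map_comp, h3]
  calc tensR (O := Y.sheaf) ((Scheme.Modules.pushforward f).map a) E ≫ (PiIso f E M' hE).hom
      = ((shF Y.sheaf).map (pv (O := Y.sheaf) ((Scheme.Modules.pushforward f).map a) ▷
          toPMod (O := Y.sheaf) E) ≫ (shF Y.sheaf).map (piPre f E M')) ≫
          (cou (O := Y.sheaf) (TY f E M')).hom := (Category.assoc _ _ _).symm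
    _ = ((shF Y.sheaf).map (piPre f E M) ≫ (shF Y.sheaf).map (pv (O := Y.sheaf) b)) ≫
          (cou (O := Y.sheaf) (TY f E M')).hom :=
        congrArg (· ≫ (cou (O := Y.sheaf) (TY f E M')).hom) h4
    _ = (shF Y.sheaf).map (piPre f E M) ≫ ((shF Y.sheaf).map (pv (O := Y.sheaf) b) ≫
          (cou (O := Y.sheaf) (TY f E M')).hom) := Category.assoc _ _ _
    _ = (shF Y.sheaf).map (piPre f E M) ≫ ((cou (O := Y.sheaf) (TY f E M)).hom ≫ b) :=
        congrArg ((shF Y.sheaf).map (piPre f E M) ≫ ·) h1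
    _ = (PiIso f E M hE).hom ≫ b := (Category.assoc _ _ _).symm

/-- **The projection formula as a natural isomorphism** `f_*(-) ⊗ E ≅ f_*(- ⊗ f^* E)`. -/
def PiNatIso (hE : HasLocBases (O := Y.sheaf) E) :
    Scheme.Modules.pushforward f ⋙ (ModSite.tensorBi Y.sheaf).flip.obj E ≅
      (ModSite.tensorBi X.sheaf).flip.obj (pE f E) ⋙ Scheme.Modules.pushforward f :=
  NatIso.ofComponents (fun M => PiIso f E M hE) (fun a => PiIso_naturality f E hE a)

end scheme

section abstract

universe v₁ u₁ v₂ u₂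

variable {A : Type u₁} [Category.{v₁} A] [Abelian A] {B : Type u₂} [Category.{v₂} B] [Abelian B]
  [HasInjectiveResolutions A] [EnoughInjectives A]

/-- if exact endofunctors `TA`, `TB` commute with a left exact functor `G` and `TA` preserves
injectives, then they commute with the right derived functors of `G` -/
theorem nonempty_iso_of_commute (G : A ⥤ B) [G.Additive] [PreservesFiniteLimits G]
    (TA : A ⥤ A) [TA.Additive] [PreservesFiniteLimits TA] [PreservesFiniteColimits TA]
    (TB : B ⥤ B) [TB.Additive] [PreservesFiniteLimits TB] [PreservesFiniteColimits TB]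
    (hinj : ∀ I : A, Injective I → Injective (TA.obj I))
    (Φ : G ⋙ TB ≅ TA ⋙ G) (F : A) (q : ℕ) :
    Nonempty (TB.obj ((G.rightDerived q).obj F) ≅ (G.rightDerived q).obj (TA.obj F)) := by
  haveI : TB.PreservesHomology := Functor.preservesHomologyOfExact _
  have hacyc : ∀ (I : A), Injective I → ∀ n : ℕ,
      IsZero ((G.rightDerived (n + 1)).obj (TA.obj I)) := by
    intro I hI n
    haveI := hinj I hI
    exact Functor.isZero_rightDerived_obj_injective_succ _ n _
  exact ⟨((Groth.Agent.Lib.Helper5.RDPost.rightDerivedPostIso G TB q).app F).symm ≪≫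
    (Groth.Agent.Lib.Helper22.DimShift.rightDerivedIsoOfNatIso Φ q).app F ≪≫
    (Groth.Agent.Lib.Helper5.PrecompDelta.rightDerivedPrecompIso TA G hacyc q).app F⟩

end abstract

section derived

open Groth.Agent.Lib.Helper5.FinLocFreeDual Groth.Agent.Lib.Helper17.ProjFormula

variable {C : Type u} [SmallCategory C] {J : GrothendieckTopology C} {O : Sheaf J CommRingCat.{u}}

lemma preservesFiniteColimits_TT (E : ModSite.Mod O) : PreservesFiniteColimits (TT E) := by
  have h : PreservesColimitsOfSize.{0, 0} (TT E) := (HAdj E).leftAdjoint_preservesColimits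
  infer_instance

variable {X Y : Scheme.{u}} (f : X ⟶ Y) (E : Y.Modules)

lemma preservesFiniteLimits_pushforward : PreservesFiniteLimits (Scheme.Modules.pushforward f) := by
  have h : PreservesLimitsOfSize.{0, 0} (Scheme.Modules.pushforward f) :=
    (Scheme.Modules.pullbackPushforwardAdjunction f).rightAdjoint_preservesLimits
  infer_instance

/-- **The projection formula for higher direct images**: `R^q f_* F ⊗ E ≅ R^q f_* (F ⊗ f^* E)`
for `E` with local bases. -/
theorem nonempty_rightDerived_iso [HasInjectiveResolutions X.Modules]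
    (hE : HasLocBases (O := Y.sheaf) E) (F : X.Modules) (q : ℕ) :
    Nonempty (tens (O := Y.sheaf) (((Scheme.Modules.pushforward f).rightDerived q).obj F) E ≅
      ((Scheme.Modules.pushforward f).rightDerived q).obj (tens (O := X.sheaf) F (pE f E))) := by
  have hE' := hasLocBases_pullback f E hE
  exact @nonempty_iso_of_commute X.Modules Scheme.Modules.instCategory Scheme.Modules.instAbelian
    Y.Modules Scheme.Modules.instCategory Scheme.Modules.instAbelian
    ‹HasInjectiveResolutions X.Modules›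
    (Groth.Agent.S0485.result _ (ModSite.ringSh X.sheaf))
    (Scheme.Modules.pushforward f) (inferInstanceAs (Scheme.Modules.pushforward f).Additive)
    (preservesFiniteLimits_pushforward f)
    (TT (O := X.sheaf) (pE f E)) (flip_obj_additive (O := X.sheaf) (pE f E))
    (preservesFiniteLimits_TT (O := X.sheaf) (pE f E) hE')
    (preservesFiniteColimits_TT (O := X.sheaf) (pE f E))
    (TT (O := Y.sheaf) E) (flip_obj_additive (O := Y.sheaf) E)
    (preservesFiniteLimits_TT (O := Y.sheaf) E hE)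
    (preservesFiniteColimits_TT (O := Y.sheaf) E)
    (fun I hI => @injective_TT_obj _ _ _ X.sheaf (pE f E) hE' I hI)
    (PiNatIso f E hE) F q

end derived


end Groth.Agent.Lib.Helper5.ProjFormulaLF
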