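import Groth.Agent.Lib.Helper5.LocBasisScheme

/-!
# Local lifting of maps out of a finite locally free module along an epimorphism
-/

set_option autoImplicit false

universe u

open CategoryTheory Limits Opposite AlgebraicGeometry TopologicalSpace

noncomputable section

namespace Groth.Agent.Lib.Helper5.LocLift

open Groth.Agent.Lib.Helper17.IHom Groth.Agent.Lib.Helper5.DualBasis
  Groth.Agent.Lib.Helper5.LocBasisScheme Groth.Agent.Lib.Helper17.Tensor
  Groth.Agent.Lib.Helper17.LocInj Groth.Agent.Lib.Helper5.QS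

variable {X : Scheme.{u}} (E G : X.Modules) (V : X.Opens)

/-- the morphism of abelian presheaves attached to a family -/
def famPresheafHom (β : HomAb (toPMod (O := X.sheaf) E) (toPMod (O := X.sheaf) G) V) :
    (E.restrict V.ι).val.presheaf ⟶ (G.restrict V.ι).val.presheaf where
  app W' := AddCommGrpCat.ofHom (β.app (op (Over.mk (homOfLE (V.ι_image_le W'.unop))))).hom
  naturality {W₁' W₂'} f := by
    apply AddCommGrpCat.hom_ext
    ext m
    have h := ev_naturality β (homOfLE (V.ι_image_le W₁'.unop))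
      (homOfLE (V.ι.image_mono (leOfHom f.unop))) m
    exact h.symm

/-- a linear family over `V` gives a morphism between the restrictions to `V` -/
def homOfFam (β : linSubgroup (toPMod (O := X.sheaf) E) (toPMod (O := X.sheaf) G) V) :
    E.restrict V.ι ⟶ G.restrict V.ι :=
  ⟨PresheafOfModules.homMk (famPresheafHom E G V β.1) (by
    intro W' r m
    have h := β.2 (homOfLE (V.ι_image_le W'.unop)) r m
    have h1 := restrict_smul E V W'.unop r m
    have h2 := restrict_smul G V W'.unop r (ev β.1 (homOfLE (V.ι_image_le W'.unop)) m)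
    exact (congrArg (ev β.1 (homOfLE (V.ι_image_le W'.unop))) h1).trans (h.trans h2.symm))⟩

lemma homOfFam_app (β : linSubgroup (toPMod (O := X.sheaf) E) (toPMod (O := X.sheaf) G) V)
    (W' : (↑V : Scheme.{u}).Opens) (m : Γ(E, V.ι ''ᵁ W')) :
    ((homOfFam E G V β).app W').hom m = ev β.1 (homOfLE (V.ι_image_le W')) m := rfl

variable {E G}

/-- the linear family of a morphism -/
def famOfHom {F : X.Modules} (φ : E ⟶ F) (U : X.Opens) :
    linSubgroup (toPMod (O := X.sheaf) E) (toPMod (O := X.sheaf) F) U :=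
  ⟨mkHomAb (fun {W} _ => AddMonoidHom.mk' (fun m => appE (pv (O := X.sheaf) φ) m)
      (appE_add (pv (O := X.sheaf) φ)))
    (fun g h q => (appE_rs (pv (O := X.sheaf) φ) h q).symm),
    fun g r q => appE_smul (pv (O := X.sheaf) φ) r q⟩

lemma ev_famOfHom {F : X.Modules} (φ : E ⟶ F) (U : X.Opens) {W : X.Opens} (g : W ⟶ U)
    (m : (toPMod (O := X.sheaf) E).obj (op W)) :
    ev (famOfHom φ U).1 g m = appE (pv (O := X.sheaf) φ) m := rfl

/-- **Maps out of a finite locally free module lift locally along epimorphisms.** -/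
theorem exists_local_lift {F : X.Modules} (p : G ⟶ F) [Epi p] (φ : E ⟶ F)
    (hE : FlatMod.IsFinLocFree E) (x : X) :
    ∃ (V : X.Opens) (ψ : E.restrict V.ι ⟶ G.restrict V.ι), x ∈ V ∧
      ψ ≫ (Scheme.Modules.restrictFunctor V.ι).map p =
        (Scheme.Modules.restrictFunctor V.ι).map φ := by
  obtain ⟨U, n, hxU, ⟨e⟩⟩ := hE x
  obtain ⟨lb⟩ := nonempty_locBasis_of_iso E U e
  haveI : @Epi (ModSite.Mod X.sheaf) _ G F p := inferInstanceAs (Epi p)
  haveI := isLocallySurjective_of_epi (O := X.sheaf) p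
  obtain ⟨T, hT, hT'⟩ := exists_covering_forall_fin (J := Opens.grothendieckTopology X) n
    (fun i => Presheaf.imageSieve (ab (O := X.sheaf) (pv (O := X.sheaf) p))
      (ev (famOfHom φ U).1 (𝟙 U) (lb.s i)))
    (fun i => Presheaf.imageSieve_mem (Opens.grothendieckTopology X)
      (ab (O := X.sheaf) (pv (O := X.sheaf) p)) _)
  obtain ⟨V, g, hg, hxV⟩ := hT x hxU
  have hex : ∀ i, ∃ b : (toPMod (O := X.sheaf) G).obj (op V),
      appE (pv (O := X.sheaf) p) b =
        rs (toPMod (O := X.sheaf) F) g (ev (famOfHom φ U).1 (𝟙 U) (lb.s i)) :=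
    fun i => hT' g hg i
  choose b hb using hex
  refine ⟨V, homOfFam E G V ⟨liftFam lb g b, liftFam_mem lb g b⟩, hxV, ?_⟩
  apply Scheme.Modules.hom_ext
  intro W'
  apply AddCommGrpCat.hom_ext
  ext m
  have key := appE_ev_liftFam (pv (O := X.sheaf) p) (famOfHom φ U) (𝟙 U) lb g b hb
    (homOfLE (Scheme.Opens.ι_image_le V W')) m
  rw [ev_famOfHom] at key
  exact key

end Groth.Agent.Lib.Helper5.LocLift
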