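import Groth.Agent.Lib.Helper5.DerivedSES

/-!
# The long exact sequence of right derived functors attached to a short exact sequence of functors
(exact on injective objects)
-/

set_option autoImplicit false
set_option linter.unusedSectionVars false
universe v v' u u'
open CategoryTheory CategoryTheory.Limits

namespace Groth.Agent.Lib.Helper5.DerSES

variable {C : Type u} [Category.{v} C] [Abelian C]
  {D : Type u'} [Category.{v'} D] [Abelian D]

/-- transport of exactness along isomorphisms -/
lemma exact_transport {X₁ X₂ X₃ Y₁ Y₂ Y₃ : D} {f : X₁ ⟶ X₂} {g : X₂ ⟶ X₃} {f' : Y₁ ⟶ Y₂}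
    {g' : Y₂ ⟶ Y₃} (w : f ≫ g = 0) (w' : f' ≫ g' = 0) (e₁ : X₁ ≅ Y₁) (e₂ : X₂ ≅ Y₂)
    (e₃ : X₃ ≅ Y₃) (c₁ : f ≫ e₂.hom = e₁.hom ≫ f') (c₂ : g ≫ e₃.hom = e₂.hom ≫ g')
    (h : (ShortComplex.mk f' g' w').Exact) : (ShortComplex.mk f g w).Exact :=
  ShortComplex.exact_of_iso
    (ShortComplex.isoMk (S₁ := ShortComplex.mk f g w) (S₂ := ShortComplex.mk f' g' w')
      e₁ e₂ e₃ c₁.symm c₂.symm).symm h

variable {Γ M T : C ⥤ D} [Γ.Additive] [M.Additive] [T.Additive]
  (a : Γ ⟶ M) (b : M ⟶ T) (w : a ≫ b = 0)

variable [HasInjectiveResolutions C]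

/-- the comparison square for `R^p` of a natural transformation -/
lemma rd_app_comp_iso {F G : C ⥤ D} [F.Additive] [G.Additive] (α : F ⟶ G) (X : C) (p : ℕ) :
    (NatTrans.rightDerived α p).app X ≫ ((injectiveResolution X).isoRightDerivedObj G p).hom =
      ((injectiveResolution X).isoRightDerivedObj F p).hom ≫
        (HomologicalComplex.homologyFunctor D (ComplexShape.up ℕ) p).map
          ((NatTrans.mapHomologicalComplex α _).app (injectiveResolution X).cocomplex) := by
  rw [InjectiveResolution.rightDerived_app_eq α (injectiveResolution X) p, Category.assoc,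
    Category.assoc, Iso.inv_hom_id, Category.comp_id]

lemma rightDerived_zero_app (F G : C ⥤ D) [F.Additive] [G.Additive] (p : ℕ) (X : C) :
    (NatTrans.rightDerived (0 : F ⟶ G) p).app X = 0 := by
  rw [InjectiveResolution.rightDerived_app_eq (0 : F ⟶ G) (injectiveResolution X) p]
  have h : (NatTrans.mapHomologicalComplex (0 : F ⟶ G) (ComplexShape.up ℕ)).app
      (injectiveResolution X).cocomplex = 0 := by
    ext n
    rfl
  rw [h, Functor.map_zero, zero_comp, comp_zero]

include w in
lemma rd_comp (p : ℕ) (X : C) :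
    (NatTrans.rightDerived a p).app X ≫ (NatTrans.rightDerived b p).app X = 0 := by
  rw [← NatTrans.comp_app, ← NatTrans.rightDerived_comp, w]
  exact rightDerived_zero_app Γ T p X

variable (hI : ∀ (I : C), Injective I →
  (ShortComplex.mk (a.app I) (b.app I) (app_comp_app a b w I)).ShortExact)

include hI in
/-- exactness of `R^p Γ ⟶ R^p M ⟶ R^p T` -/
theorem rd_exact₂ (p : ℕ) (X : C) :
    (ShortComplex.mk _ _ (rd_comp a b w p X)).Exact := by
  have hS := scC_shortExact a b w hI (injectiveResolution X)
  exact exact_transport _ _ _ _ _ (rd_app_comp_iso a X p) (rd_app_comp_iso b X p)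
    (hS.homology_exact₂ p)

lemma δN_app_comp_iso (p : ℕ) (X : C) :
    (δN a b w hI p).app X ≫ ((injectiveResolution X).isoRightDerivedObj Γ (p + 1)).hom =
      ((injectiveResolution X).isoRightDerivedObj T p).hom ≫
        δ a b w hI (injectiveResolution X) p :=
  (Iso.eq_comp_inv _).1 ((rfl : (δN a b w hI p).app X =
    ((injectiveResolution X).isoRightDerivedObj T p).hom ≫
      δ a b w hI (injectiveResolution X) p ≫
        ((injectiveResolution X).isoRightDerivedObj Γ (p + 1)).inv).trans
    (Category.assoc _ _ _).symm)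

lemma rd_comp_δN (p : ℕ) (X : C) :
    (NatTrans.rightDerived b p).app X ≫ (δN a b w hI p).app X = 0 := by
  have hS := scC_shortExact a b w hI (injectiveResolution X)
  have h0 : (HomologicalComplex.homologyFunctor D (ComplexShape.up ℕ) p).map
      ((NatTrans.mapHomologicalComplex b _).app (injectiveResolution X).cocomplex) ≫
      δ a b w hI (injectiveResolution X) p = 0 := hS.comp_δ p (p + 1) rfl
  refine (cancel_mono ((injectiveResolution X).isoRightDerivedObj Γ (p + 1)).hom).1 ?_
  refine (Category.assoc _ _ _).trans ?_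
  refine (congrArg (fun t => (NatTrans.rightDerived b p).app X ≫ t)
    (δN_app_comp_iso a b w hI p X)).trans ?_
  refine (Category.assoc _ _ _).symm.trans ?_
  refine (congrArg (fun t => t ≫ δ a b w hI (injectiveResolution X) p)
    (rd_app_comp_iso b X p)).trans ?_
  refine (Category.assoc _ _ _).trans ?_
  refine (congrArg (fun t => ((injectiveResolution X).isoRightDerivedObj M p).hom ≫ t) h0).trans ?_
  exact comp_zero.trans zero_comp.symm

/-- exactness of `R^p M ⟶ R^p T ⟶ R^{p+1} Γ` -/
theorem rd_exact₃ (p : ℕ) (X : C) :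
    (ShortComplex.mk _ _ (rd_comp_δN a b w hI p X)).Exact := by
  have hS := scC_shortExact a b w hI (injectiveResolution X)
  exact exact_transport _ _ _ _ _ (rd_app_comp_iso b X p) (δN_app_comp_iso a b w hI p X)
    (hS.homology_exact₃ p (p + 1) rfl)

lemma δN_comp_rd (p : ℕ) (X : C) :
    (δN a b w hI p).app X ≫ (NatTrans.rightDerived a (p + 1)).app X = 0 := by
  have hS := scC_shortExact a b w hI (injectiveResolution X)
  have h0 : δ a b w hI (injectiveResolution X) p ≫
      (HomologicalComplex.homologyFunctor D (ComplexShape.up ℕ) (p + 1)).map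
        ((NatTrans.mapHomologicalComplex a _).app (injectiveResolution X).cocomplex) = 0 :=
    hS.δ_comp p (p + 1) rfl
  refine (cancel_mono ((injectiveResolution X).isoRightDerivedObj M (p + 1)).hom).1 ?_
  refine (Category.assoc _ _ _).trans ?_
  refine (congrArg (fun t => (δN a b w hI p).app X ≫ t) (rd_app_comp_iso a X (p + 1))).trans ?_
  refine (Category.assoc _ _ _).symm.trans ?_
  refine (congrArg (fun t => t ≫
    (HomologicalComplex.homologyFunctor D (ComplexShape.up ℕ) (p + 1)).map
      ((NatTrans.mapHomologicalComplex a _).app (injectiveResolution X).cocomplex))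
    (δN_app_comp_iso a b w hI p X)).trans ?_
  refine (Category.assoc _ _ _).trans ?_
  refine (congrArg (fun t => ((injectiveResolution X).isoRightDerivedObj T p).hom ≫ t) h0).trans ?_
  exact comp_zero.trans zero_comp.symm

/-- exactness of `R^p T ⟶ R^{p+1} Γ ⟶ R^{p+1} M` -/
theorem rd_exact₁ (p : ℕ) (X : C) :
    (ShortComplex.mk _ _ (δN_comp_rd a b w hI p X)).Exact := by
  have hS := scC_shortExact a b w hI (injectiveResolution X)
  exact exact_transport _ _ _ _ _ (δN_app_comp_iso a b w hI p X) (rd_app_comp_iso a X (p + 1))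
    (hS.homology_exact₁ p (p + 1) rfl)

end Groth.Agent.Lib.Helper5.DerSES
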