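import Groth.Agent.Lib.Helper5.ModAcyclic
import Groth.Agent.Lib.Helper17.IHom
import Groth.Agent.Lib.Helper17.PresheafFlat

/-!
# The internal hom into an injective module is totally acyclic

On a small ringed site `(C, O)` with `O` commutative: for an `O`-module `F` and an injective `O`-module `G`, the
abelian sheaf underlying `ℋom_O(F, G)` is totally acyclic.  The proof uses Cartan's criterion: the Čech complex of
`ℋom(F, G)` for an epimorphism `K' ⟶ K` of sheaves of sets is `Hom(O[Čech nerve] ⊗ F, G)`, and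
`O[Čech nerve] ⊗ F` is exact in positive degrees (sectionwise extra degeneracy).
-/

set_option autoImplicit false

universe u

open CategoryTheory Limits Simplicial Opposite SimplicialObject AlgebraicTopology MonoidalCategory

namespace Groth.Agent.Lib.Helper5.IHomAcyclic

open Groth.Agent.Lib.Helper5.CechRes Groth.Agent.Lib.Helper5.ModAcyclic
open Groth.Agent.Lib.Helper17.IHom

variable {C : Type u} [SmallCategory C]

section abstract

/-- Abstract lifting step through a family of bijections compatible with differentials. -/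
lemma lift_beta {𝒬 ℳ : Type*} [Category 𝒬] [Preadditive 𝒬] [Category ℳ] [Abelian ℳ]
    {Z₂ Z₁ Z₀ : 𝒬} (dZ₂ : Z₂ ⟶ Z₁) (dZ₁ : Z₁ ⟶ Z₀)
    {P₂ P₁ P₀ : ℳ} (dP₂ : P₂ ⟶ P₁) (dP₁ : P₁ ⟶ P₀) (w : dP₂ ≫ dP₁ = 0)
    (hex : (ShortComplex.mk dP₂ dP₁ w).Exact) (N : ℳ) [Injective N] (H : 𝒬)
    (β₂ : (P₂ ⟶ N) → (Z₂ ⟶ H)) (β₁ : (P₁ ⟶ N) → (Z₁ ⟶ H)) (β₀ : (P₀ ⟶ N) → (Z₀ ⟶ H))
    (h₂ : ∀ y, β₂ (dP₂ ≫ y) = dZ₂ ≫ β₁ y) (h₁ : ∀ y, β₁ (dP₁ ≫ y) = dZ₁ ≫ β₀ y)
    (inj₂ : Function.Injective β₂) (zero₂ : β₂ 0 = 0) (surj₁ : Function.Surjective β₁)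
    (x₁ : Z₁ ⟶ H) (hx₁ : dZ₂ ≫ x₁ = 0) : ∃ y₁ : Z₀ ⟶ H, dZ₁ ≫ y₁ = x₁ := by
  obtain ⟨x₂, hx₂⟩ := surj₁ x₁
  have hx₂' : dP₂ ≫ x₂ = 0 := by
    apply inj₂
    rw [h₂, hx₂, hx₁, zero₂]
  refine ⟨β₀ (hex.descToInjective x₂ hx₂'), ?_⟩
  rw [← h₁]
  have := hex.comp_descToInjective x₂ hx₂'
  dsimp at this
  rw [this]
  exact hx₂

end abstract

section Exact

variable {J : GrothendieckTopology C} (R : Cᵒᵖ ⥤ CommRingCat.{u})
  (Q : PresheafOfModules.{u} (R ⋙ forget₂ CommRingCat RingCat))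
  {K' K : Sheaf J (Type u)} (f : K' ⟶ K)

/-- `S ↦ R(U)[S] ⊗ Q(U)`, as an abelian group. -/
noncomputable abbrev GUq (U : Cᵒᵖ) : Type u ⥤ AddCommGrpCat.{u} :=
  ModuleCat.free ((R ⋙ forget₂ CommRingCat RingCat).obj U) ⋙ tensorRight (Q.obj U) ⋙
    forget₂ (ModuleCat.{u} ((R ⋙ forget₂ CommRingCat RingCat).obj U)) AddCommGrpCat.{u}

/-- The sections over `U` of the Čech nerve, with free modules tensored with `Q(U)`, augmented to the image. -/
noncomputable abbrev Bq (U : Cᵒᵖ) : Augmented AddCommGrpCat.{u} :=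
  ((Augmented.whiskering _ _).obj (GUq R Q U)).obj
    (CechNerveType.A' (Arrow.mk f) (GU J U) (gU f U) (mU f U) (gU_mU f U))

instance (U : Cᵒᵖ) : QuasiIso (AlternatingFaceMapComplex.ε.app (Bq R Q f U)) :=
  inferInstanceAs (QuasiIso ((ed f U).map (GUq R Q U)).homotopyEquiv.hom)

/-- The simplicial presheaf of modules `R[Čech nerve] ⊗ Q`. -/
noncomputable abbrev Pq : SimplicialObject (PresheafOfModules.{u} (R ⋙ forget₂ CommRingCat RingCat)) :=
  Pm (R ⋙ forget₂ CommRingCat RingCat) f ⋙ tensorRight Q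

/-- The underlying simplicial abelian presheaf of `Pq`. -/
noncomputable abbrev Zq : SimplicialObject (Cᵒᵖ ⥤ AddCommGrpCat.{u}) :=
  Pq R Q f ⋙ PresheafOfModules.toPresheaf (R ⋙ forget₂ CommRingCat RingCat)

lemma exact_eval_succ_q (U : Cᵒᵖ) (n : ℕ) :
    ((AlternatingFaceMapComplex.obj
      (Zq R Q f ⋙ (evaluation Cᵒᵖ AddCommGrpCat.{u}).obj U)).sc' (n + 2) (n + 1) n).Exact :=
  (AugRes.exact_of_quasiIso_ε (Bq R Q f U)).1 n

lemma exact_succ_Zq (n : ℕ) :
    ((AlternatingFaceMapComplex.obj (Zq R Q f)).sc' (n + 2) (n + 1) n).Exact := by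
  rw [ShortComplex.exact_iff_isZero_homology, Functor.isZero_iff]
  intro U
  have hU := (ShortComplex.exact_iff_of_iso
    (AugRes.scMapIso ((evaluation Cᵒᵖ AddCommGrpCat.{u}).obj U) (Zq R Q f) n)).2
      (exact_eval_succ_q R Q f U n)
  rw [ShortComplex.exact_iff_isZero_homology] at hU
  exact IsZero.of_iso hU (ShortComplex.mapHomologyIso _ ((evaluation _ _).obj U)).symm

lemma exact_succ_Pq (n : ℕ) :
    ((AlternatingFaceMapComplex.obj (Pq R Q f)).sc' (n + 2) (n + 1) n).Exact := by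
  haveI : (PresheafOfModules.toPresheaf (R ⋙ forget₂ CommRingCat RingCat)).PreservesHomology :=
    Functor.preservesHomologyOfExact _
  rw [← ShortComplex.exact_map_iff_of_faithful _
    (PresheafOfModules.toPresheaf (R ⋙ forget₂ CommRingCat RingCat))]
  exact (ShortComplex.exact_iff_of_iso
    (AugRes.scMapIso (PresheafOfModules.toPresheaf (R ⋙ forget₂ CommRingCat RingCat))
      (Pq R Q f) n)).2 (exact_succ_Zq R Q f n)

end Exact

section Beta

variable (R : Cᵒᵖ ⥤ CommRingCat.{u})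
  (Q N : PresheafOfModules.{u} (R ⋙ forget₂ CommRingCat RingCat))

lemma curry_zero (P : PresheafOfModules.{u} (R ⋙ forget₂ CommRingCat RingCat)) :
    curry (0 : P ⊗ Q ⟶ N) = 0 := by
  have h := curry_naturality_left (Q := Q) (F := N) (0 : P ⟶ P) (0 : P ⊗ Q ⟶ N)
  rw [comp_zero, zero_comp] at h
  exact h

/-- `Hom(R[L] ⊗ Q, N) → Hom(ℤ[L], ℋom(Q, N))`. -/
noncomputable def β (L : Cᵒᵖ ⥤ Type u) :
    ((PresheafOfModules.free (R ⋙ forget₂ CommRingCat RingCat)).obj L ⊗ Q ⟶ N) →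
      (L ⋙ AddCommGrpCat.free.{u} ⟶ (ihom Q N).presheaf) :=
  fun y => Θ (R ⋙ forget₂ CommRingCat RingCat) L (ihom Q N) (curry y)

lemma β_bijective (L : Cᵒᵖ ⥤ Type u) : Function.Bijective (β R Q N L) := by
  have h : β R Q N L = Θ (R ⋙ forget₂ CommRingCat RingCat) L (ihom Q N) ∘
      (curryEquiv (P := (PresheafOfModules.free (R ⋙ forget₂ CommRingCat RingCat)).obj L)
        (Q := Q) (F := N)) := by
    funext y
    rfl
  rw [h]
  exact (Θ_bijective (R ⋙ forget₂ CommRingCat RingCat) L (ihom Q N)).comp (Equiv.bijective _)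

lemma β_zero (L : Cᵒᵖ ⥤ Type u) : β R Q N L 0 = 0 := by
  unfold β Θ
  rw [curry_zero, Functor.map_zero]
  exact comp_zero

lemma β_comp {L' L : Cᵒᵖ ⥤ Type u}
    (φ : (PresheafOfModules.free (R ⋙ forget₂ CommRingCat RingCat)).obj L' ⟶
      (PresheafOfModules.free (R ⋙ forget₂ CommRingCat RingCat)).obj L)
    (ψ : L' ⋙ AddCommGrpCat.free.{u} ⟶ L ⋙ AddCommGrpCat.free.{u})
    (h : ψ ≫ κ (R ⋙ forget₂ CommRingCat RingCat) L =
      κ (R ⋙ forget₂ CommRingCat RingCat) L' ≫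
        (PresheafOfModules.toPresheaf (R ⋙ forget₂ CommRingCat RingCat)).map φ)
    (y : (PresheafOfModules.free (R ⋙ forget₂ CommRingCat RingCat)).obj L ⊗ Q ⟶ N) :
    β R Q N L' (φ ▷ Q ≫ y) = ψ ≫ β R Q N L y := by
  unfold β Θ
  rw [curry_naturality_left, Functor.map_comp]
  have h' := congrArg (fun t => t ≫ (PresheafOfModules.toPresheaf
    (R ⋙ forget₂ CommRingCat RingCat)).map (curry y)) h
  exact (Category.assoc _ _ _).symm.trans (h'.symm.trans (Category.assoc _ _ _))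

end Beta

section Main

variable {J : GrothendieckTopology C} (O : Sheaf J CommRingCat.{u}) (F G : ModSite.Mod O)

instance injective_toPMod [Injective G] : Injective (toPMod G) :=
  injective_Ip (ModSite.ringSh O) G

variable {K' K : Sheaf J (Type u)} (f : K' ⟶ K)

theorem CB_sheafIHom [Injective G] (q : ℕ) : CB (ModSite.toAb (sheafIHom F G)) f q := by
  intro x hx
  have hd : ∀ n : ℕ, (Ks f).d (n + 1) n =
      (presheafToSheaf J AddCommGrpCat.{u}).map
        ((AlternatingFaceMapComplex.obj (CechRes.Zp f)).d (n + 1) n) :=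
    fun n => AugRes.afmc_d_map (presheafToSheaf J AddCommGrpCat.{u}) (CechRes.Zp f) n
  have hdP : ∀ n : ℕ, (AlternatingFaceMapComplex.obj (Pq O.obj (toPMod F) f)).d (n + 1) n =
      (AlternatingFaceMapComplex.obj
        (Pm (O.obj ⋙ forget₂ CommRingCat RingCat) f)).d (n + 1) n ▷ toPMod F :=
    fun n => AugRes.afmc_d_map (tensorRight (toPMod F))
      (Pm (O.obj ⋙ forget₂ CommRingCat RingCat) f) n
  have key := lift_beta
    ((AlternatingFaceMapComplex.obj (CechRes.Zp f)).d (q + 2) (q + 1))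
    ((AlternatingFaceMapComplex.obj (CechRes.Zp f)).d (q + 1) q)
    ((AlternatingFaceMapComplex.obj (Pq O.obj (toPMod F) f)).d (q + 2) (q + 1))
    ((AlternatingFaceMapComplex.obj (Pq O.obj (toPMod F) f)).d (q + 1) q)
    ((AlternatingFaceMapComplex.obj (Pq O.obj (toPMod F) f)).d_comp_d _ _ _)
    (exact_succ_Pq O.obj (toPMod F) f q) (toPMod G) (ihom (toPMod F) (toPMod G)).presheaf
    (β O.obj (toPMod F) (toPMod G) ((Arrow.mk f).cechNerve.obj (op ⦋q + 2⦌)).obj)
    (β O.obj (toPMod F) (toPMod G) ((Arrow.mk f).cechNerve.obj (op ⦋q + 1⦌)).obj)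
    (β O.obj (toPMod F) (toPMod G) ((Arrow.mk f).cechNerve.obj (op ⦋q⦌)).obj)
    (fun y => by
      rw [hdP (q + 1)]
      exact β_comp O.obj (toPMod F) (toPMod G) _ _ (κ_chain (ModSite.ringSh O) f (q + 1)) y)
    (fun y => by
      rw [hdP q]
      exact β_comp O.obj (toPMod F) (toPMod G) _ _ (κ_chain (ModSite.ringSh O) f q) y)
    (β_bijective O.obj (toPMod F) (toPMod G) _).1 (β_zero O.obj (toPMod F) (toPMod G) _)
    (β_bijective O.obj (toPMod F) (toPMod G) _).2
  obtain ⟨y, hy⟩ := lift_adj (sheafificationAdjunction J AddCommGrpCat.{u})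
    ((AlternatingFaceMapComplex.obj (CechRes.Zp f)).d (q + 2) (q + 1))
    ((AlternatingFaceMapComplex.obj (CechRes.Zp f)).d (q + 1) q)
    (ModSite.toAb (sheafIHom F G)) key x
    ((congrArg (fun d => d ≫ x) (hd (q + 1)).symm).trans hx)
  exact ⟨y, (congrArg (fun d => d ≫ y) (hd q)).trans hy⟩

/-- The explicit internal hom into an injective module is totally acyclic. -/
theorem isTotallyAcyclic_sheafIHom [Injective G] :
    CohCx.IsTotallyAcyclic (ModSite.toAb (sheafIHom F G)) :=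
  isTotallyAcyclic_of_cech _ (fun _ _ f _ q =>
    (isZero_homology_iff_CB _ f q).2 (CB_sheafIHom O F G f q))

/-- Total acyclicity is invariant under isomorphism. -/
lemma isTotallyAcyclic_of_iso {A B : Sheaf J AddCommGrpCat.{u}} (e : A ≅ B)
    (hA : CohCx.IsTotallyAcyclic A) : CohCx.IsTotallyAcyclic B := by
  intro L p
  let e' := ((Abelian.extFunctorObj
    ((presheafToSheaf J AddCommGrpCat.{u}).obj (L.obj ⋙ AddCommGrpCat.free.{u})) (p + 1)).mapIso
      e).addCommGroupIsoToAddEquiv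
  exact @Equiv.subsingleton _ _ e'.symm.toEquiv (hA L p)

/-- **The internal hom into an injective module is totally acyclic.** -/
theorem isTotallyAcyclic_sheafHom [ModSite.HasSheafHom F] [Injective G] :
    CohCx.IsTotallyAcyclic (ModSite.toAb ((ModSite.sheafHom F).obj G)) :=
  isTotallyAcyclic_of_iso
    ((SheafOfModules.toSheaf (ModSite.ringSh O)).mapIso (sheafHomObjIso F G).symm)
    (isTotallyAcyclic_sheafIHom O F G)

end Main

end Groth.Agent.Lib.Helper5.IHomAcyclic
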