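import Groth.Agent.Lib.Helper5.SectFlasque
import Groth.Agent.Lib.Helper5.IHomAcyclic
import Groth.Agent.Lib.Helper5.DerSESLES
import Groth.Agent.Lib.Helper17.ProjFormula
import Groth.Agent.Lib.Helper22.DeltaMV
import Groth.Prelude.Def_ExtSupp

/-!
# Contravariance of the internal hom: exactness properties, and the long exact sequence of
`R^p (P ∘ ℋom(-, G))` in the first variable
-/

set_option autoImplicit false

universe u

open CategoryTheory Limits Opposite Abelian

namespace Groth.Agent.Lib.Helper5.SheafHomSeq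

section Abstract

variable {C D : Type*} [Category C] [Category D] {L₁ L₂ : C ⥤ D} {R₁ R₂ : D ⥤ C}
  (adj₁ : L₁ ⊣ R₁) (adj₂ : L₂ ⊣ R₂) (α : L₂ ⟶ L₁)

lemma homEquiv_symm_comp_conj {T : C} {N : D} (φ : T ⟶ R₁.obj N) :
    (adj₂.homEquiv T N).symm (φ ≫ (conjugateEquiv adj₁ adj₂ α).app N) =
      α.app T ≫ (adj₁.homEquiv T N).symm φ := by
  rw [Adjunction.homEquiv_counit, Adjunction.homEquiv_counit, Functor.map_comp, Category.assoc,
    conjugateEquiv_counit, ← Category.assoc, α.naturality, Category.assoc]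

lemma homEquiv_comp_conj {T : C} {N : D} (ψ : L₁.obj T ⟶ N) :
    adj₁.homEquiv T N ψ ≫ (conjugateEquiv adj₁ adj₂ α).app N =
      adj₂.homEquiv T N (α.app T ≫ ψ) := by
  apply (adj₂.homEquiv T N).symm.injective
  rw [homEquiv_symm_comp_conj, Equiv.symm_apply_apply, Equiv.symm_apply_apply]

end Abstract

open Groth.Agent.Lib.Helper17.IHom Groth.Agent.Lib.Helper17.Tensor
  Groth.Agent.Lib.Helper17.FreeOn Groth.Agent.Lib.Helper5.QS Groth.Agent.Lib.Helper5.SectFlasque

variable {C : Type u} [SmallCategory C] {J : GrothendieckTopology C} {O : Sheaf J CommRingCat.{u}}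

instance tensorObj_additive (T : ModSite.Mod O) : ((ModSite.tensorBi O).obj T).Additive := by
  haveI : ((ModSite.tensorBi O).flip.obj T).Additive :=
    (ModSite.sheafHomAdj T).left_adjoint_additive
  exact Functor.additive_of_iso (objIsoFlipObj T).symm

section Mate

variable {M M' : ModSite.Mod O} [ModSite.HasSheafHom M] [ModSite.HasSheafHom M'] (g : M' ⟶ M)

lemma transpose_comp_sheafHomMap {T N : ModSite.Mod O} (φ : T ⟶ (ModSite.sheafHom M).obj N) :
    ((ModSite.sheafHomAdj M').homEquiv T N).symm (φ ≫ (ExtSupp.sheafHomMap g).app N) =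
      ((ModSite.tensorBi O).obj T).map g ≫ ((ModSite.sheafHomAdj M).homEquiv T N).symm φ :=
  homEquiv_symm_comp_conj (ModSite.sheafHomAdj M) (ModSite.sheafHomAdj M')
    ((ModSite.tensorBi O).flip.map g) φ

lemma homEquiv_comp_sheafHomMap {T N : ModSite.Mod O}
    (ψ : ((ModSite.tensorBi O).obj T).obj M ⟶ N) :
    (ModSite.sheafHomAdj M).homEquiv T N ψ ≫ (ExtSupp.sheafHomMap g).app N =
      (ModSite.sheafHomAdj M').homEquiv T N (((ModSite.tensorBi O).obj T).map g ≫ ψ) :=
  homEquiv_comp_conj (ModSite.sheafHomAdj M) (ModSite.sheafHomAdj M')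
    ((ModSite.tensorBi O).flip.map g) ψ

lemma transpose_zero (T N : ModSite.Mod O) :
    ((ModSite.sheafHomAdj M).homEquiv T N).symm 0 = 0 := by
  haveI : ((ModSite.tensorBi O).flip.obj M).Additive :=
    (ModSite.sheafHomAdj M).left_adjoint_additive
  rw [Adjunction.homEquiv_counit, Functor.map_zero, zero_comp]

lemma eq_zero_of_transpose {T N : ModSite.Mod O} (φ : T ⟶ (ModSite.sheafHom M).obj N)
    (h : ((ModSite.sheafHomAdj M).homEquiv T N).symm φ = 0) : φ = 0 := by
  apply ((ModSite.sheafHomAdj M).homEquiv T N).symm.injective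
  rw [h, transpose_zero]

lemma sheafHomMap_comp {M'' : ModSite.Mod O} [ModSite.HasSheafHom M''] (f : M'' ⟶ M') :
    ExtSupp.sheafHomMap g ≫ ExtSupp.sheafHomMap f = ExtSupp.sheafHomMap (f ≫ g) := by
  dsimp only [ExtSupp.sheafHomMap]
  rw [conjugateEquiv_comp, ← Functor.map_comp]

lemma sheafHomMap_app_eq_zero (h : g = 0) (N : ModSite.Mod O) :
    (ExtSupp.sheafHomMap g).app N = 0 := by
  apply eq_zero_of_transpose
  have h1 := transpose_comp_sheafHomMap g (𝟙 ((ModSite.sheafHom M).obj N))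
  rw [Category.id_comp] at h1
  rw [h1, h, Functor.map_zero, zero_comp]

end Mate

section SES

variable (S : ShortComplex (ModSite.Mod O))
  [ModSite.HasSheafHom S.X₁] [ModSite.HasSheafHom S.X₂] [ModSite.HasSheafHom S.X₃]

lemma sheafHomMap_zero (N : ModSite.Mod O) :
    (ExtSupp.sheafHomMap S.g).app N ≫ (ExtSupp.sheafHomMap S.f).app N = 0 := by
  rw [← NatTrans.comp_app, sheafHomMap_comp]
  exact sheafHomMap_app_eq_zero _ S.zero N

/-- the sequence `ℋom(S.X₃, N) ⟶ ℋom(S.X₂, N) ⟶ ℋom(S.X₁, N)` -/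
noncomputable def seq (N : ModSite.Mod O) : ShortComplex (ModSite.Mod O) :=
  ShortComplex.mk _ _ (sheafHomMap_zero S N)

variable {S} (hS : S.ShortExact)

include hS in
lemma mono_sheafHomMap_g (N : ModSite.Mod O) : Mono ((ExtSupp.sheafHomMap S.g).app N) := by
  apply Preadditive.mono_of_cancel_zero
  intro T φ hφ
  have h1 := transpose_comp_sheafHomMap S.g φ
  rw [hφ, transpose_zero] at h1
  haveI : Epi S.g := hS.epi_g
  haveI : Epi (((ModSite.tensorBi O).obj T).map S.g) := inferInstance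
  apply eq_zero_of_transpose
  exact (cancel_epi (((ModSite.tensorBi O).obj T).map S.g)).1 (h1.symm.trans comp_zero.symm)

include hS in
lemma seq_exact (N : ModSite.Mod O) : (seq S N).Exact := by
  rw [ShortComplex.exact_iff_exact_up_to_refinements]
  intro T (x₂ : T ⟶ (ModSite.sheafHom S.X₂).obj N) hx₂
  have hx₂' : x₂ ≫ (ExtSupp.sheafHomMap S.f).app N = 0 := hx₂
  let ψ := ((ModSite.sheafHomAdj S.X₂).homEquiv T N).symm x₂
  have h1 : 0 = ((ModSite.tensorBi O).obj T).map S.f ≫ ψ :=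
    ((transpose_zero T N).symm.trans
      (congrArg (fun t => ((ModSite.sheafHomAdj S.X₁).homEquiv T N).symm t) hx₂').symm).trans
      (transpose_comp_sheafHomMap S.f x₂)
  haveI : Epi S.g := hS.epi_g
  have hS' : (S.map ((ModSite.tensorBi O).obj T)).Exact :=
    hS.exact.map_of_epi_of_preservesCokernel ((ModSite.tensorBi O).obj T) hS.epi_g inferInstance
  haveI : Epi (S.map ((ModSite.tensorBi O).obj T)).g :=
    inferInstanceAs (Epi (((ModSite.tensorBi O).obj T).map S.g))
  let y : ((ModSite.tensorBi O).obj T).obj S.X₃ ⟶ N := hS'.desc ψ h1.symm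
  have hy : ((ModSite.tensorBi O).obj T).map S.g ≫ y = ψ := hS'.g_desc ψ h1.symm
  refine ⟨T, 𝟙 T, inferInstance, (ModSite.sheafHomAdj S.X₃).homEquiv T N y, ?_⟩
  rw [Category.id_comp]
  have h2 := homEquiv_comp_sheafHomMap S.g y
  rw [hy] at h2
  exact ((Equiv.apply_symm_apply _ x₂).symm.trans h2.symm)

include hS in
lemma epi_sheafHomMap_f (I : ModSite.Mod O) [Injective I] :
    Epi ((ExtSupp.sheafHomMap S.f).app I) := by
  apply epi_of_sections_surjective
  intro V y
  let T := ModSite.freeOn O V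
  let ψ' : T ⟶ (ModSite.sheafHom S.X₁).obj I := (freeOnHomEquiv _ V).symm y
  let χ' := ((ModSite.sheafHomAdj S.X₁).homEquiv T I).symm ψ'
  haveI : Mono S.f := hS.mono_f
  haveI : PreservesFiniteLimits ((ModSite.tensorBi O).obj T) :=
    (isFlat_iff' _).1 (Groth.Agent.Lib.Helper17.ProjFormula.isFlat_freeOn V)
  haveI : Mono (((ModSite.tensorBi O).obj T).map S.f) := inferInstance
  let χ := Injective.factorThru χ' (((ModSite.tensorBi O).obj T).map S.f)
  have hχ : ((ModSite.tensorBi O).obj T).map S.f ≫ χ = χ' := Injective.comp_factorThru _ _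
  let ψ := (ModSite.sheafHomAdj S.X₂).homEquiv T I χ
  have h2 : ψ ≫ (ExtSupp.sheafHomMap S.f).app I = ψ' := by
    have h3 := homEquiv_comp_sheafHomMap S.f χ
    rw [hχ] at h3
    exact h3.trans (Equiv.apply_symm_apply _ ψ')
  refine ⟨freeOnHomEquiv _ V ψ, ?_⟩
  have h4 := freeOnHomEquiv_comp V ψ ((ExtSupp.sheafHomMap S.f).app I)
  rw [h2, Equiv.apply_symm_apply] at h4
  exact h4.symm

include hS in
theorem seq_shortExact (I : ModSite.Mod O) [Injective I] : (seq S I).ShortExact where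
  exact := seq_exact hS I
  mono_f := mono_sheafHomMap_g hS I
  epi_g := epi_sheafHomMap_f hS I

end SES

section P

variable {𝒟 : Type*} [Category 𝒟] [Abelian 𝒟] (S : ShortComplex (ModSite.Mod O))
  [ModSite.HasSheafHom S.X₁] [ModSite.HasSheafHom S.X₂] [ModSite.HasSheafHom S.X₃]
  (P : ModSite.Mod O ⥤ 𝒟) [P.Additive]

/-- `P ℋom(S.X₃, -) ⟶ P ℋom(S.X₂, -)` -/
noncomputable abbrev aP : ModSite.sheafHom S.X₃ ⋙ P ⟶ ModSite.sheafHom S.X₂ ⋙ P :=
  Functor.whiskerRight (ExtSupp.sheafHomMap S.g) P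

/-- `P ℋom(S.X₂, -) ⟶ P ℋom(S.X₁, -)` -/
noncomputable abbrev bP : ModSite.sheafHom S.X₂ ⋙ P ⟶ ModSite.sheafHom S.X₁ ⋙ P :=
  Functor.whiskerRight (ExtSupp.sheafHomMap S.f) P

lemma wP : aP S P ≫ bP S P = 0 := by
  ext N
  change P.map ((ExtSupp.sheafHomMap S.g).app N) ≫ P.map ((ExtSupp.sheafHomMap S.f).app N) = 0
  rw [← P.map_comp, sheafHomMap_zero, P.map_zero]

variable {S} (hS : S.ShortExact) [PreservesFiniteLimits P]
  (hP : ∀ (S' : ShortComplex (ModSite.Mod O)), S'.ShortExact →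
    CohCx.IsTotallyAcyclic (ModSite.toAb S'.X₁) → Epi (P.map S'.g))

include hS hP in
lemma hIP (I : ModSite.Mod O) (hI : Injective I) :
    (ShortComplex.mk ((aP S P).app I) ((bP S P).app I)
      (DerSES.app_comp_app _ _ (wP S P) I)).ShortExact := by
  have h1 := seq_shortExact hS I
  haveI : Mono (seq S I).f := h1.mono_f
  have h2 : ((seq S I).map P).Exact :=
    h1.exact.map_of_mono_of_preservesKernel P h1.mono_f inferInstance
  exact
    { exact := h2
      mono_f := inferInstanceAs (Mono (P.map (seq S I).f))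
      epi_g := hP (seq S I) h1 (IHomAcyclic.isTotallyAcyclic_sheafHom O S.X₃ I) }

variable [HasInjectiveResolutions (ModSite.Mod O)]
  [(ModSite.sheafHom S.X₁ ⋙ P).Additive] [(ModSite.sheafHom S.X₂ ⋙ P).Additive]
  [(ModSite.sheafHom S.X₃ ⋙ P).Additive]

include hS in
lemma mono_rd_zero (G : ModSite.Mod O) :
    Mono ((NatTrans.rightDerived (aP S P) 0).app G) := by
  haveI : PreservesFiniteLimits (ModSite.sheafHom S.X₃) := by
    haveI := (ModSite.sheafHomAdj S.X₃).rightAdjoint_preservesLimits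
    infer_instance
  haveI : PreservesFiniteLimits (ModSite.sheafHom S.X₂) := by
    haveI := (ModSite.sheafHomAdj S.X₂).rightAdjoint_preservesLimits
    infer_instance
  haveI : PreservesFiniteLimits (ModSite.sheafHom S.X₃ ⋙ P) := inferInstance
  haveI : PreservesFiniteLimits (ModSite.sheafHom S.X₂ ⋙ P) := inferInstance
  have h1 := congrArg (fun t => t.app G)
    (Groth.Agent.Lib.Helper22.DeltaMV.toRightDerivedZero_naturality (aP S P))
  have h1' : (ModSite.sheafHom S.X₃ ⋙ P).toRightDerivedZero.app G ≫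
      (NatTrans.rightDerived (aP S P) 0).app G =
      (aP S P).app G ≫ (ModSite.sheafHom S.X₂ ⋙ P).toRightDerivedZero.app G := h1
  haveI : Mono ((ExtSupp.sheafHomMap S.g).app G) := mono_sheafHomMap_g hS G
  haveI : Mono ((aP S P).app G) := inferInstanceAs (Mono (P.map ((ExtSupp.sheafHomMap S.g).app G)))
  haveI : Mono ((ModSite.sheafHom S.X₃ ⋙ P).toRightDerivedZero.app G ≫
      (NatTrans.rightDerived (aP S P) 0).app G) := by
    rw [h1']
    infer_instance
  have h3 : (NatTrans.rightDerived (aP S P) 0).app G =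
      inv ((ModSite.sheafHom S.X₃ ⋙ P).toRightDerivedZero.app G) ≫
        ((ModSite.sheafHom S.X₃ ⋙ P).toRightDerivedZero.app G ≫
          (NatTrans.rightDerived (aP S P) 0).app G) := by
    rw [IsIso.inv_hom_id_assoc]
  rw [h3]
  infer_instance

include hS hP in
/-- **The long exact sequence in the first variable.** -/
theorem les (G : ModSite.Mod O) :
    Mono ((NatTrans.rightDerived (aP S P) 0).app G) ∧
    (∀ p : ℕ, ∃ w : (NatTrans.rightDerived (aP S P) p).app G ≫
        (NatTrans.rightDerived (bP S P) p).app G = 0, (ShortComplex.mk _ _ w).Exact) ∧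
    ∃ δ : ∀ p : ℕ, ((ModSite.sheafHom S.X₁ ⋙ P).rightDerived p).obj G ⟶
        ((ModSite.sheafHom S.X₃ ⋙ P).rightDerived (p + 1)).obj G,
      ∀ p : ℕ,
        (∃ w : (NatTrans.rightDerived (bP S P) p).app G ≫ δ p = 0,
          (ShortComplex.mk _ _ w).Exact) ∧
        (∃ w : δ p ≫ (NatTrans.rightDerived (aP S P) (p + 1)).app G = 0,
          (ShortComplex.mk _ _ w).Exact) := by
  have hI := hIP P hS hP
  refine ⟨mono_rd_zero P hS G, fun p => ⟨_, DerSES.rd_exact₂ _ _ (wP S P) hI p G⟩,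
    fun p => (DerSES.δN _ _ (wP S P) hI p).app G, fun p =>
      ⟨⟨DerSES.rd_comp_δN _ _ (wP S P) hI p G, DerSES.rd_exact₃ _ _ (wP S P) hI p G⟩,
        ⟨DerSES.δN_comp_rd _ _ (wP S P) hI p G, DerSES.rd_exact₁ _ _ (wP S P) hI p G⟩⟩⟩

end P

end Groth.Agent.Lib.Helper5.SheafHomSeq
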