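import Mathlib

/-
Helper5: the right adjoint of an exact additive functor preserves K-injective complexes.
-/

set_option autoImplicit false

open CategoryTheory Limits

namespace Groth.Agent.Lib.Helper5.KInjAdj

variable {𝒜 ℬ : Type*} [Category 𝒜] [Category ℬ] [Abelian 𝒜] [Abelian ℬ]
  {L : ℬ ⥤ 𝒜} {R : 𝒜 ⥤ ℬ} (adj : L ⊣ R) [L.Additive] [R.Additive]

/-- The adjoint of a morphism of complexes `K ⟶ R(I)`. -/
@[simps]
def adjMap {K : CochainComplex ℬ ℤ} {I : CochainComplex 𝒜 ℤ}
    (f : K ⟶ (R.mapHomologicalComplex _).obj I) : (L.mapHomologicalComplex _).obj K ⟶ I where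
  f n := (adj.homEquiv _ _).symm (f.f n)
  comm' i j _ := by
    have h : f.f i ≫ R.map (I.d i j) = K.d i j ≫ f.f j := f.comm i j
    change (adj.homEquiv (K.X i) (I.X i)).symm (f.f i) ≫ I.d i j =
      L.map (K.d i j) ≫ (adj.homEquiv (K.X j) (I.X j)).symm (f.f j)
    rw [← Adjunction.homEquiv_naturality_right_symm, ← Adjunction.homEquiv_naturality_left_symm]
    exact congrArg _ h

lemma acyclic_map [L.PreservesHomology] {K : CochainComplex ℬ ℤ} (hK : K.Acyclic) :
    ((L.mapHomologicalComplex _).obj K).Acyclic := by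
  intro n
  have h := hK n
  rw [HomologicalComplex.exactAt_iff] at h ⊢
  exact h.map L

include adj in
/-- The right adjoint of an exact additive functor preserves K-injective complexes. -/
theorem isKInjective_map [L.PreservesHomology] (I : CochainComplex 𝒜 ℤ) [I.IsKInjective] :
    CochainComplex.IsKInjective ((R.mapHomologicalComplex (ComplexShape.up ℤ)).obj I) where
  nonempty_homotopy_zero {K} f hK := by
    have h' : Homotopy (adjMap adj f) 0 :=
      CochainComplex.IsKInjective.homotopyZero (adjMap adj f) (acyclic_map hK)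
    refine ⟨{ hom := fun i j => adj.homEquiv _ _ (h'.hom i j), zero := ?_, comm := ?_ }⟩
    · intro i j hij
      rw [h'.zero i j hij]
      exact adj.homAddEquiv_zero _ _
    · intro i
      have hc := h'.comm i
      rw [HomologicalComplex.zero_f, add_zero,
        dNext_eq _ (show (ComplexShape.up ℤ).Rel i (i + 1) from rfl),
        prevD_eq _ (show (ComplexShape.up ℤ).Rel (i - 1) i by simp)] at hc
      rw [HomologicalComplex.zero_f, add_zero,
        dNext_eq _ (show (ComplexShape.up ℤ).Rel i (i + 1) from rfl),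
        prevD_eq _ (show (ComplexShape.up ℤ).Rel (i - 1) i by simp)]
      have h2 : f.f i = adj.homEquiv (K.X i) (I.X i) ((adjMap adj f).f i) :=
        (Equiv.apply_symm_apply _ _).symm
      have h3 : adj.homEquiv (K.X i) (I.X i)
          ((L.map (K.d i (i + 1)) ≫ (h'.hom (i + 1) i : L.obj (K.X (i + 1)) ⟶ I.X i) :
              L.obj (K.X i) ⟶ I.X i) +
            ((h'.hom i (i - 1) : L.obj (K.X i) ⟶ I.X (i - 1)) ≫ I.d (i - 1) i :
              L.obj (K.X i) ⟶ I.X i)) =
          K.d i (i + 1) ≫ adj.homEquiv _ _ (h'.hom (i + 1) i) +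
            adj.homEquiv _ _ (h'.hom i (i - 1)) ≫ R.map (I.d (i - 1) i) := by
        rw [Adjunction.homAddEquiv_add, adj.homEquiv_naturality_left,
          adj.homEquiv_naturality_right]
      exact h2.trans ((congrArg _ hc).trans h3)

end Groth.Agent.Lib.Helper5.KInjAdj
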