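import Mathlib.CategoryTheory.Abelian.RightDerived
import Mathlib.CategoryTheory.Preadditive.Injective.Preserves
import Mathlib.Algebra.Homology.ShortComplex.ExactFunctor
import Mathlib.Algebra.Homology.QuasiIso

set_option autoImplicit false
universe v v' v'' u u' u''
open CategoryTheory CategoryTheory.Limits

namespace Groth.Agent.Lib.Helper5.RDComp

variable {C : Type u} [Category.{v} C] [Abelian C]
  {C' : Type u'} [Category.{v'} C'] [Abelian C']
  {D : Type u''} [Category.{v''} D] [Abelian D]
  (E : C ⥤ C') [E.Additive] [E.PreservesHomology] [E.PreservesInjectiveObjects]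

/-- An exact functor preserving injectives maps injective resolutions to injective resolutions. -/
noncomputable def mapInjRes {Z : C} (I : InjectiveResolution Z) : InjectiveResolution (E.obj Z) where
  cocomplex := (E.mapHomologicalComplex _).obj I.cocomplex
  injective n := Functor.PreservesInjectiveObjects.injective_obj (I.injective n)
  ι := (HomologicalComplex.singleMapHomologicalComplex E (ComplexShape.up ℕ) 0).inv.app Z ≫
    (E.mapHomologicalComplex _).map I.ι
  quasiIso := inferInstance

lemma mapInjRes_ι_comp {X Y : C} (f : X ⟶ Y) (I : InjectiveResolution X)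
    (J : InjectiveResolution Y) (φ : I.cocomplex ⟶ J.cocomplex)
    (w : I.ι ≫ φ = (CochainComplex.single₀ C).map f ≫ J.ι) :
    (mapInjRes E I).ι ≫ (E.mapHomologicalComplex _).map φ =
      (CochainComplex.single₀ C').map (E.map f) ≫ (mapInjRes E J).ι := by
  dsimp only [mapInjRes]
  rw [Category.assoc, ← Functor.map_comp, w, Functor.map_comp]
  exact ((HomologicalComplex.singleMapHomologicalComplex E (ComplexShape.up ℕ) 0).inv.naturality_assoc
    f _).symm

lemma mapInjRes_comm {X Y : C} (f : X ⟶ Y) (I : InjectiveResolution X) (J : InjectiveResolution Y)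
    (φ : I.cocomplex ⟶ J.cocomplex)
    (w : I.ι ≫ φ = (CochainComplex.single₀ C).map f ≫ J.ι) :
    (mapInjRes E I).ι.f 0 ≫ ((E.mapHomologicalComplex _).map φ).f 0 =
      E.map f ≫ (mapInjRes E J).ι.f 0 := by
  have h := HomologicalComplex.congr_hom (mapInjRes_ι_comp E f I J φ w) 0
  refine h.trans ?_
  change ((CochainComplex.single₀ C').map (E.map f)).f 0 ≫ (mapInjRes E J).ι.f 0 = _
  rw [CochainComplex.single₀_map_f_zero]
  rfl

variable [HasInjectiveResolutions C] [HasInjectiveResolutions C'] (G : C' ⥤ D) [G.Additive]

/-- Component of the comparison `R^q(E ⋙ G) ≅ E ⋙ R^q G`. -/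
noncomputable def compIsoApp (q : ℕ) (X : C) :
    ((E ⋙ G).rightDerived q).obj X ≅ (G.rightDerived q).obj (E.obj X) :=
  (injectiveResolution X).isoRightDerivedObj (E ⋙ G) q ≪≫
    ((mapInjRes E (injectiveResolution X)).isoRightDerivedObj G q).symm

/-- `R^q(E ⋙ G) ≅ E ⋙ R^q G` for `E` exact preserving injectives. -/
noncomputable def rightDerivedCompIso (q : ℕ) : (E ⋙ G).rightDerived q ≅ E ⋙ G.rightDerived q :=
  NatIso.ofComponents (compIsoApp E G q) (by
    intro X Y f
    have w := InjectiveResolution.desc_commutes f (injectiveResolution Y) (injectiveResolution X)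
    have h1 := InjectiveResolution.isoRightDerivedObj_hom_naturality f (injectiveResolution X)
      (injectiveResolution Y) (InjectiveResolution.desc f _ _)
      (InjectiveResolution.desc_commutes_zero f _ _) (E ⋙ G) q
    have h2 := InjectiveResolution.isoRightDerivedObj_inv_naturality (E.map f)
      (mapInjRes E (injectiveResolution X)) (mapInjRes E (injectiveResolution Y))
      ((E.mapHomologicalComplex _).map (InjectiveResolution.desc f _ _))
      (mapInjRes_comm E f _ _ _ w) G q
    change ((E ⋙ G).rightDerived q).map f ≫
      ((injectiveResolution Y).isoRightDerivedObj (E ⋙ G) q).hom ≫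
        ((mapInjRes E (injectiveResolution Y)).isoRightDerivedObj G q).inv =
      (((injectiveResolution X).isoRightDerivedObj (E ⋙ G) q).hom ≫
        ((mapInjRes E (injectiveResolution X)).isoRightDerivedObj G q).inv) ≫
          (G.rightDerived q).map (E.map f)
    refine (Category.assoc _ _ _).symm.trans ?_
    refine (congrArg (· ≫ ((mapInjRes E (injectiveResolution Y)).isoRightDerivedObj G q).inv)
      h1).trans ?_
    refine (Category.assoc _ _ _).trans ?_
    refine Eq.trans ?_ (Category.assoc _ _ _).symm
    exact congrArg (((injectiveResolution X).isoRightDerivedObj (E ⋙ G) q).hom ≫ ·) h2.symm)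

end Groth.Agent.Lib.Helper5.RDComp
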