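import Groth.Agent.Lib.Helper5.LocalGlobalExt
import Groth.Agent.Lib.Helper5.LocBasisScheme
import Groth.Agent.Lib.Helper5.PrecompDelta
import Groth.Prelude.Def_DCoh4

/-!
# `Ext^p(E, N) ≅ H^p(Hom(E, N))` for modules with local dual bases (finite locally free modules)
-/

set_option autoImplicit false
set_option maxSynthPendingDepth 3

universe u

open CategoryTheory Limits Opposite Abelian AlgebraicGeometry

namespace Groth.Agent.Lib.Helper5.FinLocFreeExt

open Groth.Agent.Lib.Helper5.DualBasis Groth.Agent.Lib.Helper5.LocalGlobalExt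

section site

variable {C : Type u} [SmallCategory C] {J : GrothendieckTopology C} (O : Sheaf J CommRingCat.{u})
  (E : ModSite.Mod O) [ModSite.HasSheafHom E]

/-- `Hom_O(E, -)` is exact when `E` has local dual bases -/
theorem preservesFiniteColimits_sheafHom (hE : HasLocBases E) :
    PreservesFiniteColimits (ModSite.sheafHom E) := by
  rw [Functor.preservesFiniteColimits_iff_forall_exact_map_and_epi]
  intro S hS
  haveI := hS.epi_g
  exact ⟨((Functor.preservesFiniteLimits_iff_forall_exact_map_and_mono (ModSite.sheafHom E)).1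
    inferInstance S hS).1, epi_sheafHom_map E hE S.g⟩

variable [HasExt.{u} (ModSite.Mod O)] [HasInjectiveResolutions (ModSite.Mod O)]

/-- **`Ext^p(E, N) ≅ H^p(C, Hom_O(E, N))`** when `E` has local dual bases. -/
theorem nonempty_ext_iso (hE : HasLocBases E) (N : ModSite.Mod O) (p : ℕ) :
    Nonempty (AddCommGrpCat.of (Abelian.Ext.{u} E N p) ≅
      ((Γ O).rightDerived p).obj ((ModSite.sheafHom E).obj N)) := by
  haveI : EnoughInjectives (ModSite.Mod O) := Groth.Agent.S0485.result J (ModSite.ringSh O)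
  haveI := preservesFiniteColimits_sheafHom O E hE
  have e1 : (ModSite.sheafHom E ⋙ Γ O).rightDerived p ≅ Abelian.extFunctorObj E p :=
    ExtDer.extIsoOfIso E (ModSite.sheafHom E ⋙ Γ O) (compIso O E) p
  have e2 : (ModSite.sheafHom E ⋙ Γ O).rightDerived p ≅
      ModSite.sheafHom E ⋙ (Γ O).rightDerived p :=
    PrecompDelta.rightDerivedPrecompIso (ModSite.sheafHom E) (Γ O) (fun Q hQ q => by
      obtain ⟨e⟩ := nonempty_rightDerived_Γ_iso O ((ModSite.sheafHom E).obj Q) (q + 1)
      refine IsZero.of_iso ?_ e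
      haveI : Subsingleton (ModSite.HC O ((ModSite.sheafHom E).obj Q) (q + 1)) :=
        subsingleton_H_succ _ (IHomAcyclic.isTotallyAcyclic_sheafHom O E Q) q
      exact AddCommGrpCat.isZero_of_subsingleton _) p
  exact ⟨(e1.symm ≪≫ e2).app N⟩

end site

section scheme

open Groth.Agent.Lib.Helper17.Tensor

variable (X : Scheme.{u})

/-- the two internal homs of the prelude agree -/
noncomputable def sheafHomIsoDCoh (A : X.Modules) [ModSite.HasSheafHom (O := X.sheaf) A]
    [DCoh.HasSheafHom A] : ModSite.sheafHom (O := X.sheaf) A ≅ DCoh.sheafHom A :=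
  (ModSite.sheafHomAdj (O := X.sheaf) A).rightAdjointUniq
    ((DCoh.sheafHomAdj A).ofNatIsoLeft (objIsoFlipObj (O := X.sheaf) A))

/-- **`Ext^p(A, B) ≃ H^p(X, Hom(A, B))` for `A` finite locally free.** -/
theorem main [HasExt.{u} X.Modules]
    (A B : X.Modules) (hA : FlatMod.IsFinLocFree A) [DCoh.HasSheafHom A] (p : ℕ) :
    Nonempty (Abelian.Ext A B p ≃+ Coh.HH X ((DCoh.sheafHom A).obj B) p) := by
  haveI hExt : HasExt.{u} (ModSite.Mod X.sheaf) := inferInstanceAs (HasExt.{u} X.Modules)
  haveI : EnoughInjectives (ModSite.Mod X.sheaf) :=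
    Groth.Agent.S0485.result (Opens.grothendieckTopology X) X.ringCatSheaf
  haveI : ModSite.HasSheafHom (O := X.sheaf) A := Groth.Agent.Lib.Helper17.IHom.hasSheafHom A
  obtain ⟨e1⟩ := nonempty_ext_iso X.sheaf A
    (LocBasisScheme.hasLocBases_of_isFinLocFree A hA) B p
  obtain ⟨e3⟩ := nonempty_rightDerived_Γ_iso X.sheaf ((DCoh.sheafHom A).obj B) p
  exact ⟨(e1 ≪≫ ((Γ X.sheaf).rightDerived p).mapIso ((sheafHomIsoDCoh X A).app B) ≪≫
    e3).addCommGroupIsoToAddEquiv⟩

end scheme

end Groth.Agent.Lib.Helper5.FinLocFreeExt
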