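import Groth.Agent.Lib.Helper5.ExtCechH0

/-!
# The extended Čech complex computes local cohomology (part 2)
-/

set_option autoImplicit false

universe u

open CategoryTheory CategoryTheory.Limits CochainComplex DerCA
open Groth.Agent.Lib.Helper28.ExtCech Groth.Agent.Lib.Helper5.ExtCechFunctor

attribute [local instance] HasDerivedCategory.standard

noncomputable section

namespace Groth.Agent.Lib.Helper5.ExtCechH0

variable {R : Type u} [CommRing R]

/-! ### `H^0 ≅ Γ_I` -/

lemma ρ_mem (fs : List R) (M : ModuleCat.{u} R) (x : ((cechF fs).obj M).homology 0) :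
    (ρ fs M).hom x ∈ DRing.torsionSub (Ideal.span {x | x ∈ fs}) M :=
  (mem_torsionSub_span_iff fs M ((ρ fs M).hom x)).2 (((ρ_spec fs M).2 ((ρ fs M).hom x)).1 ⟨x, rfl⟩)

/-- `H^0(Č_fs(M)) → Γ_I(M)` -/
def H0lin (fs : List R) (M : ModuleCat.{u} R) :
    ((cechF fs).obj M).homology 0 →ₗ[R] DRing.torsionSub (Ideal.span {x | x ∈ fs}) M :=
  LinearMap.codRestrict (DRing.torsionSub (Ideal.span {x | x ∈ fs}) M) (ρ fs M).hom (ρ_mem fs M)

lemma H0lin_bijective (fs : List R) (M : ModuleCat.{u} R) : Function.Bijective (H0lin fs M) := by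
  constructor
  · intro a b h
    exact (ρ_spec fs M).1 (congrArg Subtype.val h)
  · rintro ⟨m, hm⟩
    obtain ⟨x, hx⟩ := ((ρ_spec fs M).2 m).2 ((mem_torsionSub_span_iff fs M m).1 hm)
    exact ⟨x, Subtype.ext hx⟩

/-- the linear equivalence `H^0(Č_fs(M)) ≃ Γ_I(M)` -/
def H0equiv (fs : List R) (M : ModuleCat.{u} R) :
    ((cechF fs).obj M).homology 0 ≃ₗ[R] DRing.torsionSub (Ideal.span {x | x ∈ fs}) M :=
  LinearEquiv.ofBijective (H0lin fs M) (H0lin_bijective fs M)

lemma H0equiv_apply_coe (fs : List R) (M : ModuleCat.{u} R) (x : ((cechF fs).obj M).homology 0) :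
    ((H0equiv fs M x : DRing.torsionSub (Ideal.span {x | x ∈ fs}) M) : M) = (ρ fs M).hom x := rfl

/-- `H^0 ∘ Č_fs ≅ Γ_I` as functors. -/
def H0Iso (fs : List R) :
    cechF fs ⋙ HomologicalComplex.homologyFunctor (ModuleCat.{u} R) (ComplexShape.up ℤ) 0 ≅
      DRing.gammaI (Ideal.span {x | x ∈ fs}) :=
  NatIso.ofComponents
    (fun M =>
      { hom := ModuleCat.ofHom (H0equiv fs M).toLinearMap
        inv := ModuleCat.ofHom (H0equiv fs M).symm.toLinearMap
        hom_inv_id := by
          apply ModuleCat.hom_ext
          apply LinearMap.ext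
          intro x
          exact (H0equiv fs M).symm_apply_apply x
        inv_hom_id := by
          apply ModuleCat.hom_ext
          apply LinearMap.ext
          intro x
          exact (H0equiv fs M).apply_symm_apply x })
    (by
      intro M N g
      apply ModuleCat.hom_ext
      apply LinearMap.ext
      intro x
      apply Subtype.ext
      exact app_eq (ρ_naturality fs g) x)

/-- **S17776**: `H^0` of the extended Čech complex is `Γ_I`. -/
theorem nonempty_extCechH_zero_iso (fs : List R) (M : ModuleCat.{u} R) :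
    Nonempty (extCechH fs M 0 ≅ (DRing.gammaI (Ideal.span {x | x ∈ fs})).obj M) := by
  change Nonempty ((extCech M fs).homology 0 ≅ _)
  rw [← cechF_obj]
  exact ⟨(H0Iso fs).app M⟩

/-! ### Vanishing on injectives -/

section Noeth

variable [IsNoetherianRing R]

lemma injective_H0 (fs : List R) (E : ModuleCat.{u} R) (hE : Injective E) :
    Module.Injective R (((cechF fs).obj E).homology 0) := by
  haveI h1 : Module.Injective R E :=
    @Module.injective_module_of_injective_object R E _ _ _ hE
  haveI h2 : Module.Injective R (DRing.torsionSub (Ideal.span {x | x ∈ fs}) E) :=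
    Groth.Agent.Lib.Helper16.LC.injective_torsionSub _ _ h1
  have h3 : Injective ((DRing.gammaI (Ideal.span {x | x ∈ fs})).obj E) :=
    Module.injective_object_of_injective_module R
      (DRing.torsionSub (Ideal.span {x | x ∈ fs}) E)
  have h4 : Injective (((cechF fs).obj E).homology 0) :=
    Injective.of_iso ((H0Iso fs).app E).symm h3
  exact @Module.injective_module_of_injective_object R (((cechF fs).obj E).homology 0) _ _ _ h4

theorem isZero_homology_of_injective : ∀ (fs : List R) (E : ModuleCat.{u} R), Injective E →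
    ∀ q : ℤ, 1 ≤ q → IsZero (((cechF fs).obj E).homology q)
  | [], E, _, q, hq => by
    have h := isZero_extCechH_of_lt E [] q
      (Or.inr (by simp only [List.length_nil, Nat.cast_zero]; omega))
    exact h
  | f :: fs, E, hE, q, hq => by
    have IH := isZero_homology_of_injective fs E hE
    change IsZero ((mappingCocone
      (locCxUnit (Submonoid.powers f) ((cechF fs).obj E))).homology q)
    by_cases h1 : q = 1
    · subst h1
      refine isZero_cocone_of_surjective _ 0 1 (by norm_num) ?_ (IH 1 le_rfl)
      haveI := injective_H0 fs E hE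
      have hs := Groth.Agent.S11313.result R (((cechF fs).obj E).homology 0) f
      have hc := homologyMap_locCxUnit (Submonoid.powers f) ((cechF fs).obj E) 0
      intro z
      obtain ⟨n, hn⟩ := hs ((homologyLocCxIso (Submonoid.powers f) ((cechF fs).obj E) 0).hom.hom z)
      refine ⟨n, ?_⟩
      have h2 := app_eq hc n
      have h3 : ((locUnit (Submonoid.powers f)).app (((cechF fs).obj E).homology 0)).hom n =
          (homologyLocCxIso (Submonoid.powers f) ((cechF fs).obj E) 0).hom.hom z := hn
      rw [h3] at h2
      have hinj := ((ConcreteCategory.isIso_iff_bijective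
        (homologyLocCxIso (Submonoid.powers f) ((cechF fs).obj E) 0).hom).1 inferInstance).1
      exact hinj h2
    · have hq2 : 1 ≤ q - 1 := by omega
      refine isZero_cocone_of_isZero _ (q - 1) q (by omega) ?_ (IH q hq)
      exact IsZero.of_iso ((locFunctor (Submonoid.powers f)).map_isZero (IH (q - 1) hq2))
        (homologyLocCxIso (Submonoid.powers f) ((cechF fs).obj E) (q - 1))

/-- **S17778**: the extended Čech complex of an injective module has no higher cohomology. -/
theorem isZero_extCechH_of_injective (fs : List R) (E : ModuleCat.{u} R) (hE : Injective E)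
    (q : ℤ) (hq : 1 ≤ q) : IsZero (extCechH fs E q) := by
  change IsZero ((extCech E fs).homology q)
  rw [← cechF_obj]
  exact isZero_homology_of_injective fs E hE q hq

/-! ### Comparison with local cohomology -/

open Groth.Agent.Lib.Helper22 in
/-- the δ-functor `n ↦ H^n ∘ Č_fs` -/
def cechDelta (fs : List R) : DeltaF.CohDeltaFunctor (ModuleCat.{u} R) (ModuleCat.{u} R) ℕ :=
  Groth.Agent.Lib.Helper5.CxDelta.cxDelta (cechF fs) (cechF_shortExact fs)

lemma cechDelta_zeroMono (fs : List R) : (cechDelta fs).ZeroMono := by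
  intro S hS
  haveI : Mono S.f := hS.mono_f
  haveI : Mono (ρ fs S.X₁) := (ModuleCat.mono_iff_injective _).2 (ρ_spec fs _).1
  have h := ρ_naturality fs S.f
  have h2 : Mono (HomologicalComplex.homologyMap ((cechF fs).map S.f) 0 ≫ ρ fs S.X₂) := by
    rw [h]
    exact mono_comp _ _
  change Mono (HomologicalComplex.homologyMap ((cechF fs).map S.f) 0)
  exact @mono_of_mono _ _ _ _ _ (HomologicalComplex.homologyMap ((cechF fs).map S.f) 0)
    (ρ fs S.X₂) h2

lemma cechDelta_isEffaceable (fs : List R) : (cechDelta fs).IsEffaceable := by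
  intro n X
  refine ⟨Injective.under X, Injective.ι X, inferInstance, ?_⟩
  have hz : IsZero (((cechF fs).obj (Injective.under X)).homology ((n + 1 : ℕ) : ℤ)) :=
    isZero_homology_of_injective fs _ inferInstance _ (by push_cast; omega)
  exact hz.eq_of_tgt _ _

/-- **S11623**: the extended Čech complex computes local cohomology. -/
theorem nonempty_extCechH_iso_localCohomology (fs : List R) (M : ModuleCat.{u} R) (i : ℕ) :
    Nonempty (extCechH fs M (i : ℤ) ≅
      (localCohomology (Ideal.span {x | x ∈ fs}) i).obj M) := by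
  change Nonempty ((extCech M fs).homology (i : ℤ) ≅ _)
  rw [← cechF_obj]
  obtain ⟨e⟩ := Groth.Agent.Lib.Helper5.LocCohDelta.nonempty_rightDerived_gammaI_iso
    (Ideal.span {x | x ∈ fs}) i
  exact ⟨(Groth.Agent.Lib.Helper22.DeltaMV.θiso (cechDelta fs) (cechDelta_isEffaceable fs)
      (cechDelta_zeroMono fs) i M).symm ≪≫
    (Groth.Agent.Lib.Helper22.DimShift.rightDerivedIsoOfNatIso (H0Iso fs) i).app M ≪≫ e.app M⟩

end Noeth

end Groth.Agent.Lib.Helper5.ExtCechH0
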