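import Groth.Agent.Lib.Helper5.KoszulCech
import Groth.Agent.Lib.Helper5.ExtCechLC

/-!
# The cone model of the extended Čech complex is a shift of the cocone model, and the colimit
of the Koszul cohomology of the powers

* `cechShiftIso M fs : extCech M fs ≅ (cechC M fs)⟦-r⟧` (`r` the length of `fs`);
* `cechHIso M fs p : H^p(extCech M fs) ≅ H^{p-r}(cechC M fs)`;
* `koszulHLimEquiv M fs p : koszulHLim fs M p ≃ₗ H^{p-r}(cechC M fs)`.
-/

set_option autoImplicit false

universe u

open CategoryTheory CategoryTheory.Limits CochainComplex DerCA CohIII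
open Groth.Agent.Lib.Helper28.ExtCech Groth.Agent.Lib.Helper5.ExtCechFunctor
open Groth.Agent.Lib.Helper5.ExtCechH0 Groth.Agent.Lib.Helper5.DirLimFive
open Groth.Agent.Lib.Helper5.KoszulCech

noncomputable section

namespace Groth.Agent.Lib.Helper5.CechShift

variable {R : Type u} [CommRing R]

/-! ### Isomorphisms of cones -/

section ConeIso

variable {K₁ L₁ K₂ L₂ : DRing.Cx R} (φ₁ : K₁ ⟶ L₁) (φ₂ : K₂ ⟶ L₂) (a : K₁ ≅ K₂) (b : L₁ ≅ L₂)
  (comm : φ₁ ≫ b.hom = a.hom ≫ φ₂)

include comm in
lemma coneIso_comm_inv : φ₂ ≫ b.inv = a.inv ≫ φ₁ := by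
  rw [Iso.comp_inv_eq, Category.assoc, comm, Iso.inv_hom_id_assoc]

/-- an isomorphism of cones from isomorphisms of the sources and of the targets -/
def coneIso : mappingCone φ₁ ≅ mappingCone φ₂ where
  hom := mappingCone.map φ₁ φ₂ a.hom b.hom comm
  inv := mappingCone.map φ₂ φ₁ a.inv b.inv (coneIso_comm_inv φ₁ φ₂ a b comm)
  hom_inv_id :=
    (mappingCone.map_comp φ₁ φ₂ φ₁ a.hom b.hom comm a.inv b.inv
      (coneIso_comm_inv φ₁ φ₂ a b comm)).symm.trans
      ((map_congr φ₁ φ₁ a.hom_inv_id b.hom_inv_id _).trans (mappingCone.map_id φ₁))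
  inv_hom_id :=
    (mappingCone.map_comp φ₂ φ₁ φ₂ a.inv b.inv (coneIso_comm_inv φ₁ φ₂ a b comm) a.hom b.hom
      comm).symm.trans
      ((map_congr φ₂ φ₂ a.inv_hom_id b.inv_hom_id _).trans (mappingCone.map_id φ₂))

end ConeIso

/-! ### Localisation and shifts -/

/-- termwise localisation commutes with shifts -/
def locShiftIso (S : Submonoid R) (K : DRing.Cx R) (a : ℤ) :
    (locCx S).obj (K⟦a⟧) ≅ ((locCx S).obj K)⟦a⟧ :=
  ((locFunctor S).mapCochainComplexShiftIso a).app K

lemma locCxUnit_shift (S : Submonoid R) (K : DRing.Cx R) (a : ℤ) :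
    locCxUnit S (K⟦a⟧) ≫ (locShiftIso S K a).hom = (locCxUnit S K)⟦a⟧' := by
  apply HomologicalComplex.hom_ext
  intro i
  change (locUnit S).app _ ≫ 𝟙 _ = _
  exact Category.comp_id _

/-- the cone of the localisation map of a shift -/
def coneShiftIso (S : Submonoid R) (K : DRing.Cx R) (a : ℤ) :
    mappingCone (locCxUnit S (K⟦a⟧)) ≅ (mappingCone (locCxUnit S K))⟦a⟧ :=
  coneIso (locCxUnit S (K⟦a⟧)) ((locCxUnit S K)⟦a⟧') (Iso.refl _) (locShiftIso S K a)
    ((locCxUnit_shift S K a).trans (Category.id_comp _).symm) ≪≫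
  (mappingCone.shiftIso (locCxUnit S K) a).symm

/-- the cocone model is a shift of the cone model -/
def cechShiftIso (M : ModuleCat.{u} R) :
    ∀ fs : List R, extCech M fs ≅ (cechC M fs)⟦-(fs.length : ℤ)⟧
  | [] => ((CategoryTheory.shiftFunctorZero' (DRing.Cx R) (-(([] : List R).length : ℤ)) (by simp)).app
      (cechC M [])).symm
  | f :: fs =>
    (CategoryTheory.shiftFunctor (DRing.Cx R) (-1 : ℤ)).mapIso
      (coneIso (locCxUnit (Submonoid.powers f) (extCech M fs))
        (locCxUnit (Submonoid.powers f) ((cechC M fs)⟦-(fs.length : ℤ)⟧))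
        (cechShiftIso M fs) ((locCx (Submonoid.powers f)).mapIso (cechShiftIso M fs))
        (locCxUnit_naturality (Submonoid.powers f) (cechShiftIso M fs).hom) ≪≫
        coneShiftIso (Submonoid.powers f) (cechC M fs) (-(fs.length : ℤ))) ≪≫
    ((CategoryTheory.shiftFunctorAdd' (DRing.Cx R) (-(fs.length : ℤ)) (-1) (-((f :: fs).length : ℤ))
      (by simp only [List.length_cons, Nat.cast_add, Nat.cast_one]; ring)).app
      (cechC M (f :: fs))).symm

/-- the cohomology of the two models -/
def cechHIso (M : ModuleCat.{u} R) (fs : List R) (p : ℤ) :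
    (extCech M fs).homology p ≅ (cechC M fs).homology (p - fs.length) :=
  (HomologicalComplex.homologyFunctor _ _ p).mapIso (cechShiftIso M fs) ≪≫
    (CochainComplex.ShiftSequence.shiftIso (ModuleCat.{u} R) (-(fs.length : ℤ)) p
      (p - fs.length) (by ring)).app (cechC M fs)

/-! ### The colimit of the Koszul cohomology of the powers -/

section Lim

variable (M : ModuleCat.{u} R) (fs : List R) (p : ℕ)

/-- the directed system -/
abbrev G (n : ℕ) : Type u := koszulHPow fs M p n

/-- its transition maps -/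
abbrev F (n m : ℕ) (h : n ≤ m) : G M fs p n →ₗ[R] G M fs p m :=
  (HomologicalComplex.homologyMap (koszulTrans M n m h fs) ((p : ℤ) - fs.length)).hom

/-- the comparison map out of the colimit -/
def limMap : Module.DirectLimit (G M fs p) (F M fs p) →ₗ[R]
    (cechC M fs).homology ((p : ℤ) - fs.length) :=
  Module.DirectLimit.lift R ℕ (G M fs p) (F M fs p)
    (fun n => (HomologicalComplex.homologyMap (cmp M n fs) ((p : ℤ) - fs.length)).hom)
    (fun n m h x => Hc_trans M fs _ n m h x)

lemma limMap_of (n : ℕ) (x : G M fs p n) :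
    limMap M fs p (Module.DirectLimit.of R ℕ (G M fs p) (F M fs p) n x) =
      Hc M fs ((p : ℤ) - fs.length) n x :=
  Module.DirectLimit.lift_of _ _ x

lemma limMap_bijective : Function.Bijective (limMap M fs p) := by
  have hcb := cb M fs ((p : ℤ) - fs.length)
  constructor
  · rw [injective_iff_map_eq_zero]
    intro z hz
    obtain ⟨n, x, rfl⟩ := Module.DirectLimit.exists_of z
    rw [limMap_of] at hz
    obtain ⟨m, h, hx⟩ := hcb.inj n x hz
    have e : Module.DirectLimit.of R ℕ (G M fs p) (F M fs p) m (F M fs p n m h x) =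
        Module.DirectLimit.of R ℕ (G M fs p) (F M fs p) n x := Module.DirectLimit.of_f
    rw [← e]
    have hx' : F M fs p n m h x = 0 := hx
    rw [hx', map_zero]
  · intro y
    obtain ⟨n, x, hx⟩ := hcb.surj y
    exact ⟨Module.DirectLimit.of R ℕ (G M fs p) (F M fs p) n x, (limMap_of M fs p n x).trans hx⟩

/-- the colimit of the Koszul cohomology of the powers is the cohomology of the cone model -/
def limEquiv : Module.DirectLimit (G M fs p) (F M fs p) ≃ₗ[R]
    (cechC M fs).homology ((p : ℤ) - fs.length) :=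
  LinearEquiv.ofBijective (limMap M fs p) (limMap_bijective M fs p)

/-- the same for `koszulHLim` -/
def koszulHLimEquiv : koszulHLim fs M p ≃ₗ[R] (cechC M fs).homology ((p : ℤ) - fs.length) :=
  limEquiv M fs p

/-- `colim_n H^p(f^n, M) ≃ H^p` of the extended Čech complex -/
def koszulHLimEquivExtCech : koszulHLim fs M p ≃ₗ[R] extCechH fs M (p : ℤ) :=
  koszulHLimEquiv M fs p ≪≫ₗ (cechHIso M fs (p : ℤ)).symm.toLinearEquiv

end Lim

end Groth.Agent.Lib.Helper5.CechShift
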