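import Groth.Agent.Lib.Helper5.QcqsClosed
import Groth.Agent.Lib.Helper5.CechShift

/-!
# Kernel and cokernel of `Γ(X, M) → Γ(⋃ X_{f_i}, M)` as direct limits of Koszul cohomology
-/

set_option autoImplicit false

universe u

open CategoryTheory CategoryTheory.Limits AlgebraicGeometry Opposite TopologicalSpace
open Groth.Agent.Lib.Helper29.QCoh Groth.Agent.Lib.Helper5.CechClosed
open Groth.Agent.Lib.Helper5.QcqsClosed

noncomputable section

namespace Groth.Agent.Lib.Helper5.KoszulSections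

variable {X : Scheme.{u}}

/-- restriction from the global sections (with their own module structure) -/
def r₀ (M : X.Modules) (V : X.Opens) :
    ModuleCat.of Γ(X, ⊤) (M.val.obj (op ⊤)) ⟶ secMod M V :=
  letI := sectionsModule M (le_top : V ≤ ⊤)
  ModuleCat.ofHom
    { toFun := fun m => res M (le_top : V ≤ ⊤) m
      map_add' := fun a b => map_add (res M (le_top : V ≤ ⊤)) a b
      map_smul' := fun g m => res_smul M (le_top : V ≤ ⊤) g m }

theorem main [CompactSpace X] [X.IsSeparated] (fs : List Γ(X, ⊤)) (M : X.Modules)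
    [M.IsQuasicoherent] :
    Nonempty (Hq fs (ModuleCat.of Γ(X, ⊤) (M.val.obj (op ⊤))) 0 ≅
      ModuleCat.of Γ(X, ⊤) (LinearMap.ker (r₀ M (⊤ ⊓ UL X fs)).hom)) ∧
    Nonempty (Hq fs (ModuleCat.of Γ(X, ⊤) (M.val.obj (op ⊤))) 1 ≅
      ModuleCat.of Γ(X, ⊤)
        (secMod M (⊤ ⊓ UL X fs) ⧸ LinearMap.range (r₀ M (⊤ ⊓ UL X fs)).hom)) := by
  have hT : IsCompact ((⊤ : X.Opens) : Set X) := by
    rw [Opens.coe_top]
    exact isCompact_univ
  refine thmA (r₀ M (⊤ ⊓ UL X fs)) fs ?_ ?_ (closed_sections M fs ⊤ hT)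
  · intro m hm g hg
    obtain ⟨n, hn⟩ := ker_tors M hT (inf_le_left : ⊤ ⊓ UL X fs ≤ ⊤) g
      (inf_le_inf_left _ (basicOpen_le_UL hg)) m hm
    exact ⟨n, (rsmul_self M (g ^ n) m).symm.trans hn⟩
  · intro y g hg
    exact coker_tors M hT (IsQuasiSeparated.of_quasiSeparatedSpace _) (isCompact_inf_UL hT fs)
      inf_le_left g (inf_le_inf_left _ (basicOpen_le_UL hg)) y

/-- the two models of the cohomology of the extended Čech complex -/
def hqIso {R : Type u} [CommRing R] (fs : List R) (N : ModuleCat.{u} R) (p : ℕ) (q : ℤ)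
    (h : (p : ℤ) = q) : DerCA.extCechH fs N (p : ℤ) ≅ Hq fs N q :=
  eqToIso (by
    subst h
    change (DerCA.extCech N fs).homology _ = _
    rw [← Groth.Agent.Lib.Helper5.ExtCechH0.cechF_obj])

theorem final [CompactSpace X] [X.IsSeparated] (fs : List Γ(X, ⊤)) (M : X.Modules)
    [M.IsQuasicoherent] (U : X.Opens) (hU : U = ⊤ ⊓ UL X fs) :
    Nonempty ((res M (le_top : U ≤ ⊤)).ker ≃+
      CohIII.koszulHLim fs (ModuleCat.of Γ(X, ⊤) (M.val.obj (op ⊤))) 0) ∧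
    Nonempty (Γ(M, U) ⧸ (res M (le_top : U ≤ ⊤)).range ≃+
      CohIII.koszulHLim fs (ModuleCat.of Γ(X, ⊤) (M.val.obj (op ⊤))) 1) := by
  subst hU
  obtain ⟨⟨e0⟩, ⟨e1⟩⟩ := main fs M
  have k0 := Groth.Agent.Lib.Helper5.CechShift.koszulHLimEquivExtCech
    (ModuleCat.of Γ(X, ⊤) (M.val.obj (op ⊤))) fs 0
  have k1 := Groth.Agent.Lib.Helper5.CechShift.koszulHLimEquivExtCech
    (ModuleCat.of Γ(X, ⊤) (M.val.obj (op ⊤))) fs 1
  have j0 := hqIso fs (ModuleCat.of Γ(X, ⊤) (M.val.obj (op ⊤))) 0 0 Nat.cast_zero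
  have j1 := hqIso fs (ModuleCat.of Γ(X, ⊤) (M.val.obj (op ⊤))) 1 1 Nat.cast_one
  constructor
  · let a : (res M (le_top : ⊤ ⊓ UL X fs ≤ ⊤)).ker ≃+
        LinearMap.ker (r₀ M (⊤ ⊓ UL X fs)).hom :=
      { toFun := fun x => ⟨x.1, x.2⟩
        invFun := fun x => ⟨x.1, x.2⟩
        left_inv := fun _ => rfl
        right_inv := fun _ => rfl
        map_add' := fun _ _ => rfl }
    exact ⟨a.trans ((e0.symm ≪≫ j0.symm).toLinearEquiv.toAddEquiv.trans k0.symm.toAddEquiv)⟩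
  · have hr : (res M (le_top : ⊤ ⊓ UL X fs ≤ ⊤)).range =
        (LinearMap.range (r₀ M (⊤ ⊓ UL X fs)).hom).toAddSubgroup :=
      AddSubgroup.ext fun x => Iff.rfl
    let b : Γ(M, ⊤ ⊓ UL X fs) ⧸ (res M (le_top : ⊤ ⊓ UL X fs ≤ ⊤)).range ≃+
        (secMod M (⊤ ⊓ UL X fs) ⧸ LinearMap.range (r₀ M (⊤ ⊓ UL X fs)).hom) :=
      QuotientAddGroup.quotientAddEquivOfEq hr
    exact ⟨b.trans ((e1.symm ≪≫ j1.symm).toLinearEquiv.toAddEquiv.trans k1.symm.toAddEquiv)⟩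

end Groth.Agent.Lib.Helper5.KoszulSections
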