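import Groth.Agent.Lib.Helper5.QcqsClosedHom
import Groth.Agent.Lib.Helper5.KoszulSections

/-!
# Flasqueness of `M~` on `Spec A` and the extended Čech complex
-/

set_option autoImplicit false

universe u

open CategoryTheory CategoryTheory.Limits AlgebraicGeometry Opposite TopologicalSpace
open Groth.Agent.Lib.Helper29.QCoh Groth.Agent.Lib.Helper5.CechClosed
open Groth.Agent.Lib.Helper5.QcqsClosed Groth.Agent.Lib.Helper5.QcqsClosedHom
open Groth.Agent.Lib.Helper28.ExtCech Groth.Agent.Lib.Helper5.ExtCechFunctor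
open Groth.Agent.Lib.Helper5.ExtCechH0

noncomputable section

namespace Groth.Agent.Lib.Helper5.TildeFlasque

variable (A : Type u) [CommRing A]

/-- the ring map to the global functions of `Spec A` -/
def φ : A →+* Γ(Spec (CommRingCat.of A), ⊤) := (Scheme.ΓSpecIso (CommRingCat.of A)).inv.hom

lemma basicOpen_φ (g : A) :
    (Spec (CommRingCat.of A)).basicOpen (φ A g) = PrimeSpectrum.basicOpen g :=
  basicOpen_eq_of_affine (R := CommRingCat.of A) g

variable (M : Type u) [AddCommGroup M] [Module A M]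

/-- the map `M → Γ(Spec A, M~)` -/
def r₀ : ModuleCat.of A M ⟶
    secModφ (φ A) (tilde (R := CommRingCat.of A) (ModuleCat.of A M)) ⊤ :=
  letI := sectionsModule (tilde (R := CommRingCat.of A) (ModuleCat.of A M))
    (le_top : (⊤ : (Spec (CommRingCat.of A)).Opens) ≤ ⊤)
  letI : Module A Γ(tilde (R := CommRingCat.of A) (ModuleCat.of A M), ⊤) :=
    Module.compHom _ (φ A)
  ModuleCat.ofHom
    { toFun := fun m => (tilde.toOpen (R := CommRingCat.of A) (ModuleCat.of A M) ⊤).hom m
      map_add' := fun a b =>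
        map_add (tilde.toOpen (R := CommRingCat.of A) (ModuleCat.of A M) ⊤).hom a b
      map_smul' := fun a m =>
        (tilde.toOpen (R := CommRingCat.of A) (ModuleCat.of A M) ⊤).hom.map_smul a m }

lemma r₀_bijective : Function.Bijective (r₀ A M).hom :=
  (ConcreteCategory.isIso_iff_bijective
    (tilde.toOpen (R := CommRingCat.of A) (ModuleCat.of A M) ⊤)).1
    (@tilde.isIso_toOpen_top (CommRingCat.of A) (ModuleCat.of A M))

/-- `H^1` of the extended Čech complex vanishes iff `Γ(Spec A, M~) → Γ(⋃ D(f), M~)` is onto -/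
theorem isZero_H1_iff (fs : List A) :
    IsZero (Hq fs (ModuleCat.of A M) 1) ↔
      Function.Surjective (res (tilde (R := CommRingCat.of A) (ModuleCat.of A M))
        (inf_le_left : ⊤ ⊓ UL (Spec (CommRingCat.of A)) (fs.map (φ A)) ≤ ⊤)) := by
  obtain ⟨-, ⟨e1⟩⟩ := thmA_sections (φ A) (tilde (R := CommRingCat.of A) (ModuleCat.of A M)) fs
    (ModuleCat.of A M) (r₀ A M) (r₀_bijective A M)
  constructor
  · intro hz
    have hz' := hz.of_iso e1.symm
    haveI := ModuleCat.subsingleton_of_isZero hz'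
    have htop := Submodule.Quotient.subsingleton_iff.1 this
    have hy : ∀ y : secModφ (φ A) (tilde (R := CommRingCat.of A) (ModuleCat.of A M))
        (⊤ ⊓ UL (Spec (CommRingCat.of A)) (fs.map (φ A))), y ∈
        LinearMap.range (r₀ A M ≫ secResφ (φ A)
        (tilde (R := CommRingCat.of A) (ModuleCat.of A M))
        (inf_le_left : ⊤ ⊓ UL (Spec (CommRingCat.of A)) (fs.map (φ A)) ≤ ⊤)).hom := by
      intro y
      rw [htop]
      exact Submodule.mem_top
    intro y
    obtain ⟨m, hm⟩ := hy y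
    exact ⟨(r₀ A M).hom m, hm⟩
  · intro hs
    refine IsZero.of_iso ?_ e1
    have htop : LinearMap.range (r₀ A M ≫ secResφ (φ A)
        (tilde (R := CommRingCat.of A) (ModuleCat.of A M))
        (inf_le_left : ⊤ ⊓ UL (Spec (CommRingCat.of A)) (fs.map (φ A)) ≤ ⊤)).hom = ⊤ := by
      rw [eq_top_iff]
      intro y _
      obtain ⟨t, ht⟩ := hs y
      obtain ⟨m, hm⟩ := (r₀_bijective A M).2 t
      exact ⟨m, by rw [← ht, ← hm]; rfl⟩
    haveI := Submodule.Quotient.subsingleton_iff.2 htop
    exact ModuleCat.isZero_of_subsingleton _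

/-- every quasi-compact open of `Spec A` is a finite union of basic opens -/
theorem exists_list_of_isCompact (W : (Spec (CommRingCat.of A)).Opens)
    (hW : IsCompact (W : Set (Spec (CommRingCat.of A)))) :
    ∃ gs : List A, ⊤ ⊓ UL (Spec (CommRingCat.of A)) (gs.map (φ A)) = W := by
  obtain ⟨s, hs, hU⟩ := (Opens.IsBasis.isCompact_open_iff_eq_finite_iUnion
    (fun g : A => (PrimeSpectrum.basicOpen g : Opens (PrimeSpectrum A)))
    PrimeSpectrum.isBasis_basic_opens PrimeSpectrum.isCompact_basicOpen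
    (W : Set (Spec (CommRingCat.of A)))).1 ⟨hW, W.2⟩
  refine ⟨hs.toFinset.toList, ?_⟩
  rw [top_inf_eq]
  apply Opens.ext
  apply Set.ext
  intro x
  have key : ∀ (W' : Opens (PrimeSpectrum A)), (W' : Set (PrimeSpectrum A)) =
        ⋃ i ∈ s, ((PrimeSpectrum.basicOpen i : Opens (PrimeSpectrum A)) :
          Set (PrimeSpectrum A)) → ∀ x : PrimeSpectrum A, x ∈ W' ↔
      ∃ i ∈ s, x ∈ (PrimeSpectrum.basicOpen i : Opens (PrimeSpectrum A)) := by
    intro W' h0 x
    rw [← SetLike.mem_coe, h0]
    simp only [Set.mem_iUnion, SetLike.mem_coe, exists_prop]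
  have hx := key W hU x
  rw [SetLike.mem_coe, mem_UL]
  constructor
  · rintro ⟨g', hg', hxg⟩
    obtain ⟨g, hg, rfl⟩ := List.mem_map.1 hg'
    rw [Finset.mem_toList, Set.Finite.mem_toFinset] at hg
    rw [basicOpen_φ] at hxg
    exact hx.2 ⟨g, hg, hxg⟩
  · intro hxW
    obtain ⟨g, hg, hxg⟩ := hx.1 hxW
    refine ⟨φ A g, List.mem_map_of_mem ?_, ?_⟩
    · rw [Finset.mem_toList, Set.Finite.mem_toFinset]
      exact hg
    · rw [basicOpen_φ]
      exact hxg

theorem H1_of_flasque
    (hF : TopCat.Sheaf.IsFlasque (Coh.toAb (tilde (R := CommRingCat.of A) (ModuleCat.of A M))))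
    (fs : List A) : IsZero (Hq fs (ModuleCat.of A M) 1) := by
  rw [isZero_H1_iff]
  have h := hF.epi (homOfLE (inf_le_left :
    ⊤ ⊓ UL (Spec (CommRingCat.of A)) (fs.map (φ A)) ≤ ⊤)).op
  exact (AddCommGrpCat.epi_iff_surjective _).1 h

theorem flasque_of_H1 [NoetherianSpace (PrimeSpectrum A)]
    (h : ∀ gs : List A, IsZero (Hq gs (ModuleCat.of A M) 1)) :
    TopCat.Sheaf.IsFlasque (Coh.toAb (tilde (R := CommRingCat.of A) (ModuleCat.of A M))) := by
  constructor
  intro U V i
  induction U using Opposite.rec with | op U => ?_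
  induction V using Opposite.rec with | op V => ?_
  rw [AddCommGrpCat.epi_iff_surjective]
  intro s
  have hV : IsCompact ((V : (Spec (CommRingCat.of A)).Opens) :
      Set (Spec (CommRingCat.of A))) :=
    NoetherianSpace.isCompact (α := PrimeSpectrum A) _
  obtain ⟨gs, hgs⟩ := exists_list_of_isCompact A V hV
  have hs := (isZero_H1_iff A M gs).1 (h gs)
  subst hgs
  obtain ⟨t, ht⟩ := hs s
  refine ⟨res (tilde (R := CommRingCat.of A) (ModuleCat.of A M)) (le_top : U ≤ ⊤) t, ?_⟩
  have e := res_res (tilde (R := CommRingCat.of A) (ModuleCat.of A M)) (le_top : U ≤ ⊤)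
    (leOfHom i.unop) t
  exact e.trans ht

theorem Hq_of_flasque
    (hF : TopCat.Sheaf.IsFlasque (Coh.toAb (tilde (R := CommRingCat.of A) (ModuleCat.of A M)))) :
    ∀ (fs : List A) (n₀ : ℤ), 0 ≤ n₀ → IsZero (Hq fs (ModuleCat.of A M) (n₀ + 1))
  | [], n₀, hn => by
    change IsZero (((HomologicalComplex.single (ModuleCat.{u} A) (ComplexShape.up ℤ) 0).obj
      (ModuleCat.of A M)).homology (n₀ + 1))
    exact isZero_homology_of_isZero_X _ _
      (HomologicalComplex.isZero_single_obj_X (ComplexShape.up ℤ) 0 _ (n₀ + 1) (by omega))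
  | f :: fs, n₀, hn => by
    by_cases h0 : n₀ = 0
    · subst h0
      exact H1_of_flasque A M hF (f :: fs)
    · obtain ⟨k, rfl⟩ : ∃ k, n₀ = k + 1 := ⟨n₀ - 1, by omega⟩
      change IsZero ((CochainComplex.mappingCocone (DerCA.locCxUnit (Submonoid.powers f)
        ((cechF fs).obj (ModuleCat.of A M)))).homology (k + 1 + 1))
      refine isZero_cocone_of_isZero _ (k + 1) (k + 1 + 1) rfl ?_
        (Hq_of_flasque hF fs (k + 1) (by omega))
      refine IsZero.of_iso ?_ (homologyLocCxIso (Submonoid.powers f) _ (k + 1))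
      exact (DerCA.locFunctor (Submonoid.powers f)).map_isZero
        (Hq_of_flasque hF fs k (by omega))

theorem subsingleton_koszulHLim_iff (fs : List A) (i : ℕ) :
    Subsingleton (CohIII.koszulHLim fs (ModuleCat.of A M) i) ↔
      IsZero (Hq fs (ModuleCat.of A M) (i : ℤ)) := by
  have k := Groth.Agent.Lib.Helper5.CechShift.koszulHLimEquivExtCech (ModuleCat.of A M) fs i
  have j := Groth.Agent.Lib.Helper5.KoszulSections.hqIso fs (ModuleCat.of A M) i (i : ℤ) rfl
  constructor
  · intro hs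
    haveI : Subsingleton (Hq fs (ModuleCat.of A M) (i : ℤ)) :=
      (k.toEquiv.trans j.toLinearEquiv.toEquiv).symm.subsingleton
    exact ModuleCat.isZero_of_subsingleton _
  · intro hz
    haveI := ModuleCat.subsingleton_of_isZero hz
    exact (k.toEquiv.trans j.toLinearEquiv.toEquiv).subsingleton

end Groth.Agent.Lib.Helper5.TildeFlasque
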