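import Groth.Agent.Lib.Helper5.CechOpenHom
import Groth.Agent.Lib.Helper5.TildeFlasque
import Groth.Agent.Lib.Helper22.Cech.SchemeLeray
import Groth.Prelude.Def_LocCohZ

/-!
# Cohomology with supports on `Spec A` and the extended Čech complex

For `X = Spec A`, `U = ⋃ D(f_i)` and an `A`-module `M`: `H^i_{X ∖ U}(X, M~)` is the cohomology of the
extended Čech complex of `M` (hence the Koszul direct limit), in the three ranges `i = 0`, `i = 1`,
`i ≥ 2`.
-/

set_option autoImplicit false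

universe w v' u' u

open CategoryTheory CategoryTheory.Limits AlgebraicGeometry Opposite TopologicalSpace
open Groth.Agent.Lib.Helper29.QCoh Groth.Agent.Lib.Helper5.CechClosed
open Groth.Agent.Lib.Helper5.QcqsClosed Groth.Agent.Lib.Helper5.QcqsClosedHom
open Groth.Agent.Lib.Helper5.AcyclicEmb Groth.Agent.Lib.Helper5.CechOpen
open Groth.Agent.Lib.Helper5.CechOpenHom Groth.Agent.Lib.Helper5.TildeFlasque

noncomputable section

namespace Groth.Agent.Lib.Helper5.HZKoszul

section general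

open Abelian

variable {𝒞 : Type u'} [Category.{v'} 𝒞] [Abelian 𝒞] [HasExt.{w} 𝒞]
  {S : ShortComplex 𝒞} (hS : S.ShortExact) (Y : 𝒞)

/-- The range of `Hom(B, Y) → Hom(A, Y)` inside `Ext⁰`. -/
abbrev rangeF : AddSubgroup (Ext S.X₁ Y 0) :=
  ((Ext.mk₀ S.f).precomp Y (zero_add 0)).range

/-- If `Ext^1(B, Y) = 0` then `Ext^1(C, Y)` is the cokernel of `Hom(B, Y) → Hom(A, Y)`. -/
def oneEquivL (h1 : ∀ x : Ext S.X₂ Y 1, x = 0) :
    (Ext S.X₁ Y 0 ⧸ rangeF (S := S) Y) ≃+ Ext S.X₃ Y 1 := by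
  let δ : Ext S.X₁ Y 0 →+ Ext S.X₃ Y 1 := hS.extClass.precomp Y (add_zero 1)
  have hsurj : Function.Surjective δ := by
    intro x
    obtain ⟨y, hy⟩ := Ext.contravariant_sequence_exact₃ hS Y x (h1 _) (add_zero 1)
    exact ⟨y, hy⟩
  have hker : rangeF (S := S) Y = δ.ker := by
    ext x
    constructor
    · rintro ⟨y, rfl⟩
      exact hS.extClass_comp_assoc (h := add_zero 1) y
    · intro hx
      obtain ⟨y, hy⟩ := Ext.contravariant_sequence_exact₁ hS Y x (add_zero 1) hx
      exact ⟨y, hy⟩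
  exact (QuotientAddGroup.quotientAddEquivOfEq hker).trans
    (QuotientAddGroup.quotientKerEquivOfSurjective δ hsurj)

end general

section sheaf

variable {T : TopCat.{u}} (G : CohTop.Ab T)

/-- sections over `V` as `Ext^0(ℤ_V, G)` -/
def eSect (V : Opens T) :
    Abelian.Ext (CohCx.freeSheaf (Opens.grothendieckTopology T) V) G 0 ≃+ G.obj.obj (op V) :=
  Abelian.Ext.addEquiv₀.trans (CohFree.homEquivSect (Opens.grothendieckTopology T) V G)

lemma eSect_precomp {V W : Opens T} (h : W ≤ V)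
    (x : Abelian.Ext (CohCx.freeSheaf (Opens.grothendieckTopology T) V) G 0) :
    eSect G W ((Abelian.Ext.mk₀ (CohCx.freeSheafMap (Opens.grothendieckTopology T)
      (homOfLE h))).comp x (zero_add 0)) = (G.obj.map (homOfLE h).op).hom (eSect G V x) := by
  obtain ⟨φ, rfl⟩ := Abelian.Ext.addEquiv₀.symm.surjective x
  change CohFree.evalGen _ W G (Abelian.Ext.addEquiv₀ ((Abelian.Ext.mk₀ _).comp
    (Abelian.Ext.mk₀ φ) (zero_add 0))) =
      (G.obj.map (homOfLE h).op).hom (CohFree.evalGen _ V G (Abelian.Ext.addEquiv₀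
        (Abelian.Ext.mk₀ φ)))
  rw [Abelian.Ext.mk₀_comp_mk₀]
  have e1 : ∀ {A B : CohTop.Ab T} (ψ : A ⟶ B), Abelian.Ext.addEquiv₀ (Abelian.Ext.mk₀ ψ) = ψ :=
    fun ψ => Abelian.Ext.addEquiv₀.apply_symm_apply ψ
  rw [e1, e1]
  exact CohFree.evalGen_freeSheafMap_comp _ _ _ _

/-- `H^1` with supports is the cokernel of the restriction when `H^1` of the whole space vanishes -/
theorem HZ_one (U : Opens T) (h1 : ∀ x : CohTop.HU G 1 ⊤, x = 0) :
    Nonempty (LocCohZ.HZ G 1 (le_top : U ≤ ⊤) ≃+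
      (G.obj.obj (op U) ⧸ (G.obj.map (homOfLE (le_top : U ≤ ⊤)).op).hom.range)) := by
  have hS := LocCohZ.zqSeq_shortExact (X := T) (le_top : U ≤ ⊤)
  have e1 := oneEquivL hS G h1
  have he : (rangeF (S := LocCohZ.zqSeq (X := T) (le_top : U ≤ ⊤)) G).map (eSect G U).toAddMonoidHom =
      (G.obj.map (homOfLE (le_top : U ≤ ⊤)).op).hom.range := by
    ext y
    constructor
    · rintro ⟨_, ⟨x, rfl⟩, rfl⟩
      exact ⟨eSect G ⊤ x, (eSect_precomp G le_top x).symm⟩
    · rintro ⟨s, rfl⟩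
      refine ⟨_, ⟨(eSect G ⊤).symm s, rfl⟩, ?_⟩
      refine (eSect_precomp G le_top _).trans ?_
      rw [AddEquiv.apply_symm_apply]
  exact ⟨e1.symm.trans (QuotientAddGroup.congr _ _ (eSect G U) he)⟩

/-- cohomology only depends on the isomorphism class of the sheaf -/
def hEquivOfIso {F G : CohTop.Ab T} (e : F ≅ G) (n : ℕ) : CohTop.H F n ≃+ CohTop.H G n where
  toFun := Sheaf.H.map e.hom n
  invFun := Sheaf.H.map e.inv n
  left_inv z := by
    rw [← Sheaf.H.map_comp_apply, e.hom_inv_id, Sheaf.H.map_id_apply]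
  right_inv z := by
    rw [← Sheaf.H.map_comp_apply, e.inv_hom_id, Sheaf.H.map_id_apply]
  map_add' := map_add _

end sheaf

section scheme

variable {X : Scheme.{u}} (F : X.Modules)

/-- cohomology over an open, in the `Ext` out of `ℤ_U` model and on the open subscheme -/
theorem nonempty_HU_addEquiv_HHon (U : X.Opens) (n : ℕ) :
    Nonempty (CohTop.HU (Coh.toAb F) n U ≃+ Coh.HHon X F U n) := by
  obtain ⟨e⟩ := Groth.Agent.Lib.Helper22.CohTop.nonempty_HU_addEquiv_H_restr (X := X.carrier) U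
    (Coh.toAb F) n
  have e2 : CohTop.restr (Coh.toAb F) U ≅ Coh.toAb (F.restrict U.ι) :=
    (fullyFaithfulSheafToPresheaf _ _).preimageIso (Iso.refl _)
  exact ⟨e.trans (hEquivOfIso e2 n)⟩

end scheme

section spec

variable (A : Type u) [CommRing A] (M : Type u) [AddCommGroup M] [Module A M] (fs : List A)

/-- the punctured open is the union of the basic opens of generators -/
lemma puncturedOpen_eq_UL :
    LocCoh.puncturedOpen A (Ideal.span {x | x ∈ fs}) =
      UL (Spec (CommRingCat.of A)) (fs.map (φ A)) := by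
  apply Opens.ext
  apply Set.ext
  intro x
  have key : ∀ x : PrimeSpectrum A,
      x ∈ (PrimeSpectrum.zeroLocus (R := A) ((Ideal.span {x | x ∈ fs} : Ideal A) : Set A))ᶜ ↔
        ∃ g ∈ fs, x ∈ (PrimeSpectrum.basicOpen g : Opens (PrimeSpectrum A)) := by
    intro x
    rw [PrimeSpectrum.zeroLocus_span, Set.mem_compl_iff, PrimeSpectrum.mem_zeroLocus,
      Set.not_subset]
    constructor
    · rintro ⟨g, hg, hgx⟩
      exact ⟨g, hg, hgx⟩
    · rintro ⟨g, hg, hgx⟩
      exact ⟨g, hg, hgx⟩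
  rw [SetLike.mem_coe, SetLike.mem_coe, mem_UL]
  constructor
  · intro hx
    obtain ⟨g, hg, hgx⟩ := (key x).1 hx
    refine ⟨_, List.mem_map_of_mem hg, ?_⟩
    rw [basicOpen_φ]
    exact hgx
  · rintro ⟨g', hg', hgx⟩
    obtain ⟨g, hg, rfl⟩ := List.mem_map.1 hg'
    rw [basicOpen_φ] at hgx
    exact (key x).2 ⟨g, hg, hgx⟩

/-- degree zero: sections with support -/
theorem deg0 (U : (Spec (CommRingCat.of A)).Opens)
    (hU : U = ⊤ ⊓ UL (Spec (CommRingCat.of A)) (fs.map (φ A))) :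
    Nonempty (Hq fs (ModuleCat.of A M) 0 ≃+
      LocCohZ.sectZ (X := (Spec (CommRingCat.of A)).carrier)
        (Coh.toAb (tilde (R := CommRingCat.of A) (ModuleCat.of A M))) (le_top : U ≤ ⊤)) := by
  subst hU
  obtain ⟨⟨e0⟩, -⟩ := thmA_sections (φ A) (tilde (R := CommRingCat.of A) (ModuleCat.of A M)) fs
    (ModuleCat.of A M) (r₀ A M) (r₀_bijective A M)
  let f0 : LinearMap.ker (r₀ A M ≫ secResφ (φ A)
      (tilde (R := CommRingCat.of A) (ModuleCat.of A M))
      (inf_le_left : ⊤ ⊓ UL (Spec (CommRingCat.of A)) (fs.map (φ A)) ≤ ⊤)).hom →+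
      LocCohZ.sectZ (X := (Spec (CommRingCat.of A)).carrier)
        (Coh.toAb (tilde (R := CommRingCat.of A) (ModuleCat.of A M)))
        (le_top : ⊤ ⊓ UL (Spec (CommRingCat.of A)) (fs.map (φ A)) ≤ ⊤) :=
    { toFun := fun x => ⟨(r₀ A M).hom x.1, x.2⟩
      map_zero' := Subtype.ext (map_zero (r₀ A M).hom)
      map_add' := fun a b => Subtype.ext (map_add (r₀ A M).hom a.1 b.1) }
  have hb : Function.Bijective f0 := by
    constructor
    · intro a b hab
      exact Subtype.ext ((r₀_bijective A M).1 (congrArg Subtype.val hab))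
    · intro y
      obtain ⟨m, hm⟩ := (r₀_bijective A M).2 y.1
      refine ⟨⟨m, ?_⟩, Subtype.ext hm⟩
      have hy := y.2
      rw [← hm] at hy
      exact hy
  exact ⟨e0.toLinearEquiv.toAddEquiv.trans (AddEquiv.ofBijective f0 hb)⟩

/-- degree one: the cokernel of the restriction -/
theorem deg1 (U : (Spec (CommRingCat.of A)).Opens)
    (hU : U = ⊤ ⊓ UL (Spec (CommRingCat.of A)) (fs.map (φ A))) :
    Nonempty (Hq fs (ModuleCat.of A M) 1 ≃+
      ((Coh.toAb (tilde (R := CommRingCat.of A) (ModuleCat.of A M))).obj.obj (op U) ⧸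
        ((Coh.toAb (tilde (R := CommRingCat.of A) (ModuleCat.of A M))).obj.map
          (homOfLE (le_top : U ≤ ⊤)).op).hom.range)) := by
  subst hU
  obtain ⟨-, ⟨e1⟩⟩ := thmA_sections (φ A) (tilde (R := CommRingCat.of A) (ModuleCat.of A M)) fs
    (ModuleCat.of A M) (r₀ A M) (r₀_bijective A M)
  have hr : (LinearMap.range (r₀ A M ≫ secResφ (φ A)
      (tilde (R := CommRingCat.of A) (ModuleCat.of A M))
      (inf_le_left : ⊤ ⊓ UL (Spec (CommRingCat.of A)) (fs.map (φ A)) ≤ ⊤)).hom).toAddSubgroup =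
      ((Coh.toAb (tilde (R := CommRingCat.of A) (ModuleCat.of A M))).obj.map
          (homOfLE (le_top : ⊤ ⊓ UL (Spec (CommRingCat.of A)) (fs.map (φ A)) ≤ ⊤)).op).hom.range := by
    ext y
    constructor
    · rintro ⟨m, rfl⟩
      exact ⟨(r₀ A M).hom m, rfl⟩
    · rintro ⟨s, rfl⟩
      obtain ⟨m, rfl⟩ := (r₀_bijective A M).2 s
      exact ⟨m, rfl⟩
  exact ⟨e1.toLinearEquiv.toAddEquiv.trans (QuotientAddGroup.quotientAddEquivOfEq hr)⟩

/-- higher degrees: the cohomology of the open -/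
theorem degHigh (U : (Spec (CommRingCat.of A)).Opens)
    (hU : U = UL (Spec (CommRingCat.of A)) (fs.map (φ A))) (n : ℕ) :
    Nonempty (Coh.HHon (Spec (CommRingCat.of A))
      (tilde (R := CommRingCat.of A) (ModuleCat.of A M)) U (n + 1) ≃+
        Hq fs (ModuleCat.of A M) ((n : ℤ) + 2)) := by
  have haff : ∀ f ∈ fs, IsAffineOpen ((Spec (CommRingCat.of A)).basicOpen (φ A f)) := fun f _ =>
    (isAffineOpen_top (Spec (CommRingCat.of A))).basicOpen _
  cases fs with
  | nil =>
    subst hU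
    have hz : IsZero (Hq ([] : List A) (ModuleCat.of A M) ((n : ℤ) + 2)) := by
      have h := isZero_Hq_of_tors ([] : List A) (ModuleCat.of A M)
        (fun f hf => (List.not_mem_nil hf).elim) ((n : ℤ) + 1) (by positivity)
      rwa [show (n : ℤ) + 1 + 1 = (n : ℤ) + 2 by ring] at h
    haveI : IsAffine (UL (Spec (CommRingCat.of A)) (([] : List A).map (φ A))).toScheme :=
      isAffineOpen_bot _
    haveI : Subsingleton (Coh.HHon (Spec (CommRingCat.of A))
        (tilde (R := CommRingCat.of A) (ModuleCat.of A M))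
        (UL (Spec (CommRingCat.of A)) (([] : List A).map (φ A))) (n + 1)) :=
      Groth.Agent.Lib.Helper22.Cech.subsingleton_HH_succ_of_isAffine _ _ n
    haveI : Subsingleton (Hq ([] : List A) (ModuleCat.of A M) ((n : ℤ) + 2)) :=
      ModuleCat.subsingleton_of_isZero hz
    exact ⟨{ toFun := fun _ => 0
             invFun := fun _ => 0
             left_inv := fun _ => Subsingleton.elim _ _
             right_inv := fun _ => Subsingleton.elim _ _
             map_add' := fun _ _ => Subsingleton.elim _ _ }⟩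
  | cons f₀ l =>
    exact HHon_iso_Hqφ (φ A) f₀ l haff (tilde (R := CommRingCat.of A) (ModuleCat.of A M))
      (ModuleCat.of A M) (r₀ A M) (r₀_bijective A M) U hU n

end spec

end Groth.Agent.Lib.Helper5.HZKoszul
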