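import Groth.Agent.Lib.Helper5.QExact
import Groth.Agent.Lib.Helper17.IHom
import Groth.Agent.Lib.Helper22.DimShift
import Groth.Agent.Lib.Helper22.DimShiftIso
import Groth.Agent.S0485

/-!
# Modules with local dual bases: the internal hom out of them is exact

A *local dual basis* of a presheaf of modules `Q` over `V` consists of sections `s i ∈ Q(V)` and
natural linear coordinate maps `c i : Q(W) → R(W)` for `W ⟶ V` with `e = ∑ c i (e) • s i|_W`.
(Finite locally free modules have such bases locally.)  If a sheaf of modules `E` has local dual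
bases on a covering of every object, then `Hom_O(E, -)` preserves epimorphisms, hence its higher
right derived functors (the Ext sheaves) vanish.
-/

set_option autoImplicit false

universe u

open CategoryTheory Limits Opposite

noncomputable section

namespace Groth.Agent.Lib.Helper5.DualBasis

open Groth.Agent.Lib.Helper17.IHom Groth.Agent.Lib.Helper17.Tensor
  Groth.Agent.Lib.Helper17.LocInj Groth.Agent.Lib.Helper5.QS

section presheaf

variable {C : Type u} [SmallCategory C] {R : Cᵒᵖ ⥤ CommRingCat.{u}}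

/-- a local dual basis of `Q` over `V` -/
structure LocBasis (Q : PresheafOfModules.{u} (R ⋙ forget₂ CommRingCat RingCat)) (V : C)
    (n : ℕ) where
  /-- the generators -/
  s : Fin n → Q.obj (op V)
  /-- the coordinate maps -/
  c : Fin n → ∀ {W : C} (_ : W ⟶ V), Q.obj (op W) →+ R.obj (op W)
  c_smul : ∀ (i : Fin n) {W : C} (g : W ⟶ V) (r : R.obj (op W)) (e : Q.obj (op W)),
    c i g (r • e) = r * c i g e
  c_nat : ∀ (i : Fin n) {W W' : C} (g : W ⟶ V) (h : W' ⟶ W) (e : Q.obj (op W)),
    rmap h (c i g e) = c i (h ≫ g) (rs Q h e)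
  total : ∀ {W : C} (g : W ⟶ V) (e : Q.obj (op W)), e = ∑ i, c i g e • rs Q g (s i)

variable {Q B B' : PresheafOfModules.{u} (R ⋙ forget₂ CommRingCat RingCat)}

lemma rs_sum (M : PresheafOfModules.{u} (R ⋙ forget₂ CommRingCat RingCat)) {U V : C}
    (g : V ⟶ U) {ι : Type*} (s : Finset ι) (m : ι → M.obj (op U)) :
    rs M g (∑ i ∈ s, m i) = ∑ i ∈ s, rs M g (m i) :=
  map_sum (M.map g.op).hom m s

lemma appE_sum (φ : B ⟶ B') {V : C} {ι : Type*} (s : Finset ι) (m : ι → B.obj (op V)) :
    appE φ (∑ i ∈ s, m i) = ∑ i ∈ s, appE φ (m i) :=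
  map_sum (φ.app (op V)).hom m s

lemma ev_sum {U : C} (α : HomAb Q B U) {V : C} (g : V ⟶ U) {ι : Type*} (s : Finset ι)
    (q : ι → Q.obj (op V)) : ev α g (∑ i ∈ s, q i) = ∑ i ∈ s, ev α g (q i) :=
  map_sum (α.app (op (Over.mk g))).hom q s

/-- pull back a local dual basis -/
def LocBasis.pullback {V V' : C} {n : ℕ} (lb : LocBasis Q V n) (a : V' ⟶ V) : LocBasis Q V' n where
  s i := rs Q a (lb.s i)
  c i {W} g := lb.c i (g ≫ a)
  c_smul i {W} g r e := lb.c_smul i (g ≫ a) r e
  c_nat i {W W'} g h e := by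
    have := lb.c_nat i (g ≫ a) h e
    rw [this, Category.assoc]
  total {W} g e := by
    have := lb.total (g ≫ a) e
    refine this.trans (Finset.sum_congr rfl fun i _ => ?_)
    rw [rs_comp]

/-- the family `e ↦ ∑ c i (e) • b i` -/
def liftFam {V W : C} {n : ℕ} (lb : LocBasis Q V n) (h : W ⟶ V) (b : Fin n → B.obj (op W)) :
    HomAb Q B W :=
  mkHomAb (fun {W'} k => AddMonoidHom.mk' (fun e => ∑ i, lb.c i (k ≫ h) e • rs B k (b i)) (by
      intro e e'
      rw [← Finset.sum_add_distrib]
      refine Finset.sum_congr rfl fun i _ => ?_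
      rw [map_add, add_smul]))
    (by
      intro W' W'' k k' e
      show rs B k' (∑ i, lb.c i (k ≫ h) e • rs B k (b i)) =
        ∑ i, lb.c i ((k' ≫ k) ≫ h) (rs Q k' e) • rs B (k' ≫ k) (b i)
      rw [rs_sum]
      refine Finset.sum_congr rfl fun i _ => ?_
      rw [rs_smul, lb.c_nat i (k ≫ h) k' e, rs_comp, Category.assoc])

@[simp] lemma ev_liftFam {V W : C} {n : ℕ} (lb : LocBasis Q V n) (h : W ⟶ V)
    (b : Fin n → B.obj (op W)) {W' : C} (k : W' ⟶ W) (e : Q.obj (op W')) :
    ev (liftFam lb h b) k e = ∑ i, lb.c i (k ≫ h) e • rs B k (b i) := rfl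

lemma liftFam_mem {V W : C} {n : ℕ} (lb : LocBasis Q V n) (h : W ⟶ V)
    (b : Fin n → B.obj (op W)) : liftFam lb h b ∈ linSubgroup Q B W := by
  intro W' k r e
  rw [ev_liftFam, ev_liftFam, Finset.smul_sum]
  refine Finset.sum_congr rfl fun i _ => ?_
  rw [lb.c_smul, mul_smul]

/-- the key computation: the lifted family maps to the restriction of `α` -/
lemma appE_ev_liftFam (φ : B ⟶ B') {Y V W : C} {n : ℕ} (α : linSubgroup Q B' Y) (g : V ⟶ Y)
    (lb : LocBasis Q V n) (h : W ⟶ V) (b : Fin n → B.obj (op W))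
    (hb : ∀ i, appE φ (b i) = rs B' h (ev α.1 g (lb.s i)))
    {W' : C} (k : W' ⟶ W) (e : Q.obj (op W')) :
    appE φ (ev (liftFam lb h b) k e) = ev α.1 (k ≫ h ≫ g) e := by
  rw [ev_liftFam, appE_sum]
  conv_rhs => rw [lb.total (k ≫ h) e]
  rw [ev_sum]
  refine Finset.sum_congr rfl fun i _ => ?_
  rw [appE_smul, appE_rs, hb i, α.2 (k ≫ h ≫ g)]
  congr 1
  have h1 := ev_naturality α.1 g (k ≫ h) (lb.s i)
  rw [Category.assoc] at h1
  rw [← h1, rs_comp]

end presheaf

section sheaf

variable {C : Type u} [SmallCategory C] {J : GrothendieckTopology C} {O : Sheaf J CommRingCat.{u}}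

/-- finite intersections of covering sieves -/
lemma exists_covering_forall_fin {V : C} (n : ℕ) (S : Fin n → Sieve V) (hS : ∀ i, S i ∈ J V) :
    ∃ T : Sieve V, T ∈ J V ∧ ∀ {W : C} (h : W ⟶ V), T h → ∀ i, S i h := by
  induction n with
  | zero => exact ⟨⊤, J.top_mem V, fun _ _ i => i.elim0⟩
  | succ n ih =>
    obtain ⟨T, hT, hT'⟩ := ih (fun i => S i.castSucc) (fun i => hS _)
    refine ⟨T ⊓ S (Fin.last n), J.intersection_covering hT (hS _), ?_⟩
    intro W h hh i
    refine Fin.lastCases ?_ (fun j => ?_) i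
    · exact hh.2
    · exact hT' h hh.1 j

/-- `E` has local dual bases on a covering of every object -/
def HasLocBases (E : ModSite.Mod O) : Prop :=
  ∀ Y : C, ∃ S : Sieve Y, S ∈ J Y ∧ ∀ {V : C} (g : V ⟶ Y), S g →
    ∃ n : ℕ, Nonempty (LocBasis (toPMod E) V n)

variable (E : ModSite.Mod O)

/-- **`Hom_O(E, -)` preserves epimorphisms** when `E` has local dual bases. -/
theorem epi_HFun_map (hE : HasLocBases E) {B B' : ModSite.Mod O} (f : B ⟶ B') [Epi f] :
    Epi ((HFun E).map f) := by
  haveI := Groth.Agent.Lib.Helper17.ModSiteExact.toSheaf_preservesFiniteColimits (ModSite.ringSh O)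
  have hf := isLocallySurjective_of_epi f
  suffices h : Epi ((SheafOfModules.toSheaf (ModSite.ringSh O)).map ((HFun E).map f)) from
    (SheafOfModules.toSheaf (ModSite.ringSh O)).epi_of_epi_map h
  rw [← Sheaf.isLocallySurjective_iff_epi']
  refine ⟨fun {Y} α => ?_⟩
  -- `α` is a linear family `E|_Y → B'|_Y`
  change linSubgroup (toPMod E) (toPMod B') Y at α
  obtain ⟨S, hS, hS'⟩ := hE Y
  refine J.transitive hS _ ?_
  intro V g hg
  obtain ⟨n, ⟨lb⟩⟩ := hS' g hg
  obtain ⟨T, hT, hT'⟩ := exists_covering_forall_fin (J := J) n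
    (fun i => Presheaf.imageSieve (ab (pv f)) (ev α.1 g (lb.s i)))
    (fun i => Presheaf.imageSieve_mem J (ab (pv f)) _)
  refine J.superset_covering ?_ hT
  intro W h hh
  have hex : ∀ i, ∃ b : (toPMod B).obj (op W),
      appE (pv f) b = rs (toPMod B') h (ev α.1 g (lb.s i)) := fun i => hT' h hh i
  choose b hb using hex
  refine ⟨(⟨liftFam lb h b, liftFam_mem lb h b⟩ : linSubgroup (toPMod E) (toPMod B) W), ?_⟩
  have hval : ((HFun E).map f).val = ihomMap (toPMod E) (pv f) := HFun_map_val E f
  change ((((HFun E).map f).val.app (op W)).hom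
    (⟨liftFam lb h b, liftFam_mem lb h b⟩ : linSubgroup (toPMod E) (toPMod B) W) :
      linSubgroup (toPMod E) (toPMod B') W) = resLin (h ≫ g) α
  rw [hval]
  apply ext_lin
  intro W' k e
  rw [ev_resLin]
  change appE (pv f) (ev (liftFam lb h b) k e) = _
  rw [appE_ev_liftFam (pv f) α g lb h b hb k e]

/-- **`Hom_O(E, -)` (the chosen internal hom) preserves epimorphisms** when `E` has local dual
bases. -/
theorem epi_sheafHom_map [ModSite.HasSheafHom E] (hE : HasLocBases E) {B B' : ModSite.Mod O}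
    (f : B ⟶ B') [Epi f] : Epi ((ModSite.sheafHom E).map f) := by
  obtain ⟨e⟩ : Nonempty (ModSite.sheafHom E ≅ HFun E) := ⟨sheafHomIso E⟩
  have h1 := epi_HFun_map E hE f
  have h : (ModSite.sheafHom E).map f = e.hom.app B ≫ (HFun E).map f ≫ e.inv.app B' := by
    rw [← e.hom.naturality_assoc f, Iso.hom_inv_id_app, Category.comp_id]
  rw [h]
  exact epi_comp' inferInstance (epi_comp' h1 inferInstance)

end sheaf

section derived

open Groth.Agent.Lib.Helper22 Groth.Agent.Lib.Helper22.DimShift

variable {A B : Type*} [Category A] [Abelian A] [Category B] [Abelian B] [EnoughInjectives A]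
  (G : A ⥤ B) [G.Additive] [PreservesFiniteLimits G]

/-- the higher right derived functors of a left exact functor preserving epimorphisms vanish -/
theorem isZero_rightDerived_succ_of_preservesEpi
    (hG : ∀ {X Y : A} (f : X ⟶ Y) [Epi f], Epi (G.map f)) (n : ℕ) :
    ∀ X : A, IsZero ((G.rightDerived (n + 1)).obj X) := by
  induction n with
  | zero =>
    intro X
    haveI : Epi (DimShift.injSC X).g := (DimShift.injSC_shortExact X).epi_g
    exact (isZero_rightDerived_one_iff G (DimShift.injSC X) (DimShift.injSC_shortExact X)).2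
      (hG _)
  | succ n ih =>
    intro X
    exact (isZero_rightDerived_succ_succ_iff G (DimShift.injSC X)
      (DimShift.injSC_shortExact X) n).2 (ih _)

end derived

section ext

variable {C : Type u} [SmallCategory C] {J : GrothendieckTopology C} {O : Sheaf J CommRingCat.{u}}
  (E : ModSite.Mod O) [ModSite.HasSheafHom E]

instance preservesFiniteLimits_sheafHom : PreservesFiniteLimits (ModSite.sheafHom E) := by
  haveI := (ModSite.sheafHomAdj E).rightAdjoint_preservesLimits
  infer_instance

/-- **The Ext sheaves `Ext^{n+1}(E, G)` vanish** when `E` has local dual bases. -/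
theorem isZero_extSh_succ [HasInjectiveResolutions (ModSite.Mod O)] (hE : HasLocBases E) (n : ℕ)
    (G : ModSite.Mod O) : IsZero ((ModSite.extSh E (n + 1)).obj G) := by
  haveI : EnoughInjectives (ModSite.Mod O) := Groth.Agent.S0485.result J (ModSite.ringSh O)
  exact isZero_rightDerived_succ_of_preservesEpi (ModSite.sheafHom E)
    (fun f _ => epi_sheafHom_map E hE f) n G

end ext

end Groth.Agent.Lib.Helper5.DualBasis
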