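import Mathlib.Algebra.Homology.ShortComplex.Exact
import Mathlib.Algebra.Homology.ShortComplex.Abelian
import Mathlib.Algebra.Homology.HomologicalComplex
import Mathlib.Algebra.Homology.ShortComplex.HomologicalComplex

/-!
# Abstract homological lemmas for computing derived functors through a left resolution
-/

set_option autoImplicit false

universe v u

open CategoryTheory CategoryTheory.Limits

namespace Groth.Agent.Lib.Helper5.ResExtAbs

variable {𝒟 : Type u} [Category.{v} 𝒟] [Abelian 𝒟]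

section

variable {A B B' Z Z' E : 𝒟} (r : A ⟶ Z) (i : Z ⟶ B) (r' : B ⟶ Z') (i' : Z' ⟶ B')
  [Mono i] [Mono i'] (w : i ≫ r' = 0) (hex : (ShortComplex.mk i r' w).Exact)

include w in
lemma wi : i ≫ r' ≫ i' = 0 := by rw [← Category.assoc, w, zero_comp]

/-- `i` is a kernel of `r' ≫ i'` -/
noncomputable def hi : IsLimit (KernelFork.ofι i (wi i r' i' w)) :=
  KernelFork.IsLimit.ofι i (wi i r' i' w)
    (fun {T} x hx => hex.lift x (by
      change x ≫ r' = 0
      rw [← cancel_mono i', Category.assoc, zero_comp]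
      exact hx))
    (fun x hx => hex.lift_f _ _)
    (fun x hx m hm => by
      rw [← cancel_mono i]
      exact hm.trans (hex.lift_f _ _).symm)

variable (q : Z ⟶ E) (hq : r ≫ q = 0) (hq' : (ShortComplex.mk r q hq).Exact) [Epi q]
  (w' : (r ≫ i) ≫ (r' ≫ i') = 0)

/-- the homology of `A ⟶ B ⟶ B'` is `E` -/
noncomputable def leftData : (ShortComplex.mk (r ≫ i) (r' ≫ i') w').LeftHomologyData := by
  have hlift : (hi i r' i' w hex).lift (KernelFork.ofι (r ≫ i) w') = r := by
    rw [← cancel_mono i]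
    exact Fork.IsLimit.lift_ι (hi i r' i' w hex)
  have wπ : (hi i r' i' w hex).lift (KernelFork.ofι (r ≫ i) w') ≫ q = 0 := by rw [hlift, hq]
  have hπ : IsColimit (CokernelCofork.ofπ q wπ) := CokernelCofork.IsColimit.ofπ q wπ
    (fun {T} g hg => hq'.desc g (by
      change r ≫ g = 0
      rw [← hlift]
      exact hg))
    (fun g hg => hq'.g_desc _ _)
    (fun g hg m hm => by
      rw [← cancel_epi q]
      exact hm.trans (hq'.g_desc _ _).symm)
  exact
    { K := Z
      H := E
      i := i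
      π := q
      wi := wi i r' i' w
      hi := hi i r' i' w hex
      wπ := wπ
      hπ := hπ }

/-- the homology of `A ⟶ B ⟶ B'` is `E` -/
noncomputable def homologyIso : (ShortComplex.mk (r ≫ i) (r' ≫ i') w').homology ≅ E :=
  (leftData r i r' i' w hex q hq hq' w').homologyIso

/-- the homology of `A --0--> B ⟶ B'` is the kernel `Z` -/
noncomputable def homologyIsoZero (w'' : (0 : A ⟶ B) ≫ (r' ≫ i') = 0) :
    (ShortComplex.mk (0 : A ⟶ B) (r' ≫ i') w'').homology ≅ Z :=
  (ShortComplex.LeftHomologyData.ofIsLimitKernelFork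
    (ShortComplex.mk (0 : A ⟶ B) (r' ≫ i') w'') rfl _ (hi i r' i' w hex)).homologyIso

end

/-- a morphism in the middle of an exact sequence with zero ends is an isomorphism -/
lemma isIso_of_exact {A B C' D' : 𝒟} (a : A ⟶ B) (δ : B ⟶ C') (c : C' ⟶ D') (w₁ : a ≫ δ = 0)
    (w₂ : δ ≫ c = 0) (h₁ : (ShortComplex.mk a δ w₁).Exact) (h₂ : (ShortComplex.mk δ c w₂).Exact)
    (hA : IsZero A) (hD : IsZero D') : IsIso δ := by
  haveI : Mono δ := h₁.mono_g (hA.eq_of_src _ _)
  haveI : Epi δ := h₂.epi_f (hD.eq_of_tgt _ _)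
  exact isIso_of_mono_of_epi δ

lemma epi_of_exact {B C' D' : 𝒟} (δ : B ⟶ C') (c : C' ⟶ D')
    (w₂ : δ ≫ c = 0) (h₂ : (ShortComplex.mk δ c w₂).Exact) (hD : IsZero D') : Epi δ :=
  h₂.epi_f (hD.eq_of_tgt _ _)

end Groth.Agent.Lib.Helper5.ResExtAbs
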