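import Groth.Agent.Lib.Helper5.SheafHomSeq
import Groth.Agent.Lib.Helper5.ResExtAbs

/-!
# Relative Ext sheaves through a left resolution by acyclic objects (first variable)
-/

set_option autoImplicit false

universe u

open CategoryTheory Limits Opposite Abelian

namespace Groth.Agent.Lib.Helper5.ResExt

open Groth.Agent.Lib.Helper5.SheafHomSeq Groth.Agent.Lib.Helper5.ResExtAbs

variable {C : Type u} [SmallCategory C] {J : GrothendieckTopology C} {O : Sheaf J CommRingCat.{u}}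

section Res

variable (L : ChainComplex (ModSite.Mod O) ℕ) (F : ModSite.Mod O)

/-- the syzygies `K_0 = F`, `K_{j+1} = coker (L_{j+2} ⟶ L_{j+1})` -/
noncomputable def Kobj : ℕ → ModSite.Mod O
  | 0 => F
  | (j + 1) => cokernel (L.d (j + 2) (j + 1))

variable {F} (π : L.X 0 ⟶ F)

/-- `L_j ⟶ K_j` -/
noncomputable def εK : ∀ j : ℕ, L.X j ⟶ Kobj L F j
  | 0 => π
  | (j + 1) => cokernel.π (L.d (j + 2) (j + 1))

variable (F) in
/-- `K_{j+1} ⟶ L_j` -/
noncomputable def ιK (j : ℕ) : Kobj L F (j + 1) ⟶ L.X j :=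
  cokernel.desc (L.d (j + 2) (j + 1)) (L.d (j + 1) j) (L.d_comp_d _ _ _)

lemma εK_succ_ιK (j : ℕ) : εK L π (j + 1) ≫ ιK L F j = L.d (j + 1) j :=
  cokernel.π_desc _ _ _

variable (hπ : L.d 1 0 ≫ π = 0)

include hπ in
lemma d_εK (j : ℕ) : L.d (j + 1) j ≫ εK L π j = 0 := by
  cases j with
  | zero => exact hπ
  | succ j => exact cokernel.condition _

include hπ in
lemma ιK_εK (j : ℕ) : ιK L F j ≫ εK L π j = 0 := by
  have h1 : cokernel.π (L.d (j + 2) (j + 1)) ≫ ιK L F j = L.d (j + 1) j := cokernel.π_desc _ _ _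
  have h2 : cokernel.π (L.d (j + 2) (j + 1)) ≫ (ιK L F j ≫ εK L π j) =
      cokernel.π (L.d (j + 2) (j + 1)) ≫ 0 := by
    rw [← Category.assoc, h1, d_εK L π hπ, comp_zero]
  exact (cancel_epi (cokernel.π (L.d (j + 2) (j + 1)))).1 h2

/-- the short exact sequences `K_{j+1} ⟶ L_j ⟶ K_j` -/
noncomputable abbrev sesK (j : ℕ) : ShortComplex (ModSite.Mod O) :=
  ShortComplex.mk (ιK L F j) (εK L π j) (ιK_εK L π hπ j)

variable [Epi π] (hex0 : (ShortComplex.mk (L.d 1 0) π hπ).Exact) (hex : ∀ j : ℕ, L.ExactAt (j + 1))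

lemma epi_εK (j : ℕ) : Epi (εK L π j) := by
  cases j with
  | zero => exact inferInstanceAs (Epi π)
  | succ j => exact inferInstanceAs (Epi (cokernel.π _))

include hex0 in
lemma exact_d_εK (j : ℕ) : (ShortComplex.mk (L.d (j + 1) j) (εK L π j) (d_εK L π hπ j)).Exact := by
  cases j with
  | zero => exact hex0
  | succ j => exact ShortComplex.exact_cokernel _

include hex in
lemma mono_ιK (j : ℕ) : Mono (ιK L F j) := by
  have h := (L.exactAt_iff' (j + 2) (j + 1) j (by simp) (by simp)).1 (hex j)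
  exact (ShortComplex.exact_iff_mono_cokernel_desc _).1 h

include hex0 hex in
lemma sesK_shortExact (j : ℕ) : (sesK L π hπ j).ShortExact := by
  refine { exact := ?_, mono_f := mono_ιK (F := F) L hex j, epi_g := epi_εK L π j }
  let φ : ShortComplex.mk (L.d (j + 1) j) (εK L π j) (d_εK L π hπ j) ⟶ sesK L π hπ j :=
    { τ₁ := cokernel.π (L.d (j + 2) (j + 1))
      τ₂ := 𝟙 _
      τ₃ := 𝟙 _
      comm₁₂ := by
        change cokernel.π (L.d (j + 2) (j + 1)) ≫ ιK L F j = L.d (j + 1) j ≫ 𝟙 _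
        rw [Category.comp_id]
        exact cokernel.π_desc _ _ _
      comm₂₃ := by
        change 𝟙 _ ≫ εK L π j = εK L π j ≫ 𝟙 _
        rw [Category.id_comp, Category.comp_id] }
  haveI : Epi φ.τ₁ := inferInstanceAs (Epi (cokernel.π _))
  haveI : IsIso φ.τ₂ := inferInstanceAs (IsIso (𝟙 _))
  haveI : Mono φ.τ₃ := inferInstanceAs (Mono (𝟙 _))
  exact (ShortComplex.exact_iff_of_epi_of_isIso_of_mono φ).1 (exact_d_εK L π hπ hex0 j)

end Res

section P

variable {𝒟 : Type*} [Category 𝒟] [Abelian 𝒟] (P : ModSite.Mod O ⥤ 𝒟) [P.Additive]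
  (G : ModSite.Mod O)

/-- `P ℋom(M, G)` -/
noncomputable abbrev HP (M : ModSite.Mod O) : 𝒟 := P.obj ((ModSite.sheafHom M).obj G)

/-- contravariant functoriality of `P ℋom(-, G)` -/
noncomputable abbrev HPmap {M M' : ModSite.Mod O} (g : M' ⟶ M) : HP P G M ⟶ HP P G M' :=
  P.map ((ExtSupp.sheafHomMap g).app G)

lemma HPmap_comp {M M' M'' : ModSite.Mod O} (g : M' ⟶ M) (f : M'' ⟶ M') :
    HPmap P G g ≫ HPmap P G f = HPmap P G (f ≫ g) := by
  change P.map _ ≫ P.map _ = P.map _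
  rw [← P.map_comp, ← NatTrans.comp_app, sheafHomMap_comp]

variable [PreservesFiniteLimits P]

section SES

variable {S : ShortComplex (ModSite.Mod O)} (hS : S.ShortExact)

include hS in
lemma mono_HPmap_g : Mono (HPmap P G S.g) := by
  haveI := mono_sheafHomMap_g hS G
  exact inferInstanceAs (Mono (P.map ((ExtSupp.sheafHomMap S.g).app G)))

lemma HP_zero : HPmap P G S.g ≫ HPmap P G S.f = 0 := by
  change P.map _ ≫ P.map _ = 0
  rw [← P.map_comp, sheafHomMap_zero, P.map_zero]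

include hS in
lemma HP_exact : (ShortComplex.mk (HPmap P G S.g) (HPmap P G S.f) (HP_zero P G)).Exact := by
  haveI := mono_sheafHomMap_g hS G
  exact (seq_exact hS G).map_of_mono_of_preservesKernel P
    (inferInstanceAs (Mono ((ExtSupp.sheafHomMap S.g).app G))) inferInstance

end SES

variable (hP : ∀ (S' : ShortComplex (ModSite.Mod O)), S'.ShortExact →
    CohCx.IsTotallyAcyclic (ModSite.toAb S'.X₁) → Epi (P.map S'.g))
  [HasInjectiveResolutions (ModSite.Mod O)]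

/-- `Ext^p_P(M, G) = R^p (P ℋom(M, -)) (G)` -/
noncomputable abbrev EP (M : ModSite.Mod O) (p : ℕ) : 𝒟 :=
  ((ModSite.sheafHom M ⋙ P).rightDerived p).obj G

instance (M : ModSite.Mod O) : PreservesFiniteLimits (ModSite.sheafHom M ⋙ P) := by
  haveI : PreservesFiniteLimits (ModSite.sheafHom M) := by
    haveI := (ModSite.sheafHomAdj M).rightAdjoint_preservesLimits
    infer_instance
  infer_instance

/-- `P ℋom(M, G) ≅ Ext^0_P(M, G)` -/
noncomputable def tz (M : ModSite.Mod O) : HP P G M ≅ EP P G M 0 :=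
  (asIso (ModSite.sheafHom M ⋙ P).toRightDerivedZero).app G

lemma tz_naturality {M M' : ModSite.Mod O} (g : M' ⟶ M) :
    HPmap P G g ≫ (tz P G M').hom = (tz P G M).hom ≫
      (NatTrans.rightDerived (Functor.whiskerRight (ExtSupp.sheafHomMap g) P) 0).app G := by
  have h1 := congrArg (fun t => t.app G)
    (Groth.Agent.Lib.Helper22.DeltaMV.toRightDerivedZero_naturality
      (Functor.whiskerRight (ExtSupp.sheafHomMap g) P))
  exact h1.symm

section SES2

variable {S : ShortComplex (ModSite.Mod O)} (hS : S.ShortExact)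
  (hmid : ∀ p : ℕ, 1 ≤ p → IsZero (EP P G S.X₂ p))

include hS hP hmid in
lemma shift_iso (p : ℕ) : Nonempty (EP P G S.X₁ (p + 1) ≅ EP P G S.X₃ (p + 2)) := by
  obtain ⟨-, -, δ, hδ⟩ := les P hS hP G
  obtain ⟨⟨w₁, h₁⟩, ⟨w₂, h₂⟩⟩ := hδ (p + 1)
  haveI := isIso_of_exact _ (δ (p + 1)) _ w₁ w₂ h₁ h₂ (hmid (p + 1) (by omega))
    (hmid (p + 1 + 1) (by omega))
  exact ⟨asIso (δ (p + 1))⟩

include hS hP hmid in
lemma exists_q : ∃ q : HP P G S.X₁ ⟶ EP P G S.X₃ 1, Epi q ∧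
    ∃ hq : HPmap P G S.f ≫ q = 0, (ShortComplex.mk (HPmap P G S.f) q hq).Exact := by
  obtain ⟨-, -, δ, hδ⟩ := les P hS hP G
  obtain ⟨⟨w₁, h₁⟩, ⟨w₂, h₂⟩⟩ := hδ 0
  haveI : Epi (δ 0) := epi_of_exact (δ 0) _ w₂ h₂ (hmid 1 le_rfl)
  have hnat := tz_naturality P G S.f
  have hq : HPmap P G S.f ≫ (tz P G S.X₁).hom ≫ δ 0 = 0 := by
    rw [← Category.assoc, hnat, Category.assoc]
    exact (congrArg (fun t => (tz P G S.X₂).hom ≫ t) w₁).trans comp_zero
  refine ⟨(tz P G S.X₁).hom ≫ δ 0, inferInstance, hq, ?_⟩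
  exact DerSES.exact_transport hq w₁ (tz P G S.X₂) (tz P G S.X₁) (Iso.refl _) hnat
    (by rw [Iso.refl_hom, Category.comp_id]) h₁

end SES2

section Main

variable (L : ChainComplex (ModSite.Mod O) ℕ) {F : ModSite.Mod O} (π : L.X 0 ⟶ F) [Epi π]
  (hπ : L.d 1 0 ≫ π = 0) (hex0 : (ShortComplex.mk (L.d 1 0) π hπ).Exact)
  (hex : ∀ j : ℕ, L.ExactAt (j + 1))
  (hL : ∀ (j p : ℕ), 1 ≤ p → IsZero (EP P G (L.X j) p))

include hP hex0 hex hL in
lemma iter (n : ℕ) : ∀ j m : ℕ, m = j + n →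
    Nonempty (EP P G (Kobj L F m) 1 ≅ EP P G (Kobj L F j) (n + 1)) := by
  induction n with
  | zero =>
    intro j m hm
    obtain rfl : m = j := by omega
    exact ⟨Iso.refl _⟩
  | succ n ih =>
    intro j m hm
    obtain ⟨e1⟩ := ih (j + 1) m (by omega)
    obtain ⟨e2⟩ := shift_iso P G hP (sesK_shortExact L π hπ hex0 hex j) (hL j) n
    exact ⟨e1 ≪≫ e2⟩

variable (Cx : CochainComplex 𝒟 ℕ) (e : ∀ j : ℕ, Cx.X j ≅ HP P G (L.X j))
  (hC : ∀ j : ℕ, Cx.d j (j + 1) ≫ (e (j + 1)).hom = (e j).hom ≫ HPmap P G (L.d (j + 1) j))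

lemma HPmap_d (j : ℕ) : HPmap P G (L.d (j + 1) j) =
    HPmap P G (ιK L F j) ≫ HPmap P G (εK L π (j + 1)) := by
  rw [HPmap_comp, εK_succ_ιK]


include hex0 hex in
lemma mono_i (j : ℕ) : Mono (HPmap P G (εK L π j)) :=
  mono_HPmap_g P G (S := sesK L π hπ j) (sesK_shortExact L π hπ hex0 hex j)

include hπ in
lemma zero_i (j : ℕ) : HPmap P G (εK L π j) ≫ HPmap P G (ιK L F j) = 0 :=
  HP_zero P G (S := sesK L π hπ j)

include hex0 hex in
lemma exact_i (j : ℕ) : (ShortComplex.mk (HPmap P G (εK L π j)) (HPmap P G (ιK L F j))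
    (zero_i P G L π hπ j)).Exact :=
  HP_exact P G (S := sesK L π hπ j) (sesK_shortExact L π hπ hex0 hex j)

include hP hex0 hex hL in
lemma exists_q_j (j : ℕ) : ∃ q : HP P G (Kobj L F (j + 1)) ⟶ EP P G (Kobj L F j) 1, Epi q ∧
    ∃ hq : HPmap P G (ιK L F j) ≫ q = 0, (ShortComplex.mk (HPmap P G (ιK L F j)) q hq).Exact :=
  exists_q P G hP (S := sesK L π hπ j) (sesK_shortExact L π hπ hex0 hex j) (hL j)

include hP hex0 hex hL hC in
theorem main_zero : Nonempty (Cx.homology 0 ≅ EP P G (Kobj L F 0) 0) := by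
  haveI := mono_i P G L π hπ hex0 hex 0
  haveI := mono_i P G L π hπ hex0 hex 1
  have hexact := exact_i P G L π hπ hex0 hex 0
  let e0 : Cx.homology 0 ≅ (Cx.sc' 0 0 1).homology :=
    ShortComplex.homologyMapIso (Cx.isoSc' 0 0 1 (by simp) (by simp))
  have w'' : (0 : HP P G (L.X 0) ⟶ HP P G (L.X 0)) ≫
      (HPmap P G (ιK L F 0) ≫ HPmap P G (εK L π 1)) = 0 := zero_comp
  let e1 : Cx.sc' 0 0 1 ≅ ShortComplex.mk (0 : HP P G (L.X 0) ⟶ HP P G (L.X 0))
      (HPmap P G (ιK L F 0) ≫ HPmap P G (εK L π 1)) w'' :=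
    ShortComplex.isoMk (e 0) (e 0) (e 1)
      (by
        change (e 0).hom ≫ 0 = Cx.d 0 0 ≫ (e 0).hom
        rw [Cx.shape 0 0 (by simp), comp_zero, zero_comp])
      (by
        change (e 0).hom ≫ (HPmap P G (ιK L F 0) ≫ HPmap P G (εK L π 1)) =
          Cx.d 0 1 ≫ (e 1).hom
        rw [hC 0, HPmap_d P G L π 0])
  let e2 := homologyIsoZero (A := HP P G (L.X 0)) (HPmap P G (εK L π 0)) (HPmap P G (ιK L F 0))
    (HPmap P G (εK L π 1)) (zero_i P G L π hπ 0) hexact w''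
  exact ⟨e0 ≪≫ ShortComplex.homologyMapIso e1 ≪≫ e2 ≪≫ tz P G (Kobj L F 0)⟩

include hP hex0 hex hL hC in
theorem main_succ (k : ℕ) : Nonempty (Cx.homology (k + 1) ≅ EP P G (Kobj L F 0) (k + 1)) := by
  haveI := mono_i P G L π hπ hex0 hex (k + 1)
  haveI := mono_i P G L π hπ hex0 hex (k + 2)
  have hexact := exact_i P G L π hπ hex0 hex (k + 1)
  obtain ⟨q, hqe, hq, hq'⟩ := exists_q_j P G hP L π hπ hex0 hex hL k
  let e0 : Cx.homology (k + 1) ≅ (Cx.sc' k (k + 1) (k + 2)).homology :=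
    ShortComplex.homologyMapIso (Cx.isoSc' k (k + 1) (k + 2) (by simp) (by simp))
  have w' : (HPmap P G (ιK L F k) ≫ HPmap P G (εK L π (k + 1))) ≫
      (HPmap P G (ιK L F (k + 1)) ≫ HPmap P G (εK L π (k + 2))) = 0 := by
    rw [Category.assoc, ← Category.assoc (HPmap P G (εK L π (k + 1))),
      zero_i P G L π hπ (k + 1), zero_comp, comp_zero]
  let e1 : Cx.sc' k (k + 1) (k + 2) ≅ ShortComplex.mk _ _ w' :=
    ShortComplex.isoMk (e k) (e (k + 1)) (e (k + 2))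
      (by
        change (e k).hom ≫ (HPmap P G (ιK L F k) ≫ HPmap P G (εK L π (k + 1))) =
          Cx.d k (k + 1) ≫ (e (k + 1)).hom
        rw [hC k, HPmap_d P G L π k])
      (by
        change (e (k + 1)).hom ≫ (HPmap P G (ιK L F (k + 1)) ≫ HPmap P G (εK L π (k + 2))) =
          Cx.d (k + 1) (k + 2) ≫ (e (k + 2)).hom
        rw [hC (k + 1), HPmap_d P G L π (k + 1)])
  let e2 := homologyIso (HPmap P G (ιK L F k)) (HPmap P G (εK L π (k + 1)))
    (HPmap P G (ιK L F (k + 1))) (HPmap P G (εK L π (k + 2)))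
    (zero_i P G L π hπ (k + 1)) hexact q hq hq' w'
  obtain ⟨e3⟩ := iter P G hP L π hπ hex0 hex hL k 0 k (by omega)
  exact ⟨e0 ≪≫ ShortComplex.homologyMapIso e1 ≪≫ e2 ≪≫ e3⟩

include hP hex0 hex hL hC in
theorem main (i : ℕ) : Nonempty (Cx.homology i ≅ EP P G F i) := by
  cases i with
  | zero => exact main_zero P G hP L π hπ hex0 hex hL Cx e hC
  | succ k => exact main_succ P G hP L π hπ hex0 hex hL Cx e hC k

end Main

end P

end Groth.Agent.Lib.Helper5.ResExt
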