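import Mathlib.AlgebraicGeometry.Morphisms.UniversallyOpen
import Mathlib.AlgebraicGeometry.Morphisms.UnderlyingMap

set_option autoImplicit false

universe u

namespace Groth.Agent.Lib.Helper5

open AlgebraicGeometry CategoryTheory Topology

theorem generalizingMap_comap_of_isOpenMap {A B : Type*} [CommRing A] [CommRing B] (φ : A →+* B)
    (h : IsOpenMap (PrimeSpectrum.comap φ)) : GeneralizingMap (PrimeSpectrum.comap φ) := by
  intro x y' hy'
  have key : Disjoint ((y'.asIdeal.map φ : Ideal B) : Set B)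
      (x.asIdeal.primeCompl ⊔ y'.asIdeal.primeCompl.map φ : Submonoid B) := by
    rw [Set.disjoint_left]
    intro b hb hbS
    obtain ⟨s, hs, t, ht, rfl⟩ := Submonoid.mem_sup.mp hbS
    obtain ⟨a, ha, rfl⟩ := ht
    have hopen := h _ (PrimeSpectrum.basicOpen s).2
    have hmem : PrimeSpectrum.comap φ x ∈
        PrimeSpectrum.comap φ '' (PrimeSpectrum.basicOpen s : Set _) := ⟨x, hs, rfl⟩
    obtain ⟨x'', hx''s, hx''⟩ := hopen.stableUnderGeneralization hy' hmem
    have h1 : y'.asIdeal.map φ ≤ x''.asIdeal := by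
      rw [Ideal.map_le_iff_le_comap, ← hx'']
      exact le_rfl
    have h2 := h1 hb
    rcases x''.2.mem_or_mem h2 with h3 | h3
    · exact hx''s h3
    · apply ha
      rw [← hx'']
      exact h3
  obtain ⟨p', hp', hle', hdisj⟩ := Ideal.exists_le_prime_disjoint _ _ key
  refine ⟨⟨p', hp'⟩, ?_, ?_⟩
  · show (⟨p', hp'⟩ : PrimeSpectrum B) ⤳ x
    rw [← PrimeSpectrum.le_iff_specializes]
    intro b hb
    by_contra hbx
    exact Set.disjoint_left.mp hdisj hb (Submonoid.mem_sup_left hbx)
  · ext a
    constructor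
    · intro ha
      by_contra hay
      exact Set.disjoint_left.mp hdisj ha (Submonoid.mem_sup_right ⟨a, hay, rfl⟩)
    · intro ha
      exact hle' (Ideal.mem_map_of_mem _ ha)

theorem generalizingMap_of_isOpenMap {X Y : Scheme.{u}} (f : X ⟶ Y) (hf : IsOpenMap f) :
    GeneralizingMap f := by
  change topologically GeneralizingMap f
  wlog hY : ∃ R, Y = Spec R
  · rw [IsZariskiLocalAtTarget.iff_of_openCover (P := topologically GeneralizingMap) Y.affineCover]
    intro i
    dsimp only [Scheme.Cover.pullbackHom]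
    refine this _ ?_ ⟨_, rfl⟩
    exact IsZariskiLocalAtTarget.of_isPullback (P := topologically IsOpenMap)
      (iY := Y.affineCover.f i) (IsPullback.of_hasPullback ..) hf
  obtain ⟨R, rfl⟩ := hY
  wlog hX : ∃ S, X = Spec S
  · rw [IsZariskiLocalAtSource.iff_of_openCover (P := topologically GeneralizingMap) X.affineCover]
    intro i
    refine this _ _ ?_ ⟨_, rfl⟩
    exact IsZariskiLocalAtSource.comp (P := topologically IsOpenMap) hf _
  obtain ⟨S, rfl⟩ := hX
  obtain ⟨φ, rfl⟩ := Spec.map_surjective f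
  exact generalizingMap_comap_of_isOpenMap φ.hom hf

end Groth.Agent.Lib.Helper5
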