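import Mathlib.AlgebraicGeometry.AffineTransitionLimit

set_option autoImplicit false

universe u

namespace Groth.Agent.Lib.Helper5

open AlgebraicGeometry CategoryTheory CategoryTheory.Limits

variable {I : Type u} [SmallCategory I] (D : I ⥤ Scheme.{u}) (c : Cone D)

set_option backward.isDefEq.respectTransparency false in
/-- The base change of a diagram `D` (restricted to `Over i`) along `g : T ⟶ D.obj i`. -/
noncomputable def bcDiagram (i : I) {T : Scheme.{u}} (g : T ⟶ D.obj i) : Over i ⥤ Scheme.{u} where
  obj j := pullback (D.map j.hom) g
  map {j k} φ := pullback.lift (pullback.fst (D.map j.hom) g ≫ D.map φ.left)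
    (pullback.snd (D.map j.hom) g)
    (by rw [Category.assoc, ← D.map_comp, Over.w φ, pullback.condition])
  map_id j := by apply pullback.hom_ext <;> simp
  map_comp φ ψ := by apply pullback.hom_ext <;> simp

set_option backward.isDefEq.respectTransparency false in
/-- The projection to the original diagram. -/
noncomputable def bcDiagramι (i : I) {T : Scheme.{u}} (g : T ⟶ D.obj i) :
    bcDiagram D i g ⟶ Over.forget i ⋙ D where
  app j := pullback.fst (D.map j.hom) g
  naturality j k φ := by simp [bcDiagram]

set_option backward.isDefEq.respectTransparency false in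
/-- The base changed cone. -/
noncomputable def bcCone (i : I) {T : Scheme.{u}} (g : T ⟶ D.obj i) : Cone (bcDiagram D i g) where
  pt := pullback (c.π.app i) g
  π :=
    { app := fun j => pullback.lift (pullback.fst (c.π.app i) g ≫ c.π.app j.left)
        (pullback.snd (c.π.app i) g)
        (by rw [Category.assoc, c.w, pullback.condition])
      naturality := fun j k φ => by
        apply pullback.hom_ext <;> simp [bcDiagram] }

set_option backward.isDefEq.respectTransparency false in
@[reassoc (attr := simp)]
lemma bcCone_π_app_fst (i : I) {T : Scheme.{u}} (g : T ⟶ D.obj i) (j : Over i) :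
    (bcCone D c i g).π.app j ≫ pullback.fst (D.map j.hom) g =
      pullback.fst (c.π.app i) g ≫ c.π.app j.left := by
  simp [bcCone]

set_option backward.isDefEq.respectTransparency false in
@[reassoc (attr := simp)]
lemma bcCone_π_app_snd (i : I) {T : Scheme.{u}} (g : T ⟶ D.obj i) (j : Over i) :
    (bcCone D c i g).π.app j ≫ pullback.snd (D.map j.hom) g = pullback.snd (c.π.app i) g := by
  simp [bcCone]

set_option backward.isDefEq.respectTransparency false in
lemma isPullback_bcCone (i : I) {T : Scheme.{u}} (g : T ⟶ D.obj i) (j : Over i) :
    IsPullback ((bcCone D c i g).π.app j) (pullback.fst (c.π.app i) g)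
      (pullback.fst (D.map j.hom) g) (c.π.app j.left) := by
  refine IsPullback.of_right (h₁₂ := pullback.snd (D.map j.hom) g) (v₁₃ := g)
    (h₂₂ := D.map j.hom) ?_ (by simp) (IsPullback.of_hasPullback (D.map j.hom) g).flip
  rw [bcCone_π_app_snd, c.w]
  exact (IsPullback.of_hasPullback (c.π.app i) g).flip

set_option backward.isDefEq.respectTransparency false in
lemma isPullback_bcDiagram_map (i : I) {T : Scheme.{u}} (g : T ⟶ D.obj i) {j k : Over i}
    (φ : j ⟶ k) :
    IsPullback ((bcDiagram D i g).map φ) (pullback.fst (D.map j.hom) g)
      (pullback.fst (D.map k.hom) g) (D.map φ.left) := by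
  refine IsPullback.of_right (h₁₂ := pullback.snd (D.map k.hom) g) (v₁₃ := g)
    (h₂₂ := D.map k.hom) ?_ (by simp [bcDiagram]) (IsPullback.of_hasPullback (D.map k.hom) g).flip
  have h1 : (bcDiagram D i g).map φ ≫ pullback.snd (D.map k.hom) g =
      pullback.snd (D.map j.hom) g := by simp [bcDiagram]
  have h2 : D.map φ.left ≫ D.map k.hom = D.map j.hom := by rw [← D.map_comp, Over.w φ]
  rw [h1, h2]
  exact (IsPullback.of_hasPullback (D.map j.hom) g).flip

attribute [local instance] CategoryTheory.isConnected_of_hasTerminal

/-- The base change of a limit cone is a limit cone. -/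
noncomputable def isLimitBcCone [IsCofiltered I] (hc : IsLimit c) (i : I) {T : Scheme.{u}}
    (g : T ⟶ D.obj i) : IsLimit (bcCone D c i g) :=
  isLimitOfIsPullbackOfIsConnected (bcDiagramι D i g) _ _
    (by exact { hom := pullback.fst (c.π.app i) g
                w := fun j => by
                  simp only [Cone.whisker_pt, Cone.whisker_π, Functor.whiskerLeft_app,
                    Cone.postcompose_obj_pt, Cone.postcompose_obj_π, NatTrans.comp_app]
                  exact (bcCone_π_app_fst D c i g j).symm })
    (fun j ↦ isPullback_bcCone D c i g j)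
    ((Functor.Initial.isLimitWhiskerEquiv (Over.forget i) c).symm hc)

instance [∀ {i j} (f : i ⟶ j), IsAffineHom (D.map f)] (i : I) {T : Scheme.{u}}
    (g : T ⟶ D.obj i) {j k : Over i} (φ : j ⟶ k) : IsAffineHom ((bcDiagram D i g).map φ) :=
  MorphismProperty.of_isPullback (isPullback_bcDiagram_map D i g φ).flip inferInstance

end Groth.Agent.Lib.Helper5
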