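import Mathlib

/-
Helper5: left resolutions by `Hom(-, F)`-acyclic objects.  If `K` is a chain complex, exact in
positive degrees, whose terms and whose `H₀` have no higher `Ext` into `F`, then the cochain
complex `Hom(K, F)` is exact in positive degrees: every cocycle `K_{q+1} ⟶ F` is a coboundary.
-/

set_option autoImplicit false

universe w v u

open CategoryTheory Limits Abelian

namespace Groth.Agent.Lib.Helper5.AcycLeft

variable {𝒜 : Type u} [Category.{v} 𝒜] [Abelian 𝒜] [HasExt.{w} 𝒜]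

section SES

variable {S : ShortComplex 𝒜} (hS : S.ShortExact) (F : 𝒜)

include hS in
/-- If `Ext¹(S.X₃, F) = 0`, every map `S.X₁ ⟶ F` extends to `S.X₂`. -/
lemma exists_extension (h : ∀ x : Ext S.X₃ F 1, x = 0) (φ : S.X₁ ⟶ F) :
    ∃ ψ : S.X₂ ⟶ F, S.f ≫ ψ = φ := by
  obtain ⟨x₂, hx₂⟩ := Ext.contravariant_sequence_exact₁ hS F (Ext.mk₀ φ) (add_zero 1) (h _)
  obtain ⟨ψ, rfl⟩ := Ext.addEquiv₀.symm.surjective x₂
  rw [Ext.addEquiv₀_symm_apply, Ext.mk₀_comp_mk₀] at hx₂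
  exact ⟨ψ, Ext.addEquiv₀.symm.injective hx₂⟩

include hS in
/-- Dimension shifting: if `Extⁱ(S.X₂, F) = 0` and `Extⁱ⁺¹(S.X₃, F) = 0` then
`Extⁱ(S.X₁, F) = 0`. -/
lemma ext_X₁_eq_zero (i : ℕ) (h2 : ∀ x : Ext S.X₂ F i, x = 0)
    (h3 : ∀ x : Ext S.X₃ F (i + 1), x = 0) (x : Ext S.X₁ F i) : x = 0 := by
  obtain ⟨x₂, hx₂⟩ := Ext.contravariant_sequence_exact₁ hS F x (add_comm 1 i) (h3 _)
  rw [← hx₂, h2 x₂, Ext.comp_zero]

end SES

variable (K : ChainComplex 𝒜 ℕ) (F : 𝒜)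

/-- The short exact sequence `0 → coker(d_{q+2}) → K_q → coker(d_{q+1}) → 0`. -/
noncomputable abbrev sesC (q : ℕ) : ShortComplex 𝒜 :=
  ShortComplex.mk (cokernel.desc (K.d (q + 2) (q + 1)) (K.d (q + 1) q) (K.d_comp_d _ _ _))
    (cokernel.π (K.d (q + 1) q)) (by
      rw [← cancel_epi (cokernel.π (K.d (q + 2) (q + 1))), cokernel.π_desc_assoc,
        cokernel.condition, comp_zero])

lemma sesC_shortExact (q : ℕ) (hK : (K.sc' (q + 2) (q + 1) q).Exact) : (sesC K q).ShortExact := by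
  haveI : Mono (sesC K q).f := hK.mono_cokernelDesc
  haveI : Epi (sesC K q).g := inferInstanceAs (Epi (cokernel.π _))
  refine ShortComplex.ShortExact.mk ?_
  let φ : ShortComplex.mk (K.d (q + 1) q) (cokernel.π (K.d (q + 1) q)) (cokernel.condition _) ⟶
      sesC K q :=
    { τ₁ := cokernel.π (K.d (q + 2) (q + 1))
      τ₂ := 𝟙 _
      τ₃ := 𝟙 _
      comm₁₂ := by simp
      comm₂₃ := by simp }
  haveI : Epi φ.τ₁ := inferInstanceAs (Epi (cokernel.π _))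
  haveI : IsIso φ.τ₂ := inferInstanceAs (IsIso (𝟙 _))
  haveI : Mono φ.τ₃ := inferInstanceAs (Mono (𝟙 _))
  exact (ShortComplex.exact_iff_of_epi_of_isIso_of_mono φ).1 (ShortComplex.exact_cokernel _)

/-- Vanishing of the higher `Ext` of the cokernels of the differentials. -/
lemma ext_coker_eq_zero (hK : ∀ n, (K.sc' (n + 2) (n + 1) n).Exact)
    (hExtK : ∀ (n i : ℕ) (x : Ext (K.X n) F (i + 1)), x = 0)
    (hExtC0 : ∀ (i : ℕ) (x : Ext (cokernel (K.d 1 0)) F (i + 1)), x = 0) :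
    ∀ (q i : ℕ) (x : Ext (cokernel (K.d (q + 1) q)) F (i + 1)), x = 0 := by
  intro q
  induction q with
  | zero => exact hExtC0
  | succ q ih =>
    intro i x
    exact ext_X₁_eq_zero (sesC_shortExact K q (hK q)) F (i + 1) (hExtK q i) (ih (i + 1)) x

/-- Every cocycle of `Hom(K, F)` in positive degree is a coboundary. -/
theorem exists_lift (hK : ∀ n, (K.sc' (n + 2) (n + 1) n).Exact)
    (hExtK : ∀ (n i : ℕ) (x : Ext (K.X n) F (i + 1)), x = 0)
    (hExtC0 : ∀ (i : ℕ) (x : Ext (cokernel (K.d 1 0)) F (i + 1)), x = 0)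
    (q : ℕ) (x : K.X (q + 1) ⟶ F) (hx : K.d (q + 2) (q + 1) ≫ x = 0) :
    ∃ y : K.X q ⟶ F, K.d (q + 1) q ≫ y = x := by
  obtain ⟨y, hy⟩ := exists_extension (sesC_shortExact K q (hK q)) F
    (ext_coker_eq_zero K F hK hExtK hExtC0 q 0) (cokernel.desc _ x hx)
  refine ⟨y, ?_⟩
  have := cokernel.π (K.d (q + 2) (q + 1)) ≫= hy
  simpa using this

end Groth.Agent.Lib.Helper5.AcycLeft
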