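import Mathlib
import Groth.Prelude.Def_CohCx

/-
Helper5: the free abelian sheaf on a presheaf of sets only depends on the associated sheaf of sets:
`a(free ∘ aR) ≅ a(free ∘ R)`; consequently cohomology with respect to the sheaf associated to a
representable presheaf is cohomology over the object.
-/

set_option autoImplicit false

universe u
open CategoryTheory CategoryTheory.Limits Opposite Abelian

namespace Groth.Agent.Lib.Helper5.FreeSheafify

variable {C : Type u} [SmallCategory C] (J : GrothendieckTopology C)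

instance : J.PreservesSheafification AddCommGrpCat.free.{u} :=
  Sheaf.preservesSheafification_of_adjunction J AddCommGrpCat.adj.{u}

/-- `a(free ∘ aR) ≅ a(free ∘ R)` for a presheaf of sets `R`. -/
noncomputable def freeSheafifyIso (R : Cᵒᵖ ⥤ Type u) :
    (presheafToSheaf J AddCommGrpCat.{u}).obj
      (((presheafToSheaf J (Type u)).obj R).obj ⋙ AddCommGrpCat.free.{u}) ≅
    (presheafToSheaf J AddCommGrpCat.{u}).obj (R ⋙ AddCommGrpCat.free.{u}) :=
  (presheafToSheafCompComposeAndSheafifyIso J AddCommGrpCat.free.{u}).app R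

/-- Transport of vanishing of `Ext` along an isomorphism in the first variable. -/
lemma subsingleton_ext_of_iso {𝒜 : Type*} [Category 𝒜] [Abelian 𝒜] [HasExt.{u} 𝒜]
    {A B : 𝒜} (e : B ≅ A) (F : 𝒜) (n : ℕ) (h : Subsingleton (Ext.{u} B F n)) :
    Subsingleton (Ext.{u} A F n) := by
  refine subsingleton_of_forall_eq 0 fun x => ?_
  have h1 : (Ext.mk₀ e.hom).comp x (zero_add n) = 0 := Subsingleton.elim _ _
  have h2 : (Ext.mk₀ e.inv).comp ((Ext.mk₀ e.hom).comp x (zero_add n)) (zero_add n) = x := by
    rw [Ext.mk₀_comp_mk₀_assoc, e.inv_hom_id, Ext.mk₀_id_comp]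
  rw [← h2, h1, Ext.comp_zero]

/-- Cohomology with respect to the sheaf associated to `h_U` is cohomology over `U`. -/
lemma subsingleton_HU_of_HK (F : Sheaf J AddCommGrpCat.{u}) (U : C) (n : ℕ)
    (h : Subsingleton (CohCx.HK ((presheafToSheaf J (Type u)).obj (yoneda.obj U)) F n)) :
    Subsingleton (CohSite.HU F n U) :=
  subsingleton_ext_of_iso (freeSheafifyIso J (yoneda.obj U)) F n h

end Groth.Agent.Lib.Helper5.FreeSheafify
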