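import Groth.Agent.Lib.Helper5.CechRes
import Groth.Agent.Lib.Helper5.AcycLeft
import Groth.Agent.Lib.Helper5.FreeSheafify
import Groth.Prelude.Def_CohCx

/-
Helper5: Čech cohomology of an epimorphism of sheaves of sets with coefficients in an abelian
sheaf, and its vanishing for totally acyclic sheaves.
-/

set_option autoImplicit false

universe u

open CategoryTheory Limits Simplicial Opposite SimplicialObject AlgebraicTopology Abelian

namespace Groth.Agent.Lib.Helper5.CechRes

variable {C : Type u} [SmallCategory C] {J : GrothendieckTopology C}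
  {K' K : Sheaf J (Type u)} (f : K' ⟶ K)

lemma ab_sum_apply {M N : AddCommGrpCat.{u}} {ι : Type*} (s : Finset ι) (g : ι → (M ⟶ N)) (x : M) :
    (∑ i ∈ s, g i).hom x = ∑ i ∈ s, (g i).hom x := by
  induction s using Finset.cons_induction with
  | empty => simp
  | cons a s ha ih => rw [Finset.sum_cons, Finset.sum_cons, ← ih]; rfl

/-- The complex of free abelian sheaves on the Čech nerve. -/
noncomputable abbrev Ks : ChainComplex (Sheaf J AddCommGrpCat.{u}) ℕ :=
  AlternatingFaceMapComplex.obj (Xs f).left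

lemma cechNerveCx_d_apply (F : Sheaf J AddCommGrpCat.{u}) (n : ℕ) (x : (Ks f).X n ⟶ F) :
    ((CohCx.cechNerveCx F f).d n (n + 1)).hom x = (Ks f).d (n + 1) n ≫ x := by
  rw [AlternatingFaceMapComplex.obj_d_eq, Preadditive.sum_comp]
  let M : CosimplicialObject AddCommGrpCat.{u} :=
    (Arrow.mk f).cechNerve.rightOp ⋙ CohCx.HK0Functor J F
  have hd : (AlternatingCofaceMapComplex.obj M).d n (n + 1) =
      AlternatingCofaceMapComplex.objD M n :=
    CochainComplex.of_d (fun n => M.obj ⦋n⦌) (AlternatingCofaceMapComplex.objD M) n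
  change ((AlternatingCofaceMapComplex.obj M).d n (n + 1)).hom x = _
  rw [hd]
  change (∑ i : Fin (n + 2), (-1 : ℤ) ^ (i : ℕ) • M.δ i).hom x = _
  rw [ab_sum_apply]
  refine Finset.sum_congr rfl fun i _ => ?_
  rw [Preadditive.zsmul_comp]
  rfl


/-- Čech cohomology of an epimorphism of sheaves of sets with coefficients in a totally acyclic
abelian sheaf vanishes in positive degrees. -/
theorem isZero_cech_homology (F : Sheaf J AddCommGrpCat.{u}) (hF : CohCx.IsTotallyAcyclic F)
    [Epi f] (q : ℕ) : IsZero ((CohCx.cechNerveCx F f).homology (q + 1)) := by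
  haveI := quasiIso_ε f
  obtain ⟨h1, h0, hepi⟩ := AugRes.exact_of_quasiIso_ε (Xs f)
  rw [← HomologicalComplex.exactAt_iff_isZero_homology,
    HomologicalComplex.exactAt_iff' _ q (q + 1) (q + 2) (by simp) (by simp),
    ShortComplex.ab_exact_iff]
  intro x hx
  have hExtK : ∀ (n i : ℕ) (x : Ext ((Ks f).X n) F (i + 1)), x = 0 := fun n i x =>
    (hF ((Arrow.mk f).cechNerve.obj (op ⦋n⦌)) i).elim x 0
  have hExtC0 : ∀ (i : ℕ) (x : Ext (cokernel ((Ks f).d 1 0)) F (i + 1)), x = 0 := by
    intro i x
    let S := ShortComplex.mk _ _ (AugRes.d_comp_ε (Xs f))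
    haveI : Epi S.g := hepi
    let e : cokernel S.f ≅ S.X₃ :=
      IsColimit.coconePointUniqueUpToIso (colimit.isColimit _) h0.gIsCokernel
    haveI := FreeSheafify.subsingleton_ext_of_iso e.symm F (i + 1) (hF K i)
    exact Subsingleton.elim _ _
  obtain ⟨y, hy⟩ := AcycLeft.exists_lift (Ks f) F h1 hExtK hExtC0 q x (by
    rw [← cechNerveCx_d_apply]
    exact hx)
  exact ⟨y, (cechNerveCx_d_apply f F q y).trans hy⟩

end Groth.Agent.Lib.Helper5.CechRes
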