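import Groth.Agent.Lib.Helper5.CechAcyclic
import Groth.Agent.Lib.Helper5.CechVanish

/-!
# Injective sheaves of modules are totally acyclic as abelian sheaves

For a sheaf of rings `R` on a small site and an injective object `I` of the category of sheaves of
`R`-modules, the underlying abelian sheaf of `I` is totally acyclic (flasque).  The proof uses the Čech
criterion and the complex of free presheaves of `R`-modules on the Čech nerve of an epimorphism of sheaves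
of sets, which is exact in positive degrees (sectionwise extra degeneracy).
-/

set_option autoImplicit false

universe u

open CategoryTheory Limits Simplicial Opposite SimplicialObject AlgebraicTopology

namespace Groth.Agent.Lib.Helper5.ModAcyclic

open Groth.Agent.Lib.Helper5.CechRes

variable {C : Type u} [SmallCategory C]

section Presheaf

variable (R₀ : Cᵒᵖ ⥤ RingCat.{u})

/-- The free/forgetful adjunction between presheaves of sets and abelian presheaves. -/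
noncomputable abbrev adjZ :
    (Functor.whiskeringRight Cᵒᵖ (Type u) AddCommGrpCat.{u}).obj AddCommGrpCat.free.{u} ⊣
      (Functor.whiskeringRight Cᵒᵖ AddCommGrpCat.{u} (Type u)).obj (forget AddCommGrpCat.{u}) :=
  AddCommGrpCat.adj.{u}.whiskerRight Cᵒᵖ

/-- The canonical map `ℤ[L] ⟶ R[L]` of abelian presheaves. -/
noncomputable def κ (L : Cᵒᵖ ⥤ Type u) :
    L ⋙ AddCommGrpCat.free.{u} ⟶ ((PresheafOfModules.free R₀).obj L).presheaf :=
  ((adjZ (C := C)).homEquiv L ((PresheafOfModules.free R₀).obj L).presheaf).symm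
    (PresheafOfModules.freeAdjunctionUnit R₀ L)

lemma κ_naturality {L' L : Cᵒᵖ ⥤ Type u} (g : L' ⟶ L) :
    Functor.whiskerRight g AddCommGrpCat.free.{u} ≫ κ R₀ L =
      κ R₀ L' ≫ (PresheafOfModules.toPresheaf R₀).map ((PresheafOfModules.free R₀).map g) := by
  unfold κ
  have h1 := (adjZ (C := C)).homEquiv_naturality_left_symm g
    (PresheafOfModules.freeAdjunctionUnit R₀ L)
  have h2 := (adjZ (C := C)).homEquiv_naturality_right_symm
    (PresheafOfModules.freeAdjunctionUnit R₀ L')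
    ((PresheafOfModules.toPresheaf R₀).map ((PresheafOfModules.free R₀).map g))
  refine h1.symm.trans (Eq.trans ?_ h2)
  congr 1
  exact ((PresheafOfModules.freeAdjunction R₀).unit.naturality g)

/-- Morphisms out of the free presheaf of modules, in terms of morphisms out of the free abelian
presheaf. -/
noncomputable def Θ (L : Cᵒᵖ ⥤ Type u) (M : PresheafOfModules.{u} R₀) :
    ((PresheafOfModules.free R₀).obj L ⟶ M) → (L ⋙ AddCommGrpCat.free.{u} ⟶ M.presheaf) :=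
  fun y => κ R₀ L ≫ (PresheafOfModules.toPresheaf R₀).map y

lemma Θ_eq (L : Cᵒᵖ ⥤ Type u) (M : PresheafOfModules.{u} R₀)
    (y : (PresheafOfModules.free R₀).obj L ⟶ M) :
    Θ R₀ L M y = ((adjZ (C := C)).homEquiv L M.presheaf).symm (PresheafOfModules.freeHomEquiv y) :=
  ((adjZ (C := C)).homEquiv_naturality_right_symm
    (PresheafOfModules.freeAdjunctionUnit R₀ L) ((PresheafOfModules.toPresheaf R₀).map y)).symm

lemma Θ_bijective (L : Cᵒᵖ ⥤ Type u) (M : PresheafOfModules.{u} R₀) :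
    Function.Bijective (Θ R₀ L M) := by
  have h : Θ R₀ L M = ((adjZ (C := C)).homEquiv L M.presheaf).symm ∘ PresheafOfModules.freeHomEquiv := by
    funext y
    exact Θ_eq R₀ L M y
  rw [h]
  exact (Equiv.bijective _).comp (Equiv.bijective _)

end Presheaf

section Exact

variable {J : GrothendieckTopology C} (R₀ : Cᵒᵖ ⥤ RingCat.{u}) {K' K : Sheaf J (Type u)} (f : K' ⟶ K)

/-- The free `R₀(U)`-module on a set, as an abelian group. -/
noncomputable abbrev GUm (U : Cᵒᵖ) : Type u ⥤ AddCommGrpCat.{u} :=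
  ModuleCat.free (R₀.obj U) ⋙ forget₂ (ModuleCat.{u} (R₀.obj U)) AddCommGrpCat.{u}

/-- The free modules on the sections over `U` of the Čech nerve, augmented to the free module on the
image. -/
noncomputable abbrev Bm (U : Cᵒᵖ) : Augmented AddCommGrpCat.{u} :=
  ((Augmented.whiskering _ _).obj (GUm R₀ U)).obj
    (CechNerveType.A' (Arrow.mk f) (GU J U) (gU f U) (mU f U) (gU_mU f U))

instance (U : Cᵒᵖ) : QuasiIso (AlternatingFaceMapComplex.ε.app (Bm R₀ f U)) :=
  inferInstanceAs (QuasiIso ((ed f U).map (GUm R₀ U)).homotopyEquiv.hom)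

/-- The simplicial presheaf of modules `R[Čech nerve]`. -/
noncomputable abbrev Pm : SimplicialObject (PresheafOfModules.{u} R₀) :=
  (Arrow.mk f).cechNerve ⋙ sheafToPresheaf J (Type u) ⋙ PresheafOfModules.free R₀

/-- The underlying simplicial abelian presheaf of `Pm`. -/
noncomputable abbrev Zm : SimplicialObject (Cᵒᵖ ⥤ AddCommGrpCat.{u}) :=
  Pm R₀ f ⋙ PresheafOfModules.toPresheaf R₀

lemma exact_eval_succ_m (U : Cᵒᵖ) (n : ℕ) :
    ((AlternatingFaceMapComplex.obj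
      (Zm R₀ f ⋙ (evaluation Cᵒᵖ AddCommGrpCat.{u}).obj U)).sc' (n + 2) (n + 1) n).Exact :=
  (AugRes.exact_of_quasiIso_ε (Bm R₀ f U)).1 n

lemma exact_succ_Zm (n : ℕ) :
    ((AlternatingFaceMapComplex.obj (Zm R₀ f)).sc' (n + 2) (n + 1) n).Exact := by
  rw [ShortComplex.exact_iff_isZero_homology, Functor.isZero_iff]
  intro U
  have hU := (ShortComplex.exact_iff_of_iso
    (AugRes.scMapIso ((evaluation Cᵒᵖ AddCommGrpCat.{u}).obj U) (Zm R₀ f) n)).2
      (exact_eval_succ_m R₀ f U n)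
  rw [ShortComplex.exact_iff_isZero_homology] at hU
  exact IsZero.of_iso hU (ShortComplex.mapHomologyIso _ ((evaluation _ _).obj U)).symm

lemma exact_succ_Pm (n : ℕ) :
    ((AlternatingFaceMapComplex.obj (Pm R₀ f)).sc' (n + 2) (n + 1) n).Exact := by
  haveI : (PresheafOfModules.toPresheaf R₀).PreservesHomology :=
    Functor.preservesHomologyOfExact _
  rw [← ShortComplex.exact_map_iff_of_faithful _ (PresheafOfModules.toPresheaf R₀)]
  exact (ShortComplex.exact_iff_of_iso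
    (AugRes.scMapIso (PresheafOfModules.toPresheaf R₀) (Pm R₀ f) n)).2 (exact_succ_Zm R₀ f n)

end Exact

section Main

variable {J : GrothendieckTopology C} (R : Sheaf J RingCat.{u}) (I : SheafOfModules.{u} R)

/-- The underlying presheaf of modules of a sheaf of modules. -/
noncomputable abbrev Ip : PresheafOfModules.{u} R.obj :=
  (SheafOfModules.forget R ⋙ PresheafOfModules.restrictScalars (𝟙 R.obj)).obj I

instance injective_Ip [Injective I] : Injective (Ip R I) :=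
  Injective.injective_of_adjoint (PresheafOfModules.sheafificationAdjunction (𝟙 R.obj)) I

/-- `κ` as a natural transformation. -/
noncomputable def κT :
    (Functor.whiskeringRight Cᵒᵖ (Type u) AddCommGrpCat.{u}).obj AddCommGrpCat.free.{u} ⟶
      PresheafOfModules.free R.obj ⋙ PresheafOfModules.toPresheaf R.obj where
  app L := κ R.obj L
  naturality _ _ g := κ_naturality R.obj g

variable {K' K : Sheaf J (Type u)} (f : K' ⟶ K)

/-- The comparison of simplicial abelian presheaves `ℤ[Čech nerve] ⟶ R[Čech nerve]`. -/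
noncomputable def κN : Zp f ⟶ Zm R.obj f :=
  Functor.whiskerLeft ((Arrow.mk f).cechNerve ⋙ sheafToPresheaf J (Type u)) (κT R)

lemma κ_chain (n : ℕ) :
    (AlternatingFaceMapComplex.obj (Zp f)).d (n + 1) n ≫
      κ R.obj ((Arrow.mk f).cechNerve.obj (op ⦋n⦌)).obj =
    κ R.obj ((Arrow.mk f).cechNerve.obj (op ⦋n + 1⦌)).obj ≫
      (PresheafOfModules.toPresheaf R.obj).map
        ((AlternatingFaceMapComplex.obj (Pm R.obj f)).d (n + 1) n) := by
  have h := ((alternatingFaceMapComplex (Cᵒᵖ ⥤ AddCommGrpCat.{u})).map (κN R f)).comm (n + 1) n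
  rw [← AugRes.afmc_d_map (PresheafOfModules.toPresheaf R.obj) (Pm R.obj f) n]
  exact h.symm

omit [SmallCategory C] in
/-- Abstract lifting step at the level of presheaves. -/
lemma lift_abstract {𝒬 ℳ : Type*} [Category 𝒬] [Preadditive 𝒬] [Category ℳ] [Abelian ℳ]
    (t : ℳ ⥤ 𝒬) [t.Additive] {Z₂ Z₁ Z₀ : 𝒬} (dZ₂ : Z₂ ⟶ Z₁) (dZ₁ : Z₁ ⟶ Z₀)
    {P₂ P₁ P₀ : ℳ} (dP₂ : P₂ ⟶ P₁) (dP₁ : P₁ ⟶ P₀) (w : dP₂ ≫ dP₁ = 0)
    (hex : (ShortComplex.mk dP₂ dP₁ w).Exact)
    (k₂ : Z₂ ⟶ t.obj P₂) (k₁ : Z₁ ⟶ t.obj P₁) (k₀ : Z₀ ⟶ t.obj P₀)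
    (h₂ : dZ₂ ≫ k₁ = k₂ ≫ t.map dP₂) (h₁ : dZ₁ ≫ k₀ = k₁ ≫ t.map dP₁)
    (N : ℳ) [Injective N]
    (inj₂ : Function.Injective (fun y : P₂ ⟶ N => k₂ ≫ t.map y))
    (surj₁ : Function.Surjective (fun y : P₁ ⟶ N => k₁ ≫ t.map y))
    (x₁ : Z₁ ⟶ t.obj N) (hx₁ : dZ₂ ≫ x₁ = 0) : ∃ y₁ : Z₀ ⟶ t.obj N, dZ₁ ≫ y₁ = x₁ := by
  obtain ⟨x₂, hx₂⟩ := surj₁ x₁
  have hx₂' : dP₂ ≫ x₂ = 0 := by
    apply inj₂
    change k₂ ≫ t.map (dP₂ ≫ x₂) = k₂ ≫ t.map 0
    rw [Functor.map_comp, ← Category.assoc, ← h₂, Category.assoc]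
    change dZ₂ ≫ (fun y : P₁ ⟶ N => k₁ ≫ t.map y) x₂ = _
    rw [hx₂, hx₁, Functor.map_zero, comp_zero]
  refine ⟨k₀ ≫ t.map (hex.descToInjective x₂ hx₂'), ?_⟩
  rw [← Category.assoc, h₁, Category.assoc, ← Functor.map_comp]
  have := hex.comp_descToInjective x₂ hx₂'
  dsimp at this
  rw [this]
  exact hx₂

omit [SmallCategory C] in
/-- Abstract lifting step through an adjunction. -/
lemma lift_adj {𝒬 𝒮 : Type*} [Category 𝒬] [Preadditive 𝒬] [Category 𝒮] [Preadditive 𝒮]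
    {a : 𝒬 ⥤ 𝒮} {s : 𝒮 ⥤ 𝒬} (adj : a ⊣ s) [s.PreservesZeroMorphisms]
    {Z₂ Z₁ Z₀ : 𝒬} (dZ₂ : Z₂ ⟶ Z₁) (dZ₁ : Z₁ ⟶ Z₀) (F : 𝒮)
    (h : ∀ x₁ : Z₁ ⟶ s.obj F, dZ₂ ≫ x₁ = 0 → ∃ y₁ : Z₀ ⟶ s.obj F, dZ₁ ≫ y₁ = x₁)
    (x : a.obj Z₁ ⟶ F) (hx : a.map dZ₂ ≫ x = 0) : ∃ y : a.obj Z₀ ⟶ F, a.map dZ₁ ≫ y = x := by
  have h1 : dZ₂ ≫ adj.homEquiv _ _ x = 0 := by
    rw [← adj.homEquiv_naturality_left, hx, Adjunction.homEquiv_unit, Functor.map_zero, comp_zero]
  obtain ⟨y₁, hy₁⟩ := h _ h1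
  refine ⟨(adj.homEquiv _ _).symm y₁, ?_⟩
  rw [← adj.homEquiv_naturality_left_symm, hy₁, Equiv.symm_apply_apply]

theorem CB_toSheaf [Injective I] (q : ℕ) : CB ((SheafOfModules.toSheaf R).obj I) f q := by
  intro x hx
  have hd : ∀ n : ℕ, (Ks f).d (n + 1) n =
      (presheafToSheaf J AddCommGrpCat.{u}).map ((AlternatingFaceMapComplex.obj (Zp f)).d (n + 1) n) :=
    fun n => AugRes.afmc_d_map (presheafToSheaf J AddCommGrpCat.{u}) (Zp f) n
  have key := lift_abstract (PresheafOfModules.toPresheaf R.obj)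
    ((AlternatingFaceMapComplex.obj (Zp f)).d (q + 2) (q + 1))
    ((AlternatingFaceMapComplex.obj (Zp f)).d (q + 1) q)
    ((AlternatingFaceMapComplex.obj (Pm R.obj f)).d (q + 2) (q + 1))
    ((AlternatingFaceMapComplex.obj (Pm R.obj f)).d (q + 1) q)
    ((AlternatingFaceMapComplex.obj (Pm R.obj f)).d_comp_d _ _ _)
    (exact_succ_Pm R.obj f q)
    (κ R.obj ((Arrow.mk f).cechNerve.obj (op ⦋q + 2⦌)).obj)
    (κ R.obj ((Arrow.mk f).cechNerve.obj (op ⦋q + 1⦌)).obj)
    (κ R.obj ((Arrow.mk f).cechNerve.obj (op ⦋q⦌)).obj)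
    (κ_chain R f (q + 1)) (κ_chain R f q) (Ip R I)
    (Θ_bijective R.obj _ (Ip R I)).1 (Θ_bijective R.obj _ (Ip R I)).2
  obtain ⟨y, hy⟩ := lift_adj (sheafificationAdjunction J AddCommGrpCat.{u})
    ((AlternatingFaceMapComplex.obj (Zp f)).d (q + 2) (q + 1))
    ((AlternatingFaceMapComplex.obj (Zp f)).d (q + 1) q)
    ((SheafOfModules.toSheaf R).obj I) key x
    ((congrArg (fun d => d ≫ x) (hd (q + 1)).symm).trans hx)
  exact ⟨y, (congrArg (fun d => d ≫ y) (hd q)).trans hy⟩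

/-- **An injective sheaf of modules is totally acyclic as an abelian sheaf.** -/
theorem isTotallyAcyclic_toSheaf [Injective I] :
    CohCx.IsTotallyAcyclic ((SheafOfModules.toSheaf R).obj I) :=
  isTotallyAcyclic_of_cech _ (fun _ _ f _ q =>
    (isZero_homology_iff_CB _ f q).2 (CB_toSheaf R I f q))

end Main

end Groth.Agent.Lib.Helper5.ModAcyclic
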