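import Mathlib.CategoryTheory.Abelian.Injective.Ext
import Mathlib.CategoryTheory.Abelian.RightDerived
import Mathlib.CategoryTheory.Preadditive.Yoneda.Limits
import Mathlib.Algebra.Homology.ShortComplex.Ab

set_option autoImplicit false
set_option linter.unusedSectionVars false
universe v u
open CategoryTheory CategoryTheory.Limits Opposite Abelian

namespace Groth.Agent.Lib.Helper5.ExtDer

variable {C : Type u} [Category.{v} C] [Abelian C] [HasExt.{v} C] (P : C)

/-- `Hom(P, -)` as an additive functor to abelian groups. -/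
noncomputable abbrev G : C ⥤ AddCommGrpCat.{v} := preadditiveCoyoneda.obj (op P)

variable {X : C} (I : InjectiveResolution X)

/-- The complex `Hom(P, I•)`. -/
noncomputable abbrev K : CochainComplex AddCommGrpCat.{v} ℕ :=
  ((G P).mapHomologicalComplex (ComplexShape.up ℕ)).obj I.cocomplex

lemma d_apply (i j : ℕ) (f : P ⟶ I.cocomplex.X i) :
    ((K P I).d i j).hom f = f ≫ I.cocomplex.d i j := rfl

/-- The morphism `P ⟶ I^n` underlying a cocycle. -/
noncomputable def cyc (n : ℕ) (z : ((K P I).cycles n : AddCommGrpCat.{v})) : P ⟶ I.cocomplex.X n :=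
  ((K P I).iCycles n).hom z

lemma cyc_add (n : ℕ) (z z' : ((K P I).cycles n : AddCommGrpCat.{v})) :
    cyc P I n (z + z') = cyc P I n z + cyc P I n z' :=
  map_add ((K P I).iCycles n).hom z z'

lemma cyc_comp_d (n : ℕ) (z : ((K P I).cycles n : AddCommGrpCat.{v})) :
    cyc P I n z ≫ I.cocomplex.d n (n + 1) = 0 :=
  ConcreteCategory.congr_hom ((K P I).iCycles_d n (n + 1)) z

lemma extMk_congr {n : ℕ} {f f' : P ⟶ I.cocomplex.X n} (h : f = f') (m : ℕ) (hm : n + 1 = m)
    (hf : f ≫ I.cocomplex.d n m = 0) :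
    I.extMk f m hm hf = I.extMk f' m hm (h ▸ hf) := by
  subst h; rfl

/-- cocycles to Ext classes -/
noncomputable def ψ (n : ℕ) : ((K P I).cycles n : AddCommGrpCat.{v}) →+ Ext P X n :=
  AddMonoidHom.mk' (fun z => I.extMk (cyc P I n z) (n + 1) rfl (cyc_comp_d P I n z))
    (fun z z' => by
      rw [I.add_extMk]
      exact extMk_congr P I (cyc_add P I n z z') _ _ _)

lemma ψ_apply (n : ℕ) (z : ((K P I).cycles n : AddCommGrpCat.{v})) :
    ψ P I n z = I.extMk (cyc P I n z) (n + 1) rfl (cyc_comp_d P I n z) := rfl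

/-- The coboundary cocycle. -/
noncomputable def bdry (p : ℕ) (y : P ⟶ I.cocomplex.X p) :
    ((K P I).cycles (p + 1) : AddCommGrpCat.{v}) :=
  ((K P I).toCycles p (p + 1)).hom y

lemma cyc_bdry (p : ℕ) (y : P ⟶ I.cocomplex.X p) :
    cyc P I (p + 1) (bdry P I p y) = y ≫ I.cocomplex.d p (p + 1) :=
  ConcreteCategory.congr_hom ((K P I).toCycles_i p (p + 1)) y

lemma ψ_bdry (p : ℕ) (y : P ⟶ I.cocomplex.X p) :
    ψ P I (p + 1) (bdry P I p y) = 0 := by
  rw [ψ_apply, extMk_congr P I (cyc_bdry P I p y), I.extMk_eq_zero_iff _ _ rfl _ p rfl]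
  exact ⟨y, rfl⟩

lemma exists_cyc (n : ℕ) (f : P ⟶ I.cocomplex.X n) (hf : f ≫ I.cocomplex.d n (n + 1) = 0) :
    ∃ z : ((K P I).cycles n : AddCommGrpCat.{v}), cyc P I n z = f := by
  have hex : (ShortComplex.mk ((K P I).iCycles n) ((K P I).d n (n + 1))
      ((K P I).iCycles_d n (n + 1))).Exact :=
    ShortComplex.exact_of_f_is_kernel _ ((K P I).cyclesIsKernel n (n + 1) (by simp))
  rw [ShortComplex.ab_exact_iff] at hex
  exact hex f hf

lemma cyc_injective (n : ℕ) : Function.Injective (cyc P I n) :=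
  (AddCommGrpCat.mono_iff_injective ((K P I).iCycles n)).1 inferInstance

lemma homologyπ_surjective (n : ℕ) : Function.Surjective ((K P I).homologyπ n).hom :=
  (AddCommGrpCat.epi_iff_surjective _).1 inferInstance

/-- The comparison map `H^{p+1}(Hom(P, I•)) ⟶ Ext^{p+1}(P, X)`. -/
noncomputable def φ (p : ℕ) : (K P I).homology (p + 1) ⟶ (extFunctorObj P (p + 1)).obj X :=
  ((K P I).homologyIsCokernel p (p + 1) (by simp)).desc
    (CokernelCofork.ofπ (AddCommGrpCat.ofHom (ψ P I (p + 1))) (by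
      ext y
      exact ψ_bdry P I p y))

lemma π_φ (p : ℕ) : (K P I).homologyπ (p + 1) ≫ φ P I p =
    (AddCommGrpCat.ofHom (ψ P I (p + 1)) : _ ⟶ (extFunctorObj P (p + 1)).obj X) :=
  ((K P I).homologyIsCokernel p (p + 1) (by simp)).fac _ WalkingParallelPair.one

lemma φ_π_apply (p : ℕ) (z : ((K P I).cycles (p + 1) : AddCommGrpCat.{v})) :
    (φ P I p).hom (((K P I).homologyπ (p + 1)).hom z) = ψ P I (p + 1) z :=
  ConcreteCategory.congr_hom (π_φ P I p) z

lemma φ_bijective (p : ℕ) : Function.Bijective (φ P I p).hom := by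
  constructor
  · rw [injective_iff_map_eq_zero]
    intro h hh
    obtain ⟨z, rfl⟩ := homologyπ_surjective P I (p + 1) h
    have hh' : I.extMk (cyc P I (p + 1) z) (p + 2) rfl (cyc_comp_d P I (p + 1) z) = 0 :=
      ((φ_π_apply P I p z).symm.trans hh)
    rw [I.extMk_eq_zero_iff _ _ rfl _ p rfl] at hh'
    obtain ⟨g, hg⟩ := hh'
    have : bdry P I p g = z := by
      apply cyc_injective
      rw [cyc_bdry]
      exact hg
    rw [← this]
    exact ConcreteCategory.congr_hom ((K P I).toCycles_comp_homologyπ p (p + 1)) g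
  · intro α
    obtain ⟨f, hf, rfl⟩ := I.extMk_surjective α (p + 2) rfl
    obtain ⟨z, rfl⟩ := exists_cyc P I (p + 1) f hf
    exact ⟨((K P I).homologyπ (p + 1)).hom z, φ_π_apply P I p z⟩

/-- `H^{p+1}(Hom(P, I•)) ≅ Ext^{p+1}(P, X)`. -/
noncomputable def isoφ (p : ℕ) : (K P I).homology (p + 1) ≅ (extFunctorObj P (p + 1)).obj X :=
  @asIso _ _ _ _ (φ P I p) ((ConcreteCategory.isIso_iff_bijective _).2 (φ_bijective P I p))

lemma cyc_cyclesMap {X' : C} (I' : InjectiveResolution X') (f : I.cocomplex ⟶ I'.cocomplex) (n : ℕ)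
    (z : ((K P I).cycles n : AddCommGrpCat.{v})) :
    cyc P I' n ((HomologicalComplex.cyclesMap
      (((G P).mapHomologicalComplex (ComplexShape.up ℕ)).map f) n).hom z) =
      cyc P I n z ≫ f.f n :=
  ConcreteCategory.congr_hom (HomologicalComplex.cyclesMap_i
    (((G P).mapHomologicalComplex (ComplexShape.up ℕ)).map f) n) z

lemma φ_naturality {X' : C} (I' : InjectiveResolution X') (g : X ⟶ X')
    (h : InjectiveResolution.Hom I I' g) (p : ℕ) :
    HomologicalComplex.homologyMap (((G P).mapHomologicalComplex (ComplexShape.up ℕ)).map h.hom)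
      (p + 1) ≫ φ P I' p = φ P I p ≫ (extFunctorObj P (p + 1)).map g := by
  rw [← cancel_epi ((K P I).homologyπ (p + 1)), HomologicalComplex.homologyπ_naturality_assoc,
    π_φ, ← Category.assoc, π_φ]
  ext z
  change ψ P I' (p + 1) _ = (ψ P I (p + 1) z).comp (Ext.mk₀ g) (add_zero _)
  rw [ψ_apply, ψ_apply, InjectiveResolution.extMk_comp_mk₀ _ _ _ _ h]
  exact extMk_congr P I' (cyc_cyclesMap P I I' h.hom (p + 1) z) _ _ _

variable [HasInjectiveResolutions C]

/-- `R^{p+1} Hom(P, -) ≅ Ext^{p+1}(P, -)`. -/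
noncomputable def extIsoSucc (p : ℕ) : (G P).rightDerived (p + 1) ≅ extFunctorObj P (p + 1) :=
  NatIso.ofComponents
    (fun X => (injectiveResolution X).isoRightDerivedObj (G P) (p + 1) ≪≫
      isoφ P (injectiveResolution X) p) (by
    intro X Y f
    have h1 := InjectiveResolution.isoRightDerivedObj_hom_naturality f (injectiveResolution X)
      (injectiveResolution Y) (InjectiveResolution.desc f _ _)
      (InjectiveResolution.desc_commutes_zero f _ _) (G P) (p + 1)
    have h2 := φ_naturality P (injectiveResolution X) (injectiveResolution Y) f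
      ⟨InjectiveResolution.desc f _ _, (InjectiveResolution.desc_commutes_zero f _ _).trans
        (congrArg (· ≫ _) (CochainComplex.single₀_map_f_zero f).symm)⟩ p
    change _ ≫ (_ ≫ (isoφ P (injectiveResolution Y) p).hom) =
      (_ ≫ (isoφ P (injectiveResolution X) p).hom) ≫ _
    refine (Category.assoc _ _ _).symm.trans ?_
    refine (congrArg (· ≫ (isoφ P (injectiveResolution Y) p).hom) h1).trans ?_
    refine (Category.assoc _ _ _).trans ?_
    refine Eq.trans ?_ (Category.assoc _ _ _).symm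
    exact congrArg (((injectiveResolution X).isoRightDerivedObj (G P) (p + 1)).hom ≫ ·) h2)

/-- `Hom(P, -) ≅ Ext^0(P, -)`. -/
noncomputable def homIsoExtZero : G P ≅ extFunctorObj P 0 :=
  NatIso.ofComponents (fun X => (Ext.addEquiv₀ (X := P) (Y := X)).symm.toAddCommGrpIso) (by
    intro X Y f
    ext h
    exact (Ext.mk₀_comp_mk₀ (show P ⟶ X from h) f).symm)

/-- `R^0 Hom(P, -) ≅ Ext^0(P, -)`. -/
noncomputable def extIsoZero : (G P).rightDerived 0 ≅ extFunctorObj P 0 :=
  (G P).rightDerivedZeroIsoSelf ≪≫ homIsoExtZero P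

/-- `R^q Hom(P, -) ≅ Ext^q(P, -)`. -/
noncomputable def extIso : ∀ q : ℕ, (G P).rightDerived q ≅ extFunctorObj P q
  | 0 => extIsoZero P
  | (p + 1) => extIsoSucc P p

/-- Right derived functors of isomorphic functors are isomorphic. -/
noncomputable def rightDerivedMapIso {D : Type*} [Category D] [Abelian D] {F F' : C ⥤ D}
    [F.Additive] [F'.Additive] (e : F ≅ F') (q : ℕ) : F.rightDerived q ≅ F'.rightDerived q where
  hom := NatTrans.rightDerived e.hom q
  inv := NatTrans.rightDerived e.inv q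
  hom_inv_id := by rw [← NatTrans.rightDerived_comp, e.hom_inv_id, NatTrans.rightDerived_id]
  inv_hom_id := by rw [← NatTrans.rightDerived_comp, e.inv_hom_id, NatTrans.rightDerived_id]

/-- If `F ≅ Hom(P, -)` then `R^q F ≅ Ext^q(P, -)`. -/
noncomputable def extIsoOfIso (F : C ⥤ AddCommGrpCat.{v}) [F.Additive] (e : F ≅ G P) (q : ℕ) :
    F.rightDerived q ≅ extFunctorObj P q :=
  rightDerivedMapIso e q ≪≫ extIso P q

end Groth.Agent.Lib.Helper5.ExtDer
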