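import Groth.Agent.Lib.Helper5.GrothSSMain

/-
Helper5: the Grothendieck spectral sequence with the abutment and the `E₂`-terms transported along
given isomorphisms (`GrothSSInst.main'`), the form used for the concrete instances (Leray,
local-to-global Ext, local cohomology, ...).
-/

set_option autoImplicit false
set_option maxSynthPendingDepth 3

universe v u
open CategoryTheory CategoryTheory.Limits
open scoped ZeroObject

namespace Groth.Agent.Lib.Helper5.GrothSSInst

open Groth.Agent.Lib.Helper5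

/-- The Grothendieck spectral sequence `RᵖS(RᵠT(A)) ⇒ Rᵖ⁺ᵠ(T ⋙ S)(A)`, with abutment objects
`Hn n ≅ Rⁿ(T ⋙ S)(A)` and `E₂`-terms `E2 p q ≅ RᵖS(RᵠT(A))` given up to isomorphism, and arbitrary
zero objects `Z`, `Z'` outside the first quadrant. -/
theorem main' {C C' C'' : Type u} [Category.{v} C] [Category.{v} C'] [Category.{v} C'']
    [Abelian C] [Abelian C'] [Abelian C''] [HasInjectiveResolutions C] [HasInjectiveResolutions C']
    (T : C ⥤ C') [T.Additive] (S : C' ⥤ C'') [S.Additive] [PreservesFiniteLimits S]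
    (hT : ∀ Q : C, Injective Q → ∀ q : ℕ, 0 < q → IsZero ((S.rightDerived q).obj (T.obj Q))) (A : C)
    (Hn : ℕ → C'') (E2 : ℕ → ℕ → C'') (Z Z' : C'') (hZ : IsZero Z) (hZ' : IsZero Z')
    (hH : ∀ n, Nonempty (((T ⋙ S).rightDerived n).obj A ≅ Hn n))
    (hE : ∀ p q, Nonempty ((S.rightDerived p).obj ((T.rightDerived q).obj A) ≅ E2 p q)) :
    ∃ (E : E₂CohomologicalSpectralSequence C'')
      (a : SpSeq.Abutment E (fun n : ℤ => if 0 ≤ n then Hn n.toNat else Z)),
      (∀ n, a.IsFinite n) ∧ SpSeq.IsBounded E ∧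
      ∀ p q : ℤ, Nonempty ((E.page 2 le_rfl).X (p, q) ≅
        (if 0 ≤ p ∧ 0 ≤ q then E2 p.toNat q.toNat else Z')) := by
  obtain ⟨E, a, hfin, hbdd, hE2⟩ := GrothSSMain.main T S hT A
  have e : ∀ n : ℤ, (if 0 ≤ n then ((T ⋙ S).rightDerived n.toNat).obj A else 0) ≅
      (if 0 ≤ n then Hn n.toNat else Z) := fun n =>
    if h : 0 ≤ n then
      eqToIso (if_pos h) ≪≫ Classical.choice (hH n.toNat) ≪≫ eqToIso (if_pos h).symm
    else
      eqToIso (if_neg h) ≪≫ (isZero_zero _).iso hZ ≪≫ eqToIso (if_neg h).symm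
  refine ⟨E, SpSeqAbut.transport a e, fun n => SpSeqAbut.transport_isFinite _ _ n (hfin n), hbdd,
    fun p q => ?_⟩
  obtain ⟨i⟩ := hE2 p q
  by_cases h : 0 ≤ p ∧ 0 ≤ q
  · rw [if_pos h] at i ⊢
    exact ⟨i ≪≫ Classical.choice (hE p.toNat q.toNat)⟩
  · rw [if_neg h] at i ⊢
    exact ⟨i ≪≫ (isZero_zero _).iso hZ'⟩

end Groth.Agent.Lib.Helper5.GrothSSInst
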