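import Groth.Agent.Lib.Helper5.AbPull

/-
Helper5: exactness of the inverse image of abelian sheaves along a continuous functor whose
inverse image on sheaves of sets is exact (`preservesFiniteLimits_sheafPullback`), and
consequently the direct image preserves injective abelian sheaves.
-/

set_option autoImplicit false

open CategoryTheory Limits Opposite

namespace Groth.Agent.Lib.Helper5.AbPull

universe u

variable {C D : Type u} [SmallCategory C] [SmallCategory D]
    (J : GrothendieckTopology C) (K : GrothendieckTopology D) (u : D ⥤ C) [u.IsContinuous K J]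

instance additive_pushA : (u.sheafPushforwardContinuous AddCommGrpCat.{u} K J).Additive where

instance hasFiniteBiproducts_sheafAb : HasFiniteBiproducts (Sheaf K AddCommGrpCat.{u}) :=
  HasFiniteBiproducts.of_hasFiniteProducts

/-- direct image of abelian sheaves -/
noncomputable abbrev pushA : Sheaf J AddCommGrpCat.{u} ⥤ Sheaf K AddCommGrpCat.{u} :=
  u.sheafPushforwardContinuous AddCommGrpCat.{u} K J

/-- direct image of sheaves of sets -/
noncomputable abbrev pushS : Sheaf J (Type u) ⥤ Sheaf K (Type u) :=
  u.sheafPushforwardContinuous (Type u) K J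

/-- inverse image of sheaves of sets -/
noncomputable abbrev pullS : Sheaf K (Type u) ⥤ Sheaf J (Type u) :=
  u.sheafPullback (Type u) K J

/-- the adjunction on sheaves of sets -/
noncomputable abbrev adjS : pullS J K u ⊣ pushS J K u :=
  u.sheafAdjunctionContinuous (Type u) K J

variable [PreservesFiniteLimits (u.sheafPullback (Type u) K J)]

/-- The inverse image functor on abelian sheaves, constructed from the one on sheaves of sets. -/
noncomputable def Φ : Sheaf K AddCommGrpCat.{u} ⥤ Sheaf J AddCommGrpCat.{u} :=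
  liftFun (U K ⋙ pullS J K u)

/-- Its underlying sheaf of sets. -/
noncomputable def θ : Φ J K u ⋙ U J ≅ U K ⋙ pullS J K u :=
  liftFunIso (U K ⋙ pullS J K u)

instance preservesFiniteLimits_Φ : PreservesFiniteLimits (Φ J K u) := by
  have : PreservesFiniteLimits (Φ J K u ⋙ U J) :=
    preservesFiniteLimits_of_natIso (θ J K u).symm
  constructor
  intro I _ _
  exact preservesLimitsOfShape_of_reflects_of_preserves (Φ J K u) (U J)

instance additive_Φ : (Φ J K u).Additive := Functor.additive_of_preserves_binary_products _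

lemma aux1 {𝒞 : Type*} [Category 𝒞] {X Y Z : 𝒞} (a : X ⟶ Y) (b : Y ⟶ Z) :
    𝟙 X ≫ a ≫ b ≫ 𝟙 Z = a ≫ b := by simp

lemma aux2 {𝒞 𝒟 : Type*} [Category 𝒞] [Category 𝒟] (F : 𝒞 ⥤ 𝒟) {W : 𝒞} {X Z : 𝒟}
    (a : X ⟶ F.obj W) (b : F.obj W ⟶ Z) :
    a ≫ F.map (𝟙 W) ≫ b ≫ 𝟙 Z = a ≫ b := by simp

lemma aux3 {𝒞 𝒟 : Type*} [Category 𝒞] [Category 𝒟] (F : 𝒞 ⥤ 𝒟) {W : 𝒞} {Z : 𝒟}
    (b : F.obj W ⟶ Z) : F.map (𝟙 W) ≫ b = b := by simp

/-- `u_*` commutes with the forgetful functors. -/
noncomputable def pushCompIso : pushA J K u ⋙ U K ≅ U J ⋙ pushS J K u := Iso.refl _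

/-- The unit, on underlying sheaves of sets. -/
noncomputable def unitS : 𝟭 (Sheaf K AddCommGrpCat.{u}) ⋙ U K ⟶ (Φ J K u ⋙ pushA J K u) ⋙ U K :=
  (Functor.leftUnitor _).hom ≫ (Functor.rightUnitor _).inv ≫
    Functor.whiskerLeft (U K) (adjS J K u).unit ≫ (Functor.associator _ _ _).inv ≫
    Functor.whiskerRight (θ J K u).inv (pushS J K u) ≫ (Functor.associator _ _ _).hom ≫
    Functor.whiskerLeft (Φ J K u) (pushCompIso J K u).inv ≫ (Functor.associator _ _ _).inv

/-- The counit, on underlying sheaves of sets. -/
noncomputable def counitS :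
    (pushA J K u ⋙ Φ J K u) ⋙ U J ⟶ 𝟭 (Sheaf J AddCommGrpCat.{u}) ⋙ U J :=
  (Functor.associator _ _ _).hom ≫ Functor.whiskerLeft (pushA J K u) (θ J K u).hom ≫
    (Functor.associator _ _ _).inv ≫ Functor.whiskerRight (pushCompIso J K u).hom (pullS J K u) ≫
    (Functor.associator _ _ _).hom ≫ Functor.whiskerLeft (U J) (adjS J K u).counit ≫
    (Functor.rightUnitor _).hom ≫ (Functor.leftUnitor _).inv

/-- The unit of the adjunction on abelian sheaves. -/
noncomputable def unitA : 𝟭 (Sheaf K AddCommGrpCat.{u}) ⟶ Φ J K u ⋙ pushA J K u :=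
  lift _ _ (unitS J K u)

/-- The counit of the adjunction on abelian sheaves. -/
noncomputable def counitA : pushA J K u ⋙ Φ J K u ⟶ 𝟭 (Sheaf J AddCommGrpCat.{u}) :=
  lift _ _ (counitS J K u)

lemma unitS_app (A : Sheaf K AddCommGrpCat.{u}) :
    (unitS J K u).app A =
      (adjS J K u).unit.app ((U K).obj A) ≫ (pushS J K u).map ((θ J K u).inv.app A) := by
  dsimp only [unitS, NatTrans.comp_app, Functor.leftUnitor_hom_app, Functor.rightUnitor_inv_app,
    Functor.whiskerLeft_app, Functor.associator_inv_app, Functor.associator_hom_app,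
    Functor.whiskerRight_app, pushCompIso, Iso.refl_inv, NatTrans.id_app]
  exact aux1 _ _

lemma counitS_app (Q : Sheaf J AddCommGrpCat.{u}) :
    (counitS J K u).app Q =
      (θ J K u).hom.app ((pushA J K u).obj Q) ≫ (adjS J K u).counit.app ((U J).obj Q) := by
  dsimp only [counitS, NatTrans.comp_app, Functor.leftUnitor_inv_app, Functor.rightUnitor_hom_app,
    Functor.whiskerLeft_app, Functor.associator_inv_app, Functor.associator_hom_app,
    Functor.whiskerRight_app, pushCompIso, Iso.refl_hom, NatTrans.id_app]
  exact aux2 (pullS J K u) _ _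

lemma U_map_unitA (A : Sheaf K AddCommGrpCat.{u}) :
    (U K).map ((unitA J K u).app A) =
      (adjS J K u).unit.app ((U K).obj A) ≫ (pushS J K u).map ((θ J K u).inv.app A) :=
  (U_map_liftApp _ _ (unitS J K u) A).trans (unitS_app J K u A)

lemma U_map_counitA (Q : Sheaf J AddCommGrpCat.{u}) :
    (U J).map ((counitA J K u).app Q) =
      (θ J K u).hom.app ((pushA J K u).obj Q) ≫ (adjS J K u).counit.app ((U J).obj Q) :=
  (U_map_liftApp _ _ (counitS J K u) Q).trans (counitS_app J K u Q)

/-- The constructed inverse image is left adjoint to the direct image of abelian sheaves. -/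
noncomputable def pullAdj : Φ J K u ⊣ pushA J K u :=
  liftAdj (U K) (U J) (adjS J K u) (Φ J K u) (pushA J K u) (θ J K u) (pushCompIso J K u)
    (unitA J K u) (counitA J K u)
    (fun A => (U_map_unitA J K u A).trans (by
      rw [← Category.assoc]
      exact (Category.comp_id _).symm))
    (fun Q => (U_map_counitA J K u Q).trans (by
      congr 1
      exact (aux3 (pullS J K u) _).symm))

/-- The constructed inverse image is the inverse image. -/
noncomputable def ΦIso : Φ J K u ≅ u.sheafPullback AddCommGrpCat.{u} K J :=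
  Adjunction.leftAdjointUniq (pullAdj J K u) (u.sheafAdjunctionContinuous AddCommGrpCat.{u} K J)

/-- **Exactness of the inverse image of abelian sheaves** along a continuous functor whose inverse
image on sheaves of sets is exact. -/
theorem preservesFiniteLimits_sheafPullback :
    PreservesFiniteLimits (u.sheafPullback AddCommGrpCat.{u} K J) :=
  preservesFiniteLimits_of_natIso (ΦIso J K u)

/-- The direct image of abelian sheaves along a morphism of sites preserves injectives. -/
theorem injective_pushA (Q : Sheaf J AddCommGrpCat.{u}) [Injective Q] :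
    Injective ((pushA J K u).obj Q) := by
  haveI := preservesFiniteLimits_sheafPullback J K u
  exact Injective.injective_of_adjoint (u.sheafAdjunctionContinuous AddCommGrpCat.{u} K J) Q

end Groth.Agent.Lib.Helper5.AbPull
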