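import Mathlib

/-
Helper5: the inverse image functor on abelian sheaves along a morphism of sites is exact as soon as
the inverse image on sheaves of sets is.

* `map_add_of_natural`: a natural transformation between the underlying set-valued functors of two
  additive functors to abelian groups is additive;
* `lift`: natural transformations between additive functors to abelian sheaves can be defined on
  underlying sheaves of sets;
* `liftFun`, `liftFunIso`: a left exact functor from an additive category to sheaves of sets lifts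
  to abelian sheaves (via `AddCommGrpCat.leftExactFunctorForgetEquivalence`);
* `pullAdj`: the lift of `forget ⋙ u⁻¹` is left adjoint to `u_*` on abelian sheaves, hence
  `preservesFiniteLimits_sheafPullback`.
-/

set_option autoImplicit false

open CategoryTheory Limits Opposite

namespace Groth.Agent.Lib.Helper5.AbPull

universe w v u

section Additivity

variable {𝒜 : Type u} [Category.{v} 𝒜] [Preadditive 𝒜] [HasBinaryBiproducts 𝒜]
  (F G : 𝒜 ⥤ AddCommGrpCat.{w}) [F.Additive] [G.Additive]

/-- A natural transformation between the underlying set-valued functors of two additive functors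
to abelian groups is additive. -/
lemma map_add_of_natural
    (α : F ⋙ forget AddCommGrpCat ⟶ G ⋙ forget AddCommGrpCat) (X : 𝒜) (x y : F.obj X) :
    α.app X (x + y) = α.app X x + α.app X y := by
  -- z = F(ι₁) x + F(ι₂) y
  let z : F.obj (X ⊞ X) := (F.map biprod.inl).hom x + (F.map biprod.inr).hom y
  have nat : ∀ {A B : 𝒜} (f : A ⟶ B) (a : F.obj A),
      α.app B ((F.map f).hom a) = (G.map f).hom (α.app A a) := by
    intro A B f a
    exact ConcreteCategory.congr_hom (α.naturality f) a
  have hF : ∀ {A B C : 𝒜} (f : A ⟶ B) (g : B ⟶ C) (a : F.obj A),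
      (F.map g).hom ((F.map f).hom a) = (F.map (f ≫ g)).hom a := by
    intro A B C f g a
    rw [F.map_comp]; rfl
  have hG : ∀ {A B C : 𝒜} (f : A ⟶ B) (g : B ⟶ C) (a : G.obj A),
      (G.map g).hom ((G.map f).hom a) = (G.map (f ≫ g)).hom a := by
    intro A B C f g a
    rw [G.map_comp]; rfl
  have hz1 : (F.map biprod.fst).hom z = x := by
    simp only [z, map_add, hF, biprod.inl_fst, biprod.inr_fst, F.map_id, F.map_zero]
    simp
  have hz2 : (F.map biprod.snd).hom z = y := by
    simp only [z, map_add, hF, biprod.inl_snd, biprod.inr_snd, F.map_id, F.map_zero]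
    simp
  have hz3 : (F.map (biprod.fst + biprod.snd : X ⊞ X ⟶ X)).hom z = x + y := by
    rw [F.map_add]
    change (F.map biprod.fst).hom z + (F.map biprod.snd).hom z = x + y
    rw [hz1, hz2]
  -- decompose `α z`
  have hw : ∀ w : G.obj (X ⊞ X), w = (G.map biprod.inl).hom ((G.map biprod.fst).hom w) +
      (G.map biprod.inr).hom ((G.map biprod.snd).hom w) := by
    intro w
    rw [hG, hG]
    have : (G.map (biprod.fst ≫ biprod.inl : X ⊞ X ⟶ X ⊞ X)).hom w +
        (G.map (biprod.snd ≫ biprod.inr : X ⊞ X ⟶ X ⊞ X)).hom w =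
        (G.map (biprod.fst ≫ biprod.inl + biprod.snd ≫ biprod.inr : X ⊞ X ⟶ X ⊞ X)).hom w := by
      rw [G.map_add]; rfl
    rw [this, biprod.total, G.map_id]; rfl
  have h1 : (G.map (biprod.fst + biprod.snd : X ⊞ X ⟶ X)).hom (α.app _ z) =
      α.app X x + α.app X y := by
    have hα1 : (G.map biprod.fst).hom (α.app _ z) = α.app X x := by rw [← nat, hz1]
    have hα2 : (G.map biprod.snd).hom (α.app _ z) = α.app X y := by rw [← nat, hz2]
    rw [hw (α.app _ z), hα1, hα2, map_add, hG, hG]
    simp only [Preadditive.comp_add, biprod.inl_fst, biprod.inl_snd, biprod.inr_fst,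
      biprod.inr_snd, add_zero, zero_add, G.map_id]
    rfl
  rw [← hz3, nat, h1]

end Additivity

section Lift

variable {C : Type u} [SmallCategory C] (J : GrothendieckTopology C)

/-- The forgetful functor from abelian sheaves to sheaves of sets. -/
noncomputable abbrev U : Sheaf J AddCommGrpCat.{u} ⥤ Sheaf J (Type u) :=
  sheafCompose J (forget AddCommGrpCat.{u})

variable {J}
variable {𝒜 : Type (u + 1)} [Category.{u} 𝒜] [Preadditive 𝒜] [HasBinaryBiproducts 𝒜]
  (F G : 𝒜 ⥤ Sheaf J AddCommGrpCat.{u}) [F.Additive] [G.Additive]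
  (α : F ⋙ U J ⟶ G ⋙ U J)

/-- sections -/
noncomputable abbrev secF (c : Cᵒᵖ) : 𝒜 ⥤ AddCommGrpCat.{u} :=
  F ⋙ sheafToPresheaf J AddCommGrpCat.{u} ⋙ (evaluation _ _).obj c

instance (c : Cᵒᵖ) : (secF F c).Additive := by
  dsimp only [secF]
  infer_instance

/-- The natural transformation on sections induced by `α`. -/
noncomputable def secα (c : Cᵒᵖ) :
    secF F c ⋙ forget AddCommGrpCat ⟶ secF G c ⋙ forget AddCommGrpCat where
  app X := (α.app X).hom.app c
  naturality X Y f := by
    have := congrArg (fun k => k.hom.app c) (α.naturality f)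
    exact this

/-- The underlying function of `α` on sections. -/
noncomputable def secFun (c : Cᵒᵖ) (X : 𝒜) (x : ((F.obj X).obj.obj c : AddCommGrpCat.{u})) :
    ((G.obj X).obj.obj c : AddCommGrpCat.{u}) :=
  (α.app X).hom.app c x

lemma secFun_add (c : Cᵒᵖ) (X : 𝒜) (x y : ((F.obj X).obj.obj c : AddCommGrpCat.{u})) :
    secFun F G α c X (x + y) = secFun F G α c X x + secFun F G α c X y :=
  map_add_of_natural (secF F c) (secF G c) (secα F G α c) X x y

/-- The components of the lifted natural transformation. -/
noncomputable def liftApp (X : 𝒜) : F.obj X ⟶ G.obj X :=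
  ObjectProperty.homMk
    { app := fun c => AddCommGrpCat.ofHom (AddMonoidHom.mk' (secFun F G α c X)
        (secFun_add F G α c X))
      naturality := fun c c' f => by
        ext x
        exact ConcreteCategory.congr_hom ((α.app X).hom.naturality f) x }

lemma U_map_liftApp (X : 𝒜) : (U J).map (liftApp F G α X) = α.app X := by
  apply Sheaf.hom_ext
  ext c x
  rfl

/-- A natural transformation between the underlying sheaves of sets of two additive functors to
abelian sheaves lifts (uniquely) to a natural transformation. -/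
noncomputable def lift : F ⟶ G where
  app X := liftApp F G α X
  naturality X Y f := by
    apply (U J).map_injective
    rw [Functor.map_comp, Functor.map_comp, U_map_liftApp, U_map_liftApp]
    exact α.naturality f

lemma whiskerRight_lift : Functor.whiskerRight (lift F G α) (U J) = α := by
  ext X : 2
  exact U_map_liftApp F G α X

end Lift

section LiftFunctor

variable {C : Type u} [SmallCategory C] {J : GrothendieckTopology C}
variable {𝒜 : Type (u + 1)} [Category.{u} 𝒜] [Preadditive 𝒜] [HasFiniteBiproducts 𝒜]
  (T : 𝒜 ⥤ Sheaf J (Type u)) [PreservesFiniteLimits T]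

instance (c : Cᵒᵖ) : PreservesFiniteLimits ((sheafSections J (Type u)).obj c) := by
  have : PreservesFiniteLimits (sheafToPresheaf J (Type u) ⋙ (evaluation _ _).obj c) :=
    comp_preservesFiniteLimits _ _
  exact this

/-- `c ↦ (A ↦ T(A)(c))`, as a functor to left exact functors. -/
noncomputable def secT : Cᵒᵖ ⥤ (𝒜 ⥤ₗ Type u) where
  obj c := LeftExactFunctor.of (T ⋙ (sheafSections J (Type u)).obj c)
  map f := ObjectProperty.homMk (Functor.whiskerLeft T ((sheafSections J (Type u)).map f))

/-- The presheaf-valued lift. -/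
noncomputable def liftPre : 𝒜 ⥤ Cᵒᵖ ⥤ AddCommGrpCat.{u} :=
  (secT T ⋙ (AddCommGrpCat.leftExactFunctorForgetEquivalence 𝒜).inverse ⋙
    LeftExactFunctor.forget 𝒜 AddCommGrpCat.{u}).flip

/-- The underlying presheaf of sets of the lift is that of `T`. -/
noncomputable def liftPreForgetIso (A : 𝒜) :
    (liftPre T).obj A ⋙ forget AddCommGrpCat.{u} ≅ (T.obj A).obj :=
  NatIso.ofComponents (fun c =>
    ((LeftExactFunctor.forget 𝒜 (Type u)).mapIso
      ((AddCommGrpCat.leftExactFunctorForgetEquivalence 𝒜).counitIso.app ((secT T).obj c))).app A)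
    (by
      intro c c' f
      have h := (AddCommGrpCat.leftExactFunctorForgetEquivalence 𝒜).counitIso.hom.naturality
        ((secT T).map f)
      have h2 := congrArg (fun k => k.hom.app A) h
      exact h2)

end LiftFunctor

section LiftFunctor2

variable {C : Type u} [SmallCategory C] {J : GrothendieckTopology C}
variable {𝒜 : Type (u + 1)} [Category.{u} 𝒜] [Preadditive 𝒜] [HasFiniteBiproducts 𝒜]
  (T : 𝒜 ⥤ Sheaf J (Type u)) [PreservesFiniteLimits T]

lemma liftPre_isSheaf (A : 𝒜) : Presheaf.IsSheaf J ((liftPre T).obj A) := by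
  rw [Presheaf.isSheaf_iff_isSheaf_forget J _ (forget AddCommGrpCat.{u})]
  exact (Presheaf.isSheaf_of_iso_iff (liftPreForgetIso T A)).2 (T.obj A).property

/-- The lift of a left exact functor to sheaves of sets, from an additive category, to abelian
sheaves. -/
noncomputable def liftFun : 𝒜 ⥤ Sheaf J AddCommGrpCat.{u} :=
  ObjectProperty.lift _ (liftPre T) (liftPre_isSheaf T)

lemma liftPreForgetIso_naturality {A B : 𝒜} (f : A ⟶ B) :
    Functor.whiskerRight ((liftPre T).map f) (forget AddCommGrpCat.{u}) ≫
      (liftPreForgetIso T B).hom = (liftPreForgetIso T A).hom ≫ (T.map f).hom := by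
  ext c : 2
  exact (((AddCommGrpCat.leftExactFunctorForgetEquivalence 𝒜).counitIso.app
    ((secT T).obj c)).hom.hom.naturality f)

/-- The underlying sheaf of sets of the lift. -/
noncomputable def liftFunIso : liftFun T ⋙ U J ≅ T :=
  NatIso.ofComponents (fun A =>
    (fullyFaithfulSheafToPresheaf J (Type u)).preimageIso (liftPreForgetIso T A)) (by
    intro A B f
    apply (sheafToPresheaf J (Type u)).map_injective
    simp only [Functor.map_comp, Functor.FullyFaithful.preimageIso_hom,
      Functor.FullyFaithful.map_preimage]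
    exact liftPreForgetIso_naturality T f)

end LiftFunctor2

section AbstractAdj

variable {𝒜D 𝒜C 𝒮D 𝒮C : Type*} [Category 𝒜D] [Category 𝒜C] [Category 𝒮D] [Category 𝒮C]
  (UD : 𝒜D ⥤ 𝒮D) (UC : 𝒜C ⥤ 𝒮C) [UD.Faithful] [UC.Faithful]
  {P : 𝒮D ⥤ 𝒮C} {R : 𝒮C ⥤ 𝒮D} (adj : P ⊣ R)
  (Φ : 𝒜D ⥤ 𝒜C) (RA : 𝒜C ⥤ 𝒜D)
  (θ : Φ ⋙ UC ≅ UD ⋙ P) (κ : RA ⋙ UD ≅ UC ⋙ R)
  (η : 𝟭 𝒜D ⟶ Φ ⋙ RA) (ε : RA ⋙ Φ ⟶ 𝟭 𝒜C)
  (hη : ∀ A, UD.map (η.app A) =
    adj.unit.app (UD.obj A) ≫ R.map (θ.inv.app A) ≫ κ.inv.app (Φ.obj A))
  (hε : ∀ Q, UC.map (ε.app Q) =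
    θ.hom.app (RA.obj Q) ≫ P.map (κ.hom.app Q) ≫ adj.counit.app (UC.obj Q))

include hη hε in
/-- An adjunction `P ⊣ R` lifts along faithful functors once the unit and counit lift. -/
noncomputable def liftAdj : Φ ⊣ RA :=
  Adjunction.mkOfUnitCounit
    { unit := η
      counit := ε
      left_triangle := by
        ext A
        apply UC.map_injective
        have hΦ : ∀ {A B : 𝒜D} (h : A ⟶ B), UC.map (Φ.map h) =
            θ.hom.app A ≫ P.map (UD.map h) ≫ θ.inv.app B := by
          intro A B h
          have := θ.hom.naturality h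
          simp only [Functor.comp_map] at this
          rw [← Category.assoc, ← this, Category.assoc, Iso.hom_inv_id_app, Category.comp_id]
        have hc := adj.counit.naturality (θ.inv.app A)
        simp only [Functor.comp_map, Functor.id_map, Functor.comp_obj, Functor.id_obj] at hc
        simp only [NatTrans.comp_app, Functor.whiskerRight_app, Functor.associator_hom_app,
          Functor.whiskerLeft_app, Category.id_comp, NatTrans.id_app, Functor.comp_obj,
          Functor.id_obj, Functor.map_comp, Functor.map_id, hΦ, hη, hε, Category.assoc,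
          Iso.inv_hom_id_app_assoc]
        rw [← P.map_comp_assoc (κ.inv.app _), Iso.inv_hom_id_app, P.map_id, Category.id_comp, hc,
          adj.left_triangle_components_assoc, Iso.hom_inv_id_app]
        exact (UC.map_id _).symm
      right_triangle := by
        ext Q
        apply UD.map_injective
        have hR : ∀ {X Y : 𝒜C} (g : X ⟶ Y), UD.map (RA.map g) =
            κ.hom.app X ≫ R.map (UC.map g) ≫ κ.inv.app Y := by
          intro X Y g
          have := κ.hom.naturality g
          simp only [Functor.comp_map] at this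
          rw [← Category.assoc, ← this, Category.assoc, Iso.hom_inv_id_app, Category.comp_id]
        have hu := adj.unit.naturality (κ.hom.app Q)
        simp only [Functor.comp_map, Functor.id_map, Functor.comp_obj, Functor.id_obj] at hu
        simp only [NatTrans.comp_app, Functor.whiskerRight_app, Functor.associator_inv_app,
          Functor.whiskerLeft_app, Category.id_comp, NatTrans.id_app, Functor.comp_obj,
          Functor.id_obj, Functor.map_comp, Functor.map_id, hR, hη, hε, Category.assoc,
          Iso.inv_hom_id_app_assoc]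
        rw [← R.map_comp_assoc (θ.inv.app _), Iso.inv_hom_id_app, R.map_id, Category.id_comp,
          ← reassoc_of% hu, adj.right_triangle_components_assoc, Iso.hom_inv_id_app]
        exact (UD.map_id _).symm }

end AbstractAdj

end Groth.Agent.Lib.Helper5.AbPull
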