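import Groth.Agent.Lib.Helper5.GrothSSInst
import Groth.Agent.Lib.Helper5.ExtDerived
import Groth.Agent.Lib.Helper5.AbPullAdj
import Groth.Prelude.Def_FreeSh
import Groth.Prelude.Def_CohSite

/-
Helper5: ingredients for Grothendieck spectral sequences on sites: `Γ(V, -)` as a left exact
additive functor on abelian sheaves with `RᵖΓ(V, -) ≅ Extᵖ(ℤ_V, -) = Hᵖ(V, -)`, and the Leray
spectral sequence of a morphism of sites.
-/

set_option autoImplicit false
set_option maxSynthPendingDepth 3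

universe u
open CategoryTheory CategoryTheory.Limits Opposite Abelian

namespace Groth.Agent.Lib.Helper5.SiteSS

open Groth.Agent.Lib.Helper5

variable {C : Type u} [SmallCategory C] (J : GrothendieckTopology C)

/-- `Γ(V, -)` on abelian sheaves. -/
noncomputable abbrev ΓV (V : C) : Sheaf J AddCommGrpCat.{u} ⥤ AddCommGrpCat.{u} :=
  sheafToPresheaf J AddCommGrpCat.{u} ⋙ (evaluation Cᵒᵖ AddCommGrpCat.{u}).obj (op V)

instance (V : C) : (ΓV J V).Additive := inferInstance

noncomputable instance (V : C) : PreservesFiniteLimits (ΓV J V) := inferInstance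

/-- `Γ(V, -) ≅ Hom(ℤ_V, -)`. -/
noncomputable def ΓVIso (V : C) : ΓV J V ≅ ExtDer.G (CohCx.freeSheaf J V) :=
  NatIso.ofComponents (fun F => (CohFree.homEquivSect J V F).symm.toAddCommGrpIso) (by
    intro F G φ
    ext t
    apply (CohFree.homEquivSect J V G).injective
    change CohFree.homEquivSect J V G ((CohFree.homEquivSect J V G).symm ((φ.hom.app (op V)).hom t)) =
      CohFree.homEquivSect J V G ((CohFree.homEquivSect J V F).symm t ≫ φ)
    have h0 : CohFree.homEquivSect J V G ((CohFree.homEquivSect J V F).symm t ≫ φ) =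
        φ.hom.app (op V) (CohFree.homEquivSect J V F ((CohFree.homEquivSect J V F).symm t)) := rfl
    rw [h0, AddEquiv.apply_symm_apply, AddEquiv.apply_symm_apply])

/-- `RᵖΓ(V, -) ≅ Extᵖ(ℤ_V, -)`. -/
noncomputable def RΓVIso (V : C) (p : ℕ) :
    (ΓV J V).rightDerived p ≅ extFunctorObj (CohCx.freeSheaf J V) p :=
  ExtDer.extIsoOfIso _ (ΓV J V) (ΓVIso J V) p

/-- `RᵖΓ(V, F) ≅ Hᵖ(V, F)`. -/
noncomputable def RΓVObjIso (V : C) (p : ℕ) (F : Sheaf J AddCommGrpCat.{u}) :
    ((ΓV J V).rightDerived p).obj F ≅ AddCommGrpCat.of (CohSite.HU F p V) :=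
  (RΓVIso J V p).app F

section Leray

variable {D : Type u} [SmallCategory D] (K : GrothendieckTopology D) (u : D ⥤ C)
  [u.IsContinuous K J]

/-- `u_* ⋙ Γ(V, -) ≅ Γ(u V, -)`. -/
noncomputable def pushΓVIso (V : D) : CohSite.push J K u ⋙ ΓV K V ≅ ΓV J (u.obj V) :=
  NatIso.ofComponents (fun F => Iso.refl _) (by
    intro F G φ
    simp only [Iso.refl_hom, Category.comp_id, Category.id_comp]
    rfl)

/-- `Rⁿ(u_* ⋙ Γ(V, -))(F) ≅ Hⁿ(u V, F)`. -/
noncomputable def RpushΓVObjIso (V : D) (F : Sheaf J AddCommGrpCat.{u}) (n : ℕ) :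
    ((CohSite.push J K u ⋙ ΓV K V).rightDerived n).obj F ≅
      AddCommGrpCat.of (CohSite.HU F n (u.obj V)) :=
  (ExtDer.rightDerivedMapIso (pushΓVIso J K u V) n).app F ≪≫ RΓVObjIso J _ n F

variable [PreservesFiniteLimits (u.sheafPullback (Type u) K J)]

/-- The Leray spectral sequence of a morphism of sites. -/
theorem leraySS (M : Sheaf J AddCommGrpCat.{u}) (V : D) :
    ∃ (E : E₂CohomologicalSpectralSequence AddCommGrpCat.{u})
      (a : SpSeq.Abutment E (fun n : ℤ =>
        if 0 ≤ n then AddCommGrpCat.of (CohSite.HU M n.toNat (u.obj V))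
          else AddCommGrpCat.of PUnit.{u + 1})),
      (∀ n, a.IsFinite n) ∧ SpSeq.IsBounded E ∧
      ∀ p q : ℤ, Nonempty ((E.page 2 le_rfl).X (p, q) ≅
        (if 0 ≤ p ∧ 0 ≤ q then
          AddCommGrpCat.of (CohSite.HU ((CohSite.Rpush J K u q.toNat).obj M) p.toNat V)
         else AddCommGrpCat.of PUnit.{u + 1})) :=
  GrothSSInst.main' (CohSite.push J K u) (ΓV K V)
    (fun Q hQ q hq => by
      haveI := hQ
      haveI : Injective ((CohSite.push J K u).obj Q) := AbPull.injective_pushA J K u Q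
      obtain ⟨q, rfl⟩ : ∃ k, q = k + 1 := ⟨q - 1, by lia⟩
      exact Functor.isZero_rightDerived_obj_injective_succ _ q _)
    M
    (fun n => AddCommGrpCat.of (CohSite.HU M n (u.obj V)))
    (fun p q => AddCommGrpCat.of (CohSite.HU ((CohSite.Rpush J K u q).obj M) p V))
    (AddCommGrpCat.of PUnit.{u + 1}) (AddCommGrpCat.of PUnit.{u + 1})
    (AddCommGrpCat.isZero_of_subsingleton _) (AddCommGrpCat.isZero_of_subsingleton _)
    (fun n => ⟨RpushΓVObjIso J K u V M n⟩)
    (fun p q => ⟨RΓVObjIso K V p _⟩)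

end Leray

end Groth.Agent.Lib.Helper5.SiteSS
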