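import Groth.Agent.Lib.Helper5.PshSh
import Groth.Agent.Lib.Helper5.SiteSS
import Groth.Agent.Lib.Helper5.AbPull
import Groth.Agent.Lib.Helper22.ExtCompare

/-
Helper5: maps out of the free abelian presheaf `ℤ[R]` on a sieve `R` of `X` into the underlying
presheaf of an abelian sheaf `G` are the sections of `G` over `X` when `R` is covering (`κ`), and
the resulting acyclicity criterion (SGA 4 V 4.3): `G` is `C`-acyclic iff its underlying presheaf
has no higher `Ext` out of `ℤ[R]` for covering sieves `R`.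
-/

set_option autoImplicit false
set_option maxSynthPendingDepth 3

universe u
open CategoryTheory CategoryTheory.Limits Opposite Abelian

namespace Groth.Agent.Lib.Helper5.PshSh

open Groth.Agent.Lib.Helper5

variable {C : Type u} [SmallCategory C]

/-- The adjunction between presheaves of sets and abelian presheaves (seen as sheaves for the
trivial topology). -/
noncomputable def adjR :
    (Functor.whiskeringRight Cᵒᵖ (Type u) AddCommGrpCat.{u}).obj AddCommGrpCat.free.{u} ⋙
      presheafToSheaf (⊥ : GrothendieckTopology C) AddCommGrpCat.{u} ⊣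
    sheafToPresheaf (⊥ : GrothendieckTopology C) AddCommGrpCat.{u} ⋙
      (Functor.whiskeringRight Cᵒᵖ AddCommGrpCat.{u} (Type u)).obj (forget AddCommGrpCat.{u}) :=
  (Adjunction.whiskerRight Cᵒᵖ AddCommGrpCat.adj.{u}).comp
    (sheafificationAdjunction (⊥ : GrothendieckTopology C) AddCommGrpCat.{u})

/-- `ℤ[R]` as an abelian presheaf. -/
noncomputable abbrev PR (R : Cᵒᵖ ⥤ Type u) : Sheaf (⊥ : GrothendieckTopology C) AddCommGrpCat.{u} :=
  (presheafToSheaf (⊥ : GrothendieckTopology C) AddCommGrpCat.{u}).obj (R ⋙ AddCommGrpCat.free.{u})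

/-- Maps out of `ℤ[R]` are maps of presheaves of sets out of `R`. -/
noncomputable def φ (R : Cᵒᵖ ⥤ Type u) (G : Sheaf (⊥ : GrothendieckTopology C) AddCommGrpCat.{u}) :
    (PR R ⟶ G) ≃ (R ⟶ G.obj ⋙ forget AddCommGrpCat.{u}) :=
  adjR.homEquiv R G

lemma φ_comp (R : Cᵒᵖ ⥤ Type u) {G G' : Sheaf (⊥ : GrothendieckTopology C) AddCommGrpCat.{u}}
    (x : PR R ⟶ G) (h : G ⟶ G') :
    φ R G' (x ≫ h) = φ R G x ≫ Functor.whiskerRight h.hom (forget AddCommGrpCat.{u}) :=
  adjR.homEquiv_naturality_right x h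

lemma yo_aux {X : C} {R' : Cᵒᵖ ⥤ Type u} (F F' : Cᵒᵖ ⥤ Type u) (α : F ⟶ F')
    (i : R' ⟶ yoneda.obj X) (x : F.obj (op X)) :
    i ≫ yonedaEquiv.symm (α.app (op X) x) = (i ≫ yonedaEquiv.symm x) ≫ α := by
  rw [Category.assoc, yonedaEquiv_symm_naturality_right]

variable (J : GrothendieckTopology C)

/-- The map `ℤ[R] ⟶ G` given by the restrictions of a section `x ∈ G(X)` to the members of the
sieve `R` of `X`. -/
noncomputable def κ {X : C} (R : Sieve X) (G : Sheaf J AddCommGrpCat.{u}) (x : G.obj.obj (op X)) :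
    PR R.functor ⟶ (T J).obj G :=
  (φ R.functor ((T J).obj G)).symm
    (R.functorInclusion ≫ (yonedaEquiv (F := G.obj ⋙ forget AddCommGrpCat.{u})).symm x)

lemma φ_κ {X : C} (R : Sieve X) (G : Sheaf J AddCommGrpCat.{u}) (x : G.obj.obj (op X)) :
    φ R.functor ((T J).obj G) (κ J R G x) =
      R.functorInclusion ≫ (yonedaEquiv (F := G.obj ⋙ forget AddCommGrpCat.{u})).symm x :=
  Equiv.apply_symm_apply _ _

lemma κ_nat {X : C} (R : Sieve X) {G G' : Sheaf J AddCommGrpCat.{u}} (h : G ⟶ G')
    (x : G.obj.obj (op X)) :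
    κ J R G' ((h.hom.app (op X)).hom x) = κ J R G x ≫ (T J).map h := by
  apply (φ R.functor ((T J).obj G')).injective
  rw [φ_comp, φ_κ, φ_κ]
  exact yo_aux _ _ (Functor.whiskerRight h.hom (forget AddCommGrpCat.{u})) R.functorInclusion x

lemma κ_bijective {X : C} (R : Sieve X) (hR : R ∈ J X) (G : Sheaf J AddCommGrpCat.{u}) :
    Function.Bijective (κ J R G) := by
  have hG : Presieve.IsSheaf J (G.obj ⋙ forget AddCommGrpCat.{u}) :=
    (isSheaf_iff_isSheaf_of_type _ _).1
      ((Presheaf.isSheaf_iff_isSheaf_forget J G.obj (forget AddCommGrpCat.{u})).1 G.property)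
  have hY := Presieve.isSheafFor_iff_yonedaSheafCondition.1 (hG R hR)
  have h3 : Function.Bijective (fun g : yoneda.obj X ⟶ G.obj ⋙ forget AddCommGrpCat.{u} =>
      R.functorInclusion ≫ g) := ?_
  · exact (φ R.functor ((T J).obj G)).symm.bijective.comp
      (h3.comp (yonedaEquiv (F := G.obj ⋙ forget AddCommGrpCat.{u})).symm.bijective)
  constructor
  · intro g g' hgg
    exact (hY (R.functorInclusion ≫ g)).unique rfl hgg.symm
  · intro f
    obtain ⟨g, hg, -⟩ := hY f
    exact ⟨g, hg⟩


lemma κ_add {X : C} (R : Sieve X) (G : Sheaf J AddCommGrpCat.{u}) (x y : G.obj.obj (op X)) :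
    κ J R G (x + y) = κ J R G x + κ J R G y := by
  let α : SiteSS.ΓV J X ⋙ forget AddCommGrpCat.{u} ⟶
      (T J ⋙ ExtDer.G (PR R.functor)) ⋙ forget AddCommGrpCat.{u} :=
    { app := fun G => ↾(κ J R G)
      naturality := by
        intro G G' h
        ext x
        exact κ_nat J R h x }
  exact AbPull.map_add_of_natural (SiteSS.ΓV J X) (T J ⋙ ExtDer.G (PR R.functor)) α G x y

/-- `Hom(ℤ_X, G) ≃+ Hom(ℤ[R], G)` for a covering sieve `R` of `X`. -/
noncomputable def κEquiv {X : C} (R : Sieve X) (hR : R ∈ J X) (G : Sheaf J AddCommGrpCat.{u}) :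
    (CohCx.freeSheaf J X ⟶ G) ≃+ (PR R.functor ⟶ (T J).obj G) :=
  (CohFree.homEquivSect J X G).trans
    { Equiv.ofBijective (κ J R G) (κ_bijective J R hR G) with
      map_add' := κ_add J R G }

lemma κEquiv_apply {X : C} (R : Sieve X) (hR : R ∈ J X) (G : Sheaf J AddCommGrpCat.{u})
    (f : CohCx.freeSheaf J X ⟶ G) :
    κEquiv J R hR G f = κ J R G (CohFree.homEquivSect J X G f) := rfl

lemma κEquiv_nat {X : C} (R : Sieve X) (hR : R ∈ J X) {G G' : Sheaf J AddCommGrpCat.{u}}
    (f : CohCx.freeSheaf J X ⟶ G) (h : G ⟶ G') :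
    κEquiv J R hR G' (f ≫ h) = κEquiv J R hR G f ≫ (T J).map h := by
  rw [κEquiv_apply, κEquiv_apply, ← κ_nat]
  rfl

/-- The degree zero comparison datum for `ExtCompare`. -/
noncomputable def deg0 {X : C} (R : Sieve X) (hR : R ∈ J X) :
    Helper22.ExtCompare.Deg0Iso (T J) (CohCx.freeSheaf J X) (PR R.functor) where
  e G := (Ext.addEquiv₀.trans (κEquiv J R hR G)).trans Ext.addEquiv₀.symm
  nat := by
    intro G G' g x
    obtain ⟨f, rfl⟩ := Ext.addEquiv₀.symm.surjective x
    simp only [AddEquiv.trans_apply, Ext.addEquiv₀_symm_apply, Ext.mk₀_comp_mk₀]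
    have h0 : ∀ {A B : Sheaf J AddCommGrpCat.{u}} (a : A ⟶ B), Ext.addEquiv₀ (Ext.mk₀ a) = a :=
      fun a => Ext.addEquiv₀.apply_symm_apply a
    rw [h0, h0, κEquiv_nat]


/-- A sectionwise surjective map of abelian sheaves is an epimorphism of presheaves. -/
lemma epi_T_map {G G' : Sheaf J AddCommGrpCat.{u}} (g : G ⟶ G')
    (hg : ∀ U : C, Function.Surjective (g.hom.app (op U)).hom) : Epi ((T J).map g) := by
  apply (sheafToPresheaf (⊥ : GrothendieckTopology C) AddCommGrpCat.{u}).epi_of_epi_map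
  have : ∀ U : Cᵒᵖ, Epi (g.hom.app U) := fun U =>
    (AddCommGrpCat.epi_iff_surjective _).2 (hg U.unop)
  exact NatTrans.epi_of_epi_app g.hom

lemma surjective_app_of_ext_one {S : ShortComplex (Sheaf J AddCommGrpCat.{u})} (hS : S.ShortExact)
    (U : C) (h : Subsingleton (Ext (CohCx.freeSheaf J U) S.X₁ 1)) :
    Function.Surjective (S.g.hom.app (op U)).hom := by
  intro s
  obtain ⟨x₂, hx₂⟩ := Ext.covariant_sequence_exact₃ (CohCx.freeSheaf J U) hS
    (Ext.mk₀ ((CohFree.homEquivSect J U S.X₃).symm s)) (zero_add 1) (Subsingleton.elim _ _)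
  obtain ⟨t, rfl⟩ := Ext.addEquiv₀.symm.surjective x₂
  rw [Ext.addEquiv₀_symm_apply, Ext.mk₀_comp_mk₀] at hx₂
  have h2 : t ≫ S.g = (CohFree.homEquivSect J U S.X₃).symm s :=
    Ext.addEquiv₀.symm.injective hx₂
  refine ⟨CohFree.homEquivSect J U S.X₂ t, ?_⟩
  have h0 : CohFree.homEquivSect J U S.X₃ (t ≫ S.g) =
      (S.g.hom.app (op U)).hom (CohFree.homEquivSect J U S.X₂ t) := rfl
  rw [← h0, h2, AddEquiv.apply_symm_apply]

/-- If `H¹(U, S.X₁) = 0` for all `U`, the short exact sequence `S` of abelian sheaves is exact as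
a sequence of presheaves. -/
lemma shortExact_map_T {S : ShortComplex (Sheaf J AddCommGrpCat.{u})} (hS : S.ShortExact)
    (h : ∀ U : C, Subsingleton (Ext (CohCx.freeSheaf J U) S.X₁ 1)) :
    (S.map (T J)).ShortExact := by
  have := hS.mono_f
  have : Mono (S.map (T J)).f := inferInstanceAs (Mono ((T J).map S.f))
  have : Epi (S.map (T J)).g := epi_T_map J S.g (fun U => surjective_app_of_ext_one J hS U (h U))
  refine ShortComplex.ShortExact.mk ?_
  exact ShortComplex.exact_of_f_is_kernel _ (KernelFork.mapIsLimit _ hS.fIsKernel (T J))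


/-- Base case of Cartan's criterion: if `Ext¹(ℤ[R], S.X₁) = 0` in presheaves for all covering
sieves `R` of `X`, then `S.X₂(X) → S.X₃(X)` is surjective. -/
lemma surjective_app_of_ext_PR_one {S : ShortComplex (Sheaf J AddCommGrpCat.{u})}
    (hS : S.ShortExact) (X : C)
    (h : ∀ R : Sieve X, R ∈ J X → Subsingleton (Ext (PR R.functor) ((T J).obj S.X₁) 1)) :
    Function.Surjective (S.g.hom.app (op X)).hom := by
  intro s
  have := hS.epi_g
  have hls : Sheaf.IsLocallySurjective S.g :=
    (Sheaf.isLocallySurjective_iff_epi' _ S.g).2 inferInstance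
  let R : Sieve X := Presheaf.imageSieve S.g.hom s
  have hR : R ∈ J X := Presheaf.imageSieve_mem J S.g.hom (U := op X) s
  -- the presheaf side
  have := hS.mono_f
  haveI : Mono ((T J).map S.f) := inferInstance
  have hS' : (S.map (T J)).Exact :=
    ShortComplex.exact_of_f_is_kernel _ (KernelFork.mapIsLimit _ hS.fIsKernel (T J))
  have hzero : (T J).map S.f ≫ (T J).map S.g = 0 := by
    rw [← Functor.map_comp, S.zero, Functor.map_zero]
  let N : Sheaf (⊥ : GrothendieckTopology C) AddCommGrpCat.{u} := cokernel ((T J).map S.f)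
  let π : (T J).obj S.X₂ ⟶ N := cokernel.π ((T J).map S.f)
  let ι : N ⟶ (T J).obj S.X₃ := cokernel.desc ((T J).map S.f) ((T J).map S.g) hzero
  haveI : Mono ι := hS'.mono_cokernelDesc
  have hπι : π ≫ ι = (T J).map S.g := cokernel.π_desc _ _ _
  have hπι_app : ∀ (V : Cᵒᵖ) (t : S.X₂.obj.obj V),
      (ι.hom.app V).hom ((π.hom.app V).hom t) = (S.g.hom.app V).hom t := fun V t =>
    ConcreteCategory.congr_hom (NatTrans.congr_app (congrArg (fun z => z.hom) hπι) V) t
  have hιinj : ∀ U : Cᵒᵖ, Function.Injective (ι.hom.app U).hom := by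
    intro U
    haveI : Mono ι.hom := inferInstance
    haveI : Mono (ι.hom.app U) := inferInstance
    exact (AddCommGrpCat.mono_iff_injective _).1 inferInstance
  let S'' : ShortComplex (Sheaf (⊥ : GrothendieckTopology C) AddCommGrpCat.{u}) :=
    ShortComplex.mk ((T J).map S.f) π (cokernel.condition _)
  have hS'' : S''.ShortExact :=
    { exact := ShortComplex.exact_cokernel _
      mono_f := inferInstanceAs (Mono ((T J).map S.f))
      epi_g := inferInstanceAs (Epi (cokernel.π ((T J).map S.f))) }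
  -- the family of local preimages
  let tf : ∀ (U : Cᵒᵖ) (f : R.functor.obj U), S.X₂.obj.obj U := fun U f =>
    Presheaf.localPreimage S.g.hom (U := op X) s f.1 f.2
  have htf : ∀ (U : Cᵒᵖ) (f : R.functor.obj U),
      (S.g.hom.app U).hom (tf U f) = (S.X₃.obj.map f.1.op).hom s := fun U f =>
    Presheaf.app_localPreimage S.g.hom (U := op X) s f.1 f.2
  let ν : R.functor ⟶ N.obj ⋙ forget AddCommGrpCat.{u} :=
    { app := fun U => ↾(fun f => (π.hom.app U).hom (tf U f))
      naturality := by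
        intro U V a
        ext f
        apply hιinj V
        have hιnat : ∀ y : N.obj.obj U,
            (ι.hom.app V).hom ((N.obj.map a).hom y) =
              (S.X₃.obj.map a).hom ((ι.hom.app U).hom y) := fun y =>
          ConcreteCategory.congr_hom (ι.hom.naturality a) y
        change (ι.hom.app V).hom ((π.hom.app V).hom (tf V (R.functor.map a f))) =
          (ι.hom.app V).hom ((N.obj.map a).hom ((π.hom.app U).hom (tf U f)))
        rw [hιnat, hπι_app, hπι_app, htf, htf]
        change (S.X₃.obj.map (a.unop ≫ f.1).op).hom s = _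
        rw [op_comp, S.X₃.obj.map_comp]
        rfl }
  let σ' : PR R.functor ⟶ N := (φ R.functor N).symm ν
  obtain ⟨x₂, hx₂⟩ := Ext.covariant_sequence_exact₃ (PR R.functor) hS'' (Ext.mk₀ σ') (zero_add 1)
    ((h R hR).elim _ _)
  obtain ⟨τ, rfl⟩ := Ext.addEquiv₀.symm.surjective x₂
  rw [Ext.addEquiv₀_symm_apply, Ext.mk₀_comp_mk₀] at hx₂
  change PR R.functor ⟶ (T J).obj S.X₂ at τ
  have hτ : τ ≫ π = σ' := Ext.addEquiv₀.symm.injective hx₂
  obtain ⟨t, ht⟩ := (κ_bijective J R hR S.X₂).2 τ
  refine ⟨t, ?_⟩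
  apply (κ_bijective J R hR S.X₃).1
  have h5 : κ J R S.X₂ t ≫ (T J).map S.g = σ' ≫ ι := by
    rw [ht, ← hπι, ← Category.assoc, hτ]
  rw [κ_nat, h5]
  apply (φ R.functor ((T J).obj S.X₃)).injective
  rw [φ_κ, φ_comp, Equiv.apply_symm_apply]
  ext U f
  change (ι.hom.app U).hom ((π.hom.app U).hom (tf U f)) = (S.X₃.obj.map f.1.op).hom s
  rw [hπι_app, htf]


open Helper22.ExtCompare in
/-- `C`-acyclic sheaves have no higher presheaf `Ext` out of `ℤ[R]` for covering sieves `R`;
more precisely `Extⁿ(ℤ_X, F) ≃+ Extⁿ(ℤ[R], F)`. -/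
theorem nonempty_ext_addEquiv_of_acyclic {X : C} (R : Sieve X) (hR : R ∈ J X)
    (F : Sheaf J AddCommGrpCat.{u})
    (hF : ∀ (U : C) (q : ℕ), Subsingleton (Ext (CohCx.freeSheaf J U) F (q + 1))) (n : ℕ) :
    Nonempty (Ext (CohCx.freeSheaf J X) F n ≃+ Ext (PR R.functor) ((T J).obj F) n) := by
  refine nonempty_ext_addEquiv (deg0 J R hR)
    (fun F => ∀ (U : C) (q : ℕ), Subsingleton (Ext (CohCx.freeSheaf J U) F (q + 1)))
    (fun F hF => shortExact_map_T J (injSC_shortExact F) (fun U => hF U 0))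
    (fun F hF U q => ?_) (fun F hF n x => ?_) n F hF
  · have e := shiftEquiv (injSC_shortExact F) (CohCx.freeSheaf J U) q
      (fun x => Ext.eq_zero_of_injective x) (fun x => Ext.eq_zero_of_injective x)
    haveI := hF U (q + 1)
    exact e.toEquiv.subsingleton
  · haveI : Injective ((T J).obj (injSC F).X₂) := injective_T J _
    exact Ext.eq_zero_of_injective x

open Helper22.ExtCompare in
/-- Cartan's criterion: if the underlying presheaf of `F` has no higher `Ext` out of `ℤ[R]` for
all covering sieves `R`, then `F` is `C`-acyclic. -/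
theorem acyclic_of_ext_PR (q : ℕ) : ∀ (F : Sheaf J AddCommGrpCat.{u})
    (_ : ∀ (X : C) (R : Sieve X), R ∈ J X → ∀ q : ℕ,
      Subsingleton (Ext (PR R.functor) ((T J).obj F) (q + 1))) (X : C),
    Subsingleton (Ext (CohCx.freeSheaf J X) F (q + 1)) := by
  have base : ∀ (F : Sheaf J AddCommGrpCat.{u})
      (_ : ∀ (X : C) (R : Sieve X), R ∈ J X → ∀ q : ℕ,
        Subsingleton (Ext (PR R.functor) ((T J).obj F) (q + 1))) (X : C),
      Subsingleton (Ext (CohCx.freeSheaf J X) F 1) := by
    intro F hF X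
    have hS := injSC_shortExact F
    have hsurj := surjective_app_of_ext_PR_one J hS X (fun R hR => hF X R hR 0)
    refine subsingleton_of_forall_eq 0 fun x => ?_
    obtain ⟨y, rfl⟩ := Ext.covariant_sequence_exact₁ (CohCx.freeSheaf J X) hS x
      (Ext.eq_zero_of_injective _) (zero_add 1)
    obtain ⟨s₀, rfl⟩ := Ext.addEquiv₀.symm.surjective y
    obtain ⟨t, ht⟩ := hsurj (CohFree.homEquivSect J X _ s₀)
    have h1 : (CohFree.homEquivSect J X _).symm t ≫ (injSC F).g = s₀ := by
      apply (CohFree.homEquivSect J X _).injective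
      have h0 : CohFree.homEquivSect J X (injSC F).X₃
          ((CohFree.homEquivSect J X (injSC F).X₂).symm t ≫ (injSC F).g) =
          ((injSC F).g.hom.app (op X)).hom (CohFree.homEquivSect J X (injSC F).X₂
            ((CohFree.homEquivSect J X (injSC F).X₂).symm t)) := rfl
      rw [h0, AddEquiv.apply_symm_apply, ht]
    rw [Ext.addEquiv₀_symm_apply, ← h1, ← Ext.mk₀_comp_mk₀, Ext.comp_assoc_of_second_deg_zero,
      hS.comp_extClass, Ext.comp_zero]
  induction q with
  | zero => exact base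
  | succ q ih =>
    intro F hF X
    have hS := injSC_shortExact F
    have hT := shortExact_map_T J hS (fun U => base F hF U)
    haveI : Injective ((injSC F).map (T J)).X₂ := injective_T J (injSC F).X₂
    have hQ : ∀ (X : C) (R : Sieve X), R ∈ J X → ∀ q : ℕ,
        Subsingleton (Ext (PR R.functor) ((T J).obj (injSC F).X₃) (q + 1)) := by
      intro X' R hR k
      have e := shiftEquiv hT (PR R.functor) k
        (fun x => Ext.eq_zero_of_injective x) (fun x => Ext.eq_zero_of_injective x)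
      haveI : Subsingleton (Ext (PR R.functor) ((injSC F).map (T J)).X₁ (k + 2)) :=
        hF X' R hR (k + 1)
      exact e.toEquiv.subsingleton
    have e := shiftEquiv hS (CohCx.freeSheaf J X) q
      (fun x => Ext.eq_zero_of_injective x) (fun x => Ext.eq_zero_of_injective x)
    haveI := ih _ hQ X
    exact e.symm.toEquiv.subsingleton

end Groth.Agent.Lib.Helper5.PshSh
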