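import Groth.Agent.Lib.Helper5.CechAcyclic
import Groth.Agent.Lib.Helper5.AbPullAdj
import Groth.Agent.Lib.Helper5.CechCrit

/-
Helper5: the direct image of a totally acyclic (flasque) abelian sheaf along a morphism of sites is
totally acyclic, and `Ext^n(f⁻¹ P, F) ≃ Ext^n(P, f_* F)` for totally acyclic `F`.
-/

set_option autoImplicit false

universe u

open CategoryTheory Limits Opposite Abelian

namespace Groth.Agent.Lib.Helper5.PushAcyclic

open Groth.Agent.Lib.Helper5.AbPull Groth.Agent.Lib.Helper22.ExtCompare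

variable {C D : Type u} [SmallCategory C] [SmallCategory D]
    (J : GrothendieckTopology C) (K : GrothendieckTopology D) (u : D ⥤ C) [u.IsContinuous K J]

/-- inverse image of abelian sheaves -/
noncomputable abbrev pullA : Sheaf K AddCommGrpCat.{u} ⥤ Sheaf J AddCommGrpCat.{u} :=
  u.sheafPullback AddCommGrpCat.{u} K J

/-- the adjunction on abelian sheaves -/
noncomputable abbrev adjA : pullA J K u ⊣ pushA J K u :=
  u.sheafAdjunctionContinuous AddCommGrpCat.{u} K J

instance additive_pullA : (pullA J K u).Additive := (adjA J K u).left_adjoint_additive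

/-- The degree zero comparison datum `Hom(f⁻¹ P', G) ≃ Hom(P', f_* G)`. -/
noncomputable def deg0 (P' : Sheaf K AddCommGrpCat.{u}) :
    Deg0Iso (pushA J K u) ((pullA J K u).obj P') P' where
  e G := (Ext.addEquiv₀.trans ((adjA J K u).homAddEquiv P' G)).trans Ext.addEquiv₀.symm
  nat := by
    intro G G' g x
    obtain ⟨f, rfl⟩ := Ext.addEquiv₀.symm.surjective x
    simp only [AddEquiv.trans_apply, Ext.addEquiv₀_symm_apply, Ext.mk₀_comp_mk₀]
    have h0 : ∀ {A B : Sheaf J AddCommGrpCat.{u}} (a : A ⟶ B), Ext.addEquiv₀ (Ext.mk₀ a) = a :=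
      fun a => Ext.addEquiv₀.apply_symm_apply a
    rw [h0, h0, Adjunction.homAddEquiv_apply, Adjunction.homAddEquiv_apply,
      Adjunction.homEquiv_naturality_right]

/-- A short exact sequence of abelian sheaves on `C` whose kernel has vanishing `H¹` on the objects
`u(V)` stays exact after direct image. -/
lemma shortExact_map_push {S : ShortComplex (Sheaf J AddCommGrpCat.{u})} (hS : S.ShortExact)
    (h : ∀ V : D, Subsingleton (Ext (CohCx.freeSheaf J (u.obj V)) S.X₁ 1)) :
    (S.map (pushA J K u)).ShortExact := by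
  have := hS.mono_f
  have : Mono (S.map (pushA J K u)).f := inferInstanceAs (Mono ((pushA J K u).map S.f))
  have : Epi (S.map (pushA J K u)).g := by
    change Epi ((pushA J K u).map S.g)
    rw [← Sheaf.isLocallySurjective_iff_epi']
    exact Presheaf.isLocallySurjective_of_surjective K _ (fun V =>
      PshSh.surjective_app_of_ext_one J hS (u.obj V.unop) (h V.unop))
  refine ShortComplex.ShortExact.mk ?_
  exact ShortComplex.exact_of_f_is_kernel _ (KernelFork.mapIsLimit _ hS.fIsKernel (pushA J K u))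

/-- Total acyclicity passes to the cokernel of the embedding into an injective. -/
lemma isTotallyAcyclic_injSC_X₃ (F : Sheaf J AddCommGrpCat.{u}) (hF : CohCx.IsTotallyAcyclic F) :
    CohCx.IsTotallyAcyclic (injSC F).X₃ := by
  intro L q
  have e := shiftEquiv (injSC_shortExact F)
    ((presheafToSheaf J AddCommGrpCat.{u}).obj (L.obj ⋙ AddCommGrpCat.free.{u})) q
    (fun x => Ext.eq_zero_of_injective x) (fun x => Ext.eq_zero_of_injective x)
  haveI := hF L (q + 1)
  exact e.toEquiv.subsingleton

lemma subsingleton_ext_freeSheaf (F : Sheaf J AddCommGrpCat.{u}) (hF : CohCx.IsTotallyAcyclic F)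
    (U : C) (n : ℕ) : Subsingleton (Ext (CohCx.freeSheaf J U) F (n + 1)) :=
  FreeSheafify.subsingleton_HU_of_HK J F U (n + 1) (hF _ n)

section Mono

variable [(pullA J K u).PreservesMonomorphisms]

/-- For a totally acyclic sheaf `F`: `Ext^n(f⁻¹ P', F) ≃ Ext^n(P', f_* F)`, as soon as `f⁻¹`
preserves monomorphisms of abelian sheaves. -/
theorem nonempty_ext_addEquiv_push' (P' : Sheaf K AddCommGrpCat.{u})
    (F : Sheaf J AddCommGrpCat.{u}) (hF : CohCx.IsTotallyAcyclic F) (n : ℕ) :
    Nonempty (Ext ((pullA J K u).obj P') F n ≃+ Ext P' ((pushA J K u).obj F) n) := by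
  refine nonempty_ext_addEquiv (deg0 J K u P') (fun F => CohCx.IsTotallyAcyclic F)
    (fun F hF => shortExact_map_push J K u (injSC_shortExact F)
      (fun V => subsingleton_ext_freeSheaf J F hF (u.obj V) 0))
    (fun F hF => isTotallyAcyclic_injSC_X₃ J F hF) (fun F hF n x => ?_) n F hF
  haveI : Injective ((pushA J K u).obj (injSC F).X₂) :=
    Injective.injective_of_adjoint (adjA J K u) _
  exact Ext.eq_zero_of_injective x

/-- `f⁻¹ ℤ[L]^# ≅ ℤ[f⁻¹ L]^#`. -/
noncomputable def pullFreeIso :
    CechRes.Φ K ⋙ pullA J K u ≅ pullS J K u ⋙ CechRes.Φ J :=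
  Adjunction.leftAdjointUniq ((CechRes.adjΦ K).comp (adjA J K u))
    ((adjS J K u).comp (CechRes.adjΦ J))

/-- The direct image of a totally acyclic abelian sheaf is totally acyclic, as soon as `f⁻¹`
preserves monomorphisms of abelian sheaves. -/
theorem isTotallyAcyclic_push' (F : Sheaf J AddCommGrpCat.{u}) (hF : CohCx.IsTotallyAcyclic F) :
    CohCx.IsTotallyAcyclic ((pushA J K u).obj F) := by
  intro L p
  obtain ⟨e⟩ := nonempty_ext_addEquiv_push' J K u ((CechRes.Φ K).obj L) F hF (p + 1)
  haveI : Subsingleton (Ext ((pullA J K u).obj ((CechRes.Φ K).obj L)) F (p + 1)) :=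
    FreeSheafify.subsingleton_ext_of_iso ((pullFreeIso J K u).app L).symm F (p + 1)
      (hF ((pullS J K u).obj L) p)
  exact e.symm.toEquiv.subsingleton

end Mono

variable [PreservesFiniteLimits (u.sheafPullback (Type u) K J)]

/-- For a totally acyclic sheaf `F`: `Ext^n(f⁻¹ P', F) ≃ Ext^n(P', f_* F)`. -/
theorem nonempty_ext_addEquiv_push (P' : Sheaf K AddCommGrpCat.{u})
    (F : Sheaf J AddCommGrpCat.{u}) (hF : CohCx.IsTotallyAcyclic F) (n : ℕ) :
    Nonempty (Ext ((pullA J K u).obj P') F n ≃+ Ext P' ((pushA J K u).obj F) n) := by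
  refine nonempty_ext_addEquiv (deg0 J K u P') (fun F => CohCx.IsTotallyAcyclic F)
    (fun F hF => shortExact_map_push J K u (injSC_shortExact F)
      (fun V => subsingleton_ext_freeSheaf J F hF (u.obj V) 0))
    (fun F hF => isTotallyAcyclic_injSC_X₃ J F hF) (fun F hF n x => ?_) n F hF
  haveI : Injective ((pushA J K u).obj (injSC F).X₂) := injective_pushA J K u _
  exact Ext.eq_zero_of_injective x

/-- The direct image of a totally acyclic abelian sheaf is totally acyclic. -/
theorem isTotallyAcyclic_push (F : Sheaf J AddCommGrpCat.{u}) (hF : CohCx.IsTotallyAcyclic F) :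
    CohCx.IsTotallyAcyclic ((pushA J K u).obj F) := by
  intro L p
  obtain ⟨e⟩ := nonempty_ext_addEquiv_push J K u ((CechRes.Φ K).obj L) F hF (p + 1)
  haveI : Subsingleton (Ext ((pullA J K u).obj ((CechRes.Φ K).obj L)) F (p + 1)) :=
    FreeSheafify.subsingleton_ext_of_iso ((pullFreeIso J K u).app L).symm F (p + 1)
      (hF ((pullS J K u).obj L) p)
  exact e.symm.toEquiv.subsingleton

end Groth.Agent.Lib.Helper5.PushAcyclic
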