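import Groth.Agent.Lib.Helper5.SectFlasque
import Groth.Agent.Lib.Helper5.IHomAcyclic
import Groth.Agent.Lib.Helper5.PushAcyclic
import Groth.Agent.Lib.Helper5.GrothSSInst
import Groth.Agent.Lib.Helper5.ExtDerived

/-!
# The spectral sequence of relative Ext sheaves for a composite morphism
-/

set_option autoImplicit false

universe u

open CategoryTheory Limits Opposite Abelian AlgebraicGeometry TopologicalSpace

namespace Groth.Agent.Lib.Helper5.RelExtSS

open Groth.Agent.Lib.Helper5.CechRes Groth.Agent.Lib.Helper5.HZLink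
  Groth.Agent.Lib.Helper5.SectFlasque
  Groth.Agent.Lib.Helper17.IHom Groth.Agent.Lib.Helper17.Tensor

section Ab

variable {C : Type u} [SmallCategory C] {J : GrothendieckTopology C}

/-- sections lift along an epimorphism with totally acyclic kernel -/
lemma exists_lift_section (S : ShortComplex (Sheaf J AddCommGrpCat.{u})) (hS : S.ShortExact)
    (hM : CohCx.IsTotallyAcyclic S.X₁) (V : C)
    (σ : (Φ J).obj (ToposFin.eps J V) ⟶ S.X₃) :
    ∃ τ : (Φ J).obj (ToposFin.eps J V) ⟶ S.X₂, τ ≫ S.g = σ := by
  obtain ⟨x₂, hx₂⟩ := Ext.covariant_sequence_exact₃ _ hS (Ext.mk₀ σ) (zero_add 1)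
    ((hM (ToposFin.eps J V) 0).elim _ _)
  obtain ⟨τ, rfl⟩ := (Ext.mk₀_bijective _ _).2 x₂
  rw [Ext.mk₀_comp_mk₀] at hx₂
  exact ⟨τ, (Ext.mk₀_bijective _ _).1 hx₂⟩

end Ab

section Sch

variable {Y Z : Scheme.{u}} (g : Y ⟶ Z)

/-- the direct image of an epimorphism with flasque kernel is an epimorphism -/
lemma epi_pushforward_map (S : ShortComplex (ModSite.Mod Y.sheaf)) (hS : S.ShortExact)
    (hM : CohCx.IsTotallyAcyclic (ModSite.toAb S.X₁)) :
    Epi ((Scheme.Modules.pushforward g).map S.g) := by
  haveI := Groth.Agent.Lib.Helper17.ModSiteExact.toSheaf_preservesFiniteColimits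
    (ModSite.ringSh Y.sheaf)
  apply SectFlasque.epi_of_sections_surjective Z.sheaf
  intro V y
  obtain ⟨σ, hσ⟩ := sec_surjective ((Opens.map g.base).obj V) (ModSite.toAb S.X₃) y
  obtain ⟨τ, hτ⟩ := exists_lift_section (S.map (toAb Y.sheaf)) (hS.map_of_exact (toAb Y.sheaf)) hM
    ((Opens.map g.base).obj V) σ
  refine ⟨sec ((Opens.map g.base).obj V) τ, ?_⟩
  have h2 := sec_comp ((Opens.map g.base).obj V) τ ((toAb Y.sheaf).map S.g)
  have h3 : τ ≫ (toAb Y.sheaf).map S.g = σ := hτ
  rw [h3, hσ] at h2
  exact h2.symm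

open Groth.Agent.Lib.Helper22.DimShift in
/-- flasque modules are acyclic for the direct image -/
theorem isZero_Rpush_succ [HasInjectiveResolutions Y.Modules] (q : ℕ) :
    ∀ (M : Y.Modules), CohCx.IsTotallyAcyclic (ModSite.toAb (O := Y.sheaf) M) →
      IsZero (((Scheme.Modules.pushforward g).rightDerived (q + 1)).obj M) := by
  haveI : EnoughInjectives Y.Modules :=
    Groth.Agent.S0485.result (Opens.grothendieckTopology Y) Y.ringCatSheaf
  haveI : EnoughInjectives (ModSite.Mod Y.sheaf) :=
    Groth.Agent.S0485.result (Opens.grothendieckTopology Y) Y.ringCatSheaf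
  haveI : PreservesFiniteLimits (Scheme.Modules.pushforward g) := by
    haveI := (Scheme.Modules.pullbackPushforwardAdjunction g).rightAdjoint_preservesLimits
    infer_instance
  induction q with
  | zero =>
    intro M hM
    exact (isZero_rightDerived_one_iff (Scheme.Modules.pushforward g) (injSC M)
      (injSC_shortExact M)).2 (epi_pushforward_map g (injSC M) (injSC_shortExact M) hM)
  | succ n ih =>
    intro M hM
    exact (isZero_rightDerived_succ_succ_iff (Scheme.Modules.pushforward g) (injSC M)
      (injSC_shortExact M) n).2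
      (ih _ (isTotallyAcyclic_X₃ Y.sheaf (injSC M) (injSC_shortExact M) hM))

end Sch

section Top

attribute [local instance] reflectsLimits_of_reflectsIsomorphisms in
/-- inverse image of sheaves of sets along a continuous map is exact -/
lemma preservesFiniteLimits_sheafPullback_type {X Y : TopCat.{u}} (f : X ⟶ Y) :
    PreservesFiniteLimits ((Opens.map f).sheafPullback (Type u)
      (Opens.grothendieckTopology Y) (Opens.grothendieckTopology X)) := by
  apply Functor.sheafPullbackConstruction.preservesFiniteLimits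

end Top

section Main

open ZeroObject

variable {X Y Z : Scheme.{u}} (f : X ⟶ Y) (g : Y ⟶ Z)

/-- the direct image of a flasque module is flasque -/
lemma isTotallyAcyclic_pushforward (H : X.Modules)
    (hH : CohCx.IsTotallyAcyclic (ModSite.toAb (O := X.sheaf) H)) :
    CohCx.IsTotallyAcyclic (ModSite.toAb (O := Y.sheaf) ((Scheme.Modules.pushforward f).obj H)) :=
  haveI := preservesFiniteLimits_sheafPullback_type f.base
  PushAcyclic.isTotallyAcyclic_push (Opens.grothendieckTopology X) (Opens.grothendieckTopology Y)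
    (Opens.map f.base) _ hH

variable (F : X.Modules) [ModSite.HasSheafHom (O := X.sheaf) F]

/-- **The spectral sequence `R^a g_*(Ext^b_f(F, G)) ⇒ Ext^{a+b}_{gf}(F, G)`.** -/
theorem main [HasInjectiveResolutions (ModSite.Mod X.sheaf)] [HasInjectiveResolutions Y.Modules]
    [(ModSite.sheafHom (O := X.sheaf) F ⋙ Scheme.Modules.pushforward f).Additive]
    [(ModSite.sheafHom (O := X.sheaf) F ⋙ Scheme.Modules.pushforward (f ≫ g)).Additive]
    (G : X.Modules) :
    ∃ (E : E₂CohomologicalSpectralSequence Z.Modules)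
      (a : SpSeq.Abutment E (fun n : ℤ =>
        if 0 ≤ n then ((ModSite.sheafHom (O := X.sheaf) F ⋙
          Scheme.Modules.pushforward (f ≫ g)).rightDerived n.toNat).obj G else (0 : Z.Modules))),
      (∀ n : ℤ, a.IsFinite n) ∧ SpSeq.IsBounded E ∧
      ∀ p q : ℤ, Nonempty ((E.page 2 le_rfl).X (p, q) ≅
        (if 0 ≤ p ∧ 0 ≤ q then ((Scheme.Modules.pushforward g).rightDerived p.toNat).obj (((ModSite.sheafHom (O := X.sheaf) F ⋙
          Scheme.Modules.pushforward f).rightDerived q.toNat).obj G)
          else (0 : Z.Modules))) := by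
  haveI : PreservesFiniteLimits (Scheme.Modules.pushforward g) := by
    haveI := (Scheme.Modules.pullbackPushforwardAdjunction g).rightAdjoint_preservesLimits
    infer_instance
  refine GrothSSInst.main' (C := ModSite.Mod X.sheaf) (C' := Y.Modules) (C'' := Z.Modules)
    (ModSite.sheafHom (O := X.sheaf) F ⋙ Scheme.Modules.pushforward f)
    (Scheme.Modules.pushforward g) ?_ G
    (fun n => ((ModSite.sheafHom (O := X.sheaf) F ⋙
      Scheme.Modules.pushforward (f ≫ g)).rightDerived n).obj G)
    (fun p q => ((Scheme.Modules.pushforward g).rightDerived p).obj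
      (((ModSite.sheafHom (O := X.sheaf) F ⋙ Scheme.Modules.pushforward f).rightDerived q).obj G))
    0 0 (isZero_zero _) (isZero_zero _) ?_ ?_
  · intro Q hQ q hq
    obtain ⟨n, rfl⟩ : ∃ n, q = n + 1 := ⟨q - 1, by omega⟩
    exact isZero_Rpush_succ g n _ (isTotallyAcyclic_pushforward f _
      (IHomAcyclic.isTotallyAcyclic_sheafHom X.sheaf F Q))
  · intro n
    exact ⟨(ExtDer.rightDerivedMapIso
      (Functor.associator _ _ _ ≪≫
        Functor.isoWhiskerLeft (ModSite.sheafHom (O := X.sheaf) F)
          (Scheme.Modules.pushforwardComp f g)) n).app G⟩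
  · intro p q
    exact ⟨Iso.refl _⟩

end Main

end Groth.Agent.Lib.Helper5.RelExtSS
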