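import Groth.Prelude.Def_Coh
import Groth.Agent.Lib.Helper5.RelExtSS
import Groth.Agent.Lib.Helper5.ModAcyclic
import Groth.Agent.Lib.Helper5.RDPost
import Groth.Agent.Lib.Helper5.PrecompDelta

/-!
# Higher direct images of modules versus abelian sheaves

* `isZero_RpushA_succ`: totally acyclic abelian sheaves are acyclic for direct images;
* `main`: the underlying abelian sheaf of `R^n f_* M` is `R^n f_*` of the underlying abelian sheaf.
-/

set_option autoImplicit false

universe u

open CategoryTheory Limits Opposite Abelian AlgebraicGeometry TopologicalSpace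

namespace Groth.Agent.Lib.Helper5.RpushAb

open Groth.Agent.Lib.Helper5.AbPull Groth.Agent.Lib.Helper22.ExtCompare
  Groth.Agent.Lib.Helper22 Groth.Agent.Lib.Helper22.DimShift

section Site

variable {C D : Type u} [SmallCategory C] [SmallCategory D]
    (J : GrothendieckTopology C) (K : GrothendieckTopology D) (u : D ⥤ C) [u.IsContinuous K J]
    [PreservesFiniteLimits (pushA J K u)]

/-- totally acyclic abelian sheaves are acyclic for the direct image -/
theorem isZero_RpushA_succ (q : ℕ) :
    ∀ (F : Sheaf J AddCommGrpCat.{u}), CohCx.IsTotallyAcyclic F →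
      IsZero (((pushA J K u).rightDerived (q + 1)).obj F) := by
  induction q with
  | zero =>
    intro F hF
    have hse := PushAcyclic.shortExact_map_push J K u (ExtCompare.injSC_shortExact F)
      (fun V => PushAcyclic.subsingleton_ext_freeSheaf J F hF (u.obj V) 0)
    haveI : Epi ((pushA J K u).map (ExtCompare.injSC F).g) := hse.epi_g
    exact (isZero_rightDerived_one_iff (pushA J K u) (ExtCompare.injSC F) (ExtCompare.injSC_shortExact F)).2 inferInstance
  | succ n ih =>
    intro F hF
    exact (isZero_rightDerived_succ_succ_iff (pushA J K u) (ExtCompare.injSC F) (ExtCompare.injSC_shortExact F) n).2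
      (ih _ (PushAcyclic.isTotallyAcyclic_injSC_X₃ J F hF))

end Site

section Sch

variable {X Y : Scheme.{u}} (f : X ⟶ Y)

/-- the forgetful functor to abelian sheaves -/
noncomputable abbrev TT (X : Scheme.{u}) :
    X.Modules ⥤ Sheaf (Opens.grothendieckTopology X) AddCommGrpCat.{u} :=
  SheafOfModules.toSheaf X.ringCatSheaf

/-- direct image commutes with the forgetful functors -/
noncomputable def pushIso : Scheme.Modules.pushforward f ⋙ TT Y ≅ TT X ⋙ Coh.pushAb f :=
  NatIso.ofComponents (fun _ => Iso.refl _) (by
    intro M N g
    rfl)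

/-- the direct image of abelian sheaves is left exact -/
instance preservesFiniteLimits_pushAb : PreservesFiniteLimits (Coh.pushAb f) := by
  have h : PreservesLimitsOfSize.{0, 0} (Coh.pushAb f) :=
    (PushAcyclic.adjA (Opens.grothendieckTopology X) (Opens.grothendieckTopology Y)
      (Opens.map f.base)).rightAdjoint_preservesLimits
  infer_instance

instance additive_TT (X : Scheme.{u}) : (TT X).Additive :=
  inferInstanceAs (SheafOfModules.toSheaf X.ringCatSheaf).Additive

instance preservesFiniteLimits_TT (X : Scheme.{u}) : PreservesFiniteLimits (TT X) :=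
  Groth.Agent.Lib.Helper17.ModSiteExact.toSheaf_preservesFiniteLimits X.ringCatSheaf

instance preservesFiniteColimits_TT (X : Scheme.{u}) : PreservesFiniteColimits (TT X) :=
  Groth.Agent.Lib.Helper17.ModSiteExact.toSheaf_preservesFiniteColimits X.ringCatSheaf

/-- **Higher direct images of modules and of abelian sheaves agree.** -/
theorem main [HasInjectiveResolutions X.Modules] (M : X.Modules) (n : ℕ) :
    Nonempty (Coh.toAb ((Coh.Rpush f n).obj M) ≅ (Coh.RpushAb f n).obj (Coh.toAb M)) := by
  haveI : EnoughInjectives X.Modules :=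
    Groth.Agent.S0485.result (Opens.grothendieckTopology X) X.ringCatSheaf
  haveI : PreservesFiniteLimits (Scheme.Modules.pushforward f) := by
    haveI := (Scheme.Modules.pullbackPushforwardAdjunction f).rightAdjoint_preservesLimits
    infer_instance
  haveI : (TT Y).PreservesHomology := Functor.preservesHomologyOfExact _
  have e1 : (Scheme.Modules.pushforward f).rightDerived n ⋙ TT Y ≅
      (Scheme.Modules.pushforward f ⋙ TT Y).rightDerived n :=
    (RDPost.rightDerivedPostIso (Scheme.Modules.pushforward f) (TT Y) n).symm
  have e2 : (Scheme.Modules.pushforward f ⋙ TT Y).rightDerived n ≅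
      (TT X ⋙ Coh.pushAb f).rightDerived n :=
    DimShift.rightDerivedIsoOfNatIso (pushIso f) n
  have e3 : (TT X ⋙ Coh.pushAb f).rightDerived n ≅ TT X ⋙ (Coh.pushAb f).rightDerived n :=
    PrecompDelta.rightDerivedPrecompIso (TT X) (Coh.pushAb f)
      (fun I hI q => isZero_RpushA_succ (Opens.grothendieckTopology X)
        (Opens.grothendieckTopology Y) (Opens.map f.base) q _
        (@ModAcyclic.isTotallyAcyclic_toSheaf _ _ _ X.ringCatSheaf I hI)) n
  exact ⟨(e1 ≪≫ e2 ≪≫ e3).app M⟩

end Sch

end Groth.Agent.Lib.Helper5.RpushAb
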