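import Groth.Agent.Lib.Helper5.SectSupp
import Groth.Agent.Lib.Helper20.ExtByZero
import Groth.Agent.Lib.Helper22.CohTop.Restrict
import Groth.Agent.Lib.Helper22.CohTop.InjFlasque

/-!
# Restriction to an open subset preserves injectives; the unit `F ⟶ j_* j⁻¹ F` is epi for flasque `F`
-/

set_option autoImplicit false
universe u
open CategoryTheory CategoryTheory.Limits TopologicalSpace Opposite

namespace Groth.Agent.Lib.Helper5.SectSupp

variable {X : TopCat.{u}} (U : Opens X)

/-- Restriction to an open preserves injective sheaves (its left adjoint, extension by zero, is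
exact). -/
instance restr_preservesInjectiveObjects :
    (CohTop.restrFunctor U).PreservesInjectiveObjects := by
  have adj := (U.sheafEquivOver (A := AddCommGrpCat.{u})).symm.toAdjunction.comp
    (Groth.Agent.Lib.Helper20.ExtByZero.extByZeroAdj (Opens.grothendieckTopology X) U)
  exact Functor.preservesInjectiveObjects_of_adjunction_of_preservesMonomorphisms adj

instance restr_preservesFiniteColimits :
    PreservesFiniteColimits (CohTop.restrFunctor U) := by
  have := (adjR U).leftAdjoint_preservesColimits
  infer_instance

/-- `j⁻¹` preserves injectives for the inclusion `j` of an open subset. -/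
instance pull_preservesInjectiveObjects :
    (CohTop.pull (CohCx.incl U)).PreservesInjectiveObjects where
  injective_obj {I} hI := by
    have : Injective ((CohTop.restrFunctor U).obj I) :=
      (restr_preservesInjectiveObjects U).injective_obj hI
    exact Injective.of_iso ((pullIso U).app I).symm this

lemma η_comp_pullIso_app (F : CohTop.Ab X) (V : Opens X) :
    ((η U F).hom.app (op V) ≫
      ((CohTop.push (CohCx.incl U)).map ((pullIso U).hom.app F)).hom.app (op V)) =
      F.obj.map ((IsOpenMap.adjunction (isOpenMap_incl U)).counit.app V).op := by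
  rw [← adjR_unit_app, ← unit_comp_pullIso]
  rfl

/-- For a flasque sheaf, the unit `F ⟶ j_* j⁻¹ F` is surjective on sections. -/
lemma η_app_surjective_of_flasque (F : CohTop.Ab X) [TopCat.Sheaf.IsFlasque F] (V : Opens X) :
    Function.Surjective ((η U F).hom.app (op V)).hom := by
  intro t
  have hiso : IsIso (((CohTop.push (CohCx.incl U)).map ((pullIso U).hom.app F)).hom.app (op V)) :=
    Functor.map_isIso (sheafToPresheaf _ _ ⋙ (evaluation _ _).obj (op V))
      ((CohTop.push (CohCx.incl U)).map ((pullIso U).hom.app F))
  have hinj := (AddCommGrpCat.mono_iff_injective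
    (((CohTop.push (CohCx.incl U)).map ((pullIso U).hom.app F)).hom.app (op V))).1 inferInstance
  have hsurj := (AddCommGrpCat.epi_iff_surjective
    (F.obj.map ((IsOpenMap.adjunction (isOpenMap_incl U)).counit.app V).op)).1
      (TopCat.Presheaf.IsFlasque.epi _)
  obtain ⟨s, hs⟩ := hsurj
    ((((CohTop.push (CohCx.incl U)).map ((pullIso U).hom.app F)).hom.app (op V)).hom t)
  refine ⟨s, hinj ?_⟩
  rw [← hs, ← η_comp_pullIso_app]
  rfl

instance epi_η_of_flasque (F : CohTop.Ab X) [TopCat.Sheaf.IsFlasque F] : Epi (η U F) :=
  epi_of_app_surjective _ (η_app_surjective_of_flasque U F)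

/-- `Γ_Z F ⟶ F` as a natural transformation. -/
noncomputable def ιN : LocCohZ.sectSuppF U ⟶ 𝟭 (CohTop.Ab X) where
  app F := ι U F
  naturality _ _ φ := sectSuppF_map_ι U φ

/-- `0 ⟶ Γ_Z F ⟶ F ⟶ j_* j⁻¹ F ⟶ 0` is short exact for flasque `F`. -/
lemma shortExact_of_flasque (F : CohTop.Ab X) [TopCat.Sheaf.IsFlasque F] :
    (ShortComplex.mk (ι U F) (η U F) (ι_comp_η U F)).ShortExact where
  exact := ShortComplex.exact_of_f_is_kernel _ (kernelIsKernel (η U F))

end Groth.Agent.Lib.Helper5.SectSupp
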