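import Groth.Agent.Lib.Helper5.BasicOpenAffine
import Groth.Agent.Lib.Helper5.RpushAb
import Groth.Agent.Lib.Helper5.HZKoszul
import Groth.Agent.Lib.Helper22.CohTop.LerayAcyclicBase
import Groth.Agent.Lib.Helper22.CohTop.RpushRestrict
import Groth.Agent.Lib.Helper22.Cech.SchemeLeray
import Groth.Agent.S0030

/-!
# Cohomology over the preimage of an affine open and higher direct images

* `nonempty_HHon_addEquiv_sections`: for `f : X ⟶ Y` quasi-compact quasi-separated, `M`
  quasi-coherent and `V ⊆ Y` affine open, `H^q(f⁻¹ V, M) ≃+ Γ(V, R^q f_* M)`;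
* `isAffineHom_of_isZero`: the relative form of Serre's criterion.
-/

set_option autoImplicit false
set_option linter.unusedSectionVars false

universe u

open CategoryTheory CategoryTheory.Limits Opposite TopologicalSpace AlgebraicGeometry

namespace Groth.Agent.Lib.Helper5.RelSerre

open Groth.Agent.Lib.Helper29 Groth.Agent.Lib.Helper22

variable {X Y : Scheme.{u}} (f : X ⟶ Y)

section Leray

variable [QuasiCompact f] [QuasiSeparated f] (M : X.Modules) [M.IsQuasicoherent]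
  (V : Y.Opens) (hV : IsAffineOpen V)

include hV in
lemma baseAcyclic : CohTop.BaseAcyclic (CohTop.restrictMap f.base V)
    (CohTop.restr (Coh.toAb M) (f ⁻¹ᵁ V)) := by
  haveI : EnoughInjectives X.Modules :=
    Groth.Agent.S0485.result (Opens.grothendieckTopology X) X.ringCatSheaf
  haveI : HasInjectiveResolutions X.Modules := inferInstance
  intro p q x
  obtain ⟨e1⟩ := CohTop.nonempty_restr_Rpush_iso f.base V (Coh.toAb M) q
  obtain ⟨e2⟩ := Groth.Agent.Lib.Helper5.RpushAb.main f M q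
  haveI : ((Coh.Rpush f q).obj M).IsQuasicoherent := Groth.Agent.S0030.result f M q
  let e3 := (CohTop.restrFunctor V).mapIso e2 ≪≫ e1
  refine CohTop.ext_eq_zero_of_iso e3 (p + 1) ?_ x
  intro y
  obtain ⟨e4⟩ := CohTop.nonempty_HU_addEquiv_H_restr (X := Y.carrier) V
    (Coh.toAb ((Coh.Rpush f q).obj M)) (p + 1)
  have hs := Cech.subsingleton_HU_succ_of_isAffineOpen Y ((Coh.Rpush f q).obj M) V hV p
  have hs2 : Subsingleton (CohTop.H (CohTop.restr (Coh.toAb ((Coh.Rpush f q).obj M)) V) (p + 1)) :=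
    e4.symm.toEquiv.subsingleton
  exact hs2.elim y 0

include hV in
/-- **Local Leray**: `H^q(f⁻¹ V, M) ≃+ Γ(V, R^q f_* M)` for `V` affine. -/
theorem nonempty_HHon_addEquiv_sections (q : ℕ) :
    Nonempty (Coh.HHon X M (f ⁻¹ᵁ V) q ≃+
      ((Coh.RpushAb f q).obj (Coh.toAb M)).obj.obj (op V)) := by
  obtain ⟨e1⟩ := CohTop.nonempty_H_addEquiv_sections_Rpush (CohTop.restrictMap f.base V) q
    (CohTop.restr (Coh.toAb M) (f ⁻¹ᵁ V)) (baseAcyclic f M V hV)
  obtain ⟨e2⟩ := CohTop.nonempty_restr_Rpush_iso f.base V (Coh.toAb M) q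
  have e3 := CohTop.sectionsTopEquiv e2.symm
  have e0 : CohTop.restr (Coh.toAb M) (f ⁻¹ᵁ V) ≅ Coh.toAb (M.restrict (f ⁻¹ᵁ V).ι) :=
    (fullyFaithfulSheafToPresheaf _ _).preimageIso (Iso.refl _)
  have h : (CohTop.ιU V).obj ⊤ = V := Opens.isOpenEmbedding_obj_top V
  have e4 : (CohTop.restr ((Coh.RpushAb f q).obj (Coh.toAb M)) V).obj.obj (op ⊤) ≃+
      ((Coh.RpushAb f q).obj (Coh.toAb M)).obj.obj (op V) :=
    (((Coh.RpushAb f q).obj (Coh.toAb M)).obj.mapIso
      (eqToIso (congrArg op h))).addCommGroupIsoToAddEquiv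
  exact ⟨((Groth.Agent.Lib.Helper5.HZKoszul.hEquivOfIso e0 q).symm.trans e1).trans (e3.trans e4)⟩

end Leray

section Criterion

variable [QuasiCompact f] [QuasiSeparatedSpace X]

/-- **Relative Serre criterion.** -/
theorem isAffineHom_of_isZero
    (h : ∀ (I : X.Modules) (i : I ⟶ Coh.structureModule X), Mono i → Coh.IsQCoh I →
      IsZero ((Coh.RpushAb f 1).obj (Coh.toAb I))) : IsAffineHom f := by
  refine ⟨fun V hV => ?_⟩
  have hc : IsCompact ((f ⁻¹ᵁ V : X.Opens) : Set X) :=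
    QuasiCompact.isCompact_preimage (f := f) _ V.isOpen hV.isCompact
  haveI : CompactSpace (f ⁻¹ᵁ V : Scheme.{u}) := isCompact_iff_compactSpace.1 hc
  refine Groth.Agent.S0009.result (f ⁻¹ᵁ V : Scheme.{u}) (fun I' i' hmono hq => ?_)
  have := hmono
  have : I'.IsQuasicoherent := hq
  have : (Coh.structureModule X).IsQuasicoherent := QCoh.isQuasicoherent_unitM X
  have : (Coh.structureModule (f ⁻¹ᵁ V : Scheme.{u})).IsQuasicoherent :=
    QCoh.isQuasicoherent_unitM _
  have : (cokernel i').IsQuasicoherent := inferInstance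
  have : ((Scheme.Modules.pushforward (f ⁻¹ᵁ V).ι).obj (cokernel i')).IsQuasicoherent :=
    QCoh.isQuasicoherent_pushforward_of_qcqs _ _
  have hJ : (BasicOpenAffine.J (f ⁻¹ᵁ V) i').IsQuasicoherent := inferInstance
  have hz := h (BasicOpenAffine.J (f ⁻¹ᵁ V) i') (kernel.ι _) inferInstance hJ
  obtain ⟨e⟩ := nonempty_HHon_addEquiv_sections f (BasicOpenAffine.J (f ⁻¹ᵁ V) i') V hV 1
  have hs0 : Subsingleton
      (((Coh.RpushAb f 1).obj (Coh.toAb (BasicOpenAffine.J (f ⁻¹ᵁ V) i'))).obj.obj (op V)) := by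
    have hz2 : IsZero (((sheafToPresheaf _ _ ⋙ (evaluation _ _).obj (op V)).obj
        ((Coh.RpushAb f 1).obj (Coh.toAb (BasicOpenAffine.J (f ⁻¹ᵁ V) i'))))) :=
      Functor.map_isZero _ hz
    exact AddCommGrpCat.subsingleton_of_isZero hz2
  have hs3 : Subsingleton (Coh.HHon X (BasicOpenAffine.J (f ⁻¹ᵁ V) i') (f ⁻¹ᵁ V) 1) :=
    e.toEquiv.subsingleton
  let κ := BasicOpenAffine.restrictJIso (f ⁻¹ᵁ V) i'
  let T := SheafOfModules.toSheaf (f ⁻¹ᵁ V : Scheme.{u}).ringCatSheaf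
  have hinj : Function.Injective (Sheaf.H.map (T.map κ.inv) 1) := by
    intro a b hab
    have hid : T.map κ.inv ≫ T.map κ.hom = 𝟙 _ := (T.mapIso κ).inv_hom_id
    have := congrArg (Sheaf.H.map (T.map κ.hom) 1) hab
    rw [← Sheaf.H.map_comp_apply, ← Sheaf.H.map_comp_apply, hid, Sheaf.H.map_id_apply,
      Sheaf.H.map_id_apply] at this
    exact this
  exact ⟨fun a b => hinj (hs3.elim _ _)⟩

end Criterion

end Groth.Agent.Lib.Helper5.RelSerre
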