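import Mathlib

/-!
# Elementwise description of the homology of a complex of abelian groups (helper5)

Generalisation of `Helper22.AbHomology` to an arbitrary complex shape; cocycle conditions are stated
in the form `∀ k, K.d j k z = 0`.
-/

set_option autoImplicit false

universe w

open CategoryTheory CategoryTheory.Limits

namespace Groth.Agent.Lib.Helper5.AbCls

variable {ι : Type*} {c : ComplexShape ι} (K : HomologicalComplex AddCommGrpCat.{w} c)

lemma exists_cycle (j : ι) (z : K.X j) (hz : ∀ k, K.d j k z = 0) :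
    ∃ y : K.cycles j, K.iCycles j y = z := by
  have hS : (ShortComplex.mk (K.iCycles j) (K.d j (c.next j)) (K.iCycles_d j (c.next j))).Exact :=
    ShortComplex.exact_of_f_is_kernel _ (K.cyclesIsKernel j (c.next j) rfl)
  exact (ShortComplex.ab_exact_iff _).1 hS z (hz _)

lemma iCycles_injective (j : ι) : Function.Injective (K.iCycles j) :=
  (AddCommGrpCat.mono_iff_injective _).1 inferInstance

/-- The cycle attached to a cocycle. -/
noncomputable def cyc (j : ι) (z : K.X j) (hz : ∀ k, K.d j k z = 0) : K.cycles j :=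
  (exists_cycle K j z hz).choose

lemma iCycles_cyc (j : ι) (z : K.X j) (hz : ∀ k, K.d j k z = 0) :
    K.iCycles j (cyc K j z hz) = z :=
  (exists_cycle K j z hz).choose_spec

lemma d_iCycles (j : ι) (y : K.cycles j) (k : ι) : K.d j k (K.iCycles j y) = 0 := by
  have h := K.iCycles_d j k
  exact congrArg (fun φ => φ y) (congrArg AddCommGrpCat.Hom.hom h)

lemma cyc_iCycles (j : ι) (y : K.cycles j) :
    cyc K j (K.iCycles j y) (d_iCycles K j y) = y :=
  iCycles_injective K j (iCycles_cyc K j _ _)

/-- The homology class of a cocycle. -/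
noncomputable def cls (j : ι) (z : K.X j) (hz : ∀ k, K.d j k z = 0) : K.homology j :=
  K.homologyπ j (cyc K j z hz)

lemma exists_cls (j : ι) (x : K.homology j) :
    ∃ (z : K.X j) (hz : ∀ k, K.d j k z = 0), cls K j z hz = x := by
  obtain ⟨y, hy⟩ := (AddCommGrpCat.epi_iff_surjective (K.homologyπ j)).1 inferInstance x
  refine ⟨K.iCycles j y, d_iCycles K j y, ?_⟩
  rw [cls, cyc_iCycles, hy]

lemma cls_congr (j : ι) (z z' : K.X j) (hz : ∀ k, K.d j k z = 0) (h : z = z') :
    cls K j z hz = cls K j z' (by subst h; exact hz) := by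
  subst h
  rfl

lemma cls_add (j : ι) (z z' : K.X j) (hz : ∀ k, K.d j k z = 0) (hz' : ∀ k, K.d j k z' = 0) :
    cls K j z hz + cls K j z' hz' =
      cls K j (z + z') (fun k => by rw [map_add, hz, hz', add_zero]) := by
  rw [cls, cls, cls, ← map_add]
  congr 1
  apply iCycles_injective K j
  rw [map_add, iCycles_cyc, iCycles_cyc, iCycles_cyc]

lemma cls_sub (j : ι) (z z' : K.X j) (hz : ∀ k, K.d j k z = 0) (hz' : ∀ k, K.d j k z' = 0) :
    cls K j z hz - cls K j z' hz' =
      cls K j (z - z') (fun k => by rw [map_sub, hz, hz', sub_zero]) := by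
  rw [cls, cls, cls, ← map_sub]
  congr 1
  apply iCycles_injective K j
  rw [map_sub, iCycles_cyc, iCycles_cyc, iCycles_cyc]

lemma cls_zero (j : ι) : cls K j 0 (fun _ => map_zero _) = 0 := by
  have h : cyc K j 0 (fun _ => map_zero _) = 0 := by
    apply iCycles_injective K j
    rw [iCycles_cyc, map_zero]
  rw [cls, h, map_zero]

lemma cls_neg (j : ι) (z : K.X j) (hz : ∀ k, K.d j k z = 0) :
    -cls K j z hz = cls K j (-z) (fun k => by rw [map_neg, hz, neg_zero]) := by
  rw [cls, cls, ← map_neg]
  congr 1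
  apply iCycles_injective K j
  rw [map_neg, iCycles_cyc, iCycles_cyc]

lemma homologyπ_eq_zero_iff (i j : ι) (hi : c.prev j = i) (y : K.cycles j) :
    K.homologyπ j y = 0 ↔ ∃ w : K.X i, K.toCycles i j w = y := by
  have hS : (ShortComplex.mk (K.toCycles i j) (K.homologyπ j)
      (K.toCycles_comp_homologyπ i j)).Exact :=
    ShortComplex.exact_of_g_is_cokernel _ (K.homologyIsCokernel i j hi)
  constructor
  · intro h
    exact (ShortComplex.ab_exact_iff _).1 hS y h
  · rintro ⟨w, rfl⟩
    have h := K.toCycles_comp_homologyπ i j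
    exact congrArg (fun φ => φ w) (congrArg AddCommGrpCat.Hom.hom h)

lemma toCycles_apply (i j : ι) (w : K.X i) : K.iCycles j (K.toCycles i j w) = K.d i j w := by
  have h := K.toCycles_i i j
  exact congrArg (fun φ => φ w) (congrArg AddCommGrpCat.Hom.hom h)

/-- A class vanishes iff the cocycle is a coboundary. -/
lemma cls_eq_zero_iff (i j : ι) (hi : c.prev j = i) (z : K.X j) (hz : ∀ k, K.d j k z = 0) :
    cls K j z hz = 0 ↔ ∃ w : K.X i, K.d i j w = z := by
  rw [cls, homologyπ_eq_zero_iff K i j hi]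
  constructor
  · rintro ⟨w, hw⟩
    refine ⟨w, ?_⟩
    rw [← toCycles_apply, hw, iCycles_cyc]
  · rintro ⟨w, hw⟩
    refine ⟨w, ?_⟩
    apply iCycles_injective K j
    rw [toCycles_apply, iCycles_cyc, hw]

variable {K} {L : HomologicalComplex AddCommGrpCat.{w} c} (φ : K ⟶ L)

lemma d_map (j : ι) (z : K.X j) (hz : ∀ k, K.d j k z = 0) (k : ι) :
    L.d j k (φ.f j z) = 0 := by
  have h := φ.comm j k
  have h2 : L.d j k (φ.f j z) = φ.f k (K.d j k z) :=
    congrArg (fun ψ => ψ z) (congrArg AddCommGrpCat.Hom.hom h)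
  rw [h2, hz, map_zero]

/-- Functoriality of classes. -/
lemma map_cls (j : ι) (z : K.X j) (hz : ∀ k, K.d j k z = 0) :
    HomologicalComplex.homologyMap φ j (cls K j z hz) =
      cls L j (φ.f j z) (d_map φ j z hz) := by
  have h := HomologicalComplex.homologyπ_naturality φ j
  have h2 : HomologicalComplex.homologyMap φ j (K.homologyπ j (cyc K j z hz)) =
      L.homologyπ j (HomologicalComplex.cyclesMap φ j (cyc K j z hz)) :=
    congrArg (fun ψ => ψ (cyc K j z hz)) (congrArg AddCommGrpCat.Hom.hom h)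
  rw [cls, h2, cls]
  congr 1
  apply iCycles_injective L j
  rw [iCycles_cyc]
  have h3 := HomologicalComplex.cyclesMap_i φ j
  have h4 : L.iCycles j (HomologicalComplex.cyclesMap φ j (cyc K j z hz)) =
      φ.f j (K.iCycles j (cyc K j z hz)) :=
    congrArg (fun ψ => ψ (cyc K j z hz)) (congrArg AddCommGrpCat.Hom.hom h3)
  rw [h4, iCycles_cyc]

end Groth.Agent.Lib.Helper5.AbCls
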