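import Mathlib
import Groth.Agent.Lib.Helper22.EGA7.CechGen

/-!
# Contracting homotopy for the Čech complex over a thin category (helper5)

`C` a thin category with finite products, `U : ι → C`, `P : Cᵒᵖ ⥤ 𝒜` a presheaf with values in a
preadditive category with products, `j : ι` an index such that `P` inverts the projections
`U_j × U_σ ⟶ U_σ`.  Then the (Mathlib, ordered, all tuples) Čech complex of `P` has a contracting
homotopy `hh`; with a cone `β : A ⟶ P` whose component at `U_j` is invertible the augmented complex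
is contractible as well.
-/

set_option autoImplicit false
set_option linter.unusedSectionVars false

universe v₁ u₁ u u'

open CategoryTheory CategoryTheory.Limits Opposite

namespace Groth.Agent.Lib.Helper5.CechContract

open Groth.Agent.Lib.Helper22.EGA7

variable {C : Type u'} [Category.{u} C] [Quiver.IsThin C] [HasFiniteProducts C] {ι : Type u}
  (U : ι → C)
variable {𝒜 : Type u₁} [Category.{v₁} 𝒜] [Preadditive 𝒜] [HasProducts.{u} 𝒜]
variable (P : Cᵒᵖ ⥤ 𝒜)

/-- lift into a Čech term -/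
noncomputable def liftg (n : ℕ) {Z : 𝒜}
    (f : ∀ σ : Fin (n + 1) → ι, Z ⟶ P.obj (op (Uσg U σ))) : Z ⟶ (CKg U P).X n :=
  Pi.lift f

@[reassoc (attr := simp)]
lemma liftg_projg (n : ℕ) {Z : 𝒜}
    (f : ∀ σ : Fin (n + 1) → ι, Z ⟶ P.obj (op (Uσg U σ))) (σ : Fin (n + 1) → ι) :
    liftg U P n f ≫ projg U P n σ = f σ :=
  Pi.lift_π f σ

lemma proj_congr {n : ℕ} {τ τ' : Fin (n + 1) → ι} (e : τ = τ') {W : C} (f : W ⟶ Uσg U τ)
    (f' : W ⟶ Uσg U τ') :
    projg U P n τ ≫ P.map f.op = projg U P n τ' ≫ P.map f'.op := by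
  subst e
  rw [Subsingleton.elim f f']

variable (j : ι)

/-- forget the first factor `U_j` -/
noncomputable def prj {n : ℕ} (σ : Fin (n + 1) → ι) :
    Uσg U (Fin.cons j σ : Fin (n + 2) → ι) ⟶ Uσg U σ :=
  Pi.lift fun k => Pi.π (U ∘ (Fin.cons j σ : Fin (n + 2) → ι)) k.succ ≫ eqToHom (by simp)

section contraction

variable (hP : ∀ (n : ℕ) (σ : Fin (n + 1) → ι), IsIso (P.map (prj U j σ).op))

/-- the inverse of `P(U_σ) → P(U_j × U_σ)` -/
noncomputable def rinv {n : ℕ} (σ : Fin (n + 1) → ι) :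
    P.obj (op (Uσg U (Fin.cons j σ : Fin (n + 2) → ι))) ⟶ P.obj (op (Uσg U σ)) :=
  @inv _ _ _ _ (P.map (prj U j σ).op) (hP n σ)

@[reassoc (attr := simp)]
lemma r_rinv {n : ℕ} (σ : Fin (n + 1) → ι) :
    P.map (prj U j σ).op ≫ rinv U P j hP σ = 𝟙 _ :=
  @IsIso.hom_inv_id _ _ _ _ (P.map (prj U j σ).op) (hP n σ)

@[reassoc (attr := simp)]
lemma rinv_r {n : ℕ} (σ : Fin (n + 1) → ι) :
    rinv U P j hP σ ≫ P.map (prj U j σ).op = 𝟙 _ :=
  @IsIso.inv_hom_id _ _ _ _ (P.map (prj U j σ).op) (hP n σ)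

include hP in
lemma mono_r {n : ℕ} (σ : Fin (n + 1) → ι) : Mono (P.map (prj U j σ).op) :=
  haveI := hP n σ
  inferInstance

/-- the contracting homotopy -/
noncomputable def hh (n : ℕ) : (CKg U P).X (n + 1) ⟶ (CKg U P).X n :=
  liftg U P n fun σ => projg U P (n + 1) (Fin.cons j σ) ≫ rinv U P j hP σ

@[reassoc (attr := simp)]
lemma hh_projg (n : ℕ) (σ : Fin (n + 1) → ι) :
    hh U P j hP n ≫ projg U P n σ = projg U P (n + 1) (Fin.cons j σ) ≫ rinv U P j hP σ :=
  liftg_projg U P n _ σ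

lemma lemA {n : ℕ} (σ : Fin (n + 1) → ι) :
    projg U P n ((Fin.cons j σ : Fin (n + 2) → ι) ∘ (0 : Fin (n + 2)).succAbove) ≫
      P.map (faceg U (Fin.cons j σ : Fin (n + 2) → ι) 0).op ≫ rinv U P j hP σ =
    projg U P n σ := by
  have e : (Fin.cons j σ : Fin (n + 2) → ι) ∘ (0 : Fin (n + 2)).succAbove = σ := by
    funext k
    simp
  rw [← Category.assoc, proj_congr U P e _ (prj U j σ), Category.assoc, r_rinv, Category.comp_id]

lemma lemB {n : ℕ} (σ : Fin (n + 2) → ι) (l : Fin (n + 2)) :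
    projg U P (n + 1) ((Fin.cons j σ : Fin (n + 3) → ι) ∘ l.succ.succAbove) ≫
      P.map (faceg U (Fin.cons j σ : Fin (n + 3) → ι) l.succ).op ≫ rinv U P j hP σ =
    projg U P (n + 1) (Fin.cons j (σ ∘ l.succAbove)) ≫ rinv U P j hP (σ ∘ l.succAbove) ≫
      P.map (faceg U σ l).op := by
  have e : (Fin.cons j σ : Fin (n + 3) → ι) ∘ l.succ.succAbove =
      (Fin.cons j (σ ∘ l.succAbove) : Fin (n + 2) → ι) := by
    funext k
    refine Fin.cases ?_ (fun k => ?_) k
    · simp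
    · simp
  let g : Uσg U (Fin.cons j σ : Fin (n + 3) → ι) ⟶
      Uσg U (Fin.cons j (σ ∘ l.succAbove) : Fin (n + 2) → ι) :=
    faceg U (Fin.cons j σ : Fin (n + 3) → ι) l.succ ≫ eqToHom (by rw [e])
  haveI := mono_r U P j hP σ
  rw [← cancel_mono (P.map (prj U j σ).op)]
  simp only [Category.assoc, rinv_r, Category.comp_id]
  have h1 : P.map (faceg U σ l).op ≫ P.map (prj U j σ).op =
      P.map (prj U j (σ ∘ l.succAbove)).op ≫ P.map g.op := by
    rw [← P.map_comp, ← P.map_comp, ← op_comp, ← op_comp]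
    exact congrArg (fun φ => P.map (Quiver.Hom.op φ)) (Subsingleton.elim _ _)
  rw [h1, rinv_r_assoc]
  exact proj_congr U P e _ g

/-- **The contracting homotopy identity in positive degrees.** -/
theorem homotopy_succ (n : ℕ) :
    (CKg U P).d (n + 1) (n + 2) ≫ hh U P j hP (n + 1) + hh U P j hP n ≫ (CKg U P).d n (n + 1) =
      𝟙 _ := by
  refine hom_ext_projg U P _ _ fun σ => ?_
  rw [Preadditive.add_comp, Category.assoc, Category.assoc, Category.id_comp]
  have h1 : (CKg U P).d (n + 1) (n + 2) ≫ hh U P j hP (n + 1) ≫ projg U P (n + 1) σ =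
      projg U P (n + 1) σ + ∑ l : Fin (n + 2), (-((-1 : ℤ) ^ (l : ℕ))) •
        (projg U P (n + 1) (Fin.cons j (σ ∘ l.succAbove)) ≫ rinv U P j hP (σ ∘ l.succAbove) ≫
          P.map (faceg U σ l).op) := by
    rw [hh_projg, ← Category.assoc, d_projg, sum_zsmul_comp', Fin.sum_univ_succ]
    congr 1
    · rw [Category.assoc, lemA U P j hP σ]
      simp
    · refine Finset.sum_congr rfl fun l _ => ?_
      rw [Category.assoc, lemB U P j hP σ l, Fin.val_succ, pow_succ]
      simp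
  have h2 : hh U P j hP n ≫ (CKg U P).d n (n + 1) ≫ projg U P (n + 1) σ =
      ∑ l : Fin (n + 2), ((-1 : ℤ) ^ (l : ℕ)) •
        (projg U P (n + 1) (Fin.cons j (σ ∘ l.succAbove)) ≫ rinv U P j hP (σ ∘ l.succAbove) ≫
          P.map (faceg U σ l).op) := by
    rw [d_projg, comp_sum_zsmul']
    refine Finset.sum_congr rfl fun l _ => ?_
    rw [hh_projg_assoc]
  rw [h1, h2, add_assoc, ← Finset.sum_add_distrib]
  simp

end contraction

section augmentation

variable {A : 𝒜} (β : (Functor.const Cᵒᵖ).obj A ⟶ P)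

lemma β_map {Z Z' : C} (f : Z' ⟶ Z) : β.app (op Z) ≫ P.map f.op = β.app (op Z') := by
  have h := β.naturality f.op
  simp only [Functor.const_obj_obj, Functor.const_obj_map, Category.id_comp] at h
  exact h.symm

/-- the augmentation `A ⟶ C⁰` -/
noncomputable def augg : A ⟶ (CKg U P).X 0 :=
  liftg U P 0 fun σ => β.app (op (Uσg U σ))

@[reassoc (attr := simp)]
lemma augg_projg (σ : Fin 1 → ι) : augg U P β ≫ projg U P 0 σ = β.app (op (Uσg U σ)) :=
  liftg_projg U P 0 _ σ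

theorem augg_d : augg U P β ≫ (CKg U P).d 0 1 = 0 := by
  refine hom_ext_projg U P (n := 1) _ _ fun τ => ?_
  have hd : (CKg U P).d 0 1 ≫ projg U P 1 τ =
      ∑ k : Fin 2, (-1 : ℤ) ^ (k : ℕ) •
        (projg U P 0 (τ ∘ k.succAbove) ≫ P.map (faceg U τ k).op) := d_projg U P (n := 0) τ
  rw [Category.assoc, hd, comp_sum_zsmul', zero_comp, Fin.sum_univ_two, augg_projg_assoc,
    augg_projg_assoc, β_map, β_map]
  simp

variable (hP : ∀ (n : ℕ) (σ : Fin (n + 1) → ι), IsIso (P.map (prj U j σ).op))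
  (hβ : IsIso (β.app (op (Uσg U (fun _ : Fin 1 => j)))))

/-- the inverse of `A → P(U_j)` -/
noncomputable def βinv : P.obj (op (Uσg U (fun _ : Fin 1 => j))) ⟶ A :=
  @inv _ _ _ _ (β.app (op (Uσg U (fun _ : Fin 1 => j)))) hβ

@[reassoc (attr := simp)]
lemma βinv_β : βinv U P j β hβ ≫ β.app (op (Uσg U (fun _ : Fin 1 => j))) = 𝟙 _ :=
  @IsIso.inv_hom_id _ _ _ _ (β.app (op (Uσg U (fun _ : Fin 1 => j)))) hβ

@[reassoc (attr := simp)]
lemma β_βinv : β.app (op (Uσg U (fun _ : Fin 1 => j))) ≫ βinv U P j β hβ = 𝟙 A :=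
  @IsIso.hom_inv_id _ _ _ _ (β.app (op (Uσg U (fun _ : Fin 1 => j)))) hβ

/-- the contraction in degree `0` -/
noncomputable def h0 : (CKg U P).X 0 ⟶ A :=
  projg U P 0 (fun _ => j) ≫ βinv U P j β hβ

lemma augg_h0 : augg U P β ≫ h0 U P j β hβ = 𝟙 A := by
  unfold h0
  rw [augg_projg_assoc, β_βinv]

lemma lemC (σ : Fin 1 → ι) :
    projg U P 0 ((Fin.cons j σ : Fin 2 → ι) ∘ (1 : Fin 2).succAbove) ≫
      P.map (faceg U (Fin.cons j σ : Fin 2 → ι) 1).op ≫ rinv U P j hP σ =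
    projg U P 0 (fun _ => j) ≫ βinv U P j β hβ ≫ β.app (op (Uσg U σ)) := by
  have e : (Fin.cons j σ : Fin 2 → ι) ∘ (1 : Fin 2).succAbove = (fun _ : Fin 1 => j) := by
    funext k
    have hk : k = 0 := Subsingleton.elim _ _
    subst hk
    show (Fin.cons j σ : Fin 2 → ι) ((1 : Fin 2).succAbove 0) = j
    rw [show (1 : Fin 2).succAbove 0 = 0 from by decide]
    rfl
  let g : Uσg U (Fin.cons j σ : Fin 2 → ι) ⟶ Uσg U (fun _ : Fin 1 => j) :=
    faceg U (Fin.cons j σ : Fin 2 → ι) 1 ≫ eqToHom (by rw [e])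
  haveI := mono_r U P j hP σ
  rw [← cancel_mono (P.map (prj U j σ).op)]
  simp only [Category.assoc, rinv_r, Category.comp_id]
  rw [β_map, ← β_map P β g, βinv_β_assoc]
  exact proj_congr U P e _ g

/-- **The contracting homotopy identity in degree `0`.** -/
theorem homotopy_zero :
    (CKg U P).d 0 1 ≫ hh U P j hP 0 + h0 U P j β hβ ≫ augg U P β = 𝟙 _ := by
  refine hom_ext_projg U P (n := 0) _ _ fun σ => ?_
  rw [Preadditive.add_comp, Category.assoc, Category.assoc, Category.id_comp]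
  have hd : (CKg U P).d 0 1 ≫ projg U P 1 (Fin.cons j σ : Fin 2 → ι) =
      ∑ k : Fin 2, (-1 : ℤ) ^ (k : ℕ) •
        (projg U P 0 ((Fin.cons j σ : Fin 2 → ι) ∘ k.succAbove) ≫
          P.map (faceg U (Fin.cons j σ : Fin 2 → ι) k).op) :=
    d_projg U P (n := 0) (Fin.cons j σ : Fin 2 → ι)
  have h1 : (CKg U P).d 0 1 ≫ hh U P j hP 0 ≫ projg U P 0 σ =
      projg U P 0 σ - projg U P 0 (fun _ => j) ≫ βinv U P j β hβ ≫ β.app (op (Uσg U σ)) := by
    rw [hh_projg, ← Category.assoc, hd, sum_zsmul_comp', Fin.sum_univ_two, Category.assoc,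
      Category.assoc, lemA U P j hP σ, lemC U P j β hP hβ σ]
    simp [sub_eq_add_neg]
  have h2 : h0 U P j β hβ ≫ augg U P β ≫ projg U P 0 σ =
      projg U P 0 (fun _ => j) ≫ βinv U P j β hβ ≫ β.app (op (Uσg U σ)) := by
    unfold h0
    rw [augg_projg, Category.assoc]
  rw [h1, h2, sub_add_cancel]

end augmentation

section Ab

variable (Q : Cᵒᵖ ⥤ AddCommGrpCat.{u}) {A : AddCommGrpCat.{u}}
  (β : (Functor.const Cᵒᵖ).obj A ⟶ Q)
  (hQ : ∀ (n : ℕ) (σ : Fin (n + 1) → ι), IsIso (Q.map (prj U j σ).op))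
  (hβ : IsIso (β.app (op (Uσg U (fun _ : Fin 1 => j)))))

include j hQ in
lemma ab_exact_succ (n : ℕ) (t : (CKg U Q).X (n + 1))
    (ht : (CKg U Q).d (n + 1) (n + 2) t = 0) :
    ∃ u : (CKg U Q).X n, (CKg U Q).d n (n + 1) u = t := by
  refine ⟨hh U Q j hQ n t, ?_⟩
  have h := ConcreteCategory.congr_hom (homotopy_succ U Q j hQ n) t
  rw [AddCommGrpCat.hom_add_apply, ConcreteCategory.comp_apply, ConcreteCategory.comp_apply, ht,
    map_zero, zero_add, ConcreteCategory.id_apply] at h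
  exact h

include j hQ hβ in
lemma ab_exact_zero (t : (CKg U Q).X 0) (ht : (CKg U Q).d 0 1 t = 0) :
    ∃ u : A, augg U Q β u = t := by
  refine ⟨h0 U Q j β hβ t, ?_⟩
  have h := ConcreteCategory.congr_hom (homotopy_zero U Q j β hQ hβ) t
  rw [AddCommGrpCat.hom_add_apply, ConcreteCategory.comp_apply, ConcreteCategory.comp_apply, ht,
    map_zero, zero_add, ConcreteCategory.id_apply] at h
  exact h

end Ab

end Groth.Agent.Lib.Helper5.CechContract
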