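import Mathlib
import Groth.Agent.Lib.Helper22.EGA7.CechGen
import Groth.Agent.Lib.Helper5.CechContract
import Groth.Agent.Lib.Helper5.AbCls

/-!
# Vanishing of the ordered Čech cohomology above the cardinality of the cover (helper5)

`X` a topological space, `P` a presheaf of abelian groups, `U : ι → Opens X` a finite family.  The cohomology of the
full (ordered, all tuples) Čech complex of `P` vanishes in degrees `q ≥ card ι`.

Proof by induction on `card ι`, without the alternating complex.  Choose `a : ι`, let `κ = ι \ {a}`.  The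
restriction `r : C(U; P) → C(U|κ; P)` is a degreewise split epimorphism of complexes.  Let `P_a(W) = P(W ∩ U_a)`
and `θ : P → P_a` the restriction.  Then `C(U; P_a)` is acyclic in positive degrees (contracting homotopy of
`CechContract`), `θ` is bijective on the kernels of `r` (a tuple hitting `a` has `U_σ ⊆ U_a`), and the induction
hypothesis applies to `C(U|κ; P)` and `C(U|κ; P_a)`.  A diagram chase gives the claim.
-/

set_option autoImplicit false
set_option linter.unusedSectionVars false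
set_option linter.style.haveILetI false

universe u

open CategoryTheory CategoryTheory.Limits Opposite TopologicalSpace

namespace Groth.Agent.Lib.Helper5.CechCard

open Groth.Agent.Lib.Helper22.EGA7 Groth.Agent.Lib.Helper5.CechContract

section abstract

/-- acyclicity at a degree, elementwise -/
def Acyc (K : CochainComplex AddCommGrpCat.{u} ℕ) : ℕ → Prop
  | 0 => ∀ z : K.X 0, K.d 0 1 z = 0 → z = 0
  | (p + 1) => ∀ z : K.X (p + 1), K.d (p + 1) (p + 2) z = 0 → ∃ w : K.X p, K.d p (p + 1) w = z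

lemma acyc_zero_iff (K : CochainComplex AddCommGrpCat.{u} ℕ) :
    Acyc K 0 ↔ ∀ z : K.X 0, K.d 0 1 z = 0 → z = 0 := Iff.rfl

lemma acyc_succ_iff (K : CochainComplex AddCommGrpCat.{u} ℕ) (p : ℕ) :
    Acyc K (p + 1) ↔
      ∀ z : K.X (p + 1), K.d (p + 1) (p + 2) z = 0 → ∃ w : K.X p, K.d p (p + 1) w = z := Iff.rfl

lemma comm_apply {K L : CochainComplex AddCommGrpCat.{u} ℕ} (φ : K ⟶ L) (i j : ℕ) (x : K.X i) :
    φ.f j (K.d i j x) = L.d i j (φ.f i x) := by
  have h := ConcreteCategory.congr_hom (φ.comm i j) x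
  rw [ConcreteCategory.comp_apply, ConcreteCategory.comp_apply] at h
  exact h.symm

lemma dd_apply (K : CochainComplex AddCommGrpCat.{u} ℕ) (i j k : ℕ) (x : K.X i) :
    K.d j k (K.d i j x) = 0 :=
  congrArg (fun φ => φ x) (congrArg AddCommGrpCat.Hom.hom (K.d_comp_d i j k))

lemma lift_cocycle {A' B' : CochainComplex AddCommGrpCat.{u} ℕ} (r' : A' ⟶ B')
    (h1' : ∀ (n : ℕ) (y : B'.X n), ∃ x : A'.X n, r'.f n x = y) (p : ℕ) (hB' : Acyc B' p)
    (y : B'.X p) (hy : B'.d p (p + 1) y = 0) :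
    ∃ v : A'.X p, r'.f p v = y ∧ A'.d p (p + 1) v = 0 := by
  cases p with
  | zero =>
    have hy0 : y = 0 := (acyc_zero_iff B').1 hB' y hy
    exact ⟨0, by rw [map_zero, hy0], map_zero _⟩
  | succ p' =>
    obtain ⟨v', hv'⟩ := (acyc_succ_iff B' p').1 hB' y hy
    obtain ⟨x, hx⟩ := h1' p' v'
    refine ⟨A'.d p' (p' + 1) x, ?_, dd_apply A' _ _ _ x⟩
    rw [comm_apply, hx, hv']

/-- the diagram chase -/
theorem acyc_of_chase {A B A' B' : CochainComplex AddCommGrpCat.{u} ℕ} (r : A ⟶ B) (r' : A' ⟶ B')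
    (θ : A ⟶ A') (θB : B ⟶ B') (hc : r ≫ θB = θ ≫ r')
    (h1 : ∀ (n : ℕ) (y : B.X n), ∃ x : A.X n, r.f n x = y)
    (h1' : ∀ (n : ℕ) (y : B'.X n), ∃ x : A'.X n, r'.f n x = y)
    (h2 : ∀ (n : ℕ) (x' : A'.X n), r'.f n x' = 0 → ∃ x : A.X n, r.f n x = 0 ∧ θ.f n x = x')
    (h3 : ∀ (n : ℕ) (x : A.X n), r.f n x = 0 → θ.f n x = 0 → x = 0)
    (p : ℕ) (hB : Acyc B (p + 1)) (hA' : Acyc A' (p + 1)) (hB' : Acyc B' p) :
    Acyc A (p + 1) := by
  rw [acyc_succ_iff] at hB hA' ⊢
  intro z hz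
  have hrz : B.d (p + 1) (p + 2) (r.f (p + 1) z) = 0 := by
    rw [← comm_apply, hz, map_zero]
  obtain ⟨w', hw'⟩ := hB _ hrz
  obtain ⟨w'', hw''⟩ := h1 p w'
  have hrz' : r.f (p + 1) (z - A.d p (p + 1) w'') = 0 := by
    rw [map_sub, comm_apply, hw'', hw', sub_self]
  have hdz' : A.d (p + 1) (p + 2) (z - A.d p (p + 1) w'') = 0 := by
    rw [map_sub, hz, dd_apply, sub_zero]
  have hθz' : A'.d (p + 1) (p + 2) (θ.f (p + 1) (z - A.d p (p + 1) w'')) = 0 := by
    rw [← comm_apply, hdz', map_zero]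
  obtain ⟨v, hv⟩ := hA' _ hθz'
  have hcz : r'.f (p + 1) (θ.f (p + 1) (z - A.d p (p + 1) w'')) = 0 := by
    have h : r.f (p + 1) ≫ θB.f (p + 1) = θ.f (p + 1) ≫ r'.f (p + 1) := by
      rw [← HomologicalComplex.comp_f, ← HomologicalComplex.comp_f, hc]
    have h' := ConcreteCategory.congr_hom h (z - A.d p (p + 1) w'')
    rw [ConcreteCategory.comp_apply, ConcreteCategory.comp_apply, hrz', map_zero] at h'
    exact h'.symm
  have hrv : B'.d p (p + 1) (r'.f p v) = 0 := by
    rw [← comm_apply, hv, hcz]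
  obtain ⟨v₀, hv₀r, hv₀d⟩ := lift_cocycle r' h1' p hB' _ hrv
  obtain ⟨t, htr, htθ⟩ := h2 p (v - v₀) (by rw [map_sub, hv₀r, sub_self])
  have ht : A.d p (p + 1) t = z - A.d p (p + 1) w'' := by
    have h0 : A.d p (p + 1) t - (z - A.d p (p + 1) w'') = 0 := by
      apply h3 (p + 1)
      · rw [map_sub, comm_apply, htr, map_zero, hrz', sub_zero]
      · rw [map_sub, comm_apply, htθ, map_sub, hv, hv₀d, sub_zero, sub_self]
    exact sub_eq_zero.mp h0
  refine ⟨w'' + t, ?_⟩
  rw [map_add, ht]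
  abel

/-- elementwise acyclicity gives the vanishing of the homology -/
theorem isZero_homology_of_acyc (K : CochainComplex AddCommGrpCat.{u} ℕ) (q : ℕ) (h : Acyc K q) :
    IsZero (K.homology q) := by
  have hx : ∀ x : K.homology q, x = 0 := by
    intro x
    obtain ⟨z, hz, rfl⟩ := AbCls.exists_cls K q x
    cases q with
    | zero =>
      rw [AbCls.cls_eq_zero_iff K 0 0 CochainComplex.prev_nat_zero]
      refine ⟨0, ?_⟩
      rw [map_zero]
      exact ((acyc_zero_iff K).1 h z (hz 1)).symm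
    | succ p =>
      rw [AbCls.cls_eq_zero_iff K p (p + 1) (CochainComplex.prev_nat_succ p)]
      exact (acyc_succ_iff K p).1 h z (hz _)
  haveI : Subsingleton (K.homology q) := ⟨fun x y => by rw [hx x, hx y]⟩
  exact AddCommGrpCat.isZero_of_subsingleton _

end abstract

section cech

variable {X : TopCat.{u}} {ι : Type u} (U : ι → Opens X)
  (P : (Opens X)ᵒᵖ ⥤ AddCommGrpCat.{u})

lemma Uσ_le {n : ℕ} (σ : Fin (n + 1) → ι) (k : Fin (n + 1)) : Uσg U σ ≤ U (σ k) :=
  leOfHom (Pi.π (U ∘ σ) k)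

lemma le_Uσ {n : ℕ} (σ : Fin (n + 1) → ι) {W : Opens X} (h : ∀ k, W ≤ U (σ k)) :
    W ≤ Uσg U σ :=
  leOfHom (Pi.lift (f := U ∘ σ) fun k => homOfLE (h k))

section restriction

variable {κ : Type u} (f : κ → ι)

/-- restriction of cochains to a subfamily, degreewise -/
noncomputable def rfn (n : ℕ) : (CKg U P).X n ⟶ (CKg (U ∘ f) P).X n :=
  liftg (U ∘ f) P n fun τ => projg U P n (f ∘ τ)

@[reassoc]
lemma rfn_projg (n : ℕ) (τ : Fin (n + 1) → κ) :
    rfn U P f n ≫ projg (U ∘ f) P n τ = projg U P n (f ∘ τ) :=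
  liftg_projg (U ∘ f) P n _ τ

lemma rfn_comm (n : ℕ) :
    rfn U P f n ≫ (CKg (U ∘ f) P).d n (n + 1) = (CKg U P).d n (n + 1) ≫ rfn U P f (n + 1) := by
  refine hom_ext_projg (U ∘ f) P _ _ fun τ => ?_
  rw [Category.assoc, Category.assoc, rfn_projg, d_projg (U ∘ f) P τ, comp_sum_zsmul',
    d_projg U P (f ∘ τ)]
  refine Finset.sum_congr rfl fun k _ => ?_
  rw [rfn_projg_assoc]
  rfl

/-- restriction of cochains to a subfamily -/
noncomputable def rf : CKg U P ⟶ CKg (U ∘ f) P where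
  f n := rfn U P f n
  comm' := by
    intro i j hij
    have hj : i + 1 = j := hij
    subst hj
    exact rfn_comm U P f i

@[reassoc]
lemma rf_projg (n : ℕ) (τ : Fin (n + 1) → κ) :
    (rf U P f).f n ≫ projg (U ∘ f) P n τ = projg U P n (f ∘ τ) :=
  rfn_projg U P f n τ

variable {P}

lemma rf_naturality {Q : (Opens X)ᵒᵖ ⥤ AddCommGrpCat.{u}} (φ : P ⟶ Q) (n : ℕ) :
    ((cechComplexFunctor U).map φ).f n ≫ (rf U Q f).f n =
      (rf U P f).f n ≫ ((cechComplexFunctor (U ∘ f)).map φ).f n := by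
  refine hom_ext_projg (U ∘ f) Q _ _ fun τ => ?_
  rw [Category.assoc, Category.assoc, rf_projg, map_projg, map_projg, rf_projg_assoc]
  rfl

end restriction

section point

variable (a : ι)

/-- the inclusion of the complement of `a` -/
abbrev fa : {i : ι // i ≠ a} → ι := Subtype.val

open Classical in
/-- extension by zero, a section of the restriction -/
noncomputable def sfn (n : ℕ) : (CKg (U ∘ fa a) P).X n ⟶ (CKg U P).X n :=
  liftg U P n fun σ =>
    if h : ∀ k, σ k ≠ a then projg (U ∘ fa a) P n (fun k => ⟨σ k, h k⟩) else 0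

lemma sfn_projg_pos (n : ℕ) (σ : Fin (n + 1) → ι) (h : ∀ k, σ k ≠ a) :
    sfn U P a n ≫ projg U P n σ = projg (U ∘ fa a) P n (fun k => ⟨σ k, h k⟩) := by
  unfold sfn
  rw [liftg_projg, dif_pos h]

lemma sfn_projg_neg (n : ℕ) (σ : Fin (n + 1) → ι) (h : ¬ ∀ k, σ k ≠ a) :
    sfn U P a n ≫ projg U P n σ = 0 := by
  unfold sfn
  rw [liftg_projg, dif_neg h]

lemma sfn_rf (n : ℕ) : sfn U P a n ≫ (rf U P (fa a)).f n = 𝟙 _ := by
  refine hom_ext_projg (U ∘ fa a) P _ _ fun τ => ?_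
  rw [Category.assoc, rf_projg, Category.id_comp]
  exact sfn_projg_pos U P a n (fa a ∘ τ) (fun k => (τ k).2)

/-- `W ↦ W ⊓ V` -/
def infR (V : Opens X) : Opens X ⥤ Opens X :=
  Monotone.functor (f := fun W => W ⊓ V) fun _ _ h => inf_le_inf_right V h

/-- the presheaf `W ↦ P (W ⊓ V)` -/
abbrev Pa (V : Opens X) : (Opens X)ᵒᵖ ⥤ AddCommGrpCat.{u} := (infR V).op ⋙ P

/-- the restriction `P W ⟶ P (W ⊓ V)` -/
def θ (V : Opens X) : P ⟶ Pa P V where
  app W := P.map (homOfLE (inf_le_left : W.unop ⊓ V ≤ W.unop)).op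
  naturality _ _ _ :=
    (P.map_comp _ _).symm.trans ((congrArg P.map (Subsingleton.elim _ _)).trans (P.map_comp _ _))

/-- the inverse of `θ` over the opens contained in `V` -/
def θinv (V W : Opens X) (h : W ≤ V) : (Pa P V).obj (op W) ⟶ P.obj (op W) :=
  P.map (homOfLE (le_inf le_rfl h) : W ⟶ W ⊓ V).op

@[reassoc]
lemma θ_θinv (V W : Opens X) (h : W ≤ V) : (θ P V).app (op W) ≫ θinv P V W h = 𝟙 _ :=
  (P.map_comp _ _).symm.trans ((congrArg P.map (Subsingleton.elim _ _)).trans (P.map_id _))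

@[reassoc]
lemma θinv_θ (V W : Opens X) (h : W ≤ V) : θinv P V W h ≫ (θ P V).app (op W) = 𝟙 _ :=
  (P.map_comp _ _).symm.trans ((congrArg P.map (Subsingleton.elim _ _)).trans (P.map_id _))

lemma Uσ_le_of_mem {n : ℕ} (σ : Fin (n + 1) → ι) (h : ¬ ∀ k, σ k ≠ a) : Uσg U σ ≤ U a := by
  obtain ⟨k, hk⟩ := not_forall_not.mp h
  exact (Uσ_le U σ k).trans (le_of_eq (congrArg U hk))

open Classical in
/-- the inverse of `θ` on the cochains supported on the tuples hitting `a` -/
noncomputable def tfn (n : ℕ) : (CKg U (Pa P (U a))).X n ⟶ (CKg U P).X n :=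
  liftg U P n fun σ =>
    if h : ∀ k, σ k ≠ a then 0
    else projg U (Pa P (U a)) n σ ≫ θinv P (U a) (Uσg U σ) (Uσ_le_of_mem U a σ h)

@[reassoc]
lemma tfn_projg_pos (n : ℕ) (σ : Fin (n + 1) → ι) (h : ∀ k, σ k ≠ a) :
    tfn U P a n ≫ projg U P n σ = 0 := by
  unfold tfn
  rw [liftg_projg, dif_pos h]

@[reassoc]
lemma tfn_projg_neg (n : ℕ) (σ : Fin (n + 1) → ι) (h : ¬ ∀ k, σ k ≠ a) :
    tfn U P a n ≫ projg U P n σ =
      projg U (Pa P (U a)) n σ ≫ θinv P (U a) (Uσg U σ) (Uσ_le_of_mem U a σ h) := by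
  unfold tfn
  rw [liftg_projg, dif_neg h]

lemma tfn_rf (n : ℕ) : tfn U P a n ≫ (rf U P (fa a)).f n = 0 := by
  refine hom_ext_projg (U ∘ fa a) P _ _ fun τ => ?_
  rw [Category.assoc, rf_projg, zero_comp]
  exact tfn_projg_pos U P a n (fa a ∘ τ) (fun k => (τ k).2)

lemma θ_tfn (n : ℕ) :
    ((cechComplexFunctor U).map (θ P (U a))).f n ≫ tfn U P a n +
      (rf U P (fa a)).f n ≫ sfn U P a n = 𝟙 _ := by
  refine hom_ext_projg U P _ _ fun σ => ?_
  rw [Preadditive.add_comp, Category.assoc, Category.assoc, Category.id_comp]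
  by_cases h : ∀ k, σ k ≠ a
  · rw [tfn_projg_pos U P a n σ h, comp_zero, zero_add, sfn_projg_pos U P a n σ h]
    exact rf_projg U P (fa a) n (fun k => ⟨σ k, h k⟩)
  · rw [tfn_projg_neg U P a n σ h, sfn_projg_neg U P a n σ h, comp_zero, add_zero,
      ← Category.assoc, map_projg, Category.assoc, θ_θinv, Category.comp_id]

lemma tfn_θ (n : ℕ) :
    tfn U P a n ≫ ((cechComplexFunctor U).map (θ P (U a))).f n +
      (rf U (Pa P (U a)) (fa a)).f n ≫ sfn U (Pa P (U a)) a n = 𝟙 _ := by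
  refine hom_ext_projg U (Pa P (U a)) _ _ fun σ => ?_
  rw [Preadditive.add_comp, Category.assoc, Category.assoc, Category.id_comp, map_projg]
  by_cases h : ∀ k, σ k ≠ a
  · rw [tfn_projg_pos_assoc U P a n σ h, zero_comp, zero_add,
      sfn_projg_pos U (Pa P (U a)) a n σ h]
    exact rf_projg U (Pa P (U a)) (fa a) n (fun k => ⟨σ k, h k⟩)
  · rw [tfn_projg_neg_assoc U P a n σ h, sfn_projg_neg U (Pa P (U a)) a n σ h, comp_zero,
      add_zero, θinv_θ]
    exact Category.comp_id _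

lemma isIso_Pa_prj (n : ℕ) (σ : Fin (n + 1) → ι) :
    IsIso ((Pa P (U a)).map (prj U a σ).op) := by
  have hle : Uσg U σ ⊓ U a ≤ Uσg U (Fin.cons a σ : Fin (n + 2) → ι) ⊓ U a := by
    refine le_inf (le_Uσ U _ fun k => ?_) inf_le_right
    refine Fin.cases ?_ (fun k' => ?_) k
    · have e : (Fin.cons a σ : Fin (n + 2) → ι) 0 = a := Fin.cons_zero _ _
      rw [e]
      exact inf_le_right
    · have e : (Fin.cons a σ : Fin (n + 2) → ι) k'.succ = σ k' := Fin.cons_succ _ _ _
      rw [e]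
      exact inf_le_left.trans (Uσ_le U σ k')
  haveI : IsIso ((infR (U a)).map (prj U a σ)) :=
    ⟨⟨homOfLE hle, Subsingleton.elim _ _, Subsingleton.elim _ _⟩⟩
  show IsIso (P.map ((infR (U a)).map (prj U a σ)).op)
  infer_instance

/-- the induction step -/
theorem acyc_step (p : ℕ) (hB : Acyc (CKg (U ∘ fa a) P) (p + 1))
    (hB' : Acyc (CKg (U ∘ fa a) (Pa P (U a))) p) : Acyc (CKg U P) (p + 1) := by
  refine acyc_of_chase (rf U P (fa a)) (rf U (Pa P (U a)) (fa a))
    ((cechComplexFunctor U).map (θ P (U a))) ((cechComplexFunctor (U ∘ fa a)).map (θ P (U a)))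
    ?_ ?_ ?_ ?_ ?_ p hB ?_ hB'
  · ext n : 1
    exact (rf_naturality U (fa a) (θ P (U a)) n).symm
  · intro n y
    refine ⟨sfn U P a n y, ?_⟩
    have h := ConcreteCategory.congr_hom (sfn_rf U P a n) y
    rw [ConcreteCategory.comp_apply, ConcreteCategory.id_apply] at h
    exact h
  · intro n y
    refine ⟨sfn U (Pa P (U a)) a n y, ?_⟩
    have h := ConcreteCategory.congr_hom (sfn_rf U (Pa P (U a)) a n) y
    rw [ConcreteCategory.comp_apply, ConcreteCategory.id_apply] at h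
    exact h
  · intro n x' hx'
    refine ⟨tfn U P a n x', ?_, ?_⟩
    · exact congrArg (fun φ => φ x') (congrArg AddCommGrpCat.Hom.hom (tfn_rf U P a n))
    · have h := ConcreteCategory.congr_hom (tfn_θ U P a n) x'
      rw [AddCommGrpCat.hom_add_apply, ConcreteCategory.comp_apply, ConcreteCategory.comp_apply,
        ConcreteCategory.id_apply, hx', map_zero, add_zero] at h
      exact h
  · intro n x hx hθx
    have h := ConcreteCategory.congr_hom (θ_tfn U P a n) x
    rw [AddCommGrpCat.hom_add_apply, ConcreteCategory.comp_apply, ConcreteCategory.comp_apply,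
      ConcreteCategory.id_apply, hx, hθx, map_zero, map_zero, add_zero] at h
    exact h.symm
  · exact (acyc_succ_iff _ _).2 fun t ht =>
      ab_exact_succ U a (Pa P (U a)) (isIso_Pa_prj U P a) p t ht

end point

theorem acyc_of_isEmpty [IsEmpty ι] (q : ℕ) : Acyc (CKg U P) q := by
  have hid : 𝟙 ((CKg U P).X q) = 0 :=
    hom_ext_projg U P _ _ fun σ => (IsEmpty.false (σ 0)).elim
  have hz : ∀ z : (CKg U P).X q, z = 0 := fun z =>
    congrArg (fun φ => φ z) (congrArg AddCommGrpCat.Hom.hom hid)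
  cases q with
  | zero => exact (acyc_zero_iff _).2 fun z _ => hz z
  | succ p => exact (acyc_succ_iff _ _).2 fun z _ => ⟨0, (map_zero _).trans (hz z).symm⟩

end cech

/-- **Ordered Čech cochains: every cocycle of degree `≥ card ι` is a coboundary.** -/
theorem acyc_main {X : TopCat.{u}} : ∀ (m : ℕ) {ι : Type u} [Finite ι] (U : ι → Opens X)
    (P : (Opens X)ᵒᵖ ⥤ AddCommGrpCat.{u}), Nat.card ι ≤ m → ∀ q, m ≤ q → Acyc (CKg U P) q := by
  intro m
  induction m with
  | zero =>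
    intro ι _ U P hc q _
    rcases isEmpty_or_nonempty ι with hι | hι
    · exact acyc_of_isEmpty U P q
    · have := Finite.card_pos (α := ι)
      omega
  | succ m ih =>
    intro ι _ U P hc q hq
    rcases isEmpty_or_nonempty ι with hι | ⟨⟨a⟩⟩
    · exact acyc_of_isEmpty U P q
    · obtain ⟨p, rfl⟩ : ∃ p, q = p + 1 := ⟨q - 1, by omega⟩
      have hκ : Nat.card {i : ι // i ≠ a} ≤ m := by
        have := Finite.card_subtype_lt (α := ι) (p := fun i => i ≠ a) (x := a) (by simp)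
        omega
      exact acyc_step U P a p (ih (U ∘ fa a) P hκ (p + 1) (by omega))
        (ih (U ∘ fa a) (Pa P (U a)) hκ p (by omega))

/-- **The ordered Čech cohomology of a presheaf vanishes in degrees `≥ card ι`.** -/
theorem main {X : TopCat.{u}} (P : (Opens X)ᵒᵖ ⥤ AddCommGrpCat.{u}) {ι : Type u} [Finite ι]
    (U : ι → Opens X) (q : ℕ) (hq : Nat.card ι ≤ q) :
    IsZero (((cechComplexFunctor U).obj P).homology q) :=
  isZero_homology_of_acyc _ q (acyc_main (Nat.card ι) U P le_rfl q hq)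

end Groth.Agent.Lib.Helper5.CechCard
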