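import Groth.Agent.Lib.Helper22.Horseshoe.DerivedLES
import Groth.Agent.Lib.Helper22.DimShiftIso

/-!
# Degenerate Grothendieck spectral sequence, "acyclic base" form

For left exact additive functors `F : 𝒜 ⥤ ℬ`, `G : ℬ ⥤ 𝒞` such that `F` maps injectives to
`G`-acyclic objects, and an object `M` such that all `R^q F M` are `G`-acyclic, we have
`R^p (F ⋙ G) M ≅ G (R^p F M)`.
-/

set_option autoImplicit false
set_option linter.unusedSectionVars false

universe v v' v'' u u' u''

open CategoryTheory Limits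

namespace Groth.Agent.Lib.Helper5.CompAcyclic

open Groth.Agent.Lib.Helper22 Groth.Agent.Lib.Helper22.DimShift

variable {𝒜 : Type u} [Category.{v} 𝒜] [Abelian 𝒜] [EnoughInjectives 𝒜]
  {ℬ : Type u'} [Category.{v'} ℬ] [Abelian ℬ] [EnoughInjectives ℬ]
  {𝒞 : Type u''} [Category.{v''} 𝒞] [Abelian 𝒞]

section Acyc

variable (G : ℬ ⥤ 𝒞) [G.Additive]

/-- `X` is `G`-acyclic. -/
def Acyc (X : ℬ) : Prop := ∀ a : ℕ, IsZero ((G.rightDerived (a + 1)).obj X)

variable {G}

lemma Acyc.of_iso {X Y : ℬ} (e : X ≅ Y) (h : Acyc G X) : Acyc G Y := fun a =>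
  (h a).of_iso ((G.rightDerived (a + 1)).mapIso e.symm)

variable (G) in
lemma acyc_of_injective (X : ℬ) [Injective X] : Acyc G X := fun a =>
  Functor.isZero_rightDerived_obj_injective_succ G a X

lemma Acyc.X₃ {S : ShortComplex ℬ} (hS : S.ShortExact) (h1 : Acyc G S.X₁) (h2 : Acyc G S.X₂) :
    Acyc G S.X₃ := by
  intro a
  have hex := (Horseshoe.derivedLES G).exact₃ S hS (a + 1) (a + 2) rfl
  exact hex.isZero_of_both_zeros ((h2 a).eq_of_src _ _) ((h1 (a + 1)).eq_of_tgt _ _)

lemma Acyc.X₂ {S : ShortComplex ℬ} (hS : S.ShortExact) (h1 : Acyc G S.X₁) (h3 : Acyc G S.X₃) :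
    Acyc G S.X₂ := by
  intro a
  have hex := (Horseshoe.derivedLES G).exact₂ S hS (a + 1)
  exact hex.isZero_of_both_zeros ((h1 a).eq_of_src _ _) ((h3 a).eq_of_tgt _ _)

lemma epi_map_g [PreservesFiniteLimits G] {S : ShortComplex ℬ} (hS : S.ShortExact)
    (h1 : IsZero ((G.rightDerived 1).obj S.X₁)) : Epi (G.map S.g) := by
  have hex := (Horseshoe.derivedLES G).exact₃ S hS 0 1 rfl
  have hepi : Epi ((G.rightDerived 0).map S.g) := hex.epi_f (h1.eq_of_tgt _ _)
  have hn := G.rightDerivedZeroIsoSelf.hom.naturality S.g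
  have heq : G.map S.g = G.rightDerivedZeroIsoSelf.inv.app _ ≫
      (G.rightDerived 0).map S.g ≫ G.rightDerivedZeroIsoSelf.hom.app _ := by
    rw [hn, ← Category.assoc, ← NatTrans.comp_app, Iso.inv_hom_id, NatTrans.id_app,
      Category.id_comp]
  rw [heq]
  infer_instance

end Acyc

variable (F : 𝒜 ⥤ ℬ) [F.Additive] [PreservesFiniteLimits F]
  (G : ℬ ⥤ 𝒞) [G.Additive] [PreservesFiniteLimits G]

/-- all `R^q F M` are `G`-acyclic -/
def BaseAcyclic (M : 𝒜) : Prop := ∀ q : ℕ, Acyc G ((F.rightDerived q).obj M)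

section four

variable (M : 𝒜)

/-- `0 → F M → F I → K → 0` with `K` the image of `F I → F Q`. -/
noncomputable def S1 : ShortComplex ℬ :=
  ShortComplex.mk (F.map (injSC M).f) (Abelian.factorThruImage (F.map (injSC M).g)) (by
    rw [← cancel_mono (Abelian.image.ι (F.map (injSC M).g)), Category.assoc,
      Abelian.image.fac, zero_comp, ← F.map_comp, (injSC M).zero, F.map_zero])

/-- `0 → K → F Q → coker → 0`. -/
noncomputable def S2 : ShortComplex ℬ :=
  ShortComplex.mk (Abelian.image.ι (F.map (injSC M).g)) (cokernel.π (F.map (injSC M).g))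
    (kernel.condition _)

lemma S1_shortExact : (S1 F M).ShortExact := by
  have hS := injSC_shortExact M
  have hm : Mono (injSC M).f := hS.mono_f
  have h1 : ((injSC M).map F).Exact := hS.exact.map_of_mono_of_preservesKernel F hm inferInstance
  let φ : S1 F M ⟶ (injSC M).map F :=
    { τ₁ := 𝟙 _
      τ₂ := 𝟙 _
      τ₃ := Abelian.image.ι (F.map (injSC M).g)
      comm₁₂ := by
        change 𝟙 _ ≫ F.map (injSC M).f = F.map (injSC M).f ≫ 𝟙 _
        rw [Category.id_comp, Category.comp_id]
      comm₂₃ := by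
        change 𝟙 _ ≫ F.map (injSC M).g =
          Abelian.factorThruImage (F.map (injSC M).g) ≫ Abelian.image.ι _
        rw [Abelian.image.fac, Category.id_comp] }
  have : Epi φ.τ₁ := inferInstanceAs (Epi (𝟙 _))
  have : IsIso φ.τ₂ := inferInstanceAs (IsIso (𝟙 _))
  have : Mono φ.τ₃ := inferInstanceAs (Mono (Abelian.image.ι (F.map (injSC M).g)))
  have h2 : (S1 F M).Exact := (ShortComplex.exact_iff_of_epi_of_isIso_of_mono φ).2 h1
  haveI : Mono (S1 F M).f := inferInstanceAs (Mono (F.map (injSC M).f))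
  haveI : Epi (S1 F M).g := inferInstanceAs (Epi (Abelian.factorThruImage (F.map (injSC M).g)))
  exact ShortComplex.ShortExact.mk' h2 inferInstance inferInstance

lemma S2_shortExact : (S2 F M).ShortExact := by
  have h2 : (S2 F M).Exact :=
    ShortComplex.exact_of_f_is_kernel _ (kernelIsKernel (cokernel.π (F.map (injSC M).g)))
  haveI : Mono (S2 F M).f := inferInstanceAs (Mono (Abelian.image.ι (F.map (injSC M).g)))
  haveI : Epi (S2 F M).g := inferInstanceAs (Epi (cokernel.π (F.map (injSC M).g)))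
  exact ShortComplex.ShortExact.mk' h2 inferInstance inferInstance

variable {F G M}
variable (hFG : ∀ I : 𝒜, Injective I → Acyc G (F.obj I)) (hM : BaseAcyclic F G M)

include hM in
lemma acyc_F : Acyc G (F.obj M) := (hM 0).of_iso (F.rightDerivedZeroIsoSelf.app M)

include hM in
lemma acyc_coker : Acyc G (cokernel (F.map (injSC M).g)) :=
  (hM 1).of_iso (rightDerivedOneIso F (injSC M) (injSC_shortExact M))

include hFG hM in
lemma acyc_K : Acyc G (S1 F M).X₃ :=
  Acyc.X₃ (S1_shortExact F M) (acyc_F hM) (hFG _ inferInstance)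

include hFG hM in
lemma acyc_FQ : Acyc G (F.obj (injSC M).X₃) :=
  Acyc.X₂ (S2_shortExact F M) (acyc_K hFG hM) (acyc_coker hM)

include hFG hM in
/-- the cosyzygy is again base-acyclic -/
lemma BaseAcyclic.quot : BaseAcyclic F G (injSC M).X₃ := by
  intro q
  cases q with
  | zero => exact (acyc_FQ hFG hM).of_iso (F.rightDerivedZeroIsoSelf.app _).symm
  | succ q =>
    exact (hM (q + 2)).of_iso (rightDerivedSuccSuccIso F (injSC M) (injSC_shortExact M) q)

include hFG hM in
/-- the degree one case -/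
lemma nonempty_one :
    Nonempty (((F ⋙ G).rightDerived 1).obj M ≅ G.obj ((F.rightDerived 1).obj M)) := by
  haveI : PreservesFiniteLimits (F ⋙ G) := comp_preservesFiniteLimits F G
  have e1 : ((F ⋙ G).rightDerived 1).obj M ≅ cokernel (G.map (F.map (injSC M).g)) :=
    rightDerivedOneIso (F ⋙ G) (injSC M) (injSC_shortExact M)
  -- `G F I → G K` is an epimorphism
  haveI hepi1 : Epi (G.map (Abelian.factorThruImage (F.map (injSC M).g))) :=
    epi_map_g (S := S1 F M) (S1_shortExact F M) (acyc_F hM 0)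
  -- `G` keeps `S2` short exact
  have hepi2 : Epi (G.map (S2 F M).g) := epi_map_g (S2_shortExact F M) (acyc_K hFG hM 0)
  have hS2 : ((S2 F M).map G).ShortExact := by
    have hS := S2_shortExact F M
    have hm : Mono (S2 F M).f := hS.mono_f
    have h1 : ((S2 F M).map G).Exact :=
      hS.exact.map_of_mono_of_preservesKernel G hm inferInstance
    have h2 : Mono ((S2 F M).map G).f := inferInstanceAs (Mono (G.map (S2 F M).f))
    exact ShortComplex.ShortExact.mk' h1 h2 hepi2
  have e2 : cokernel (G.map (Abelian.image.ι (F.map (injSC M).g))) ≅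
      G.obj (cokernel (F.map (injSC M).g)) :=
    (cokernelIsCokernel _).coconePointUniqueUpToIso hS2.gIsCokernel
  have heq : G.map (F.map (injSC M).g) =
      G.map (Abelian.factorThruImage (F.map (injSC M).g)) ≫
        G.map (Abelian.image.ι (F.map (injSC M).g)) := by
    rw [← G.map_comp, Abelian.image.fac]
  have e3 : cokernel (G.map (F.map (injSC M).g)) ≅
      cokernel (G.map (Abelian.image.ι (F.map (injSC M).g))) :=
    cokernelIsoOfEq heq ≪≫ cokernelEpiComp _ _
  exact ⟨e1 ≪≫ e3 ≪≫ e2 ≪≫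
    G.mapIso (rightDerivedOneIso F (injSC M) (injSC_shortExact M)).symm⟩

end four

variable {F G}

/-- **Degenerate Grothendieck spectral sequence, acyclic base form.** -/
theorem nonempty_iso (hFG : ∀ I : 𝒜, Injective I → Acyc G (F.obj I)) (p : ℕ) :
    ∀ M : 𝒜, BaseAcyclic F G M →
      Nonempty (((F ⋙ G).rightDerived p).obj M ≅ G.obj ((F.rightDerived p).obj M)) := by
  haveI : PreservesFiniteLimits (F ⋙ G) := comp_preservesFiniteLimits F G
  cases p with
  | zero =>
    intro M _
    exact ⟨(F ⋙ G).rightDerivedZeroIsoSelf.app M ≪≫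
      G.mapIso (F.rightDerivedZeroIsoSelf.app M).symm⟩
  | succ p =>
    induction p with
    | zero => exact fun M hM => nonempty_one hFG hM
    | succ p ih =>
      intro M hM
      obtain ⟨e2⟩ := ih (injSC M).X₃ (hM.quot hFG)
      exact ⟨rightDerivedSuccSuccIso (F ⋙ G) (injSC M) (injSC_shortExact M) p ≪≫ e2 ≪≫
        G.mapIso (rightDerivedSuccSuccIso F (injSC M) (injSC_shortExact M) p).symm⟩

end Groth.Agent.Lib.Helper5.CompAcyclic
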