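import Groth.Agent.Lib.Helper5.ConstructibleTop
import Mathlib.AlgebraicGeometry.AffineTransitionLimit
import Mathlib.AlgebraicGeometry.Morphisms.FinitePresentation
import Mathlib.AlgebraicGeometry.Properties

set_option autoImplicit false

universe u

namespace Groth.Agent.Lib.Helper5

open AlgebraicGeometry CategoryTheory CategoryTheory.Limits Topology TopologicalSpace

variable {I : Type u} [SmallCategory I] [IsCofiltered I] (D : I ⥤ Scheme.{u}) (c : Cone D)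
  (hc : IsLimit c) [∀ {i j} (f : i ⟶ j), IsAffineHom (D.map f)]

include hc in
theorem exists_map_preimage_inter_subset {j : I} {U E V : Set (D.obj j)} (hU : IsOpen U)
    (hUc : IsCompact U) (hE : IsConstructible E) (hV : IsOpen V)
    (H : c.π.app j ⁻¹' (U ∩ E) ⊆ c.π.app j ⁻¹' V) :
    ∃ (l : I) (ψ : l ⟶ j), D.map ψ ⁻¹' (U ∩ E) ⊆ D.map ψ ⁻¹' V := by
  revert H
  refine isConstructible_sdiff_union_induction
    (p := fun E => c.π.app j ⁻¹' (U ∩ E) ⊆ c.π.app j ⁻¹' V →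
      ∃ (l : I) (ψ : l ⟶ j), D.map ψ ⁻¹' (U ∩ E) ⊆ D.map ψ ⁻¹' V) ?_ ?_ hE
  · intro A B hA hA' hB _ H
    let U' : (D.obj j).Opens := ⟨A ∩ U, hA.inter hU⟩
    let V' : (D.obj j).Opens := ⟨B ∪ V, hB.union hV⟩
    have hU'c : IsCompact (U' : Set (D.obj j)) := hA' hUc hU
    have H' : c.π.app j ⁻¹ᵁ U' ≤ c.π.app j ⁻¹ᵁ V' := by
      intro x hx
      by_cases hxB : c.π.app j x ∈ B
      · exact Or.inl hxB
      · exact Or.inr (H ⟨hx.2, hx.1, hxB⟩)
    obtain ⟨l, ψ, hψ⟩ := exists_map_preimage_le_map_preimage D c hc hU'c H'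
    refine ⟨l, ψ, ?_⟩
    rintro y ⟨hyU, hyA, hyB⟩
    rcases hψ (show y ∈ D.map ψ ⁻¹ᵁ U' from ⟨hyA, hyU⟩) with h | h
    · exact (hyB h).elim
    · exact h
  · intro s t hs ht H
    obtain ⟨l₁, ψ₁, h₁⟩ := hs (fun x hx => H ⟨hx.1, Or.inl hx.2⟩)
    obtain ⟨l₂, ψ₂, h₂⟩ := ht (fun x hx => H ⟨hx.1, Or.inr hx.2⟩)
    obtain ⟨l, a, b, hab⟩ := IsCofiltered.cospan ψ₁ ψ₂
    refine ⟨l, a ≫ ψ₁, ?_⟩
    rintro y ⟨hyU, hy | hy⟩
    · have : D.map a y ∈ D.map ψ₁ ⁻¹' (U ∩ s) := by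
        simp only [Set.mem_preimage, ← Scheme.Hom.comp_apply, ← D.map_comp]
        exact ⟨hyU, hy⟩
      have := h₁ this
      simpa only [Set.mem_preimage, ← Scheme.Hom.comp_apply, ← D.map_comp] using this
    · have : D.map b y ∈ D.map ψ₂ ⁻¹' (U ∩ t) := by
        simp only [Set.mem_preimage, ← Scheme.Hom.comp_apply, ← D.map_comp, ← hab]
        exact ⟨hyU, hy⟩
      have := h₂ this
      simpa only [Set.mem_preimage, ← Scheme.Hom.comp_apply, ← D.map_comp, ← hab] using this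

omit [IsCofiltered I] [∀ {i j} (f : i ⟶ j), IsAffineHom (D.map f)] in
theorem preimage_comp_subset {l' l j : I} (a : l' ⟶ l) (ψ : l ⟶ j) {S T : Set (D.obj j)}
    (h : D.map ψ ⁻¹' S ⊆ D.map ψ ⁻¹' T) : D.map (a ≫ ψ) ⁻¹' S ⊆ D.map (a ≫ ψ) ⁻¹' T := by
  intro y hy
  have h1 : D.map a y ∈ D.map ψ ⁻¹' S := by
    simpa only [Set.mem_preimage, ← Scheme.Hom.comp_apply, ← D.map_comp] using hy
  have := h h1
  simpa only [Set.mem_preimage, ← Scheme.Hom.comp_apply, ← D.map_comp] using this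

include hc in
/-- If a constructible set `E` and a difference `V \ W'` of compact opens have the same
preimage in the limit, they have the same preimage at some finite level. -/
theorem exists_map_preimage_eq_sdiff {k : I} [CompactSpace (D.obj k)] {E V W' : Set (D.obj k)}
    (hE : IsConstructible E) (hV : IsOpen V) (hVc : IsCompact V) (hW' : IsOpen W')
    (hW'c : IsCompact W') (H : c.π.app k ⁻¹' E = c.π.app k ⁻¹' (V \ W')) :
    ∃ (l : I) (χ : l ⟶ k), D.map χ ⁻¹' E = D.map χ ⁻¹' (V \ W') := by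
  obtain ⟨l₁, ψ₁, h₁⟩ := exists_map_preimage_inter_subset D c hc (U := Set.univ) (E := E) (V := V)
    isOpen_univ isCompact_univ hE hV (by
      rw [Set.univ_inter, H]; exact Set.preimage_mono Set.sdiff_subset)
  obtain ⟨l₂, ψ₂, h₂⟩ := exists_map_preimage_inter_subset D c hc (U := W') (E := E) (V := ∅)
    hW' hW'c hE isOpen_empty (by
      rw [Set.preimage_inter, H]
      rintro x ⟨hx1, hx2⟩
      exact (hx2.2 hx1).elim)
  obtain ⟨l₃, ψ₃, h₃⟩ := exists_map_preimage_inter_subset D c hc (U := V) (E := Eᶜ) (V := W')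
    hV hVc hE.compl hW' (by
      rintro x ⟨hx1, hx2⟩
      by_contra hx3
      have : x ∈ c.π.app k ⁻¹' E := by rw [H]; exact ⟨hx1, hx3⟩
      exact hx2 this)
  obtain ⟨m, a, b, hab⟩ := IsCofiltered.cospan ψ₁ ψ₂
  obtain ⟨l, a', b', hab'⟩ := IsCofiltered.cospan (a ≫ ψ₁) ψ₃
  have e1 : a' ≫ a ≫ ψ₁ = a' ≫ b ≫ ψ₂ := by rw [hab]
  have e3 : a' ≫ a ≫ ψ₁ = b' ≫ ψ₃ := hab'
  have k₁ := preimage_comp_subset D (a' ≫ a) ψ₁ h₁
  have k₂ := preimage_comp_subset D (a' ≫ b) ψ₂ h₂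
  have k₃ := preimage_comp_subset D b' ψ₃ h₃
  rw [Category.assoc] at k₁ k₂
  rw [← e1] at k₂
  rw [← e3] at k₃
  refine ⟨l, a' ≫ a ≫ ψ₁, ?_⟩
  ext y
  constructor
  · intro hy
    refine ⟨?_, ?_⟩
    · exact k₁ ⟨Set.mem_univ _, hy⟩
    · intro hyW
      exact k₂ ⟨hyW, hy⟩
  · rintro ⟨hyV, hyW⟩
    by_contra hyE
    exact hyW (k₃ ⟨hyV, hyE⟩)

include hc in
theorem compactSpace_pt_of_compactSpace (i : I) [CompactSpace (D.obj i)] : CompactSpace c.pt := by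
  have : IsAffineHom (c.π.app i) := isAffineHom_π_app D c hc i
  exact QuasiCompact.compactSpace_of_compactSpace (c.π.app i)

omit [IsCofiltered I] in
theorem compactSpace_obj_of_hom {j i : I} (φ : j ⟶ i) [CompactSpace (D.obj i)] :
    CompactSpace (D.obj j) :=
  QuasiCompact.compactSpace_of_compactSpace (D.map φ)

include hc in
/-- A compact open of the limit and a constructible set at some level. -/
theorem exists_isOpen_map_preimage (i₁ : I) [CompactSpace (D.obj i₁)] (Z₁ : Set (D.obj i₁))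
    (hZ : IsConstructible Z₁) (hopen : IsOpen (c.π.app i₁ ⁻¹' Z₁)) :
    ∃ (j : I) (φ : j ⟶ i₁), IsOpen (D.map φ ⁻¹' Z₁) := by
  have : CompactSpace c.pt := compactSpace_pt_of_compactSpace D c hc i₁
  have hWc : IsCompact (c.π.app i₁ ⁻¹' Z₁ : Set c.pt) :=
    IsConstructible_isCompact (X := c.pt) ((c.π.app i₁).isConstructible_preimage hZ)
  obtain ⟨j₀, V₀, hV₀c, hV₀⟩ := exists_preimage_eq D c hc ⟨_, hopen⟩ hWc
  let k := IsCofiltered.min j₀ i₁
  let a : k ⟶ j₀ := IsCofiltered.minToLeft j₀ i₁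
  let φ : k ⟶ i₁ := IsCofiltered.minToRight j₀ i₁
  have : CompactSpace (D.obj k) := compactSpace_obj_of_hom D φ
  have hVc : IsCompact (D.map a ⁻¹' (V₀ : Set (D.obj j₀))) :=
    QuasiCompact.isCompact_preimage (f := D.map a) _ V₀.2 hV₀c
  have hVo : IsOpen (D.map a ⁻¹' (V₀ : Set (D.obj j₀))) := V₀.2.preimage (D.map a).continuous
  have hE : IsConstructible (D.map φ ⁻¹' Z₁) := (D.map φ).isConstructible_preimage hZ
  have H : c.π.app k ⁻¹' (D.map φ ⁻¹' Z₁) =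
      c.π.app k ⁻¹' ((D.map a ⁻¹' (V₀ : Set (D.obj j₀))) \ ∅) := by
    rw [Set.sdiff_empty]
    have h1 : c.π.app k ⁻¹' (D.map φ ⁻¹' Z₁) = c.π.app i₁ ⁻¹' Z₁ := by
      ext x
      simp only [Set.mem_preimage, ← Scheme.Hom.comp_apply, c.w]
    have h2 : c.π.app k ⁻¹' (D.map a ⁻¹' (V₀ : Set (D.obj j₀))) =
        c.π.app j₀ ⁻¹' (V₀ : Set (D.obj j₀)) := by
      ext x
      simp only [Set.mem_preimage, ← Scheme.Hom.comp_apply, c.w]
    rw [h1, h2]
    exact (congrArg (fun U : c.pt.Opens => (U : Set c.pt)) hV₀).symm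
  obtain ⟨l, χ, hχ⟩ := exists_map_preimage_eq_sdiff D c hc hE hVo hVc isOpen_empty
    isCompact_empty H
  refine ⟨l, χ ≫ φ, ?_⟩
  have : D.map (χ ≫ φ) ⁻¹' Z₁ = D.map χ ⁻¹' (D.map φ ⁻¹' Z₁) := by
    ext x
    simp only [Set.mem_preimage, ← Scheme.Hom.comp_apply, ← D.map_comp]
  rw [this, hχ, Set.sdiff_empty]
  exact hVo.preimage (D.map χ).continuous

include hc in
/-- Two compact opens of the limit come from a common level (above a given index). -/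
theorem exists_preimage_eq_pair (i₀ : I) (W W' : c.pt.Opens) (hW : IsCompact (W : Set c.pt))
    (hW' : IsCompact (W' : Set c.pt)) :
    ∃ (k : I) (_ : k ⟶ i₀) (V V' : (D.obj k).Opens), IsCompact (V : Set (D.obj k)) ∧
      IsCompact (V' : Set (D.obj k)) ∧ c.π.app k ⁻¹ᵁ V = W ∧ c.π.app k ⁻¹ᵁ V' = W' := by
  obtain ⟨j₁, V₁, hV₁c, hV₁⟩ := exists_preimage_eq D c hc W hW
  obtain ⟨j₂, V₂, hV₂c, hV₂⟩ := exists_preimage_eq D c hc W' hW'
  let m := IsCofiltered.min j₁ j₂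
  let k := IsCofiltered.min m i₀
  let a : k ⟶ j₁ := IsCofiltered.minToLeft m i₀ ≫ IsCofiltered.minToLeft j₁ j₂
  let b : k ⟶ j₂ := IsCofiltered.minToLeft m i₀ ≫ IsCofiltered.minToRight j₁ j₂
  refine ⟨k, IsCofiltered.minToRight m i₀, D.map a ⁻¹ᵁ V₁, D.map b ⁻¹ᵁ V₂,
    QuasiCompact.isCompact_preimage (f := D.map a) _ V₁.2 hV₁c,
    QuasiCompact.isCompact_preimage (f := D.map b) _ V₂.2 hV₂c, ?_, ?_⟩
  · rw [← hV₁, ← Scheme.Hom.comp_preimage, c.w]
  · rw [← hV₂, ← Scheme.Hom.comp_preimage, c.w]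

include hc in
theorem exists_isLocallyClosed_map_preimage (i₁ : I) [CompactSpace (D.obj i₁)]
    (Z₁ : Set (D.obj i₁)) (hZ : IsConstructible Z₁)
    (hlc : IsLocallyClosed (c.π.app i₁ ⁻¹' Z₁ : Set c.pt)) :
    ∃ (j : I) (φ : j ⟶ i₁), IsLocallyClosed (D.map φ ⁻¹' Z₁) := by
  have : CompactSpace c.pt := compactSpace_pt_of_compactSpace D c hc i₁
  obtain ⟨W, W', hWo, hWc, hW'o, hW'c, hWW'⟩ :=
    exists_compact_open_sdiff_of_isLocallyClosed (X := c.pt) PrespectralSpace.isTopologicalBasis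
      ((c.π.app i₁).isConstructible_preimage hZ) hlc
  obtain ⟨k, φ, V, V', hVc, hV'c, hV, hV'⟩ :=
    exists_preimage_eq_pair D c hc i₁ ⟨W, hWo⟩ ⟨W', hW'o⟩ hWc hW'c
  have : CompactSpace (D.obj k) := compactSpace_obj_of_hom D φ
  have hE : IsConstructible (D.map φ ⁻¹' Z₁) := (D.map φ).isConstructible_preimage hZ
  have H : c.π.app k ⁻¹' (D.map φ ⁻¹' Z₁) =
      c.π.app k ⁻¹' ((V : Set (D.obj k)) \ (V' : Set (D.obj k))) := by
    have h1 : c.π.app k ⁻¹' (D.map φ ⁻¹' Z₁) = c.π.app i₁ ⁻¹' Z₁ := by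
      ext x
      simp only [Set.mem_preimage, ← Scheme.Hom.comp_apply, c.w]
    rw [h1, hWW', Set.preimage_sdiff]
    have e1 : (c.π.app k ⁻¹' (V : Set (D.obj k)) : Set c.pt) = W :=
      congrArg (fun U : c.pt.Opens => (U : Set c.pt)) hV
    have e2 : (c.π.app k ⁻¹' (V' : Set (D.obj k)) : Set c.pt) = W' :=
      congrArg (fun U : c.pt.Opens => (U : Set c.pt)) hV'
    rw [e1, e2]
  obtain ⟨l, χ, hχ⟩ := exists_map_preimage_eq_sdiff D c hc hE V.2 hVc V'.2 hV'c H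
  refine ⟨l, χ ≫ φ, ?_⟩
  have : D.map (χ ≫ φ) ⁻¹' Z₁ = D.map χ ⁻¹' (D.map φ ⁻¹' Z₁) := by
    ext x
    simp only [Set.mem_preimage, ← Scheme.Hom.comp_apply, ← D.map_comp]
  rw [this, hχ]
  exact IsLocallyClosed.preimage ⟨V, (V' : Set (D.obj k))ᶜ, V.2, V'.2.isClosed_compl, rfl⟩
    (D.map χ).continuous

omit [IsCofiltered I] in
theorem quasiSeparatedSpace_obj_of_hom {j i : I} (φ : j ⟶ i) [QuasiSeparatedSpace (D.obj i)] :
    QuasiSeparatedSpace (D.obj j) :=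
  quasiSeparatedSpace_of_quasiSeparated (D.map φ)

include hc in
theorem exists_isConstructible_preimage_eq (i₀ : I) [CompactSpace (D.obj i₀)]
    [QuasiSeparatedSpace (D.obj i₀)] (Z : Set c.pt) (hZ : IsConstructible Z) :
    ∃ (i : I) (_ : i ⟶ i₀) (Zi : Set (D.obj i)),
      IsConstructible Zi ∧ (c.π.app i ⁻¹' Zi : Set c.pt) = Z := by
  have : CompactSpace c.pt := compactSpace_pt_of_compactSpace D c hc i₀
  refine isConstructible_sdiff_union_induction (X := c.pt)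
    (p := fun Z => ∃ (i : I) (_ : i ⟶ i₀) (Zi : Set (D.obj i)),
      IsConstructible Zi ∧ (c.π.app i ⁻¹' Zi : Set c.pt) = Z) ?_ ?_ hZ
  · intro A B hA hA' hB hB'
    obtain ⟨k, φ, V, V', hVc, hV'c, hV, hV'⟩ :=
      exists_preimage_eq_pair D c hc i₀ ⟨A, hA⟩ ⟨B, hB⟩ hA'.isCompact hB'.isCompact
    have : QuasiSeparatedSpace (D.obj k) := quasiSeparatedSpace_obj_of_hom D φ
    refine ⟨k, φ, (V : Set (D.obj k)) \ (V' : Set (D.obj k)),
      (hVc.isConstructible V.2).sdiff (hV'c.isConstructible V'.2), ?_⟩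
    rw [Set.preimage_sdiff]
    have e1 : (c.π.app k ⁻¹' (V : Set (D.obj k)) : Set c.pt) = A :=
      congrArg (fun U : c.pt.Opens => (U : Set c.pt)) hV
    have e2 : (c.π.app k ⁻¹' (V' : Set (D.obj k)) : Set c.pt) = B :=
      congrArg (fun U : c.pt.Opens => (U : Set c.pt)) hV'
    rw [e1, e2]
  · rintro s t ⟨i₁, φ₁, Z₁, hZ₁, rfl⟩ ⟨i₂, φ₂, Z₂, hZ₂, rfl⟩
    obtain ⟨l, a, b, hab⟩ := IsCofiltered.cospan φ₁ φ₂
    refine ⟨l, a ≫ φ₁, D.map a ⁻¹' Z₁ ∪ D.map b ⁻¹' Z₂,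
      ((D.map a).isConstructible_preimage hZ₁).union ((D.map b).isConstructible_preimage hZ₂), ?_⟩
    ext x
    simp only [Set.mem_preimage, Set.mem_union, ← Scheme.Hom.comp_apply, c.w]

include hc in
theorem exists_isLocallyClosed_isConstructible_preimage_eq (i₀ : I) [CompactSpace (D.obj i₀)]
    [QuasiSeparatedSpace (D.obj i₀)] (Z : Set c.pt) (hZ : IsConstructible Z)
    (hZ' : IsLocallyClosed Z) :
    ∃ (i : I) (_ : i ⟶ i₀) (Zi : Set (D.obj i)),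
      IsConstructible Zi ∧ IsLocallyClosed Zi ∧ (c.π.app i ⁻¹' Zi : Set c.pt) = Z := by
  have : CompactSpace c.pt := compactSpace_pt_of_compactSpace D c hc i₀
  obtain ⟨W, W', hWo, hWc, hW'o, hW'c, rfl⟩ :=
    exists_compact_open_sdiff_of_isLocallyClosed (X := c.pt) PrespectralSpace.isTopologicalBasis
      hZ hZ'
  obtain ⟨k, φ, V, V', hVc, hV'c, hV, hV'⟩ :=
    exists_preimage_eq_pair D c hc i₀ ⟨W, hWo⟩ ⟨W', hW'o⟩ hWc hW'c
  have : QuasiSeparatedSpace (D.obj k) := quasiSeparatedSpace_obj_of_hom D φ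
  refine ⟨k, φ, (V : Set (D.obj k)) \ (V' : Set (D.obj k)),
    (hVc.isConstructible V.2).sdiff (hV'c.isConstructible V'.2),
    ⟨V, (V' : Set (D.obj k))ᶜ, V.2, V'.2.isClosed_compl, rfl⟩, ?_⟩
  rw [Set.preimage_sdiff]
  have e1 : (c.π.app k ⁻¹' (V : Set (D.obj k)) : Set c.pt) = W :=
    congrArg (fun U : c.pt.Opens => (U : Set c.pt)) hV
  have e2 : (c.π.app k ⁻¹' (V' : Set (D.obj k)) : Set c.pt) = W' :=
    congrArg (fun U : c.pt.Opens => (U : Set c.pt)) hV'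
  rw [e1, e2]

end Groth.Agent.Lib.Helper5
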