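import Mathlib
import Groth.Agent.Lib.Helper6.AlgClosedTensor

/-!
# Irreducible schemes over an algebraically closed field are geometrically irreducible

* `geometricallyIrreducible_Spec_of_isAlgClosed`: affine case (via Helper6's tensor product lemma).
* `geometricallyIrreducible_of_isAlgClosed`: any scheme `F` over an algebraically closed field `k`
  with `IrreducibleSpace F` is geometrically irreducible over `k`.
* `irreducibleSpace_pullback_of_isAlgClosed`: products of irreducible `k`-schemes are irreducible.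
-/

set_option autoImplicit false

open CategoryTheory Limits AlgebraicGeometry TensorProduct

namespace Groth.Agent.Lib.Helper5

universe u

theorem geometricallyIrreducible_Spec_of_isAlgClosed (k : Type u) [Field k] [IsAlgClosed k]
    (A : CommRingCat.{u}) (φ : CommRingCat.of k ⟶ A) [IrreducibleSpace (Spec A)] :
    GeometricallyIrreducible (Spec.map φ) := by
  algebraize [φ.hom]
  refine ⟨geometrically_iff_of_commRing_of_isClosedUnderIsomorphisms.mpr fun K _ _ => ?_⟩
  have e := pullbackSpecIso k A K
  have h1 : IrreducibleSpace (PrimeSpectrum A) := ‹IrreducibleSpace (Spec A)›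
  have h2 : IrreducibleSpace (PrimeSpectrum K) := by
    have : Unique (PrimeSpectrum K) := inferInstance
    exact ⟨inferInstance⟩
  have h3 : IrreducibleSpace (PrimeSpectrum (A ⊗[k] K)) :=
    Groth.Agent.Lib.Helper6.irreducibleSpace_tensor_of_isAlgClosed (K := k) (A := K) (B := A)
  have h4 : IrreducibleSpace (Spec (.of (A ⊗[k] K))) := h3
  exact (e.hom.homeomorph.irreducibleSpace_iff).mpr h4

theorem geometricallyIrreducible_of_isAlgClosed (k : Type u) [Field k] [IsAlgClosed k]
    {F : Scheme.{u}} (qF : F ⟶ Spec (.of k)) [IrreducibleSpace F] :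
    GeometricallyIrreducible qF := by
  obtain ⟨x⟩ := (inferInstance : Nonempty F)
  obtain ⟨U, hU, hxU⟩ : ∃ U : F.Opens, IsAffineOpen U ∧ x ∈ U := by
    obtain ⟨_, ⟨U, hU, rfl⟩, hxU, -⟩ := F.isBasis_affineOpens.exists_subset_of_mem_open
      (Set.mem_univ x) isOpen_univ
    exact ⟨U, hU, hxU⟩
  have hUne : Nonempty (U : Scheme.{u}) := ⟨⟨x, hxU⟩⟩
  have hUirr' : IrreducibleSpace (U : Scheme.{u}) := U.ι.isOpenEmbedding.irreducibleSpace
  have hSirr : IrreducibleSpace (Spec Γ(F, U)) :=
    (hU.isoSpec.hom.homeomorph.irreducibleSpace_iff).mp hUirr'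
  -- the affine open is geometrically irreducible over `k`
  have hgi : GeometricallyIrreducible (U.ι ≫ qF) := by
    have e : U.ι ≫ qF = hU.isoSpec.hom ≫ (hU.isoSpec.inv ≫ U.ι ≫ qF) := by simp
    obtain ⟨ψ, hψ⟩ := Spec.map_surjective (hU.isoSpec.inv ≫ U.ι ≫ qF)
    rw [e, ← hψ]
    have := geometricallyIrreducible_Spec_of_isAlgClosed k _ ψ
    exact (MorphismProperty.cancel_left_of_respectsIso @GeometricallyIrreducible _ _).mpr this
  refine ⟨geometrically_iff_of_commRing_of_isClosedUnderIsomorphisms.mpr fun K _ _ => ?_⟩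
  set g := Spec.map (CommRingCat.ofHom (algebraMap k K)) with hg
  set p := pullback.fst qF g with hp
  have hpo : IsOpenMap p := p.isOpenMap
  have h1 : IrreducibleSpace ↥(pullback (U.ι ≫ qF) g) :=
    GeometricallyIrreducible.geometrically_irreducibleSpace (f := U.ι ≫ qF) g _ _
      (IsPullback.of_hasPullback _ _)
  let e : (p ⁻¹ᵁ U : Scheme.{u}) ≅ pullback (U.ι ≫ qF) g :=
    (pullbackRestrictIsoRestrict p U).symm ≪≫ pullbackSymmetry _ _ ≪≫
      pullbackRightPullbackFstIso qF g U.ι
  have h2 : IrreducibleSpace ↥(p ⁻¹ᵁ U : Scheme.{u}) :=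
    (e.hom.homeomorph.irreducibleSpace_iff).mpr h1
  have h3 : IsIrreducible (Set.range (p ⁻¹ᵁ U).ι) := by
    rw [← Set.image_univ]
    exact (IrreducibleSpace.isIrreducible_univ _).image _ (p ⁻¹ᵁ U).ι.continuous.continuousOn
  rw [Scheme.Opens.range_ι] at h3
  have hd : Dense ((p ⁻¹ᵁ U : (pullback qF g).Opens) : Set ↥(pullback qF g)) := by
    have : Dense (U : Set F) := U.isOpen.dense ⟨x, hxU⟩
    exact this.preimage hpo
  have h4 := isIrreducible_iff_closure.mpr h3
  rw [hd.closure_eq] at h4
  exact (irreducibleSpace_def _).mpr h4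

/-- Over an algebraically closed field, the product of two irreducible schemes is irreducible. -/
theorem irreducibleSpace_pullback_of_isAlgClosed (k : Type u) [Field k] [IsAlgClosed k]
    {X F : Scheme.{u}} (qX : X ⟶ Spec (.of k)) (qF : F ⟶ Spec (.of k)) [IrreducibleSpace X]
    [IrreducibleSpace F] : IrreducibleSpace ↥(pullback qX qF) := by
  have := geometricallyIrreducible_of_isAlgClosed k qF
  infer_instance

end Groth.Agent.Lib.Helper5
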