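import Mathlib
import Groth.Prelude.Def_MoreMor
import Groth.Agent.Lib.Helper13.QuasiAffineLocal

/-!
# Ind-quasi-affine morphisms (helper5)

Working characterisation `isIndQuasiAffineHom_iff`: `f : X ⟶ Y` is ind-quasi-affine iff every
quasi-compact open `U` of `X` mapping into an affine open of `Y` is quasi-affine.
-/

set_option autoImplicit false

universe u

namespace Groth.Agent.Lib.Helper5.IndQuasiAffine

open AlgebraicGeometry CategoryTheory CategoryTheory.Limits TopologicalSpace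

/-- Quasi-affineness is invariant under isomorphism. -/
lemma isQuasiAffine_of_iso {X Y : Scheme.{u}} (e : X ≅ Y) (h : Y.IsQuasiAffine) :
    X.IsQuasiAffine :=
  Scheme.IsQuasiAffine.of_isAffineHom e.hom

/-- A quasi-compact open of a quasi-affine open is quasi-affine. -/
lemma isQuasiAffine_of_le {X : Scheme.{u}} {U V : X.Opens} (hUV : U ≤ V)
    (hU : IsCompact (U : Set X)) (hV : Scheme.IsQuasiAffine (V : Scheme.{u})) :
    Scheme.IsQuasiAffine (U : Scheme.{u}) := by
  have : CompactSpace ↑U := isCompact_iff_compactSpace.mp hU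
  exact Scheme.IsQuasiAffine.of_isImmersion (X.homOfLE hUV)

/-- Opens of opens: quasi-affineness can be checked on the image. -/
lemma isQuasiAffine_iff_image {X : Scheme.{u}} (U : X.Opens) (W : (U : Scheme.{u}).Opens) :
    Scheme.IsQuasiAffine (W : Scheme.{u}) ↔ Scheme.IsQuasiAffine (U.ι ''ᵁ W : Scheme.{u}) :=
  ⟨fun h => isQuasiAffine_of_iso (U.ι.isoImage W).symm h,
   fun h => isQuasiAffine_of_iso (U.ι.isoImage W) h⟩

/-- A quasi-compact open is quasi-affine if it is covered by quasi-affine basic opens of its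
sections. -/
lemma isQuasiAffine_of_cover_basicOpen {X : Scheme.{u}} (U : X.Opens)
    (hU : IsCompact (U : Set X))
    (H : ∀ x ∈ U, ∃ s : Γ(X, U), x ∈ X.basicOpen s ∧
      Scheme.IsQuasiAffine (X.basicOpen s : Scheme.{u})) :
    Scheme.IsQuasiAffine (U : Scheme.{u}) := by
  have : CompactSpace ↑U := isCompact_iff_compactSpace.mp hU
  refine Groth.Agent.Lib.Helper13.isQuasiAffine_of_forall_exists_mem_basicOpen _ fun z => ?_
  obtain ⟨s, hxs, hqa⟩ := H (U.ι z) z.2
  have himg : U.ι ''ᵁ (U : Scheme.{u}).basicOpen (U.topIso.inv s) = X.basicOpen s :=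
    Scheme.Opens.ι_image_basicOpen_topIso_inv U s
  refine ⟨U.topIso.inv s, ?_, ?_⟩
  · rw [isQuasiAffine_iff_image]
    exact Groth.Agent.Lib.Helper13.isQuasiAffine_of_eq himg.symm hqa
  · have : U.ι z ∈ U.ι ''ᵁ (U : Scheme.{u}).basicOpen (U.topIso.inv s) := by
      rw [himg]; exact hxs
    obtain ⟨z', hz', hzz'⟩ := this
    obtain rfl : z' = z := U.ι.isOpenEmbedding.injective hzz'
    exact hz'

/-- Working characterisation of ind-quasi-affine morphisms. -/
lemma isIndQuasiAffineHom_iff {X Y : Scheme.{u}} (f : X ⟶ Y) :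
    MoreMor.IsIndQuasiAffineHom f ↔ ∀ V : Y.Opens, IsAffineOpen V → ∀ U : X.Opens,
      U ≤ f ⁻¹ᵁ V → IsCompact (U : Set X) → Scheme.IsQuasiAffine (U : Scheme.{u}) := by
  constructor
  · intro h V hV U hUV hU
    have hW : IsCompact (((f ⁻¹ᵁ V).ι ⁻¹ᵁ U : (f ⁻¹ᵁ V : Scheme.{u}).Opens) : Set ↑(f ⁻¹ᵁ V)) := by
      apply (f ⁻¹ᵁ V).ι.isOpenEmbedding.isInducing.isCompact_preimage' hU
      have hr : Set.range (f ⁻¹ᵁ V).ι = ((f ⁻¹ᵁ V : X.Opens) : Set X) := Scheme.Opens.range_ι _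
      rw [hr]
      exact hUV
    have h1 := h V hV _ hW
    rw [isQuasiAffine_iff_image] at h1
    refine Groth.Agent.Lib.Helper13.isQuasiAffine_of_eq ?_ h1
    rw [Scheme.Hom.image_preimage_eq_opensRange_inf, Scheme.Opens.opensRange_ι]
    exact inf_eq_right.mpr hUV
  · intro h V hV W hW
    rw [isQuasiAffine_iff_image]
    refine h V hV _ ((f ⁻¹ᵁ V).ι_image_le W) ?_
    exact hW.image (f ⁻¹ᵁ V).ι.continuous

/-- In a quasi-affine open `V` of `Y`, every point has an affine basic open neighbourhood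
`Y.basicOpen h` with `h ∈ Γ(Y, V)`. -/
lemma exists_isAffineOpen_basicOpen {Y : Scheme.{u}} (V : Y.Opens)
    (hV : Scheme.IsQuasiAffine (V : Scheme.{u})) (y : Y) (hy : y ∈ V) :
    ∃ h : Γ(Y, V), IsAffineOpen (Y.basicOpen h) ∧ y ∈ Y.basicOpen h := by
  obtain ⟨_, ⟨_, ⟨r, hr, rfl⟩, rfl⟩, hyr, -⟩ := (Scheme.IsQuasiAffine.isBasis_basicOpen
    (V : Scheme.{u})).exists_subset_of_mem_open (Set.mem_univ (⟨y, hy⟩ : ↑V)) isOpen_univ
  refine ⟨V.topIso.hom r, ?_, ?_⟩
  · have h1 : V.ι ''ᵁ (V : Scheme.{u}).basicOpen r = Y.basicOpen (V.topIso.hom r) := by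
      rw [← Scheme.Opens.ι_image_basicOpen_topIso_inv V (V.topIso.hom r)]
      congr 2
      exact (V.topIso.hom_inv_id_apply r).symm
    rw [← h1]
    exact hr.image_of_isOpenImmersion V.ι
  · have h1 : V.ι ''ᵁ (V : Scheme.{u}).basicOpen r = Y.basicOpen (V.topIso.hom r) := by
      rw [← Scheme.Opens.ι_image_basicOpen_topIso_inv V (V.topIso.hom r)]
      congr 2
      exact (V.topIso.hom_inv_id_apply r).symm
    rw [← h1]
    exact ⟨⟨y, hy⟩, hyr, rfl⟩

/-- The basic open of a pulled back section. -/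
lemma basicOpen_appLE {X Y : Scheme.{u}} (f : X ⟶ Y) (V : Y.Opens) (U : X.Opens)
    (hUV : U ≤ f ⁻¹ᵁ V) (h : Γ(Y, V)) :
    X.basicOpen (f.appLE V U hUV h) = U ⊓ f ⁻¹ᵁ (Y.basicOpen h) := by
  rw [Scheme.Hom.appLE, CommRingCat.comp_apply, Scheme.basicOpen_res, Scheme.preimage_basicOpen]

end Groth.Agent.Lib.Helper5.IndQuasiAffine
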