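import Groth.Agent.Lib.Helper5.GrothAcyc
import Groth.Agent.Lib.Helper17.RFUnit

/-!
# The unit of the total right derived functor on bounded below complexes of acyclic objects (helper5)

For an additive left exact functor `F : A ⥤ B` between abelian categories (`A` with enough injectives and
K-injective resolutions) whose total right derived functor `RF` on the unbounded derived category exists, the unit
`F K ⟶ RF K` is an isomorphism for every bounded below complex `K` with `F`-acyclic terms.
-/

set_option autoImplicit false

universe w₁ w₂ v₁ v₂ u₁ u₂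

open CategoryTheory Limits

namespace Groth.Agent.Lib.Helper5.PlusAcyc

open Groth.Agent.Lib.Helper17.DerKInj Groth.Agent.Lib.Helper17.RFTri Groth.Agent.Lib.Helper17.RFUnit
  Groth.Agent.Lib.Helper5.GrothSS Groth.Agent.Lib.Helper5.AcyclicRes

variable {A : Type u₁} [Category.{v₁} A] [Abelian A] [HasDerivedCategory.{w₁} A] [EnoughInjectives A]
  [HasInjectiveResolutions A]
  {B : Type u₂} [Category.{v₂} B] [Abelian B] [HasDerivedCategory.{w₂} B]
  (F : A ⥤ B) [F.Additive] [PreservesFiniteLimits F]
  [(Φ F).HasRightDerivedFunctor (HomotopyCategory.quasiIso A (ComplexShape.up ℤ))]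

/-- **Leray's acyclicity lemma for the unbounded total derived functor.** -/
theorem isIso_unit_of_acyc (hA : HasKInjRes A) (K : CochainComplex A ℤ) (a : ℤ) [K.IsStrictlyGE a]
    (hK : ∀ n, Acyc F (K.X n)) :
    IsIso ((αF F).app ((HomotopyCategory.quotient _ _).obj K)) := by
  obtain ⟨L, j, _, _, _⟩ := CochainComplex.Plus.modelCategoryQuillen.exists_quasiIso_injective K a
  have hq : QuasiIso ((F.mapHomologicalComplex (ComplexShape.up ℤ)).map j) :=
    (isAdapted_acyc F).quasiIso_map a hK j
  haveI : L.IsKInjective := CochainComplex.isKInjective_of_injective L a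
  exact isIso_unit_of_quasiIso F hA j hq

/-- `RF (Q K) ≅ Q (F K)` for `K` bounded below with acyclic terms. -/
theorem nonempty_RF_iso (hA : HasKInjRes A) (K : CochainComplex A ℤ) (a : ℤ) [K.IsStrictlyGE a]
    (hK : ∀ n, Acyc F (K.X n)) :
    Nonempty ((RF F).obj (DerivedCategory.Q.obj K) ≅
      DerivedCategory.Q.obj ((F.mapHomologicalComplex (ComplexShape.up ℤ)).obj K)) := by
  haveI := isIso_unit_of_acyc F hA K a hK
  exact ⟨(asIso ((αF F).app ((HomotopyCategory.quotient _ _).obj K))).symm⟩

end Groth.Agent.Lib.Helper5.PlusAcyc
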