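import Groth.Prelude.Def_Coh
import Groth.Agent.Lib.Helper5.ColimTopGen
import Groth.Agent.Lib.Helper5.RpushAb
import Groth.Agent.Lib.Helper22.ColimCohU.Cartan
import Groth.Agent.Lib.Helper22.AdaptedAcyclic

/-!
# Higher direct images along a qcqs morphism commute with filtered colimits (Zariski topology)

Port to the Zariski site of the etale development of helper22 (`ColimCohU/RpushLS`), completed by
the local-vanishing half (`LZ`) and assembled with `isColimit_of_local`.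

* `Bz`, `Covz`, `h1z`, `h2z`: quasi-compact quasi-separated opens and their finite covers;
* `epi_local_lift`, `exact_local_lift`: local lifting of sections along epimorphisms / in exact
  sequences of abelian sheaves on a space;
* `isZero_Rpush_succ_of_covAcyclic`: Cech-acyclic sheaves are acyclic for `f_*`, `f` qcqs;
* `LS_all`, `LZ_all`, `preservesColimitsOfShape_RpushAb`.
-/

set_option autoImplicit false
set_option linter.unusedSectionVars false

universe u

open CategoryTheory CategoryTheory.Limits Opposite TopologicalSpace AlgebraicGeometry Abelian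

namespace Groth.Agent.Lib.Helper5.RpushColim

open Groth.Agent.Lib.Helper22.CechU Groth.Agent.Lib.Helper22.CechU.Site
open Groth.Agent.Lib.Helper22.ColimCohU Groth.Agent.Lib.Helper22.DimShift
open Groth.Agent.Lib.Helper22.Horseshoe

/-! ### Quasi-compact quasi-separated opens -/

section Top

variable {X : TopCat.{u}}

/-- Quasi-compact quasi-separated opens. -/
def Bz (X : TopCat.{u}) : Set (Opens X) :=
  {V | IsCompact (V : Set X) ∧ IsQuasiSeparated (V : Set X)}

/-- Finite covers of qcqs opens by quasi-compact opens. -/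
def Covz (X : TopCat.{u}) (U : Opens X) (ι : Type u) (Y : ι → Over U) : Prop :=
  Finite ι ∧ U ∈ Bz X ∧ (∀ i, IsCompact ((Y i).left : Set X)) ∧
    (U : Set X) ⊆ ⋃ i, ((Y i).left : Set X)

lemma isCompact_iInf_fin {U : Opens X} (hU : IsQuasiSeparated (U : Set X)) :
    ∀ (p : ℕ) (W : Fin (p + 1) → Opens X), (∀ k, W k ≤ U) → (∀ k, IsCompact (W k : Set X)) →
      IsCompact ((⨅ k, W k : Opens X) : Set X) := by
  intro p
  induction p with
  | zero =>
    intro W hW hc
    have h : (⨅ k, W k) = W 0 := by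
      apply le_antisymm (iInf_le _ 0)
      exact le_iInf fun k => Fin.cases le_rfl (fun j => j.elim0) k
    rw [h]
    exact hc 0
  | succ p ih =>
    intro W hW hc
    have h : (⨅ k, W k) = W 0 ⊓ ⨅ k : Fin (p + 1), W k.succ := by
      apply le_antisymm
      · exact le_inf (iInf_le _ 0) (le_iInf fun k => iInf_le _ k.succ)
      · refine le_iInf fun k => ?_
        refine Fin.cases ?_ (fun j => ?_) k
        · exact inf_le_left
        · exact inf_le_right.trans (iInf_le _ j)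
    rw [h, Opens.coe_inf]
    have hle : (⨅ k : Fin (p + 1), W k.succ) ≤ U := (iInf_le _ 0).trans (hW _)
    exact hU _ _ (SetLike.coe_subset_coe.2 (hW 0)) (W 0).isOpen (hc 0)
      (SetLike.coe_subset_coe.2 hle) (Opens.isOpen _)
      (ih (fun k => W k.succ) (fun k => hW _) (fun k => hc _))

lemma h1z (U : Opens X) (ι : Type u) (Y : ι → Over U) (h : Covz X U ι Y) :
    U ∈ Bz X ∧ Sieve.ofArrows (fun i => (Y i).left) (fun i => (Y i).hom) ∈
      Opens.grothendieckTopology X U ∧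
      ∀ (p : ℕ) (a : Fin (p + 1) → ι), (∏ᶜ fun k => Y (a k)).left ∈ Bz X := by
  obtain ⟨hfin, hU, hY, hcov⟩ := h
  refine ⟨hU, ?_, ?_⟩
  · intro x hx
    obtain ⟨i, hi⟩ := Set.mem_iUnion.1 (hcov hx)
    exact ⟨(Y i).left, (Y i).hom, Sieve.ofArrows_mk _ _ i, hi⟩
  · intro p a
    rw [Groth.Agent.Lib.Helper22.ColimCoh.Top.prod_left_eq]
    have hle : ∀ k, (Y (a k)).left ≤ U := fun k => leOfHom (Y (a k)).hom
    refine ⟨isCompact_iInf_fin hU.2 p _ hle (fun k => hY (a k)), hU.2.of_subset ?_⟩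
    exact SetLike.coe_subset_coe.2 ((iInf_le _ 0).trans (hle 0))

lemma hfinz (U : Opens X) (ι : Type u) (Y : ι → Over U) (h : Covz X U ι Y) : Finite ι := h.1

lemma hshz (Q : Sheaf (Opens.grothendieckTopology X) AddCommGrpCat.{u}) :
    Presieve.IsSheaf (Opens.grothendieckTopology X) (Q.obj ⋙ forget AddCommGrpCat.{u}) := by
  rw [← isSheaf_iff_isSheaf_of_type]
  exact (Presheaf.isSheaf_iff_isSheaf_forget _ Q.obj (forget AddCommGrpCat.{u})).1 Q.property

variable [PrespectralSpace X]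

lemma h2z (U : Opens X) (hU : U ∈ Bz X) (T : Sieve U)
    (hT : T ∈ Opens.grothendieckTopology X U) :
    ∃ (ι : Type u) (Y : ι → Over U), Covz X U ι Y ∧ ∀ i, T.arrows (Y i).hom := by
  have key : ∀ x : U, ∃ W : Opens X, IsCompact (W : Set X) ∧ (x : X) ∈ W ∧
      ∃ hW : W ≤ U, T.arrows (homOfLE hW) := by
    intro x
    obtain ⟨V, f, hf, hxV⟩ := hT x.1 x.2
    obtain ⟨W, ⟨hWo, hWc⟩, hxW, hWV⟩ :=
      (PrespectralSpace.isTopologicalBasis (X := X)).exists_subset_of_mem_open hxV V.isOpen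
    refine ⟨⟨W, hWo⟩, hWc, hxW, (show (⟨W, hWo⟩ : Opens X) ≤ V from hWV).trans (leOfHom f), ?_⟩
    have : homOfLE ((show (⟨W, hWo⟩ : Opens X) ≤ V from hWV).trans (leOfHom f)) =
        homOfLE (show (⟨W, hWo⟩ : Opens X) ≤ V from hWV) ≫ f := Subsingleton.elim _ _
    rw [this]
    exact T.downward_closed hf _
  choose W hWc hxW hWU hWT using key
  obtain ⟨t, ht⟩ := hU.1.elim_finite_subcover (fun x : U => (W x : Set X))
    (fun x => (W x).isOpen) (fun x hx => Set.mem_iUnion.2 ⟨⟨x, hx⟩, hxW ⟨x, hx⟩⟩)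
  refine ⟨t, fun i => Over.mk (homOfLE (hWU i.1)), ⟨inferInstance, hU, fun i => hWc i.1, ?_⟩,
    fun i => hWT i.1⟩
  intro x hx
  obtain ⟨i, hi⟩ := Set.mem_iUnion.1 (ht hx)
  obtain ⟨hit, hxi⟩ := Set.mem_iUnion.1 hi
  exact Set.mem_iUnion.2 ⟨⟨i, hit⟩, hxi⟩

/-- Quotients of `Covz`-Cech-acyclic sheaves by `Covz`-Cech-acyclic subsheaves. -/
lemma covAcyclic_quot
    (S₀ : ShortComplex (Sheaf (Opens.grothendieckTopology X) AddCommGrpCat.{u}))
    (hS : S₀.ShortExact) (h1 : CovAcyclic (Covz X) S₀.X₁) (h2 : CovAcyclic (Covz X) S₀.X₂) :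
    CovAcyclic (Covz X) S₀.X₃ := by
  intro U ι Yf hY p
  have hse : SecExact Yf (rMap (U := U) S₀.f.hom) (rMap S₀.g.hom) :=
    secExact_of_shortExact Yf S₀ hS fun n σ =>
      surjective_of_covAcyclic hshz h1z h2z S₀ hS h1 _ ((h1z U ι Yf hY).2.2 n σ)
  exact hse.acyc_quot p (h2 U ι Yf hY p) (h1 U ι Yf hY (p + 1))

end Top

/-! ### Local lifting of sections -/

section LocalLift

variable {T : TopCat.{u}}

lemma sec_res {A B : Sheaf (Opens.grothendieckTopology T) AddCommGrpCat.{u}} (φ : A ⟶ B)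
    {V' V : Opens T} (h : V' ≤ V) (s : A.obj.obj (op V)) :
    φ.hom.app (op V') (A.obj.map (homOfLE h).op s) =
      B.obj.map (homOfLE h).op (φ.hom.app (op V) s) :=
  NatTrans.naturality_apply φ.hom (homOfLE h).op s

lemma res_res (A : Sheaf (Opens.grothendieckTopology T) AddCommGrpCat.{u})
    {V'' V' V : Opens T} (h' : V'' ≤ V') (h : V' ≤ V) (s : A.obj.obj (op V)) :
    A.obj.map (homOfLE h').op (A.obj.map (homOfLE h).op s) =
      A.obj.map (homOfLE (h'.trans h)).op s := by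
  have e : (homOfLE (h'.trans h)).op = (homOfLE h).op ≫ (homOfLE h').op := rfl
  rw [e, A.obj.map_comp]
  rfl

lemma sec_comp {A B C : Sheaf (Opens.grothendieckTopology T) AddCommGrpCat.{u}} (φ : A ⟶ B)
    (ψ : B ⟶ C) (V : Opens T) (s : A.obj.obj (op V)) :
    (φ ≫ ψ).hom.app (op V) s = ψ.hom.app (op V) (φ.hom.app (op V) s) := rfl

lemma epi_local_lift {A B : Sheaf (Opens.grothendieckTopology T) AddCommGrpCat.{u}} (φ : A ⟶ B)
    [Epi φ] (V : Opens T) (s : B.obj.obj (op V)) (y : T) (hy : y ∈ V) :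
    ∃ (V' : Opens T) (hV' : V' ≤ V), y ∈ V' ∧ ∃ t : A.obj.obj (op V'),
      φ.hom.app (op V') t = B.obj.map (homOfLE hV').op s := by
  have hls : Presheaf.IsLocallySurjective (Opens.grothendieckTopology T) φ.hom :=
    (Sheaf.isLocallySurjective_iff_epi' (J := Opens.grothendieckTopology T)
      (A := AddCommGrpCat.{u}) φ).2 inferInstance
  obtain ⟨V', g, ⟨t, ht⟩, hyV'⟩ := hls.imageSieve_mem s y hy
  refine ⟨V', leOfHom g, hyV', t, ?_⟩
  have e : homOfLE (leOfHom g) = g := Subsingleton.elim _ _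
  rw [e]
  exact ht

lemma exact_local_lift
    (S₀ : ShortComplex (Sheaf (Opens.grothendieckTopology T) AddCommGrpCat.{u}))
    (hS : S₀.Exact) (V : Opens T) (s : S₀.X₂.obj.obj (op V))
    (hs : S₀.g.hom.app (op V) s = 0) (y : T) (hy : y ∈ V) :
    ∃ (V' : Opens T) (hV' : V' ≤ V), y ∈ V' ∧ ∃ t : S₀.X₁.obj.obj (op V'),
      S₀.f.hom.app (op V') t = S₀.X₂.obj.map (homOfLE hV').op s := by
  let ΓV : Sheaf (Opens.grothendieckTopology T) AddCommGrpCat.{u} ⥤ AddCommGrpCat.{u} :=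
    sheafToPresheaf _ _ ⋙ (evaluation _ _).obj (op V)
  let K : ShortComplex (Sheaf (Opens.grothendieckTopology T) AddCommGrpCat.{u}) :=
    ShortComplex.mk (kernel.ι S₀.g) S₀.g (kernel.condition _)
  have hK : K.Exact := ShortComplex.exact_of_f_is_kernel _ (kernelIsKernel S₀.g)
  have hKm : Mono K.f := inferInstanceAs (Mono (kernel.ι S₀.g))
  have hΓ : (K.map ΓV).Exact := hK.map_of_mono_of_preservesKernel ΓV hKm inferInstance
  obtain ⟨w, hw⟩ := (ShortComplex.ab_exact_iff _).1 hΓ s hs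
  have hw' : (kernel.ι S₀.g).hom.app (op V) w = s := hw
  have hepi : Epi (kernel.lift S₀.g S₀.f S₀.zero) := S₀.exact_iff_epi_kernel_lift.1 hS
  obtain ⟨V', hV', hyV', t, ht⟩ := epi_local_lift (kernel.lift S₀.g S₀.f S₀.zero) V w y hy
  refine ⟨V', hV', hyV', t, ?_⟩
  have h1 : kernel.lift S₀.g S₀.f S₀.zero ≫ kernel.ι S₀.g = S₀.f := kernel.lift_ι _ _ _
  have h2 : S₀.f.hom.app (op V') t =
      (kernel.ι S₀.g).hom.app (op V') ((kernel.lift S₀.g S₀.f S₀.zero).hom.app (op V') t) := by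
    rw [← sec_comp, h1]
  rw [h2, ht, sec_res, hw']

end LocalLift

/-! ### Direct images along a qcqs morphism -/

section Scheme

variable {X S : Scheme.{u}} (f : X ⟶ S) [QuasiCompact f] [QuasiSeparated f]

lemma preimage_mem_Bz (W : S.Opens) (hW : IsAffineOpen W) :
    (f ⁻¹ᵁ W : Opens X.carrier) ∈ Bz X.carrier :=
  ⟨f.isCompact_preimage hW.isCompact, f.isQuasiSeparated_preimage hW.isQuasiSeparated⟩

/-- Direct image along a qcqs morphism of an epimorphism with `Covz`-Cech-acyclic kernel. -/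
theorem epi_push_map_of_covAcyclic
    (S₀ : ShortComplex (Sheaf (Opens.grothendieckTopology X) AddCommGrpCat.{u}))
    (hS : S₀.ShortExact) (h1 : CovAcyclic (Covz X.carrier) S₀.X₁) :
    Epi ((Coh.pushAb f).map S₀.g) := by
  have : Sheaf.IsLocallySurjective ((Coh.pushAb f).map S₀.g) := by
    constructor
    intro V t y hy
    obtain ⟨W, hW, hyW, hWV'⟩ := exists_isAffineOpen_mem_and_subset (x := y) (U := V) hy
    have hWV : W ≤ V := hWV'
    refine ⟨W, homOfLE hWV, ?_, hyW⟩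
    have hB : (f ⁻¹ᵁ W : Opens X.carrier) ∈ Bz X.carrier := preimage_mem_Bz f W hW
    obtain ⟨s, hs⟩ := surjective_of_covAcyclic (Cov := Covz X.carrier) (B := Bz X.carrier)
      (hshz (X := X.carrier)) (h1z (X := X.carrier)) (h2z (X := X.carrier)) S₀ hS h1 _ hB
      (((Coh.pushAb f).obj S₀.X₃).obj.map (homOfLE hWV).op t)
    exact ⟨s, hs⟩
  exact Sheaf.epi_of_isLocallySurjective _

/-- Higher direct images along a qcqs morphism of `Covz`-Cech-acyclic sheaves vanish. -/
theorem isZero_Rpush_succ_of_covAcyclic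
    (G : Sheaf (Opens.grothendieckTopology X) AddCommGrpCat.{u})
    (hG : CovAcyclic (Covz X.carrier) G) (n : ℕ) :
    IsZero ((Coh.RpushAb f (n + 1)).obj G) := by
  refine Groth.Agent.Lib.Helper22.AdaptedAcyclic.isZero_rightDerived_succ
    (F := Coh.pushAb f)
    (I := fun F : Sheaf (Opens.grothendieckTopology X) AddCommGrpCat.{u} =>
      CovAcyclic (Covz X.carrier) F) ?_ ?_ n G hG
  · intro F
    exact ⟨Injective.under F, Injective.ι F,
      fun U ι Yf _ p => acyc_of_injective_sheaf (Injective.under F) Yf p, inferInstance⟩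
  · intro S₀ hS h1 h2
    exact ⟨covAcyclic_quot S₀ hS h1 h2,
      shortExact_map_of_epi' (Coh.pushAb f) hS (epi_push_map_of_covAcyclic f S₀ hS h1)⟩

/-! ### Joint local surjectivity and local injectivity of `R^q f_*` on filtered colimits -/

section LSLZ

variable (I : Type u) [SmallCategory I] [IsFiltered I]

/-- Every section of `R^q f_* (colim D)` locally comes from a stage. -/
def LS (q : ℕ) : Prop :=
  ∀ (D : I ⥤ Sheaf (Opens.grothendieckTopology X) AddCommGrpCat.{u}) (V : S.Opens)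
    (s : ((Coh.RpushAb f q).obj (colimit D)).obj.obj (op V)) (y : S) (_ : y ∈ V),
    ∃ (V' : S.Opens) (hV' : V' ≤ V), y ∈ V' ∧
      ∃ (i : I) (t : ((Coh.RpushAb f q).obj (D.obj i)).obj.obj (op V')),
        ((Coh.RpushAb f q).map (colimit.ι D i)).hom.app (op V') t =
          ((Coh.RpushAb f q).obj (colimit D)).obj.map (homOfLE hV').op s

/-- Every section of a stage of `R^q f_*` dying in the colimit locally dies at a later stage. -/
def LZ (q : ℕ) : Prop :=
  ∀ (D : I ⥤ Sheaf (Opens.grothendieckTopology X) AddCommGrpCat.{u}) (V : S.Opens) (i : I)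
    (t : ((Coh.RpushAb f q).obj (D.obj i)).obj.obj (op V)),
    ((Coh.RpushAb f q).map (colimit.ι D i)).hom.app (op V) t = 0 →
    ∀ (y : S) (_ : y ∈ V), ∃ (V' : S.Opens) (hV' : V' ≤ V), y ∈ V' ∧
      ∃ (j : I) (a : i ⟶ j), ((Coh.RpushAb f q).map (D.map a)).hom.app (op V')
        (((Coh.RpushAb f q).obj (D.obj i)).obj.map (homOfLE hV').op t) = 0

lemma iso_apply_aux {A B : Sheaf (Opens.grothendieckTopology S) AddCommGrpCat.{u}} (e : A ⟶ B)
    [IsIso e] (V : S.Opens) (s : B.obj.obj (op V)) :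
    e.hom.app (op V) ((inv e).hom.app (op V) s) = s := by
  have h : inv e ≫ e = 𝟙 B := IsIso.inv_hom_id e
  exact congrArg (fun ψ : B ⟶ B => ψ.hom.app (op V) s) h

lemma iso_injective_aux {A B : Sheaf (Opens.grothendieckTopology S) AddCommGrpCat.{u}}
    (e : A ⟶ B) [IsIso e] (V : S.Opens) (s : A.obj.obj (op V))
    (hs : e.hom.app (op V) s = 0) : s = 0 := by
  have h : e ≫ inv e = 𝟙 A := IsIso.hom_inv_id e
  have h2 := congrArg (fun ψ : A ⟶ A => ψ.hom.app (op V) s) h
  have h3 : (inv e).hom.app (op V) (e.hom.app (op V) s) = s := h2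
  rw [← h3, hs, map_zero]

theorem LS_zero : LS f I 0 := by
  intro D V s y hy
  let η := (Coh.pushAb f).toRightDerivedZero
  let s₀ : ((Coh.pushAb f).obj (colimit D)).obj.obj (op V) :=
    (inv (η.app (colimit D))).hom.app (op V) s
  have hs₀ : (η.app (colimit D)).hom.app (op V) s₀ = s := iso_apply_aux _ V s
  obtain ⟨W, hW, hyW, hWV'⟩ := exists_isAffineOpen_mem_and_subset (x := y) (U := V) hy
  have hWV : W ≤ V := hWV'
  have hB : (f ⁻¹ᵁ W : Opens X.carrier) ∈ Bz X.carrier := preimage_mem_Bz f W hW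
  obtain ⟨i, t₀, ht₀⟩ := sec_rep (Cov := Covz X.carrier) (B := Bz X.carrier)
    (hshz (X := X.carrier)) (h1z (X := X.carrier)) (h2z (X := X.carrier))
    (hfinz (X := X.carrier)) (colimit.cocone D)
    (colimit.isColimit D) _ hB (((Coh.pushAb f).obj (colimit D)).obj.map (homOfLE hWV).op s₀)
  refine ⟨W, hWV, hyW, i, (η.app (D.obj i)).hom.app (op W) t₀, ?_⟩
  have hnat := η.naturality (colimit.ι D i)
  have h1 := congrArg (fun ψ : (Coh.pushAb f).obj (D.obj i) ⟶
    (Coh.RpushAb f 0).obj (colimit D) => ψ.hom.app (op W) t₀) hnat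
  have h1' : ((Coh.RpushAb f 0).map (colimit.ι D i)).hom.app (op W)
      ((η.app (D.obj i)).hom.app (op W) t₀) =
      (η.app (colimit D)).hom.app (op W)
        (((Coh.pushAb f).map (colimit.ι D i)).hom.app (op W) t₀) := h1.symm
  rw [h1']
  have h2 : ((Coh.pushAb f).map (colimit.ι D i)).hom.app (op W) t₀ =
      ((Coh.pushAb f).obj (colimit D)).obj.map (homOfLE hWV).op s₀ := ht₀
  rw [h2, ← hs₀]
  exact sec_res (η.app (colimit D)) hWV s₀

theorem LZ_zero : LZ f I 0 := by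
  intro D V i t ht y hy
  let η := (Coh.pushAb f).toRightDerivedZero
  let t₀ : ((Coh.pushAb f).obj (D.obj i)).obj.obj (op V) :=
    (inv (η.app (D.obj i))).hom.app (op V) t
  have ht₀ : (η.app (D.obj i)).hom.app (op V) t₀ = t := iso_apply_aux _ V t
  -- the image of `t₀` in the colimit vanishes
  have hnat := η.naturality (colimit.ι D i)
  have h1 := congrArg (fun ψ : (Coh.pushAb f).obj (D.obj i) ⟶
    (Coh.RpushAb f 0).obj (colimit D) => ψ.hom.app (op V) t₀) hnat
  have h1' : (η.app (colimit D)).hom.app (op V)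
      (((Coh.pushAb f).map (colimit.ι D i)).hom.app (op V) t₀) =
      ((Coh.RpushAb f 0).map (colimit.ι D i)).hom.app (op V)
        ((η.app (D.obj i)).hom.app (op V) t₀) := h1
  rw [ht₀, ht] at h1'
  have h0 : ((Coh.pushAb f).map (colimit.ι D i)).hom.app (op V) t₀ = 0 :=
    iso_injective_aux (η.app (colimit D)) V _ h1'
  obtain ⟨W, hW, hyW, hWV'⟩ := exists_isAffineOpen_mem_and_subset (x := y) (U := V) hy
  have hWV : W ≤ V := hWV'
  have hB : (f ⁻¹ᵁ W : Opens X.carrier) ∈ Bz X.carrier := preimage_mem_Bz f W hW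
  have h0W : ((Coh.pushAb f).map (colimit.ι D i)).hom.app (op W)
      (((Coh.pushAb f).obj (D.obj i)).obj.map (homOfLE hWV).op t₀) = 0 := by
    rw [sec_res ((Coh.pushAb f).map (colimit.ι D i)) hWV t₀, h0, map_zero]
  obtain ⟨j, a, ha⟩ := sec_zero (Cov := Covz X.carrier) (B := Bz X.carrier)
    (hshz (X := X.carrier)) (h1z (X := X.carrier)) (h2z (X := X.carrier))
    (hfinz (X := X.carrier)) (colimit.cocone D)
    (colimit.isColimit D) _ hB i (((Coh.pushAb f).obj (D.obj i)).obj.map (homOfLE hWV).op t₀) h0W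
  refine ⟨W, hWV, hyW, j, a, ?_⟩
  have ha' : ((Coh.pushAb f).map (D.map a)).hom.app (op W)
      (((Coh.pushAb f).obj (D.obj i)).obj.map (homOfLE hWV).op t₀) = 0 := ha
  have hnat2 := η.naturality (D.map a)
  have h2 := congrArg (fun ψ : (Coh.pushAb f).obj (D.obj i) ⟶
    (Coh.RpushAb f 0).obj (D.obj j) => ψ.hom.app (op W)
      (((Coh.pushAb f).obj (D.obj i)).obj.map (homOfLE hWV).op t₀)) hnat2
  have h2' : (η.app (D.obj j)).hom.app (op W)
      (((Coh.pushAb f).map (D.map a)).hom.app (op W)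
        (((Coh.pushAb f).obj (D.obj i)).obj.map (homOfLE hWV).op t₀)) =
      ((Coh.RpushAb f 0).map (D.map a)).hom.app (op W)
        ((η.app (D.obj i)).hom.app (op W)
          (((Coh.pushAb f).obj (D.obj i)).obj.map (homOfLE hWV).op t₀)) := h2
  rw [ha', map_zero, sec_res (η.app (D.obj i)) hWV t₀, ht₀] at h2'
  exact h2'.symm

variable (Jf : Sheaf (Opens.grothendieckTopology X) AddCommGrpCat.{u} ⥤
    Sheaf (Opens.grothendieckTopology X) AddCommGrpCat.{u})
  (jf : 𝟭 (Sheaf (Opens.grothendieckTopology X) AddCommGrpCat.{u}) ⟶ Jf)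
  [hinj : ∀ G, Injective (Jf.obj G)] [hmono : ∀ G, Mono (jf.app G)]

include hinj hmono in
theorem isZero_Rpush_colimit_injective
    (D : I ⥤ Sheaf (Opens.grothendieckTopology X) AddCommGrpCat.{u}) (q : ℕ) :
    IsZero ((Coh.RpushAb f (q + 1)).obj (Sinf Jf jf D).X₂) := by
  have hacyc : CovAcyclic (Covz X.carrier) (colimit (D ⋙ Jf)) :=
    covAcyclic_colimit (Cov := Covz X.carrier) (B := Bz X.carrier)
      (hshz (X := X.carrier)) (h1z (X := X.carrier)) (h2z (X := X.carrier))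
      (hfinz (X := X.carrier)) (colimit.cocone (D ⋙ Jf))
      (colimit.isColimit _)
      (fun i U ι Yf _ p => acyc_of_injective_sheaf (Jf.obj (D.obj i)) Yf p)
  exact isZero_Rpush_succ_of_covAcyclic f _ hacyc q

include hinj hmono in
theorem LS_succ (q : ℕ) (ih : LS f I q) : LS f I (q + 1) := by
  intro D V s y hy
  let Δ := derivedLES (Coh.pushAb f)
  have hSinf := Sinf_shortExact Jf jf D
  have hz := isZero_Rpush_colimit_injective f I Jf jf D q
  let δc := Δ.δ (Sinf Jf jf D) hSinf q (q + 1) rfl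
  have hepi : Epi δc :=
    (Δ.exact₁ (Sinf Jf jf D) hSinf q (q + 1) rfl).epi_f (hz.eq_of_tgt _ _)
  obtain ⟨V₁, hV₁, hy₁, s₁, hs₁⟩ := epi_local_lift δc V s y hy
  obtain ⟨V₂, hV₂, hy₂, i, t, ht⟩ := ih (Qd Jf jf D) V₁ s₁ y hy₁
  let δi := Δ.δ (Sst Jf jf D i) (Sst_shortExact Jf jf D i) q (q + 1) rfl
  refine ⟨V₂, hV₂.trans hV₁, hy₂, i, δi.hom.app (op V₂) t, ?_⟩
  have hnat := Δ.δ_natural (Sst_shortExact Jf jf D i) hSinf (Sto Jf jf D i) q (q + 1) rfl
  have h1 := congrArg (fun ψ : (Coh.RpushAb f q).obj (Sst Jf jf D i).X₃ ⟶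
    (Coh.RpushAb f (q + 1)).obj (Sinf Jf jf D).X₁ => ψ.hom.app (op V₂) t) hnat
  have h1' : ((Coh.RpushAb f (q + 1)).map (colimit.ι D i)).hom.app (op V₂)
      (δi.hom.app (op V₂) t) =
      δc.hom.app (op V₂)
        (((Coh.RpushAb f q).map (colimit.ι (Qd Jf jf D) i)).hom.app (op V₂) t) := h1.symm
  rw [h1', ht, sec_res δc hV₂ s₁, hs₁, res_res]

include hinj hmono in
theorem LZ_succ (q : ℕ) (ihS : LS f I q) (ihZ : LZ f I q) : LZ f I (q + 1) := by
  intro D V i t ht y hy
  let Δ := derivedLES (Coh.pushAb f)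
  have hSinf := Sinf_shortExact Jf jf D
  let δc := Δ.δ (Sinf Jf jf D) hSinf q (q + 1) rfl
  let δi := Δ.δ (Sst Jf jf D i) (Sst_shortExact Jf jf D i) q (q + 1) rfl
  -- `t = δ s` locally
  have hzi : IsZero ((Coh.RpushAb f (q + 1)).obj (Sst Jf jf D i).X₂) :=
    Functor.isZero_rightDerived_obj_injective_succ _ _ _
  have hepi : Epi δi :=
    (Δ.exact₁ (Sst Jf jf D i) (Sst_shortExact Jf jf D i) q (q + 1) rfl).epi_f
      (hzi.eq_of_tgt _ _)
  obtain ⟨V₁, hV₁, hy₁, s, hs⟩ := epi_local_lift δi V t y hy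
  -- the image of `s` in the colimit is killed by the connecting map
  have hnat := Δ.δ_natural (Sst_shortExact Jf jf D i) hSinf (Sto Jf jf D i) q (q + 1) rfl
  have h1 := congrArg (fun ψ : (Coh.RpushAb f q).obj (Sst Jf jf D i).X₃ ⟶
    (Coh.RpushAb f (q + 1)).obj (Sinf Jf jf D).X₁ => ψ.hom.app (op V₁) s) hnat
  have h1' : δc.hom.app (op V₁)
      (((Coh.RpushAb f q).map (colimit.ι (Qd Jf jf D) i)).hom.app (op V₁) s) =
      ((Coh.RpushAb f (q + 1)).map (colimit.ι D i)).hom.app (op V₁)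
        (δi.hom.app (op V₁) s) := h1
  have hs' : δc.hom.app (op V₁)
      (((Coh.RpushAb f q).map (colimit.ι (Qd Jf jf D) i)).hom.app (op V₁) s) = 0 := by
    rw [h1', hs, sec_res ((Coh.RpushAb f (q + 1)).map (colimit.ι D i)) hV₁ t, ht, map_zero]
  -- hence locally comes from the middle term
  obtain ⟨V₂, hV₂, hy₂, r, hr⟩ := exact_local_lift _
    (Δ.exact₃ (Sinf Jf jf D) hSinf q (q + 1) rfl) V₁ _ hs' y hy₁
  have hr' : ((Coh.RpushAb f q).map (colimMap (πd Jf jf D))).hom.app (op V₂) r =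
      ((Coh.RpushAb f q).obj (colimit (Qd Jf jf D))).obj.map (homOfLE hV₂).op
        (((Coh.RpushAb f q).map (colimit.ι (Qd Jf jf D) i)).hom.app (op V₁) s) := hr
  obtain ⟨V₃, hV₃, hy₃, k, rk, hrk⟩ := ihS (D ⋙ Jf) V₂ r y hy₂
  -- a common stage
  let m := IsFiltered.max i k
  let a : i ⟶ m := IsFiltered.leftToMax i k
  let b : k ⟶ m := IsFiltered.rightToMax i k
  have h31 : V₃ ≤ V₁ := hV₃.trans hV₂
  let s₃ : ((Coh.RpushAb f q).obj ((Qd Jf jf D).obj i)).obj.obj (op V₃) :=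
    ((Coh.RpushAb f q).obj ((Qd Jf jf D).obj i)).obj.map (homOfLE h31).op s
  let x₃ : ((Coh.RpushAb f q).obj ((D ⋙ Jf).obj m)).obj.obj (op V₃) :=
    ((Coh.RpushAb f q).map ((D ⋙ Jf).map b)).hom.app (op V₃) rk
  let q' : ((Coh.RpushAb f q).obj ((Qd Jf jf D).obj m)).obj.obj (op V₃) :=
    ((Coh.RpushAb f q).map ((Qd Jf jf D).map a)).hom.app (op V₃) s₃ -
      ((Coh.RpushAb f q).map ((πd Jf jf D).app m)).hom.app (op V₃) x₃
  have hq' : ((Coh.RpushAb f q).map (colimit.ι (Qd Jf jf D) m)).hom.app (op V₃) q' = 0 := by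
    have e1 : ((Coh.RpushAb f q).map (colimit.ι (Qd Jf jf D) m)).hom.app (op V₃)
        (((Coh.RpushAb f q).map ((Qd Jf jf D).map a)).hom.app (op V₃) s₃) =
        ((Coh.RpushAb f q).obj (colimit (Qd Jf jf D))).obj.map (homOfLE h31).op
          (((Coh.RpushAb f q).map (colimit.ι (Qd Jf jf D) i)).hom.app (op V₁) s) := by
      rw [← sec_comp, ← Functor.map_comp, colimit.w]
      exact sec_res _ h31 s
    have e2 : ((Coh.RpushAb f q).map (colimit.ι (Qd Jf jf D) m)).hom.app (op V₃)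
        (((Coh.RpushAb f q).map ((πd Jf jf D).app m)).hom.app (op V₃) x₃) =
        ((Coh.RpushAb f q).obj (colimit (Qd Jf jf D))).obj.map (homOfLE h31).op
          (((Coh.RpushAb f q).map (colimit.ι (Qd Jf jf D) i)).hom.app (op V₁) s) := by
      have h3 : (πd Jf jf D).app m ≫ colimit.ι (Qd Jf jf D) m =
          colimit.ι (D ⋙ Jf) m ≫ colimMap (πd Jf jf D) := (ι_colimMap (πd Jf jf D) m).symm
      have h4 : (D ⋙ Jf).map b ≫ colimit.ι (D ⋙ Jf) m = colimit.ι (D ⋙ Jf) k :=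
        colimit.w (D ⋙ Jf) b
      change ((Coh.RpushAb f q).map (colimit.ι (Qd Jf jf D) m)).hom.app (op V₃)
        (((Coh.RpushAb f q).map ((πd Jf jf D).app m)).hom.app (op V₃)
          (((Coh.RpushAb f q).map ((D ⋙ Jf).map b)).hom.app (op V₃) rk)) = _
      rw [← sec_comp, ← Functor.map_comp, h3, ← sec_comp, ← Functor.map_comp,
        ← Category.assoc, h4, Functor.map_comp, sec_comp, hrk,
        sec_res ((Coh.RpushAb f q).map (colimMap (πd Jf jf D))) hV₃ r, hr', res_res]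
    change ((Coh.RpushAb f q).map (colimit.ι (Qd Jf jf D) m)).hom.app (op V₃) (_ - _) = 0
    rw [map_sub, e1, e2, sub_self]
  obtain ⟨V₄, hV₄, hy₄, l, w, hw⟩ := ihZ (Qd Jf jf D) V₃ m q' hq' y hy₃
  have h41 : V₄ ≤ V₁ := hV₄.trans h31
  refine ⟨V₄, h41.trans hV₁, hy₄, l, a ≫ w, ?_⟩
  let δl := Δ.δ (Sst Jf jf D l) (Sst_shortExact Jf jf D l) q (q + 1) rfl
  let s₄ : ((Coh.RpushAb f q).obj ((Qd Jf jf D).obj i)).obj.obj (op V₄) :=
    ((Coh.RpushAb f q).obj ((Qd Jf jf D).obj i)).obj.map (homOfLE h41).op s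
  -- rewrite the restriction of `t` as `δ s₄`
  have ht4 : ((Coh.RpushAb f (q + 1)).obj (D.obj i)).obj.map (homOfLE (h41.trans hV₁)).op t =
      δi.hom.app (op V₄) s₄ := by
    rw [← res_res _ h41 hV₁ t, ← hs]
    exact (sec_res δi h41 s).symm
  rw [ht4]
  have hnat2 := Δ.δ_natural (Sst_shortExact Jf jf D i) (Sst_shortExact Jf jf D l)
    (Str Jf jf D (a ≫ w)) q (q + 1) rfl
  have h5 := congrArg (fun ψ : (Coh.RpushAb f q).obj (Sst Jf jf D i).X₃ ⟶
    (Coh.RpushAb f (q + 1)).obj (Sst Jf jf D l).X₁ => ψ.hom.app (op V₄) s₄) hnat2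
  have h5' : δl.hom.app (op V₄)
      (((Coh.RpushAb f q).map ((Qd Jf jf D).map (a ≫ w))).hom.app (op V₄) s₄) =
      ((Coh.RpushAb f (q + 1)).map (D.map (a ≫ w))).hom.app (op V₄)
        (δi.hom.app (op V₄) s₄) := h5
  rw [← h5']
  -- `s₄` pushed to stage `l` comes from the middle term
  let x₄ : ((Coh.RpushAb f q).obj ((D ⋙ Jf).obj m)).obj.obj (op V₄) :=
    ((Coh.RpushAb f q).obj ((D ⋙ Jf).obj m)).obj.map (homOfLE hV₄).op x₃
  have e3 : ((Coh.RpushAb f q).map ((Qd Jf jf D).map (a ≫ w))).hom.app (op V₄) s₄ =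
      ((Coh.RpushAb f q).map ((πd Jf jf D).app l)).hom.app (op V₄)
        (((Coh.RpushAb f q).map ((D ⋙ Jf).map w)).hom.app (op V₄) x₄) := by
    have h6 : ((Coh.RpushAb f q).map ((Qd Jf jf D).map w)).hom.app (op V₄)
        (((Coh.RpushAb f q).obj ((Qd Jf jf D).obj m)).obj.map (homOfLE hV₄).op q') = 0 := hw
    have h7 : ((Coh.RpushAb f q).obj ((Qd Jf jf D).obj m)).obj.map (homOfLE hV₄).op q' =
        ((Coh.RpushAb f q).map ((Qd Jf jf D).map a)).hom.app (op V₄) s₄ -
          ((Coh.RpushAb f q).map ((πd Jf jf D).app m)).hom.app (op V₄) x₄ := by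
      change ((Coh.RpushAb f q).obj ((Qd Jf jf D).obj m)).obj.map (homOfLE hV₄).op (_ - _) = _
      rw [map_sub, ← sec_res ((Coh.RpushAb f q).map ((Qd Jf jf D).map a)) hV₄ s₃,
        ← sec_res ((Coh.RpushAb f q).map ((πd Jf jf D).app m)) hV₄ x₃]
      congr 2
      exact res_res _ hV₄ h31 s
    rw [h7, map_sub, sub_eq_zero, ← sec_comp, ← Functor.map_comp, ← Functor.map_comp] at h6
    rw [h6, ← sec_comp, ← Functor.map_comp, ← sec_comp, ← Functor.map_comp]
    have h8 : (πd Jf jf D).app m ≫ (Qd Jf jf D).map w =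
        (D ⋙ Jf).map w ≫ (πd Jf jf D).app l := ((πd Jf jf D).naturality w).symm
    rw [h8]
  rw [e3]
  have hcomp := Δ.comp_δ (Sst Jf jf D l) (Sst_shortExact Jf jf D l) q (q + 1) rfl
  have h9 := congrArg (fun ψ : (Coh.RpushAb f q).obj (Sst Jf jf D l).X₂ ⟶
    (Coh.RpushAb f (q + 1)).obj (Sst Jf jf D l).X₁ => ψ.hom.app (op V₄)
      (((Coh.RpushAb f q).map ((D ⋙ Jf).map w)).hom.app (op V₄) x₄)) hcomp
  exact h9

theorem LS_LZ_all (q : ℕ) : LS f I q ∧ LZ f I q := by
  obtain ⟨Jf, jf, hJ⟩ :=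
    Groth.Agent.Lib.Helper18.FunctorialInjective.exists_functorial_injective_embedding.{u}
      (Sheaf (Opens.grothendieckTopology X) AddCommGrpCat.{u})
  have hinj : ∀ G, Injective (Jf.obj G) := fun G => (hJ G).1
  have hmono : ∀ G, Mono (jf.app G) := fun G => (hJ G).2
  induction q with
  | zero => exact ⟨LS_zero f I, LZ_zero f I⟩
  | succ q ih => exact ⟨LS_succ f I Jf jf q ih.1, LZ_succ f I Jf jf q ih.1 ih.2⟩

end LSLZ

/-- **Higher direct images along a quasi-compact quasi-separated morphism commute with filtered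
colimits** of abelian sheaves. -/
theorem preservesColimitsOfShape_RpushAb (p : ℕ) (J : Type u) [SmallCategory J] [IsFiltered J] :
    PreservesColimitsOfShape J (Coh.RpushAb f p) := by
  obtain ⟨hLS, hLZ⟩ := LS_LZ_all f J p
  constructor
  intro D
  apply preservesColimit_of_preserves_colimit_cocone (colimit.isColimit D)
  refine (isColimit_of_local (J := Opens.grothendieckTopology S) hshz
    ((Coh.RpushAb f p).mapCocone (colimit.cocone D)) ?_ ?_).some
  · intro U s
    let T : Sieve U :=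
      { arrows := fun V' g => ∃ (i : J) (t : ((Coh.RpushAb f p).obj (D.obj i)).obj.obj (op V')),
          ((Coh.RpushAb f p).map (colimit.ι D i)).hom.app (op V') t =
            ((Coh.RpushAb f p).obj (colimit D)).obj.map g.op s
        downward_closed := by
          rintro V' V'' g ⟨i, t, ht⟩ h
          refine ⟨i, ((Coh.RpushAb f p).obj (D.obj i)).obj.map h.op t, ?_⟩
          have e1 := NatTrans.naturality_apply ((Coh.RpushAb f p).map (colimit.ι D i)).hom h.op t
          rw [e1, ht, op_comp, Functor.map_comp]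
          rfl }
    refine ⟨T, ?_, fun V' g hg => hg⟩
    intro y hy
    obtain ⟨V', hV', hyV', i, t, ht⟩ := hLS D U s y hy
    exact ⟨V', homOfLE hV', ⟨i, t, ht⟩, hyV'⟩
  · intro U i t ht
    let T : Sieve U :=
      { arrows := fun V' g => ∃ (j : J) (a : i ⟶ j),
          ((Coh.RpushAb f p).map (D.map a)).hom.app (op V')
            (((Coh.RpushAb f p).obj (D.obj i)).obj.map g.op t) = 0
        downward_closed := by
          rintro V' V'' g ⟨j, a, ha⟩ h
          refine ⟨j, a, ?_⟩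
          have e1 := NatTrans.naturality_apply ((Coh.RpushAb f p).map (D.map a)).hom h.op
            (((Coh.RpushAb f p).obj (D.obj i)).obj.map g.op t)
          rw [op_comp, Functor.map_comp]
          change ((Coh.RpushAb f p).map (D.map a)).hom.app (op V'')
            (((Coh.RpushAb f p).obj (D.obj i)).obj.map h.op
              (((Coh.RpushAb f p).obj (D.obj i)).obj.map g.op t)) = 0
          rw [e1, ha, map_zero] }
    refine ⟨T, ?_, fun V' g hg => hg⟩
    intro y hy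
    obtain ⟨V', hV', hyV', j, a, ha⟩ := hLZ D U i t ht y hy
    exact ⟨V', homOfLE hV', ⟨j, a, ha⟩, hyV'⟩

end Scheme

end Groth.Agent.Lib.Helper5.RpushColim
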