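import Groth.Agent.Lib.Helper17.CoprodRpush2
import Groth.Agent.Lib.Helper17.ModSiteColim
import Groth.Agent.Lib.Helper5.PlusAcyc
import Groth.Agent.Lib.Helper5.RpushColim
import Groth.Agent.Lib.Helper5.RpushAb
import Groth.Agent.S0485

/-!
# `Rf_*` commutes with direct sums of uniformly bounded below families (helper5)

* `preservesColimitsOfShape_discrete_of_finset`: a functor preserving finite coproducts and the filtered colimit
  of finite subcoproducts preserves coproducts;
* `preservesCoproducts_pushAb`, `preservesCoproducts_pushforward`: `f_*` commutes with direct sums for `f`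
  quasi-compact and quasi-separated (abelian sheaves, `O`-modules);
* `acyc_sigma_injective`: a direct sum of injective `O_X`-modules is `f_*`-acyclic;
* `isIso_sigmaDesc_Rpush_of_isGE`: `∐ Rf_* K_i ⟶ Rf_* (∐ K_i)` is an isomorphism for `K_i ≥ n`.
-/

set_option autoImplicit false
set_option linter.unusedSectionVars false

universe u

open CategoryTheory CategoryTheory.Limits Opposite AlgebraicGeometry TopologicalSpace CochainComplex

attribute [local instance] HasDerivedCategory.standard

namespace Groth.Agent.Lib.Helper5.CoprodBdd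

section gen

lemma isZero_of_isColimit {J C : Type*} [Category J] [Category C] [HasZeroMorphisms C]
    {D : J ⥤ C} {c : Cocone D} (hc : IsColimit c) (h : ∀ j, IsZero (D.obj j)) : IsZero c.pt := by
  rw [IsZero.iff_id_eq_zero]
  exact hc.hom_ext fun j => (h j).eq_of_src _ _

variable {C : Type*} [Category C] {D : Type*} [Category D] [HasFiniteCoproducts C]
  [HasFiniteCoproducts D] (G : C ⥤ D) [PreservesFiniteCoproducts G]

lemma map_ι_iso_hom {S : Type*} [Finite S] (Y : S → C) (x : S) :
    G.map (Sigma.ι Y x) ≫ (PreservesCoproduct.iso G Y).hom =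
      Sigma.ι (fun s => G.obj (Y s)) x := by
  rw [← ι_comp_sigmaComparison G Y x, ← PreservesCoproduct.inv_hom, Category.assoc,
    Iso.inv_hom_id, Category.comp_id]

open CoproductsFromFiniteFiltered

variable (ι : Type*)

lemma map_desc_iso {S T : Type*} [Finite S] [Finite T] (Z : T → C) (φ : S → T) :
    G.map (Sigma.desc (fun s => Sigma.ι Z (φ s)) : (∐ fun s => Z (φ s)) ⟶ ∐ Z) ≫
        (PreservesCoproduct.iso G Z).hom =
      (PreservesCoproduct.iso G (fun s => Z (φ s))).hom ≫
        Sigma.desc (fun s => Sigma.ι (fun t => G.obj (Z t)) (φ s)) := by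
  rw [← cancel_epi (PreservesCoproduct.iso G (fun s => Z (φ s))).inv, Iso.inv_hom_id_assoc]
  refine Sigma.hom_ext _ _ fun x => ?_
  rw [PreservesCoproduct.inv_hom, ι_comp_sigmaComparison_assoc, ← G.map_comp_assoc,
    Sigma.ι_desc, map_ι_iso_hom, Sigma.ι_desc]

lemma liftIso_naturality (K : Discrete ι ⥤ C) {S T : Finset (Discrete ι)} (h : S ⟶ T) :
    G.map ((liftToFinsetObj K).map h) ≫
        (PreservesCoproduct.iso G (fun x : T => K.obj x)).hom =
      (PreservesCoproduct.iso G (fun x : S => K.obj x)).hom ≫
        (liftToFinsetObj (K ⋙ G)).map h :=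
  map_desc_iso G (fun x : T => K.obj x) (fun y : S => ⟨y.1, h.down.down y.2⟩)

/-- the comparison `G ∘ (finite subcoproducts of K) ≅ finite subcoproducts of G ∘ K` -/
noncomputable def liftIso (K : Discrete ι ⥤ C) :
    liftToFinsetObj K ⋙ G ≅ liftToFinsetObj (K ⋙ G) :=
  NatIso.ofComponents (fun S => PreservesCoproduct.iso G (fun x : S => K.obj x))
    (fun h => liftIso_naturality G ι K h)

variable [HasColimitsOfShape (Finset (Discrete ι)) C] [HasColimitsOfShape (Finset (Discrete ι)) D]
  [PreservesColimitsOfShape (Finset (Discrete ι)) G]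

/-- **a functor preserving finite coproducts and filtered colimits preserves coproducts.** -/
theorem preservesColimitsOfShape_discrete_of_finset :
    PreservesColimitsOfShape (Discrete ι) G := by
  constructor
  intro K
  apply preservesColimit_of_preserves_colimit_cocone (liftToFinsetColimitCocone K).isColimit
  let Θ : G.obj (colimit (liftToFinsetObj K)) ≅ colimit (liftToFinsetObj (K ⋙ G)) :=
    preservesColimitIso G (liftToFinsetObj K) ≪≫ HasColimit.isoOfNatIso (liftIso G ι K)
  refine IsColimit.ofIsoColimit (liftToFinsetColimitCocone (K ⋙ G)).isColimit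
    (Cocone.ext Θ.symm ?_)
  intro j
  have h1 : (liftToFinsetColimitCocone (K ⋙ G)).cocone.ι.app j =
      Sigma.ι (fun x : ({j} : Finset (Discrete ι)) => (K ⋙ G).obj x) ⟨j, by simp⟩ ≫
        colimit.ι (liftToFinsetObj (K ⋙ G)) {j} := rfl
  have h2 : (G.mapCocone (liftToFinsetColimitCocone K).cocone).ι.app j =
      G.map (Sigma.ι (fun x : ({j} : Finset (Discrete ι)) => K.obj x) ⟨j, by simp⟩ ≫
        colimit.ι (liftToFinsetObj K) {j}) := rfl
  change (liftToFinsetColimitCocone (K ⋙ G)).cocone.ι.app j ≫ Θ.inv =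
    (G.mapCocone (liftToFinsetColimitCocone K).cocone).ι.app j
  rw [Iso.comp_inv_eq, h1, h2, G.map_comp, Category.assoc]
  change _ = _ ≫ G.map (colimit.ι (liftToFinsetObj K) {j}) ≫
    (preservesColimitIso G (liftToFinsetObj K)).hom ≫
      (HasColimit.isoOfNatIso (liftIso G ι K)).hom
  rw [ι_preservesColimitIso_hom_assoc, HasColimit.isoOfNatIso_ι_hom]
  change _ = G.map (Sigma.ι (fun x : ({j} : Finset (Discrete ι)) => K.obj x) ⟨j, by simp⟩) ≫
    (PreservesCoproduct.iso G (fun x : ({j} : Finset (Discrete ι)) => K.obj x)).hom ≫ _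
  rw [← Category.assoc, map_ι_iso_hom]
  rfl

/-- an additive functor commuting with the filtered colimit of finite subcoproducts kills a coproduct of
objects it kills -/
lemma isZero_map_sigma [HasZeroMorphisms D] (Y : ι → C) [HasCoproduct Y]
    (h : ∀ i, IsZero (G.obj (Y i))) : IsZero (G.obj (∐ Y)) := by
  haveI := preservesColimitsOfShape_discrete_of_finset G ι
  have hc : IsColimit (G.mapCocone (colimit.cocone (Discrete.functor Y))) :=
    isColimitOfPreserves G (colimit.isColimit (Discrete.functor Y))
  exact isZero_of_isColimit hc (fun j => h j.as)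

end gen

open Groth.Agent.Lib.Helper17.RFTri Groth.Agent.Lib.Helper17.DerKInj
  Groth.Agent.Lib.Helper17.PushCoh2 Groth.Agent.Lib.Helper17.CoprodRpush
  Groth.Agent.Lib.Helper5.GrothSS Groth.Agent.Lib.Helper5.AcyclicRes
  Groth.Agent.Lib.Helper5.RpushAb

section Sch

variable {X S : Scheme.{u}} (f : X ⟶ S) [QuasiCompact f] [QuasiSeparated f]

/-- `f_*` on abelian sheaves commutes with direct sums (`f` qcqs). -/
theorem preservesCoproducts_pushAb (ι : Type u) :
    PreservesColimitsOfShape (Discrete ι) (Coh.pushAb f) := by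
  haveI : PreservesColimitsOfShape (Finset (Discrete ι)) (Coh.RpushAb f 0) :=
    Groth.Agent.Lib.Helper5.RpushColim.preservesColimitsOfShape_RpushAb f 0 (Finset (Discrete ι))
  haveI : PreservesColimitsOfShape (Finset (Discrete ι)) (Coh.pushAb f) :=
    preservesColimitsOfShape_of_natIso (Functor.rightDerivedZeroIsoSelf (Coh.pushAb f))
  exact preservesColimitsOfShape_discrete_of_finset (Coh.pushAb f) ι

/-- `f_*` on `O`-modules commutes with direct sums (`f` qcqs). -/
theorem preservesCoproducts_pushforward (ι : Type u) :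
    PreservesColimitsOfShape (Discrete ι) (Scheme.Modules.pushforward f) := by
  haveI := preservesCoproducts_pushAb f ι
  haveI hX := Groth.Agent.Lib.Helper17.ModSiteColim.toSheaf_preservesColimits X.ringCatSheaf
  haveI hS := Groth.Agent.Lib.Helper17.ModSiteColim.toSheaf_preservesColimits S.ringCatSheaf
  haveI : PreservesColimitsOfShape (Discrete ι) (TT X) :=
    inferInstanceAs (PreservesColimitsOfShape (Discrete ι) (SheafOfModules.toSheaf X.ringCatSheaf))
  haveI : PreservesColimitsOfShape (Discrete ι) (TT S) :=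
    inferInstanceAs (PreservesColimitsOfShape (Discrete ι) (SheafOfModules.toSheaf S.ringCatSheaf))
  haveI : PreservesColimitsOfShape (Discrete ι) (TT X ⋙ Coh.pushAb f) := inferInstance
  haveI : PreservesColimitsOfShape (Discrete ι) (Scheme.Modules.pushforward f ⋙ TT S) :=
    preservesColimitsOfShape_of_natIso (pushIso f).symm
  haveI : (TT S).ReflectsIsomorphisms :=
    inferInstanceAs (SheafOfModules.toSheaf S.ringCatSheaf).ReflectsIsomorphisms
  haveI : ReflectsColimitsOfShape (Discrete ι) (TT S) :=
    reflectsColimitsOfShape_of_reflectsIsomorphisms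
  exact preservesColimitsOfShape_of_reflects_of_preserves (Scheme.Modules.pushforward f) (TT S)

variable [HasInjectiveResolutions X.Modules]

/-- **a direct sum of injective `O_X`-modules is `f_*`-acyclic** (`f` qcqs). -/
theorem acyc_sigma_injective {ι : Type u} (Y : ι → X.Modules) (hY : ∀ i, Injective (Y i)) :
    Acyc (Scheme.Modules.pushforward f) (∐ Y) := by
  intro k
  obtain ⟨e⟩ := Groth.Agent.Lib.Helper5.RpushAb.main f (∐ Y) (k + 1)
  haveI hX := Groth.Agent.Lib.Helper17.ModSiteColim.toSheaf_preservesColimits X.ringCatSheaf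
  haveI : PreservesColimitsOfShape (Discrete ι) (TT X) :=
    inferInstanceAs (PreservesColimitsOfShape (Discrete ι) (SheafOfModules.toSheaf X.ringCatSheaf))
  have iso : (TT X).obj (∐ Y) ≅ ∐ fun i => (TT X).obj (Y i) := PreservesCoproduct.iso (TT X) Y
  haveI : PreservesColimitsOfShape (Finset (Discrete ι)) (Coh.RpushAb f (k + 1)) :=
    Groth.Agent.Lib.Helper5.RpushColim.preservesColimitsOfShape_RpushAb f (k + 1)
      (Finset (Discrete ι))
  have hz : IsZero ((Coh.RpushAb f (k + 1)).obj (∐ fun i => (TT X).obj (Y i))) := by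
    refine isZero_map_sigma (Coh.RpushAb f (k + 1)) ι _ fun i => ?_
    obtain ⟨ei⟩ := Groth.Agent.Lib.Helper5.RpushAb.main f (Y i) (k + 1)
    refine IsZero.of_iso ?_ ei.symm
    haveI := hY i
    exact (TT S).map_isZero
      (Functor.isZero_rightDerived_obj_injective_succ (Scheme.Modules.pushforward f) k (Y i))
  have hz' : IsZero ((TT S).obj ((Coh.Rpush f (k + 1)).obj (∐ Y))) :=
    (hz.of_iso ((Coh.RpushAb f (k + 1)).mapIso iso)).of_iso e
  haveI : (TT S).Faithful := inferInstanceAs (SheafOfModules.toSheaf S.ringCatSheaf).Faithful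
  rw [IsZero.iff_id_eq_zero]
  apply (TT S).map_injective
  rw [(TT S).map_zero]
  exact hz'.eq_of_src _ _

end Sch

section Main

variable {X S : Scheme.{u}} (f : X ⟶ S) [QuasiCompact f] [QuasiSeparated f] [DCoh.HasRpush f]
  {ι : Type u}

/-- **`Rf_*` commutes with direct sums of uniformly bounded below families.** -/
theorem isIso_sigmaDesc_Rpush_of_isGE (K : ι → DCoh.D X) (n : ℤ) (hK : ∀ i, (K i).IsGE n)
    [HasCoproduct K] [HasCoproduct (fun i => (DCoh.Rpush f).obj (K i))] :
    IsIso (Sigma.desc (fun i => (DCoh.Rpush f).map (Sigma.ι K i))) := by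
  haveI : EnoughInjectives X.Modules :=
    Groth.Agent.S0485.result (Opens.grothendieckTopology X) X.ringCatSheaf
  haveI : HasInjectiveResolutions X.Modules := inferInstance
  haveI : PreservesFiniteLimits (Scheme.Modules.pushforward f) := by
    haveI := (Scheme.Modules.pullbackPushforwardAdjunction f).rightAdjoint_preservesLimits
    infer_instance
  haveI := preservesCoproducts_pushforward f ι
  -- bounded below injective models
  have hex : ∀ i, ∃ (I : CochainComplex X.Modules ℤ), I.IsStrictlyGE n ∧
      (∀ m, Injective (I.X m)) ∧ Nonempty (K i ≅ DerivedCategory.Q.obj I) := by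
    intro i
    haveI := hK i
    obtain ⟨K', hK', ⟨e⟩⟩ := DerivedCategory.exists_iso_Q_obj_of_isGE (K i) n
    haveI := hK'
    obtain ⟨L, j, hj, hL, hLn⟩ :=
      CochainComplex.Plus.modelCategoryQuillen.exists_quasiIso_injective K' n
    haveI : IsIso (DerivedCategory.Q.map j) := (DerivedCategory.isIso_Q_map_iff_quasiIso _ j).2 hj
    exact ⟨L, hLn, hL, ⟨e ≪≫ asIso (DerivedCategory.Q.map j)⟩⟩
  choose I hIn hIinj he using hex
  have e : ∀ i, K i ≅ DerivedCategory.Q.obj (I i) := fun i => (he i).some
  haveI : ∀ i, (I i).IsStrictlyGE n := hIn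
  haveI : ∀ i m, Injective ((I i).X m) := hIinj
  haveI : ∀ i, (I i).IsKInjective := fun i => CochainComplex.isKInjective_of_injective (I i) n
  -- the coproduct of the models
  have hP : (∐ I).IsStrictlyGE n := by
    rw [CochainComplex.isStrictlyGE_iff]
    intro m hm
    refine IsZero.of_iso ?_
      (PreservesCoproduct.iso (HomologicalComplex.eval X.Modules (ComplexShape.up ℤ) m) I)
    rw [IsZero.iff_id_eq_zero]
    exact Sigma.hom_ext _ _ fun i => ((I i).isZero_of_isStrictlyGE n m hm).eq_of_src _ _
  haveI := hP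
  have hPac : ∀ m, Acyc (Scheme.Modules.pushforward f) ((∐ I).X m) := fun m =>
    (isAdapted_acyc (Scheme.Modules.pushforward f)).of_iso
      (PreservesCoproduct.iso (HomologicalComplex.eval X.Modules (ComplexShape.up ℤ) m) I).symm
      (acyc_sigma_injective f (fun i => (I i).X m) (fun i => hIinj i m))
  obtain ⟨J, q, hq, hJinj, hJn⟩ :=
    CochainComplex.Plus.modelCategoryQuillen.exists_quasiIso_injective (∐ I) n
  haveI := hq
  haveI := hJinj
  haveI := hJn
  haveI : J.IsKInjective := CochainComplex.isKInjective_of_injective J n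
  have hFq : QuasiIso (((Scheme.Modules.pushforward f).mapHomologicalComplex
      (ComplexShape.up ℤ)).map q) :=
    (isAdapted_acyc (Scheme.Modules.pushforward f)).quasiIso_map n hPac q
  let g : ∀ i, I i ⟶ J := fun i => Sigma.ι I i ≫ q
  let ψ : (∐ fun i => ((Scheme.Modules.pushforward f).mapHomologicalComplex
      (ComplexShape.up ℤ)).obj (I i)) ⟶
      ((Scheme.Modules.pushforward f).mapHomologicalComplex (ComplexShape.up ℤ)).obj J :=
    Sigma.desc fun i => ((Scheme.Modules.pushforward f).mapHomologicalComplex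
      (ComplexShape.up ℤ)).map (g i)
  have hιψ : ∀ i, Sigma.ι (fun i => ((Scheme.Modules.pushforward f).mapHomologicalComplex
      (ComplexShape.up ℤ)).obj (I i)) i ≫ ψ =
      ((Scheme.Modules.pushforward f).mapHomologicalComplex (ComplexShape.up ℤ)).map (g i) :=
    fun i => Sigma.ι_desc _ _
  have hψ : QuasiIso ψ := by
    have h : ψ = sigmaComparison ((Scheme.Modules.pushforward f).mapHomologicalComplex
        (ComplexShape.up ℤ)) I ≫
        ((Scheme.Modules.pushforward f).mapHomologicalComplex (ComplexShape.up ℤ)).map q := by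
      refine Sigma.hom_ext _ _ fun i => ?_
      rw [hιψ, ι_comp_sigmaComparison_assoc, ← Functor.map_comp]
    rw [h]
    infer_instance
  haveI : IsIso (DerivedCategory.Q.map ψ) := (DerivedCategory.isIso_Q_map_iff_quasiIso _ ψ).2 hψ
  haveI : IsIso (DerivedCategory.Q.map q) := (DerivedCategory.isIso_Q_map_iff_quasiIso _ q).2 hq
  refine isIso_sigmaDesc_of_cofans (DCoh.Rpush f) K e _ (isColimitQ I)
    (fun i => RpushIso f (I i)) _
    (isColimitQ (fun i => ((Scheme.Modules.pushforward f).mapHomologicalComplex
      (ComplexShape.up ℤ)).obj (I i)))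
    (asIso (DerivedCategory.Q.map ψ) ≪≫
      (RpushIso f J).symm ≪≫ (asIso ((DCoh.Rpush f).map (DerivedCategory.Q.map q))).symm) ?_
  intro i
  change DerivedCategory.Q.map (Sigma.ι (fun i => ((Scheme.Modules.pushforward f).mapHomologicalComplex
      (ComplexShape.up ℤ)).obj (I i)) i) ≫
    DerivedCategory.Q.map ψ ≫ (RpushIso f J).inv ≫
      inv ((DCoh.Rpush f).map (DerivedCategory.Q.map q)) =
    (RpushIso f (I i)).inv ≫ (DCoh.Rpush f).map (DerivedCategory.Q.map (Sigma.ι I i))
  rw [← Functor.map_comp_assoc, hιψ]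
  have h1 : DerivedCategory.Q.map (((Scheme.Modules.pushforward f).mapHomologicalComplex
      (ComplexShape.up ℤ)).map (g i)) ≫ (RpushIso f J).inv =
      (RpushIso f (I i)).inv ≫ (DCoh.Rpush f).map (DerivedCategory.Q.map (g i)) :=
    RFIso_inv_naturality (Scheme.Modules.pushforward f) (hA X) (g i)
  rw [← Category.assoc, h1, Category.assoc]
  congr 1
  rw [IsIso.comp_inv_eq, ← Functor.map_comp, ← Functor.map_comp]

end Main

end Groth.Agent.Lib.Helper5.CoprodBdd
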