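import Groth.Prelude.Def_DeRham

/-!
# Generators of exterior powers of a module of differentials

For a derivation `δ : A → M` whose image spans `M`, the elements `b₀ · δb₁ ∧ … ∧ δb_p`
(`DeRham.gen`) generate `⋀[A]^p M` additively.
-/

set_option autoImplicit false
universe v u
open exteriorPower

namespace Groth.Agent.Lib.Helper5.DeRhamGen

variable {R : Type v} {A M : Type u} [CommRing R] [CommRing A] [Algebra R A]
  [AddCommGroup M] [Module A M] [Module R M]

lemma smul_gen (δ : Derivation R A M) (p : ℕ) (a b₀ : A) (b : Fin p → A) :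
    a • DeRham.gen δ p b₀ b = DeRham.gen δ p (a * b₀) b := by
  simp only [DeRham.gen, mul_smul]

lemma cons_comp (δ : Derivation R A M) {p : ℕ} (b₀ : A) (b : Fin p → A) :
    (Fin.cons (δ b₀) (fun i => δ (b i)) : Fin (p + 1) → M) =
      fun i => δ ((Fin.cons b₀ b : Fin (p + 1) → A) i) := by
  funext i
  refine Fin.cases ?_ (fun j => ?_) i
  · simp
  · simp

lemma ιMulti_cons_eq_gen (δ : Derivation R A M) {p : ℕ} (b₀ : A) (b : Fin p → A) :
    ιMulti A (p + 1) (Fin.cons (δ b₀) (fun i => δ (b i))) =
      DeRham.gen δ (p + 1) 1 (Fin.cons b₀ b) := by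
  rw [DeRham.gen, one_smul, cons_comp]

/-- Induction principle: the `gen`s generate `⋀[A]^p M` additively when `δ(A)` spans `M`. -/
theorem gen_induction (δ : Derivation R A M) (hspan : Submodule.span A (Set.range δ) = ⊤) (p : ℕ)
    {P : ↥(⋀[A]^p M) → Prop} (h0 : P 0) (hadd : ∀ x y, P x → P y → P (x + y))
    (hgen : ∀ (b₀ : A) (b : Fin p → A), P (DeRham.gen δ p b₀ b)) : ∀ x, P x := by
  -- the additive closure of the generators is an `A`-submodule
  let G : Submodule A ↥(⋀[A]^p M) :=
    { carrier := {x | ∀ a : A, P (a • x)}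
      zero_mem' := fun a => by rw [smul_zero]; exact h0
      add_mem' := fun {x y} hx hy a => by rw [smul_add]; exact hadd _ _ (hx a) (hy a)
      smul_mem' := fun c x hx a => by rw [smul_smul]; exact hx _ }
  have hG : G = ⊤ := by
    rw [eq_top_iff, ← ιMulti_span_of_span A p M hspan, Submodule.span_le]
    rintro _ ⟨a, ha, rfl⟩
    intro c
    have : ∀ i : Fin p, ∃ bi : A, δ bi = a i := fun i => ha (Set.mem_range_self i)
    choose b hb using this
    have e : a = fun i => δ (b i) := funext fun i => (hb i).symm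
    rw [e]
    have := hgen c b
    rwa [DeRham.gen] at this
  intro x
  have hx : x ∈ G := hG ▸ Submodule.mem_top
  have := hx 1
  rwa [one_smul] at this

/-- Additive maps agreeing on the generators agree. -/
theorem ext_gen (δ : Derivation R A M) (hspan : Submodule.span A (Set.range δ) = ⊤) (p : ℕ)
    {N : Type*} [AddCommMonoid N] (f g : ↥(⋀[A]^p M) →+ N)
    (h : ∀ (b₀ : A) (b : Fin p → A), f (DeRham.gen δ p b₀ b) = g (DeRham.gen δ p b₀ b)) : f = g := by
  ext x
  refine gen_induction δ hspan p (P := fun x => f x = g x) ?_ ?_ h x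
  · rw [map_zero, map_zero]
  · intro x y hx hy
    rw [map_add, map_add, hx, hy]

end Groth.Agent.Lib.Helper5.DeRhamGen
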