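import Mathlib.Topology.Constructible
import Mathlib.Topology.LocallyClosed

set_option autoImplicit false

namespace Groth.Agent.Lib.Helper5

open Topology TopologicalSpace Set

variable {X : Type*} [TopologicalSpace X]

/-- Induction principle: constructible sets are finite unions of differences of retrocompact
opens. -/
theorem isConstructible_sdiff_union_induction {p : Set X → Prop}
    (sdiff : ∀ A B : Set X, IsOpen A → IsRetrocompact A → IsOpen B → IsRetrocompact B →
      p (A \ B))
    (union : ∀ s t, p s → p t → p (s ∪ t)) {E : Set X} (hE : IsConstructible E) : p E :=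
  BooleanSubalgebra.closure_sdiff_sup_induction
    (s := {U : Set X | IsOpen U ∧ IsRetrocompact U})
    (p := fun E _ => p E)
    ⟨fun _ hs _ ht ↦ ⟨hs.1.union ht.1, hs.2.union ht.2⟩,
      fun _ hs _ ht ↦ ⟨hs.1.inter ht.1, hs.2.inter_isOpen ht.2 ht.1⟩⟩
    ⟨isOpen_empty, .empty⟩ ⟨isOpen_univ, .univ⟩
    (fun A hA B hB => sdiff A B hA.1 hA.2 hB.1 hB.2)
    (fun s _ t _ hs ht => union s t hs ht) E hE

theorem isCompact_inter_of_isConstructible {U E : Set X} (hU : IsOpen U) (hUc : IsCompact U)
    (hE : IsConstructible E) : IsCompact (U ∩ E) := by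
  refine isConstructible_sdiff_union_induction (p := fun E => IsCompact (U ∩ E)) ?_ ?_ hE
  · intro A B hA hA' hB hB'
    have h1 : IsCompact (A ∩ U) := hA' hUc hU
    have : U ∩ (A \ B) = (A ∩ U) ∩ Bᶜ := by
      ext x; simp only [mem_inter_iff, mem_sdiff, mem_compl_iff]; tauto
    rw [this]
    exact h1.inter_right hB.isClosed_compl
  · intro s t hs ht
    rw [inter_union_distrib_left]
    exact hs.union ht

theorem IsConstructible_isCompact [CompactSpace X] {E : Set X} (hE : IsConstructible E) :
    IsCompact E := by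
  have := isCompact_inter_of_isConstructible isOpen_univ isCompact_univ hE
  rwa [univ_inter] at this

/-- In a compact space with a basis of compact opens, a constructible locally closed set is the
difference of two compact opens. -/
theorem exists_compact_open_sdiff_of_isLocallyClosed [CompactSpace X]
    (hb : IsTopologicalBasis {U : Set X | IsOpen U ∧ IsCompact U}) {Z : Set X}
    (hZc : IsConstructible Z) (hZl : IsLocallyClosed Z) :
    ∃ W W' : Set X, IsOpen W ∧ IsCompact W ∧ IsOpen W' ∧ IsCompact W' ∧ Z = W \ W' := by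
  have hZcpt : IsCompact Z := IsConstructible_isCompact hZc
  have hO : IsOpen (coborder Z) := hZl.isOpen_coborder
  have hcov : ∀ z ∈ Z, ∃ U : Set X, (IsOpen U ∧ IsCompact U) ∧ z ∈ U ∧ U ⊆ coborder Z :=
    fun z hz => hb.exists_subset_of_mem_open (subset_coborder hz) hO
  choose! U hU hzU hUO using hcov
  obtain ⟨t, hcover⟩ := hZcpt.elim_nhds_subcover' (fun z hz => U z)
    (fun z hz => (hU z hz).1.mem_nhds (hzU z hz))
  let W : Set X := ⋃ z ∈ t, U z.1
  have hWo : IsOpen W := isOpen_biUnion fun z _ => (hU z.1 z.2).1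
  have hWc : IsCompact W := t.isCompact_biUnion fun z _ => (hU z.1 z.2).2
  have hZW : Z ⊆ W := hcover
  have hWO : W ⊆ coborder Z := iUnion₂_subset fun z _ => hUO z.1 z.2
  have hWZ : W ∩ closure Z = Z := by
    apply subset_antisymm
    · exact (inter_subset_inter_left _ hWO).trans coborder_inter_closure.subset
    · exact subset_inter hZW subset_closure
  have hW' : W \ closure Z = W ∩ Zᶜ := by
    ext x
    simp only [mem_sdiff, mem_inter_iff, mem_compl_iff]
    constructor
    · rintro ⟨hx, hx'⟩
      exact ⟨hx, fun h => hx' (subset_closure h)⟩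
    · rintro ⟨hx, hx'⟩
      exact ⟨hx, fun h => hx' (hWZ.subset ⟨hx, h⟩)⟩
  refine ⟨W, W \ closure Z, hWo, hWc, hWo.sdiff isClosed_closure, ?_, ?_⟩
  · rw [hW']
    exact isCompact_inter_of_isConstructible hWo hWc hZc.compl
  · rw [sdiff_sdiff_right_self]
    exact hWZ.symm

end Groth.Agent.Lib.Helper5
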