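import Groth.Agent.Lib.Helper5.SpectralVanish
import Groth.Agent.Lib.Helper22.CohTop.ClosedEmb

/-!
# The sobrification of a topological space

The sobrification `Sob X` of a space `X` is the set of irreducible closed subsets of `X`, its opens
are the sets `D U = {Z | Z ∩ U ≠ ∅}` for `U` open in `X`.  The map `q : X → Sob X`,
`x ↦ closure {x}`, induces a bijection on opens, `Sob X` is sober and `T0`, of dimension at most
the dimension of `X`, and Noetherian (hence spectral) when `X` is Noetherian.  The direct image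
along `q` is exact and so does not change cohomology.  As a consequence Grothendieck's vanishing
theorem for Noetherian spaces follows from the vanishing theorem for spectral spaces.
-/

set_option autoImplicit false

universe u

open CategoryTheory CategoryTheory.Limits TopologicalSpace Opposite Topology

namespace Groth.Agent.Lib.Helper5.Sobrify

section top

variable (X : Type u) [TopologicalSpace X]

/-- the sobrification, as a type -/
structure Sob : Type u where
  /-- the underlying irreducible closed subset -/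
  set : Set X
  irr : IsIrreducible set
  closed : IsClosed set

variable {X}

lemma Sob.ext' {Z₁ Z₂ : Sob X} (h : Z₁.set = Z₂.set) : Z₁ = Z₂ := by
  cases Z₁
  cases Z₂
  cases h
  rfl

/-- the basic open sets -/
def D (U : Set X) : Set (Sob X) := {Z | (Z.set ∩ U).Nonempty}

lemma mem_D (U : Set X) (Z : Sob X) : Z ∈ D U ↔ (Z.set ∩ U).Nonempty := Iff.rfl

instance : TopologicalSpace (Sob X) where
  IsOpen s := ∃ U : Set X, IsOpen U ∧ s = D U
  isOpen_univ := by
    refine ⟨Set.univ, isOpen_univ, ?_⟩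
    ext Z
    constructor
    · intro _
      obtain ⟨x, hx⟩ := Z.irr.1
      exact ⟨x, hx, trivial⟩
    · intro _
      trivial
  isOpen_inter := by
    rintro _ _ ⟨U₁, h₁, rfl⟩ ⟨U₂, h₂, rfl⟩
    refine ⟨U₁ ∩ U₂, h₁.inter h₂, ?_⟩
    ext Z
    constructor
    · rintro ⟨a, b⟩
      exact Z.irr.2 U₁ U₂ h₁ h₂ a b
    · rintro ⟨x, hxZ, hx1, hx2⟩
      exact ⟨⟨x, hxZ, hx1⟩, ⟨x, hxZ, hx2⟩⟩
  isOpen_sUnion := by
    intro S hS
    choose! U hU using hS
    refine ⟨⋃ s ∈ S, U s, isOpen_biUnion fun s hs => (hU s hs).1, ?_⟩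
    ext Z
    constructor
    · rintro ⟨s, hs, hZs⟩
      rw [(hU s hs).2] at hZs
      obtain ⟨x, hxZ, hxU⟩ := hZs
      exact ⟨x, hxZ, Set.mem_biUnion hs hxU⟩
    · rintro ⟨x, hxZ, hxU⟩
      obtain ⟨s, hs, hxs⟩ := Set.mem_iUnion₂.1 hxU
      refine ⟨s, hs, ?_⟩
      rw [(hU s hs).2]
      exact ⟨x, hxZ, hxs⟩

lemma isOpen_iff (s : Set (Sob X)) : IsOpen s ↔ ∃ U : Set X, IsOpen U ∧ s = D U := Iff.rfl

lemma isOpen_D {U : Set X} (hU : IsOpen U) : IsOpen (D U) := ⟨U, hU, rfl⟩

/-- the canonical map to the sobrification -/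
def q (x : X) : Sob X := ⟨closure {x}, isIrreducible_singleton.closure, isClosed_closure⟩

lemma q_set (x : X) : (q x).set = closure {x} := rfl

lemma q_preimage_D {U : Set X} (hU : IsOpen U) : q ⁻¹' D U = U := by
  ext x
  constructor
  · rintro ⟨y, hy, hyU⟩
    obtain ⟨z, hzU, hz⟩ := mem_closure_iff.1 hy U hU hyU
    rw [Set.mem_singleton_iff] at hz
    exact hz ▸ hzU
  · intro hx
    exact ⟨x, subset_closure rfl, hx⟩

lemma continuous_q : Continuous (q : X → Sob X) := by
  rw [continuous_def]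
  rintro _ ⟨U, hU, rfl⟩
  rw [q_preimage_D hU]
  exact hU

lemma exists_mem_of_mem_open {V : Set (Sob X)} (hV : IsOpen V) {Z : Sob X} (hZ : Z ∈ V) :
    ∃ x ∈ Z.set, q x ∈ V := by
  obtain ⟨U, hU, rfl⟩ := hV
  obtain ⟨x, hxZ, hxU⟩ := hZ
  exact ⟨x, hxZ, ⟨x, subset_closure rfl, hxU⟩⟩

lemma subset_of_preimage_subset {A B : Set (Sob X)} (hA : IsOpen A) (hB : IsOpen B)
    (h : q ⁻¹' A ⊆ q ⁻¹' B) : A ⊆ B := by
  obtain ⟨U, hU, rfl⟩ := hA
  obtain ⟨V, hV, rfl⟩ := hB
  rw [q_preimage_D hU, q_preimage_D hV] at h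
  rintro Z ⟨x, hxZ, hxU⟩
  exact ⟨x, hxZ, h hxU⟩

/-- closed subsets of the sobrification are determined by their preimages -/
lemma mem_closed_iff {S : Set (Sob X)} (hS : IsClosed S) (Z : Sob X) :
    Z ∈ S ↔ Z.set ⊆ q ⁻¹' S := by
  obtain ⟨U, hU, hSU⟩ := hS.isOpen_compl
  constructor
  · intro hZ x hx
    by_contra hqx
    have h1 : q x ∈ D U := by
      rw [← hSU]
      exact hqx
    have h2 : x ∈ q ⁻¹' D U := h1
    rw [q_preimage_D hU] at h2
    have h3 : Z ∈ D U := ⟨x, hx, h2⟩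
    rw [← hSU] at h3
    exact h3 hZ
  · intro hZ
    by_contra hZS
    have h1 : Z ∈ D U := by
      rw [← hSU]
      exact hZS
    obtain ⟨x, hxZ, hxU⟩ := h1
    have h2 : q x ∈ D U := ⟨x, subset_closure rfl, hxU⟩
    rw [← hSU] at h2
    exact h2 (hZ hxZ)

lemma isIrreducible_preimage {S : Set (Sob X)} (hS : IsClosed S) (hirr : IsIrreducible S) :
    IsIrreducible (q ⁻¹' S) := by
  constructor
  · obtain ⟨Z, hZ⟩ := hirr.1
    obtain ⟨x, hx⟩ := Z.irr.1
    exact ⟨x, (mem_closed_iff hS Z).1 hZ hx⟩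
  · rintro u v hu hv ⟨x, hxS, hxu⟩ ⟨y, hyS, hyv⟩
    obtain ⟨Z, hZS, hZu, hZv⟩ := hirr.2 (D u) (D v) (isOpen_D hu) (isOpen_D hv)
      ⟨q x, hxS, ⟨x, subset_closure rfl, hxu⟩⟩ ⟨q y, hyS, ⟨y, subset_closure rfl, hyv⟩⟩
    obtain ⟨z, hzZ, hzuv⟩ := Z.irr.2 u v hu hv hZu hZv
    exact ⟨z, (mem_closed_iff hS Z).1 hZS hzZ, hzuv⟩

instance : T0Space (Sob X) := ⟨fun Z₁ Z₂ h => by
  rw [inseparable_iff_forall_isOpen] at h
  have key : ∀ A B : Sob X, (∀ s, IsOpen s → (A ∈ s ↔ B ∈ s)) → A.set ⊆ B.set := by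
    intro A B h x hx
    by_contra hxB
    have h1 : A ∈ D (B.set)ᶜ := ⟨x, hx, hxB⟩
    have h2 := (h _ (isOpen_D B.closed.isOpen_compl)).1 h1
    obtain ⟨y, hyB, hyn⟩ := h2
    exact hyn hyB
  exact Sob.ext' (Set.Subset.antisymm (key _ _ h) (key _ _ fun s hs => (h s hs).symm))⟩

instance : QuasiSober (Sob X) where
  sober {S} hirr hcl := by
    refine ⟨⟨q ⁻¹' S, isIrreducible_preimage hcl hirr, hcl.preimage continuous_q⟩, ?_⟩
    show closure _ = S
    apply Set.Subset.antisymm
    · exact closure_minimal (Set.singleton_subset_iff.2 ((mem_closed_iff hcl _).2 le_rfl)) hcl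
    · intro Z hZ
      rw [mem_closure_iff]
      rintro o ⟨V, hV, rfl⟩ ⟨x, hxZ, hxV⟩
      exact ⟨_, ⟨x, (mem_closed_iff hcl Z).1 hZ hxZ, hxV⟩, rfl⟩

instance [NoetherianSpace X] : NoetherianSpace (Sob X) := by
  rw [noetherianSpace_iff_opens]
  intro W
  rw [isCompact_iff_finite_subcover]
  intro ι Ui hUi hcov
  have hc : IsCompact (q ⁻¹' (W : Set (Sob X))) := NoetherianSpace.isCompact _
  obtain ⟨t, ht⟩ := hc.elim_finite_subcover (fun i => q ⁻¹' Ui i)
    (fun i => (hUi i).preimage continuous_q) (by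
      intro x hx
      obtain ⟨i, hi⟩ := Set.mem_iUnion.1 (hcov hx)
      exact Set.mem_iUnion.2 ⟨i, hi⟩)
  refine ⟨t, subset_of_preimage_subset W.2 (isOpen_biUnion fun i _ => hUi i) ?_⟩
  intro x hx
  obtain ⟨i, hi⟩ := Set.mem_iUnion.1 (ht hx)
  obtain ⟨hit, hxi⟩ := Set.mem_iUnion.1 hi
  exact Set.mem_iUnion₂.2 ⟨i, hit, hxi⟩

instance [NoetherianSpace X] : SpectralSpace (Sob X) where
  inter_isCompact := fun _ _ _ _ _ _ => NoetherianSpace.isCompact _

/-- the irreducible closed subset of `X` attached to an irreducible closed subset of `Sob X` -/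
def pullIrr (T : IrreducibleCloseds (Sob X)) : IrreducibleCloseds X where
  carrier := q ⁻¹' (T : Set (Sob X))
  isIrreducible' := isIrreducible_preimage T.isClosed T.isIrreducible
  isClosed' := T.isClosed.preimage continuous_q

lemma pullIrr_strictMono : StrictMono (pullIrr : IrreducibleCloseds (Sob X) → _) := by
  apply Monotone.strictMono_of_injective
  · intro T₁ T₂ h x hx
    exact h hx
  · intro T₁ T₂ h
    apply IrreducibleCloseds.ext
    have h' : q ⁻¹' (T₁ : Set (Sob X)) = q ⁻¹' (T₂ : Set (Sob X)) :=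
      congrArg (fun T : IrreducibleCloseds X => (T : Set X)) h
    ext Z
    rw [mem_closed_iff T₁.isClosed, mem_closed_iff T₂.isClosed, h']

variable (X) in
theorem dim_le : topologicalKrullDim (Sob X) ≤ topologicalKrullDim X :=
  Order.krullDim_le_of_strictMono pullIrr pullIrr_strictMono

end top

section sheaves

open Groth.Agent.Lib.Helper22.CohTop

variable (X : TopCat.{u})

/-- the sobrification as an object of `TopCat` -/
def SobT : TopCat.{u} := TopCat.of (Sob X)

/-- the canonical map to the sobrification -/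
def qT : X ⟶ SobT X := TopCat.ofHom ⟨q, continuous_q⟩

instance [NoetherianSpace X] : SpectralSpace (SobT X) :=
  inferInstanceAs (SpectralSpace (Sob X))

variable {X}

/-- the direct image to the sobrification preserves epimorphisms -/
theorem epi_push_map {G H : CohTop.Ab X} (g : G ⟶ H) [Epi g] :
    Epi ((CohTop.push (qT X)).map g) := by
  refine (TopCat.Sheaf.isLocallySurjective_iff_epi ((CohTop.push (qT X)).map g)).mp ?_
  rw [TopCat.Presheaf.isLocallySurjective_iff]
  intro V t y hy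
  have hls := (TopCat.Presheaf.isLocallySurjective_iff g.hom).mp
    ((TopCat.Sheaf.isLocallySurjective_iff_epi g).mpr ‹Epi g›)
  obtain ⟨x, hxy, hxV⟩ := exists_mem_of_mem_open (X := X) V.2 hy
  obtain ⟨U', hU', ⟨s', hs'⟩, hxU'⟩ := hls ((Opens.map (qT X)).obj V) t x hxV
  let W : Opens (SobT X) := ⟨D (U' : Set X), isOpen_D U'.2⟩ ⊓ V
  have hWU' : (Opens.map (qT X)).obj W ≤ U' := by
    intro z hz
    have h1 : z ∈ q ⁻¹' D (U' : Set X) := hz.1
    have h2 : q ⁻¹' D (U' : Set X) = (U' : Set X) := q_preimage_D U'.2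
    rw [h2] at h1
    exact h1
  refine ⟨W, inf_le_right, ⟨(G.obj.map (homOfLE hWU').op).hom s', ?_⟩, ?_⟩
  · have h1 := ConcreteCategory.congr_hom (g.hom.naturality (homOfLE hWU').op) s'
    rw [ConcreteCategory.comp_apply, ConcreteCategory.comp_apply] at h1
    refine h1.trans ?_
    rw [hs']
    change (H.obj.map _).hom ((H.obj.map _).hom t) = (H.obj.map _).hom t
    rw [← ConcreteCategory.comp_apply, ← H.obj.map_comp]
    rfl
  · exact ⟨⟨x, hxy, hxU'⟩, hy⟩

/-- the direct image to the sobrification does not change cohomology -/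
theorem nonempty_H_addEquiv (F : CohTop.Ab X) (p : ℕ) :
    Nonempty (CohTop.H F p ≃+ CohTop.H ((CohTop.push (qT X)).obj F) p) :=
  leray_degenerate (qT X) F (fun n => isZero_Rpush_succ_of_preservesEpi (qT X)
    (fun g _ => epi_push_map g) n F) p

/-- **Grothendieck's vanishing theorem for Noetherian spaces.** -/
theorem noetherian_vanishing [NoetherianSpace X] (d : ℕ)
    (hd : topologicalKrullDim X ≤ ((d : ℕ) : WithBot ℕ∞)) (F : CohTop.Ab X) (p : ℕ) (hp : d < p) :
    Subsingleton (CohTop.H F p) := by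
  have hdim : topologicalKrullDim (SobT X) ≤ ((d : ℕ) : WithBot ℕ∞) := (dim_le X).trans hd
  haveI := SpectralVanish.vanish_main d hdim ((CohTop.push (qT X)).obj F) p hp
  obtain ⟨e⟩ := nonempty_H_addEquiv F p
  exact e.toEquiv.subsingleton

end sheaves

end Groth.Agent.Lib.Helper5.Sobrify
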