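import Groth.Agent.S6032
import Groth.Agent.Lib.Helper5.ExtCechLC
import Groth.Agent.Lib.Helper16.LocCohNonvanishCor

/-!
# Affine complements of closed subsets of `Spec A`

If `Spec A ∖ V(I)` is affine (`A` Noetherian) then `H^j_I(M) = 0` for all `j ≥ 2`, and every
minimal prime over `I` has height at most one.
-/

set_option autoImplicit false
universe u
open CategoryTheory CategoryTheory.Limits TopologicalSpace AlgebraicGeometry Opposite TensorProduct

namespace Groth.Agent.Lib.Helper5.AffinePunctured

open Groth.Agent.Lib.Helper16.LC Groth.Agent.Lib.Helper16.DTL IsLocalRing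

variable (A : Type u) [CommRing A] [IsNoetherianRing A]

theorem subsingleton_H_of_isAffineOpen_list (M : Type u) [AddCommGroup M] [Module A M]
    (fs : List A) (hU : IsAffineOpen (LocCoh.puncturedOpen A (Ideal.span {a | a ∈ fs}))) (n : ℕ) :
    Subsingleton (LocCoh.H (Ideal.span {a | a ∈ fs}) (n + 2) M) := by
  obtain ⟨e1⟩ := Groth.Agent.S6032.result A fs M (n + 2)
  have k := Groth.Agent.Lib.Helper5.CechShift.koszulHLimEquivExtCech (ModuleCat.of A M) fs (n + 2)
  obtain ⟨e2⟩ := Groth.Agent.Lib.Helper5.ExtCechH0.nonempty_extCechH_iso_localCohomology fs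
    (ModuleCat.of A M) (n + 2)
  haveI hqc : (AlgebraicGeometry.tilde (R := CommRingCat.of A)
    (ModuleCat.of A M)).IsQuasicoherent := inferInstance
  have hb := (Groth.Agent.S6031.result (Spec (CommRingCat.of A))
    (AlgebraicGeometry.tilde (R := CommRingCat.of A) (ModuleCat.of A M)) hqc
    (LocCoh.puncturedOpen A (Ideal.span {a | a ∈ fs}))).2 (n + 1) (by omega)
  obtain ⟨e'⟩ := Groth.Agent.Lib.Helper5.HZKoszul.nonempty_HU_addEquiv_HHon
    (AlgebraicGeometry.tilde (R := CommRingCat.of A) (ModuleCat.of A M))
    (LocCoh.puncturedOpen A (Ideal.span {a | a ∈ fs})) (n + 1)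
  haveI : IsAffine (LocCoh.puncturedOpen A (Ideal.span {a | a ∈ fs})).toScheme := hU
  have h0 : Subsingleton (Coh.HHon (Spec (CommRingCat.of A))
      (AlgebraicGeometry.tilde (R := CommRingCat.of A) (ModuleCat.of A M))
      (LocCoh.puncturedOpen A (Ideal.span {a | a ∈ fs})) (n + 1)) :=
    Groth.Agent.Lib.Helper22.Cech.subsingleton_HH_succ_of_isAffine _ _ n
  have h1 : Subsingleton (CohTop.HU (Coh.toAb (AlgebraicGeometry.tilde (R := CommRingCat.of A)
      (ModuleCat.of A M))) (n + 1) (LocCoh.puncturedOpen A (Ideal.span {a | a ∈ fs}))) :=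
    e'.toEquiv.subsingleton_congr.2 h0
  have h2 : Subsingleton (LocCohZ.HZM (Spec (CommRingCat.of A))
      (AlgebraicGeometry.tilde (R := CommRingCat.of A) (ModuleCat.of A M)) (n + 2)
      (LocCoh.puncturedOpen A (Ideal.span {a | a ∈ fs}))) :=
    (AddEquiv.ofBijective _ hb).toEquiv.subsingleton_congr.1 h1
  have h3 : Subsingleton (CohIII.koszulHLim fs (ModuleCat.of A M) (n + 2)) :=
    e1.toEquiv.subsingleton_congr.2 h2
  have h4 : Subsingleton (DerCA.extCechH fs (ModuleCat.of A M) ((n + 2 : ℕ) : ℤ)) :=
    k.toEquiv.subsingleton_congr.1 h3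
  exact e2.toLinearEquiv.toEquiv.subsingleton_congr.1 h4

theorem subsingleton_H_of_isAffineOpen (I : Ideal A) (M : Type u) [AddCommGroup M] [Module A M]
    (hU : IsAffineOpen (LocCoh.puncturedOpen A I)) (n : ℕ) :
    Subsingleton (LocCoh.H I (n + 2) M) := by
  obtain ⟨s, hs⟩ := (isNoetherianRing_iff_ideal_fg A).1 inferInstance I
  have hset : {x | x ∈ s.toList} = (s : Set A) := by
    ext x
    simp
  have hI : Ideal.span {x | x ∈ s.toList} = I := by rw [hset]; exact hs
  have := subsingleton_H_of_isAffineOpen_list A M s.toList (by rw [hI]; exact hU) n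
  rwa [hI] at this

/-- `H^h_I(R) ≠ 0` for `h` the height of a minimal prime over `I`. -/
theorem nontrivial_H_of_mem_minimalPrimes {R : Type u} [CommRing R] [IsNoetherianRing R]
    (I p : Ideal R) [p.IsPrime] (hmin : p ∈ I.minimalPrimes) (h : ℕ) (hph : p.height = h) :
    Nontrivial (LocCoh.H I h R) := by
  have : IsNoetherianRing (Localization.AtPrime p) :=
    IsLocalization.isNoetherianRing p.primeCompl _ inferInstance
  have : Module.Flat R (Localization.AtPrime p) := IsLocalization.flat _ p.primeCompl
  have hdim : ringKrullDim (Localization.AtPrime p) = h := by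
    rw [IsLocalization.AtPrime.ringKrullDim_eq_height p (Localization.AtPrime p), hph]
    rfl
  have hrad : (I.map (algebraMap R (Localization.AtPrime p))).radical =
      (maximalIdeal (Localization.AtPrime p)).radical := by
    rw [IsLocalization.AtPrime.radical_map_of_mem_minimalPrimes (Localization.AtPrime p) p I hmin,
      IsLocalization.AtPrime.map_eq_maximalIdeal p (Localization.AtPrime p),
      (maximalIdeal.isMaximal _).isPrime.radical]
  have h1 : Nontrivial (LocCoh.H (maximalIdeal (Localization.AtPrime p)) h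
      (Localization.AtPrime p)) :=
    nontrivial_H_supportDim (Localization.AtPrime p) h (by
      rw [Module.supportDim_self_eq_ringKrullDim, hdim])
  have h2 : Nontrivial (LocCoh.H (I.map (algebraMap R (Localization.AtPrime p))) h
      (Localization.AtPrime p)) :=
    (HequivOfRadical hrad h (Localization.AtPrime p)).toEquiv.nontrivial
  obtain ⟨e⟩ := nonempty_H_baseChange_equiv (R' := Localization.AtPrime p) I h R
  have e2 := HcongrEquiv (I.map (algebraMap R (Localization.AtPrime p))) h
    (TensorProduct.AlgebraTensorModule.rid R (Localization.AtPrime p) (Localization.AtPrime p))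
  have h3 : Nontrivial ((Localization.AtPrime p) ⊗[R] LocCoh.H I h R) :=
    (e.trans e2).toEquiv.nontrivial
  by_contra hcon
  rw [not_nontrivial_iff_subsingleton] at hcon
  have : Subsingleton ((Localization.AtPrime p) ⊗[R] LocCoh.H I h R) := inferInstance
  exact not_subsingleton _ this

/-- If the complement of `V(I)` is affine, the minimal primes over `I` have height at most one. -/
theorem height_le_one_of_isAffineOpen (I p : Ideal A) [p.IsPrime]
    (hU : IsAffineOpen (LocCoh.puncturedOpen A I)) (hmin : p ∈ I.minimalPrimes) :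
    p.height ≤ 1 := by
  obtain ⟨h, hh⟩ : ∃ h : ℕ, p.height = h :=
    ⟨_, (ENat.natCast_toNat (Ideal.height_ne_top (Ideal.IsPrime.ne_top inferInstance))).symm⟩
  rw [hh]
  by_contra hcon
  rw [not_le] at hcon
  have h2 : 2 ≤ h := by
    have : (1 : ℕ∞) < (h : ℕ∞) := hcon
    exact_mod_cast this
  obtain ⟨n, rfl⟩ : ∃ n, h = n + 2 := ⟨h - 2, by omega⟩
  have hnt := nontrivial_H_of_mem_minimalPrimes I p hmin (n + 2) hh
  have hss := subsingleton_H_of_isAffineOpen A I A hU n
  exact not_subsingleton _ hss

end Groth.Agent.Lib.Helper5.AffinePunctured
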