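import Groth.Agent.Lib.Helper5.OrderDim
import Mathlib.Topology.DiscreteSubset

set_option autoImplicit false

namespace Groth.Agent.Lib.Helper5

open Order Topology

attribute [local instance] specializationOrder

theorem topologicalKrullDim_eq_krullDim (X : Type*) [TopologicalSpace X] [QuasiSober X]
    [T0Space X] : topologicalKrullDim X = krullDim X :=
  krullDim_eq_of_orderIso irreducibleSetEquivPoints

theorem topologicalKrullDim_le_of_specializingMap {X Y : Type*} [TopologicalSpace X]
    [TopologicalSpace Y] [QuasiSober X] [T0Space X] [QuasiSober Y] [T0Space Y] (f : X → Y)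
    (hs : SpecializingMap f) (hsurj : Function.Surjective f) :
    topologicalKrullDim Y ≤ topologicalKrullDim X := by
  rw [topologicalKrullDim_eq_krullDim, topologicalKrullDim_eq_krullDim]
  apply krullDim_le_of_strictGoingDown f _ hsurj
  intro a b hb
  obtain ⟨a', ha', rfl⟩ := hs hb.le
  refine ⟨a', lt_of_le_of_ne ha' ?_, rfl⟩
  rintro rfl
  exact lt_irrefl _ hb

theorem topologicalKrullDim_le_of_generalizingMap {X Y : Type*} [TopologicalSpace X]
    [TopologicalSpace Y] [QuasiSober X] [T0Space X] [QuasiSober Y] [T0Space Y] (f : X → Y)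
    (hs : GeneralizingMap f) (hsurj : Function.Surjective f) :
    topologicalKrullDim Y ≤ topologicalKrullDim X := by
  rw [topologicalKrullDim_eq_krullDim, topologicalKrullDim_eq_krullDim]
  apply krullDim_le_of_strictGoingUp f _ hsurj
  intro a b hb
  obtain ⟨a', ha', rfl⟩ := hs hb.le
  refine ⟨a', lt_of_le_of_ne ha' ?_, rfl⟩
  rintro rfl
  exact lt_irrefl _ hb

theorem topologicalKrullDim_le_of_isDiscrete_fibers {X Y : Type*} [TopologicalSpace X]
    [TopologicalSpace Y] [QuasiSober X] [T0Space X] [QuasiSober Y] [T0Space Y] (f : X → Y)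
    (hf : Continuous f) (hd : ∀ y, IsDiscrete (f ⁻¹' {y})) :
    topologicalKrullDim X ≤ topologicalKrullDim Y := by
  rw [topologicalKrullDim_eq_krullDim, topologicalKrullDim_eq_krullDim]
  have hmono : Monotone f := fun _ _ h => h.map hf
  have := krullDim_le_of_krullDim_preimage_le' (m := 0) f hmono ?_
  · simpa using this
  intro y
  rw [Nat.cast_zero, krullDim_nonpos_iff_forall_isMax]
  intro a b hab
  have : (b : X) = a := (hd y).eq_of_specializes hab b.2 a.2
  exact le_of_eq (Subtype.ext this)

end Groth.Agent.Lib.Helper5
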