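import Mathlib
import Groth.Agent.Lib.Helper15.SkolemNoether

/-!
# Double centralizer theorem (helper5)

For a simple subalgebra `B` of a finite-dimensional central simple `k`-algebra `A` with
centralizer `C`:
* `isSimpleRing_centralizer`: `C` is simple;
* `finrank_eq_mul_centralizer`: `dim A = dim B * dim C`;
* `centralizer_centralizer_eq`: the centralizer of `C` is `B`.

The proof: `C` is the endomorphism algebra of `A` as a module over the simple algebra
`E = B ⊗ Aᵐᵒᵖ`; for a finite module `M` over a simple algebra `E` of dimension `e`, we have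
`M^e ≃ E^m` (`m = dim M`) whence `Mat_e (End_E M) ≃ Mat_m (Eᵐᵒᵖ)`.
-/

set_option autoImplicit false

namespace Groth.Agent.Lib.Helper5.DoubleCentralizer

open TensorProduct Groth.Agent.Lib.Helper15.CSA

section step1

variable (k : Type*) [Field k] (E : Type*) [Ring E] [Algebra k E] [IsSimpleRing E]
  [FiniteDimensional k E]
  (M : Type*) [AddCommGroup M] [Module E M] [Module k M] [IsScalarTower k E M]
  [FiniteDimensional k M]

/-- The key algebra isomorphism `Mat_e(End_E M) ≃ Mat_m(Eᵐᵒᵖ)` where `e = dim E`, `m = dim M`. -/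
theorem nonempty_matrix_end_algEquiv :
    Nonempty (Matrix (Fin (Module.finrank k E)) (Fin (Module.finrank k E)) (Module.End E M) ≃ₐ[k]
      Matrix (Fin (Module.finrank k M)) (Fin (Module.finrank k M)) Eᵐᵒᵖ) := by
  have hart : IsArtinianRing E := IsArtinianRing.of_finite k E
  obtain ⟨φ⟩ := nonempty_linearEquiv_of_finrank_eq k (R := E)
    (Fin (Module.finrank k E) → M) (Fin (Module.finrank k M) → E) (by
      rw [Module.finrank_pi_fintype, Module.finrank_pi_fintype]
      simp [mul_comm])
  exact ⟨(endVecAlgEquivMatrixEnd (Fin (Module.finrank k E)) k E M).symm.trans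
    ((φ.conjAlgEquiv k).trans
      ((endVecAlgEquivMatrixEnd (Fin (Module.finrank k M)) k E E).trans
        (AlgEquiv.mapMatrix (AlgEquiv.moduleEndSelf k).symm)))⟩

include k in
theorem isSimpleRing_end [Nontrivial M] : IsSimpleRing (Module.End E M) := by
  obtain ⟨Φ⟩ := nonempty_matrix_end_algEquiv k E M
  have he : 0 < Module.finrank k E := Module.finrank_pos
  have hm : 0 < Module.finrank k M := Module.finrank_pos
  have : Nonempty (Fin (Module.finrank k E)) := ⟨⟨0, he⟩⟩
  have : Nonempty (Fin (Module.finrank k M)) := ⟨⟨0, hm⟩⟩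
  have h1 : IsSimpleRing (Matrix (Fin (Module.finrank k M)) (Fin (Module.finrank k M)) Eᵐᵒᵖ) :=
    inferInstance
  have h2 : IsSimpleRing
      (Matrix (Fin (Module.finrank k E)) (Fin (Module.finrank k E)) (Module.End E M)) :=
    IsSimpleRing.of_ringEquiv Φ.symm.toRingEquiv h1
  exact ⟨(TwoSidedIdeal.orderIsoMatrix
    (n := Fin (Module.finrank k E)) (R := Module.End E M)).isSimpleOrder⟩

theorem finrank_end_mul_finrank :
    Module.finrank k (Module.End E M) * Module.finrank k E = Module.finrank k M ^ 2 := by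
  obtain ⟨Φ⟩ := nonempty_matrix_end_algEquiv k E M
  have h := Φ.toLinearEquiv.finrank_eq
  rw [Module.finrank_matrix, Module.finrank_matrix] at h
  simp only [Fintype.card_fin] at h
  have hop : Module.finrank k Eᵐᵒᵖ = Module.finrank k E :=
    (MulOpposite.opLinearEquiv k (M := E)).symm.finrank_eq
  rw [hop] at h
  have he : 0 < Module.finrank k E := Module.finrank_pos
  -- h : e * e * d = m * m * e
  have : Module.finrank k E * (Module.finrank k (Module.End E M) * Module.finrank k E) =
      Module.finrank k E * Module.finrank k M ^ 2 := by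
    rw [sq]; linarith [h]
  exact Nat.eq_of_mul_eq_mul_left he this

end step1

section step2

variable {k A : Type*} [Field k] [Ring A] [Algebra k A] (B : Subalgebra k A)

/-- The bimodule action of `B ⊗ Aᵐᵒᵖ` on `A`. -/
noncomputable def ρ : B ⊗[k] Aᵐᵒᵖ →ₐ[k] Module.End k A :=
  (AlgHom.mulLeftRight k A).comp (Algebra.TensorProduct.map B.val (AlgHom.id k Aᵐᵒᵖ))

lemma ρ_tmul (b : B) (a : Aᵐᵒᵖ) (x : A) : ρ B (b ⊗ₜ[k] a) x = (b : A) * x * a.unop := by
  simp [ρ]

/-- View an element of `A` as an element of the bimodule. -/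
def inRep (x : A) : Rep (ρ B) := x

/-- View an element of the bimodule as an element of `A`. -/
def outRep (x : Rep (ρ B)) : A := x

@[simp] lemma inRep_outRep (x : Rep (ρ B)) : inRep B (outRep B x) = x := rfl
@[simp] lemma outRep_inRep (x : A) : outRep B (inRep B x) = x := rfl
lemma inRep_add (x y : A) : inRep B (x + y) = inRep B x + inRep B y := rfl
lemma outRep_add (x y : Rep (ρ B)) : outRep B (x + y) = outRep B x + outRep B y := rfl
lemma outRep_zero : outRep B (0 : Rep (ρ B)) = 0 := rfl
lemma inRep_zero : inRep B (0 : A) = 0 := rfl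
lemma outRep_smul (r : k) (x : Rep (ρ B)) : outRep B (r • x) = r • outRep B x := rfl

lemma outRep_tmul_smul (b : B) (a : Aᵐᵒᵖ) (x : Rep (ρ B)) :
    outRep B ((b ⊗ₜ[k] a : B ⊗[k] Aᵐᵒᵖ) • x) = (b : A) * outRep B x * a.unop :=
  ρ_tmul B b a x

lemma comm_ρ (c : Subalgebra.centralizer k (B : Set A)) (e : B ⊗[k] Aᵐᵒᵖ) (x : A) :
    (c : A) * ρ B e x = ρ B e ((c : A) * x) := by
  have hc := c.2
  rw [Subalgebra.mem_centralizer_iff] at hc
  induction e using TensorProduct.induction_on with
  | zero => rw [map_zero, LinearMap.zero_apply, LinearMap.zero_apply, mul_zero]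
  | tmul b a =>
    rw [ρ_tmul, ρ_tmul, ← mul_assoc, ← mul_assoc, ← mul_assoc, hc b b.2]
  | add e₁ e₂ h₁ h₂ =>
    rw [map_add, LinearMap.add_apply, LinearMap.add_apply, mul_add, h₁, h₂]

/-- Left multiplication by an element of the centralizer, as a bimodule endomorphism. -/
noncomputable def toEndFun (c : Subalgebra.centralizer k (B : Set A)) :
    Module.End (B ⊗[k] Aᵐᵒᵖ) (Rep (ρ B)) where
  toFun x := inRep B ((c : A) * outRep B x)
  map_add' x y := by
    rw [outRep_add, mul_add, inRep_add]
  map_smul' e x := comm_ρ B c e (outRep B x)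

lemma toEndFun_apply (c : Subalgebra.centralizer k (B : Set A)) (x : Rep (ρ B)) :
    toEndFun B c x = inRep B ((c : A) * outRep B x) := rfl

/-- The centralizer of `B` in `A` is the algebra of `(B, A)`-bimodule endomorphisms of `A`. -/
noncomputable def toEnd :
    Subalgebra.centralizer k (B : Set A) →ₐ[k] Module.End (B ⊗[k] Aᵐᵒᵖ) (Rep (ρ B)) where
  toFun := toEndFun B
  map_one' := by
    ext x
    rw [toEndFun_apply]
    simp
  map_mul' c d := by
    ext x
    rw [Module.End.mul_apply, toEndFun_apply, toEndFun_apply, toEndFun_apply]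
    simp [mul_assoc]
  map_zero' := by
    ext x
    rw [toEndFun_apply]
    simp [inRep_zero]
  map_add' c d := by
    ext x
    rw [LinearMap.add_apply, toEndFun_apply, toEndFun_apply, toEndFun_apply]
    simp [add_mul, inRep_add]
  commutes' r := by
    ext x
    rw [toEndFun_apply, Module.algebraMap_end_apply]
    have : outRep B (inRep B (((algebraMap k (Subalgebra.centralizer k (B : Set A)) r : 
        Subalgebra.centralizer k (B : Set A)) : A) * outRep B x)) = outRep B (r • x) := by
      rw [outRep_inRep, outRep_smul, Algebra.smul_def]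
      rfl
    exact this

lemma toEnd_apply (c : Subalgebra.centralizer k (B : Set A)) (x : Rep (ρ B)) :
    toEnd B c x = inRep B ((c : A) * outRep B x) := rfl

lemma toEnd_bijective : Function.Bijective (toEnd B) := by
  constructor
  · intro c d h
    have h1 := congrArg (fun f => outRep B (f (inRep B (1 : A)))) h
    simp only [toEnd_apply, outRep_inRep, mul_one] at h1
    exact Subtype.ext h1
  · intro f
    have hf : ∀ x : A, outRep B (f (inRep B x)) = outRep B (f (inRep B 1)) * x := by
      intro x
      have h := f.map_smul ((1 : B) ⊗ₜ[k] MulOpposite.op x) (inRep B (1 : A))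
      have h2 := congrArg (outRep B) h
      rw [outRep_tmul_smul] at h2
      have h3 : ((1 : B) ⊗ₜ[k] MulOpposite.op x : B ⊗[k] Aᵐᵒᵖ) • inRep B (1 : A) = inRep B x := by
        have : outRep B (((1 : B) ⊗ₜ[k] MulOpposite.op x : B ⊗[k] Aᵐᵒᵖ) • inRep B (1 : A)) =
            outRep B (inRep B x) := by
          rw [outRep_tmul_smul]; simp
        exact this
      rw [h3] at h2
      simpa using h2
    have hc : outRep B (f (inRep B 1)) ∈ Subalgebra.centralizer k (B : Set A) := by
      rw [Subalgebra.mem_centralizer_iff]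
      intro b hb
      have h := f.map_smul ((⟨b, hb⟩ : B) ⊗ₜ[k] (1 : Aᵐᵒᵖ)) (inRep B (1 : A))
      have h2 := congrArg (outRep B) h
      rw [outRep_tmul_smul] at h2
      have h3 : ((⟨b, hb⟩ : B) ⊗ₜ[k] (1 : Aᵐᵒᵖ) : B ⊗[k] Aᵐᵒᵖ) • inRep B (1 : A) = inRep B b := by
        have : outRep B (((⟨b, hb⟩ : B) ⊗ₜ[k] (1 : Aᵐᵒᵖ) : B ⊗[k] Aᵐᵒᵖ) • inRep B (1 : A)) =
            outRep B (inRep B b) := by
          rw [outRep_tmul_smul]; simp
        exact this
      rw [h3, hf b] at h2
      simpa using h2.symm
    refine ⟨⟨outRep B (f (inRep B 1)), hc⟩, ?_⟩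
    ext x
    rw [toEnd_apply]
    have := hf (outRep B x)
    rw [inRep_outRep] at this
    exact congrArg (inRep B) this.symm

/-- The centralizer of `B` in `A` is the algebra of `(B, A)`-bimodule endomorphisms of `A`. -/
noncomputable def centralizerEquivEnd :
    Subalgebra.centralizer k (B : Set A) ≃ₐ[k] Module.End (B ⊗[k] Aᵐᵒᵖ) (Rep (ρ B)) :=
  AlgEquiv.ofBijective (toEnd B) (toEnd_bijective B)

end step2

section step3

variable (k : Type*) [Field k] (A : Type*) [Ring A] [Algebra k A]
    [Algebra.IsCentral k A] [IsSimpleRing A] [FiniteDimensional k A]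
    (B : Subalgebra k A) [IsSimpleRing B]

omit [FiniteDimensional k A] in
theorem isSimpleRing_bimod : IsSimpleRing (B ⊗[k] Aᵐᵒᵖ) := by
  have hsimple : IsSimpleRing (Aᵐᵒᵖ ⊗[k] B) := isSimpleRing_tensorProduct
  have e : (Aᵐᵒᵖ ⊗[k] B) ≃+* (B ⊗[k] Aᵐᵒᵖ) := (Algebra.TensorProduct.comm k Aᵐᵒᵖ B).toRingEquiv
  exact IsSimpleRing.of_ringEquiv e hsimple

omit [Algebra.IsCentral k A] [IsSimpleRing B] [IsSimpleRing A] in
theorem finrank_bimod :
    Module.finrank k (B ⊗[k] Aᵐᵒᵖ) = Module.finrank k B * Module.finrank k A := by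
  rw [Module.finrank_tensorProduct]
  congr 1
  exact (MulOpposite.opLinearEquiv k (M := A)).symm.finrank_eq

/-- The centralizer of a simple subalgebra of a finite central simple algebra is simple. -/
theorem isSimpleRing_centralizer : IsSimpleRing (Subalgebra.centralizer k (B : Set A)) := by
  have h1 : IsSimpleRing (B ⊗[k] Aᵐᵒᵖ) := isSimpleRing_bimod k A B
  have h2 : Nontrivial (Rep (ρ B)) := inferInstanceAs (Nontrivial A)
  have h3 : IsSimpleRing (Module.End (B ⊗[k] Aᵐᵒᵖ) (Rep (ρ B))) :=
    isSimpleRing_end k (B ⊗[k] Aᵐᵒᵖ) (Rep (ρ B))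
  exact IsSimpleRing.of_ringEquiv (centralizerEquivEnd B).symm.toRingEquiv h3

/-- `dim A = dim B * dim C` for the centralizer `C` of a simple subalgebra `B`. -/
theorem finrank_eq_mul_centralizer :
    Module.finrank k A =
      Module.finrank k B * Module.finrank k (Subalgebra.centralizer k (B : Set A)) := by
  have h1 : IsSimpleRing (B ⊗[k] Aᵐᵒᵖ) := isSimpleRing_bimod k A B
  have h := finrank_end_mul_finrank k (B ⊗[k] Aᵐᵒᵖ) (Rep (ρ B))
  rw [finrank_bimod, ← (centralizerEquivEnd B).toLinearEquiv.finrank_eq] at h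
  have hA : Module.finrank k (Rep (ρ B)) = Module.finrank k A := rfl
  rw [hA] at h
  have hpos : 0 < Module.finrank k A := Module.finrank_pos
  have : Module.finrank k A * Module.finrank k A = Module.finrank k A *
      (Module.finrank k B * Module.finrank k (Subalgebra.centralizer k (B : Set A))) := by
    rw [sq] at h
    rw [← h]; ring
  exact Nat.eq_of_mul_eq_mul_left hpos this

/-- Double centralizer theorem. -/
theorem centralizer_centralizer_eq :
    Subalgebra.centralizer k (Subalgebra.centralizer k (B : Set A) : Set A) = B := by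
  have hC : IsSimpleRing (Subalgebra.centralizer k (B : Set A)) := isSimpleRing_centralizer k A B
  have h1 := finrank_eq_mul_centralizer k A B
  have h2 := finrank_eq_mul_centralizer k A (Subalgebra.centralizer k (B : Set A))
  have hle : B ≤ Subalgebra.centralizer k (Subalgebra.centralizer k (B : Set A) : Set A) :=
    Subalgebra.le_centralizer_centralizer k
  have hCpos : 0 < Module.finrank k (Subalgebra.centralizer k (B : Set A)) := Module.finrank_pos
  have hfin : Module.finrank k B = Module.finrank k
      (Subalgebra.centralizer k (Subalgebra.centralizer k (B : Set A) : Set A)) := by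
    rw [h1, mul_comm] at h2
    exact Nat.eq_of_mul_eq_mul_left hCpos h2
  symm
  apply Subalgebra.toSubmodule_injective
  exact Submodule.eq_of_le_of_finrank_eq hle hfin

end step3

end Groth.Agent.Lib.Helper5.DoubleCentralizer
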