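import Mathlib

/-!
# The projective dimension theorem (weak form)

`exists_ne_zero_forall_eval_eq_zero`: over an algebraically closed field, fewer than `m` homogeneous
forms of positive degree in `m` variables have a common nonzero zero.

Auxiliary: `height_add_one_le_height_comap` (a surjection whose kernel contains a nonzerodivisor
raises heights of primes by at least one), `le_height_ker_constantCoeff` (the irrelevant ideal of
`k[t_1..t_n]` has height at least `n`).
-/

set_option autoImplicit false

namespace Groth.Agent.Lib.Helper5

open Order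

theorem height_add_one_le_of_strictMono {α β : Type*} [Preorder α] [Preorder β] (f : α → β)
    (hf : StrictMono f) (hmin : ∀ a, ∃ b, b < f a) (a : α) : height a + 1 ≤ height (f a) := by
  have key : ∀ (n : ℕ), (n : ℕ∞) ≤ height a → ((n + 1 : ℕ) : ℕ∞) ≤ height (f a) := by
    intro n hn
    obtain ⟨p, hp, hlen⟩ := exists_series_of_le_height a hn
    obtain ⟨b, hb⟩ := hmin p.head
    let q : LTSeries β := (p.map f hf).cons b (by simpa using hb)
    have hq : q.last = f a := by simp [q, hp]
    have := length_le_height_last (p := q)
    rw [hq] at this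
    refine le_trans ?_ this
    simp [q, hlen]
  rcases eq_or_ne (height a) ⊤ with h | h
  · have : height (f a) = ⊤ := by
      rw [ENat.eq_top_iff_forall_ge]
      intro n
      refine le_trans ?_ (key n (by rw [h]; exact le_top))
      exact_mod_cast Nat.le_succ n
    rw [this]; exact le_top
  · obtain ⟨n, hn⟩ := ENat.ne_top_iff_exists.mp h
    rw [← hn]
    exact_mod_cast key n hn.le

open scoped nonZeroDivisors in
theorem height_add_one_le_height_comap {R S : Type*} [CommRing R] [CommRing S] (f : R →+* S)
    (hf : Function.Surjective f) {r : R} (hr : r ∈ R⁰) (hr' : f r = 0)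
    (p : Ideal S) [p.IsPrime] : p.height + 1 ≤ (p.comap f).height := by
  have hpc : (p.comap f).IsPrime := inferInstance
  have e1 := PrimeSpectrum.height_eq_orderHeight (⟨p, inferInstance⟩ : PrimeSpectrum S)
  have e2 := PrimeSpectrum.height_eq_orderHeight (PrimeSpectrum.comap f ⟨p, inferInstance⟩)
  have := height_add_one_le_of_strictMono (PrimeSpectrum.comap f)
    (fun a b hab => by
      refine lt_of_le_of_ne (Ideal.comap_mono (f := f) hab.le) fun h => ?_
      exact hab.ne (PrimeSpectrum.comap_injective_of_surjective f hf h))
    (fun a => by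
      obtain ⟨q, hq, hq'⟩ := Ideal.exists_minimalPrimes_le
        (J := (PrimeSpectrum.comap f a).asIdeal) bot_le
      refine ⟨⟨q, hq.1.1⟩, lt_of_le_of_ne hq' fun h => ?_⟩
      refine Set.disjoint_iff.mp (Ideal.disjoint_nonZeroDivisors_of_mem_minimalPrimes hq)
        ⟨?_, hr⟩
      have : r ∈ (PrimeSpectrum.comap f a).asIdeal := by
        simp [hr']
      rw [← h] at this
      exact this) ⟨p, inferInstance⟩
  rw [← e1, ← e2] at this
  exact this

open MvPolynomial in
theorem le_height_ker_constantCoeff (k : Type*) [CommRing k] [IsDomain k] (n : ℕ) :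
    (n : ℕ∞) ≤ (RingHom.ker (constantCoeff : MvPolynomial (Fin n) k →+* k)).height := by
  induction n with
  | zero => simp
  | succ n ih =>
    let f : MvPolynomial (Fin (n + 1)) k →ₐ[k] MvPolynomial (Fin n) k :=
      aeval (Fin.cases 0 X)
    have hf : Function.Surjective f := by
      intro p
      refine ⟨rename Fin.succ p, ?_⟩
      simp only [f, aeval_rename]
      have : (Fin.cases (0 : MvPolynomial (Fin n) k) X : Fin (n+1) → _) ∘ Fin.succ = X := by
        ext i; simp
      rw [this, aeval_X_left_apply]
    have hX : (X 0 : MvPolynomial (Fin (n + 1)) k) ∈ nonZeroDivisors _ :=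
      mem_nonZeroDivisors_of_ne_zero (X_ne_zero 0)
    have hX0 : f.toRingHom (X 0) = 0 := by simp [f]
    have hcomp : (constantCoeff : MvPolynomial (Fin n) k →+* k).comp f.toRingHom
        = constantCoeff := by
      apply MvPolynomial.ringHom_ext
      · intro r; simp [f]
      · intro i
        refine Fin.cases ?_ (fun j => ?_) i <;> simp [f]
    have hprime : (RingHom.ker (constantCoeff : MvPolynomial (Fin n) k →+* k)).IsPrime :=
      RingHom.ker_isPrime _
    have h := height_add_one_le_height_comap f.toRingHom hf hX hX0
      (RingHom.ker (constantCoeff : MvPolynomial (Fin n) k →+* k))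
    rw [RingHom.comap_ker, hcomp] at h
    refine le_trans ?_ h
    push_cast
    gcongr

open MvPolynomial in
/-- **Projective dimension theorem** (weak form): over an algebraically closed field, fewer than
`m` homogeneous forms of positive degree in `m` variables have a common nonzero zero. -/
theorem exists_ne_zero_forall_eval_eq_zero (k : Type*) [Field k] [IsAlgClosed k] {m : ℕ}
    {ι : Type*} [Fintype ι] (hι : Fintype.card ι < m)
    (g : ι → MvPolynomial (Fin m) k) (d : ι → ℕ) (hd : ∀ j, 0 < d j)
    (hg : ∀ j, (g j).IsHomogeneous (d j)) :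
    ∃ t : Fin m → k, t ≠ 0 ∧ ∀ j, eval t (g j) = 0 := by
  classical
  by_contra hcon
  push Not at hcon
  set I : Ideal (MvPolynomial (Fin m) k) := Ideal.span (Set.range g) with hI
  set M : Ideal (MvPolynomial (Fin m) k) := RingHom.ker (constantCoeff : MvPolynomial (Fin m) k →+* k)
    with hM
  have hMprime : M.IsPrime := RingHom.ker_isPrime _
  have hMv : M = vanishingIdeal k {(0 : Fin m → k)} := by
    ext p
    rw [mem_vanishingIdeal_singleton_iff, hM, RingHom.mem_ker, ← eval_zero' (R := k),
      aeval_eq_eval]
    rfl
  -- zero locus of I is {0}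
  have hz : zeroLocus k I = {0} := by
    ext t
    rw [hI, zeroLocus_span]
    simp only [Set.mem_range, forall_exists_index, forall_apply_eq_imp_iff, Set.mem_ofPred_eq,
      Set.mem_singleton_iff]
    constructor
    · intro h
      by_contra ht
      obtain ⟨j, hj⟩ := hcon t ht
      exact hj (by simpa [aeval_eq_eval] using h j)
    · rintro rfl j
      rw [aeval_eq_eval]
      have h0 : constantCoeff (g j) = 0 := by
        rw [constantCoeff_eq]
        exact (hg j).coeff_eq_zero (by simpa using (hd j).ne)
      rw [← h0, ← eval_zero' (R := k)]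
      rfl
  have hrad : I.radical = M := by
    rw [← vanishingIdeal_zeroLocus_eq_radical (K := k), hz, hMv]
  have hmin : M ∈ I.minimalPrimes := by
    rw [← Ideal.radical_minimalPrimes, hrad, Ideal.minimalPrimes_eq_subsingleton_self]
    rfl
  have h1 : M.height ≤ (Set.range g).ncard :=
    Ideal.height_le_card_of_mem_minimalPrimes_span (Set.finite_range g) hmin
  have h2 := le_height_ker_constantCoeff k m
  have h3 : (Set.range g).ncard ≤ Fintype.card ι := by
    rw [← Set.image_univ, ← Finset.coe_univ, ← Finset.coe_image, Set.ncard_coe_finset,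
      ← Finset.card_univ]
    exact Finset.card_image_le
  have : (m : ℕ∞) ≤ Fintype.card ι := le_trans h2 (le_trans h1 (by exact_mod_cast h3))
  have : m ≤ Fintype.card ι := by exact_mod_cast this
  omega

end Groth.Agent.Lib.Helper5
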