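import Mathlib
import Groth.Prelude.Def_DiffOp

/-!
# Differential operators via the action of `B ⊗[A] B` (helper5)

`Hom_A(M, N)` is a module over `B ⊗[A] B` (`act`), with `(b ⊗ c) • D = b • D (c • ·)`.
The commutator `[D, b]` is `δ b • D` with `δ b = 1 ⊗ b - b ⊗ 1`.

* `isDiffOpLE_iff`: `D` has order `≤ n` iff all products `∏ i : Fin (n+1), δ (b i)` kill `D`.
* `isDiffOpLE_iff_pow_le`: iff `I ^ (n + 1)` kills `D`, `I = KaehlerDifferential.ideal A B`.
* closure properties: `isDiffOpLE_zero`, `isDiffOpLE_add`, `isDiffOpLE_act`, `isDiffOpLE_succ`,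
  `isDiffOpLE_comp`.
-/

set_option autoImplicit false

namespace Groth.Agent.Lib.Helper5.DiffOp

open scoped TensorProduct
open Diff16

universe u v

section

variable (A B : Type u) [CommRing A] [CommRing B] [Algebra A B]
variable (M N : Type v) [AddCommGroup M] [Module A M] [Module B M] [IsScalarTower A B M]
  [AddCommGroup N] [Module A N] [Module B N] [IsScalarTower A B N]

/-- Post-multiplication by `b`: `D ↦ b • D`. -/
noncomputable def Lmap : B →ₐ[A] Module.End A (M →ₗ[A] N) :=
  Algebra.lsmul A A (M →ₗ[A] N)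

omit [Module B M] [IsScalarTower A B M] in
@[simp] lemma Lmap_apply (b : B) (D : M →ₗ[A] N) (m : M) : Lmap A B M N b D m = b • D m := rfl

/-- Pre-multiplication by `b`: `D ↦ D ∘ (b • ·)`. -/
noncomputable def Rmap : B →ₐ[A] Module.End A (M →ₗ[A] N) where
  toFun b := LinearMap.lcomp A N ((LinearMap.lsmul B M b).restrictScalars A)
  map_one' := by
    ext D m
    simp
  map_mul' b c := by
    ext D m
    simp [mul_smul, smul_comm b c m]
  map_zero' := by
    ext D m
    simp
  map_add' b c := by
    ext D m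
    simp
  commutes' a := by
    ext D m
    simp

omit [Module B N] [IsScalarTower A B N] in
@[simp] lemma Rmap_apply (b : B) (D : M →ₗ[A] N) (m : M) : Rmap A B M N b D m = D (b • m) := rfl

lemma commute_Lmap_Rmap (b c : B) : Commute (Lmap A B M N b) (Rmap A B M N c) := by
  ext D m
  simp

/-- The action of `B ⊗[A] B` on `Hom_A(M, N)`: `(b ⊗ c) • D = b • D (c • ·)`. -/
noncomputable def act : B ⊗[A] B →ₐ[A] Module.End A (M →ₗ[A] N) :=
  Algebra.TensorProduct.lift (Lmap A B M N) (Rmap A B M N) (commute_Lmap_Rmap A B M N)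

@[simp] lemma act_tmul (b c : B) (D : M →ₗ[A] N) (m : M) :
    act A B M N (b ⊗ₜ[A] c) D m = b • D (c • m) := by
  simp [act]

lemma act_mul (x y : B ⊗[A] B) (D : M →ₗ[A] N) :
    act A B M N (x * y) D = act A B M N x (act A B M N y D) := by
  rw [map_mul]; rfl

lemma act_mul' (x y : B ⊗[A] B) (D : M →ₗ[A] N) :
    act A B M N (x * y) D = act A B M N y (act A B M N x D) := by
  rw [mul_comm, act_mul]

/-- `δ b = 1 ⊗ b - b ⊗ 1`. -/
noncomputable def δ (b : B) : B ⊗[A] B := (1 : B) ⊗ₜ[A] b - b ⊗ₜ[A] (1 : B)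

lemma act_δ (b : B) (D : M →ₗ[A] N) :
    act A B M N (δ A B b) D = Diff16.commutator A B M N D b := by
  ext m
  simp [δ, Diff16.commutator]

variable {A B M N}

/-- `D` has order `≤ n` iff all `(n+1)`-fold products of `δ`'s kill `D`. -/
theorem isDiffOpLE_iff (n : ℕ) (D : M →ₗ[A] N) :
    IsDiffOpLE A B M N n D ↔
      ∀ b : Fin (n + 1) → B, act A B M N (∏ i, δ A B (b i)) D = 0 := by
  induction n generalizing D with
  | zero =>
    constructor
    · intro h b
      rw [Fin.prod_univ_one, act_δ]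
      ext m
      have := h (b 0) m
      simp [Diff16.commutator, this]
    · intro h b m
      have h1 := h (fun _ => b)
      rw [Fin.prod_univ_one, act_δ] at h1
      have h2 := congrArg (fun f => f m) h1
      simp only [Diff16.commutator, LinearMap.sub_apply, LinearMap.comp_apply,
        LinearMap.restrictScalars_apply, LinearMap.lsmul_apply, LinearMap.zero_apply] at h2
      exact sub_eq_zero.mp h2
  | succ n ih =>
    constructor
    · intro h b
      have h1 : IsDiffOpLE A B M N n (Diff16.commutator A B M N D (b 0)) := h (b 0)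
      rw [ih] at h1
      have h2 := h1 (fun i => b i.succ)
      rw [Fin.prod_univ_succ, act_mul', act_δ]
      exact h2
    · intro h b0
      rw [ih]
      intro b
      have h1 := h (Fin.cons b0 b)
      rw [Fin.prod_univ_succ, act_mul', act_δ] at h1
      simpa using h1

lemma isDiffOpLE_zero (n : ℕ) : IsDiffOpLE A B M N n 0 := by
  rw [isDiffOpLE_iff]
  intro b
  simp

lemma isDiffOpLE_add {n : ℕ} {D D' : M →ₗ[A] N} (h : IsDiffOpLE A B M N n D)
    (h' : IsDiffOpLE A B M N n D') : IsDiffOpLE A B M N n (D + D') := by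
  rw [isDiffOpLE_iff] at h h' ⊢
  intro b
  rw [map_add, h b, h' b, add_zero]

lemma isDiffOpLE_act {n : ℕ} {D : M →ₗ[A] N} (h : IsDiffOpLE A B M N n D) (x : B ⊗[A] B) :
    IsDiffOpLE A B M N n (act A B M N x D) := by
  rw [isDiffOpLE_iff] at h ⊢
  intro b
  rw [← act_mul, act_mul', h b, map_zero]

lemma isDiffOpLE_succ {n : ℕ} {D : M →ₗ[A] N} (h : IsDiffOpLE A B M N n D) :
    IsDiffOpLE A B M N (n + 1) D := by
  intro b
  rw [← act_δ]
  exact isDiffOpLE_act h _

lemma isDiffOpLE_of_le {n n' : ℕ} (hn : n ≤ n') {D : M →ₗ[A] N}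
    (h : IsDiffOpLE A B M N n D) : IsDiffOpLE A B M N n' D := by
  induction hn with
  | refl => exact h
  | step _ ih => exact isDiffOpLE_succ ih

/-- The annihilator of `D` in `B ⊗[A] B`. -/
noncomputable def ann (D : M →ₗ[A] N) : Ideal (B ⊗[A] B) where
  carrier := {x | act A B M N x D = 0}
  zero_mem' := by simp
  add_mem' := by
    intro x y hx hy
    simp only [Set.mem_ofPred_eq] at hx hy ⊢
    rw [map_add, LinearMap.add_apply, hx, hy, add_zero]
  smul_mem' := by
    intro c x hx
    simp only [Set.mem_ofPred_eq] at hx ⊢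
    rw [smul_eq_mul, act_mul, hx, map_zero]

lemma mem_ann {D : M →ₗ[A] N} {x : B ⊗[A] B} : x ∈ ann D ↔ act A B M N x D = 0 := Iff.rfl

variable (A B) in
/-- An ideal containing all `k`-fold products of `δ`'s contains the `k`-th power of the diagonal
ideal. -/
lemma ideal_pow_le (k : ℕ) (J : Ideal (B ⊗[A] B))
    (h : ∀ b : Fin k → B, ∏ i, δ A B (b i) ∈ J) : KaehlerDifferential.ideal A B ^ k ≤ J := by
  rw [← KaehlerDifferential.span_range_eq_ideal, Ideal.span, Submodule.span_pow, Submodule.span_le]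
  intro x hx
  obtain ⟨f, rfl⟩ := Set.mem_pow.mp hx
  have hf : ∀ i, ∃ b : B, δ A B b = (f i : B ⊗[A] B) := fun i => (f i).2
  choose b hb using hf
  rw [List.prod_ofFn]
  have := h b
  simp_rw [hb] at this
  exact this

variable (A B) in
lemma prod_δ_mem_pow {k : ℕ} (b : Fin k → B) :
    ∏ i, δ A B (b i) ∈ KaehlerDifferential.ideal A B ^ k := by
  have h := Ideal.prod_mem_prod (ι := Fin k) (s := Finset.univ)
    (I := fun _ => KaehlerDifferential.ideal A B) (x := fun i => δ A B (b i))
    (fun i _ => KaehlerDifferential.one_smul_sub_smul_one_mem_ideal A (b i))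
  simpa using h

/-- `D` has order `≤ n` iff `I ^ (n + 1)` kills `D`. -/
theorem isDiffOpLE_iff_pow_le (n : ℕ) (D : M →ₗ[A] N) :
    IsDiffOpLE A B M N n D ↔ KaehlerDifferential.ideal A B ^ (n + 1) ≤ ann D := by
  rw [isDiffOpLE_iff]
  constructor
  · intro h
    exact ideal_pow_le A B (n + 1) _ h
  · intro h b
    exact h (prod_δ_mem_pow A B b)

variable (A B) in
/-- Expansion of a product of `δ`'s as an alternating sum over subsets. -/
lemma prod_δ_eq {n : ℕ} (b : Fin n → B) :
    ∏ i, δ A B (b i) = ∑ H : Finset (Fin n),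
      ((-1 : ℤ) ^ H.card) • ((∏ i ∈ H, b i) ⊗ₜ[A] (∏ i ∈ Hᶜ, b i)) := by
  have h1 : ∀ i, δ A B (b i) = -(b i ⊗ₜ[A] (1 : B)) + (1 : B) ⊗ₜ[A] b i := fun i => by
    rw [δ]; abel
  simp_rw [h1]
  rw [Finset.prod_add, Finset.powerset_univ]
  refine Finset.sum_congr rfl fun H _ => ?_
  have h2 : ∏ i ∈ H, -(b i ⊗ₜ[A] (1 : B)) = (-1 : B ⊗[A] B) ^ H.card * ((∏ i ∈ H, b i) ⊗ₜ[A] 1) := by
    have : ∀ i ∈ H, -(b i ⊗ₜ[A] (1 : B)) = (-1 : B ⊗[A] B) * (b i ⊗ₜ[A] (1 : B)) := fun i _ => by
      rw [neg_one_mul]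
    rw [Finset.prod_congr rfl this, Finset.prod_mul_distrib, Finset.prod_const]
    congr 1
    have := map_prod (Algebra.TensorProduct.includeLeft : B →ₐ[A] B ⊗[A] B) b H
    simp only [Algebra.TensorProduct.includeLeft_apply] at this
    exact this.symm
  have h3 : ∏ i ∈ Finset.univ \ H, ((1 : B) ⊗ₜ[A] b i) = (1 : B) ⊗ₜ[A] (∏ i ∈ Hᶜ, b i) := by
    have := map_prod (Algebra.TensorProduct.includeRight : B →ₐ[A] B ⊗[A] B) b Hᶜ
    rw [← Finset.compl_eq_univ_sdiff]
    simp only [Algebra.TensorProduct.includeRight_apply] at this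
    exact this.symm
  rw [h2, h3, mul_assoc, Algebra.TensorProduct.tmul_mul_tmul, mul_one, one_mul, zsmul_eq_mul]
  push_cast
  rfl

/-- Evaluation of the action of a product of `δ`'s: the iterated commutator formula. -/
lemma act_prod_δ_apply {n : ℕ} (b : Fin n → B) (D : M →ₗ[A] N) (t : M) :
    act A B M N (∏ i, δ A B (b i)) D t = ∑ H : Finset (Fin n),
      ((-1 : ℤ) ^ H.card) • ((∏ i ∈ H, b i) • D ((∏ i ∈ Hᶜ, b i) • t)) := by
  rw [prod_δ_eq, map_sum, LinearMap.sum_apply, LinearMap.sum_apply]
  refine Finset.sum_congr rfl fun H _ => ?_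
  rw [map_zsmul, LinearMap.smul_apply, LinearMap.smul_apply, act_tmul]

/-- `D` has order `≤ n` iff the alternating sums vanish. -/
theorem isDiffOpLE_iff_alternating (n : ℕ) (D : M →ₗ[A] N) :
    IsDiffOpLE A B M N n D ↔ ∀ (b : Fin (n + 1) → B) (t : M),
      ∑ H : Finset (Fin (n + 1)),
        ((-1 : ℤ) ^ H.card) • ((∏ i ∈ H, b i) • D ((∏ i ∈ Hᶜ, b i) • t)) = 0 := by
  rw [isDiffOpLE_iff]
  constructor
  · intro h b t
    rw [← act_prod_δ_apply, h b, LinearMap.zero_apply]
  · intro h b
    ext t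
    rw [act_prod_δ_apply, h b t, LinearMap.zero_apply]

/-- The commutator with a product. -/
lemma commutator_mul (D : M →ₗ[A] N) (x y : B) :
    Diff16.commutator A B M N D (x * y) =
      act A B M N ((1 : B) ⊗ₜ[A] x) (Diff16.commutator A B M N D y) +
        act A B M N (y ⊗ₜ[A] (1 : B)) (Diff16.commutator A B M N D x) := by
  ext m
  simp only [Diff16.commutator, LinearMap.sub_apply, LinearMap.comp_apply,
    LinearMap.restrictScalars_apply, LinearMap.lsmul_apply, LinearMap.add_apply, act_tmul,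
    one_smul, smul_sub]
  rw [mul_smul, smul_comm x y m, mul_comm x y, mul_smul]
  abel

/-- If the commutators with a generating set have order `≤ n`, then `D` has order `≤ n + 1`. -/
theorem isDiffOpLE_succ_of_generators (s : Set B) (hs : Algebra.adjoin A s = ⊤) (n : ℕ)
    (D : M →ₗ[A] N) (hD : ∀ g ∈ s, IsDiffOpLE A B M N n (Diff16.commutator A B M N D g)) :
    IsDiffOpLE A B M N (n + 1) D := by
  intro b
  have hb : b ∈ Algebra.adjoin A s := by rw [hs]; trivial
  induction hb using Algebra.adjoin_induction with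
  | mem x hx => exact hD x hx
  | algebraMap a =>
    have : Diff16.commutator A B M N D (algebraMap A B a) = 0 := by
      ext m
      simp [Diff16.commutator]
    rw [this]
    exact isDiffOpLE_zero n
  | add x y _ _ hx hy =>
    have : Diff16.commutator A B M N D (x + y) =
        Diff16.commutator A B M N D x + Diff16.commutator A B M N D y := by
      ext m
      simp only [Diff16.commutator, LinearMap.sub_apply, LinearMap.comp_apply,
        LinearMap.restrictScalars_apply, LinearMap.lsmul_apply, LinearMap.add_apply, map_add]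
      abel
    rw [this]
    exact isDiffOpLE_add hx hy
  | mul x y _ _ hx hy =>
    rw [commutator_mul]
    exact isDiffOpLE_add (isDiffOpLE_act hy _) (isDiffOpLE_act hx _)

end

section linearize

variable {A B : Type u} [CommRing A] [CommRing B] [Algebra A B]
variable {N : Type u} [AddCommGroup N] [Module A N] [Module B N] [IsScalarTower A B N]

lemma linearize_eq_act (D : B →ₗ[A] N) (x : B ⊗[A] B) :
    Diff16.linearize A B B N D x = act A B B N x D 1 := by
  induction x using TensorProduct.induction_on with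
  | zero => simp
  | tmul b c => simp [Diff16.linearize]
  | add x y hx hy => rw [map_add, map_add, hx, hy]; rfl

/-- `D : B → N` has order `≤ n` iff its linearisation kills `I ^ (n + 1)`. -/
theorem isDiffOpLE_iff_linearize (n : ℕ) (D : B →ₗ[A] N) :
    IsDiffOpLE A B B N n D ↔
      ∀ x ∈ KaehlerDifferential.ideal A B ^ (n + 1), Diff16.linearize A B B N D x = 0 := by
  constructor
  · intro h x hx
    rw [isDiffOpLE_iff_pow_le] at h
    have := h hx
    rw [mem_ann] at this
    rw [linearize_eq_act, this, LinearMap.zero_apply]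
  · intro h
    rw [isDiffOpLE_iff]
    intro b
    ext t
    have h1 : ((1 : B) ⊗ₜ[A] t) * ∏ i, δ A B (b i) ∈ KaehlerDifferential.ideal A B ^ (n + 1) :=
      Ideal.mul_mem_left _ _ (prod_δ_mem_pow A B b)
    have h2 := h _ h1
    rw [linearize_eq_act, act_mul, act_tmul, one_smul, smul_eq_mul, mul_one] at h2
    rw [h2, LinearMap.zero_apply]

end linearize

section comp

variable {A B : Type u} [CommRing A] [CommRing B] [Algebra A B]
variable {M N P : Type v} [AddCommGroup M] [Module A M] [Module B M] [IsScalarTower A B M]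
  [AddCommGroup N] [Module A N] [Module B N] [IsScalarTower A B N]
  [AddCommGroup P] [Module A P] [Module B P] [IsScalarTower A B P]

lemma commutator_comp (D : M →ₗ[A] N) (D' : N →ₗ[A] P) (b : B) :
    Diff16.commutator A B M P (D' ∘ₗ D) b =
      D' ∘ₗ Diff16.commutator A B M N D b + Diff16.commutator A B N P D' b ∘ₗ D := by
  ext m
  simp [Diff16.commutator]

lemma commutator_eq_zero_of_isDiffOpLE_zero {D : M →ₗ[A] N} (h : IsDiffOpLE A B M N 0 D) (b : B) :
    Diff16.commutator A B M N D b = 0 := by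
  ext m
  have := h b m
  simp [Diff16.commutator, this]

/-- Composition of differential operators adds orders. -/
theorem isDiffOpLE_comp (n n' : ℕ) (D : M →ₗ[A] N) (D' : N →ₗ[A] P)
    (hD : IsDiffOpLE A B M N n D) (hD' : IsDiffOpLE A B N P n' D') :
    IsDiffOpLE A B M P (n + n') (D' ∘ₗ D) := by
  obtain ⟨k, hk⟩ : ∃ k, n + n' = k := ⟨_, rfl⟩
  rw [hk]
  induction k generalizing n n' D D' with
  | zero =>
    obtain rfl : n = 0 := by omega
    obtain rfl : n' = 0 := by omega
    intro b m
    have h1 : D (b • m) = b • D m := hD b m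
    have h2 : D' (b • D m) = b • D' (D m) := hD' b (D m)
    simp [h1, h2]
  | succ k ih =>
    intro b
    rw [commutator_comp]
    apply isDiffOpLE_add
    · cases n with
      | zero =>
        rw [commutator_eq_zero_of_isDiffOpLE_zero hD, LinearMap.comp_zero]
        exact isDiffOpLE_zero k
      | succ m =>
        exact ih m n' _ D' (hD b) hD' (by omega)
    · cases n' with
      | zero =>
        rw [commutator_eq_zero_of_isDiffOpLE_zero hD', LinearMap.zero_comp]
        exact isDiffOpLE_zero k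
      | succ m =>
        exact ih n m D _ hD (hD' b) (by omega)

end comp

section closure

variable {A B : Type u} [CommRing A] [CommRing B] [Algebra A B]
variable {M N : Type v} [AddCommGroup M] [Module A M] [Module B M] [IsScalarTower A B M]
  [AddCommGroup N] [Module A N] [Module B N] [IsScalarTower A B N]

lemma isDiffOpLE_smul {n : ℕ} {D : M →ₗ[A] N} (h : IsDiffOpLE A B M N n D) (b : B) :
    IsDiffOpLE A B M N n (b • D) := by
  have : b • D = act A B M N (b ⊗ₜ[A] (1 : B)) D := by
    ext m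
    simp
  rw [this]
  exact isDiffOpLE_act h _

lemma isDiffOpLE_neg {n : ℕ} {D : M →ₗ[A] N} (h : IsDiffOpLE A B M N n D) :
    IsDiffOpLE A B M N n (-D) := by
  have : -D = (-1 : B) • D := by simp
  rw [this]
  exact isDiffOpLE_smul h _

lemma isDiffOpLE_sub {n : ℕ} {D D' : M →ₗ[A] N} (h : IsDiffOpLE A B M N n D)
    (h' : IsDiffOpLE A B M N n D') : IsDiffOpLE A B M N n (D - D') := by
  rw [sub_eq_add_neg]
  exact isDiffOpLE_add h (isDiffOpLE_neg h')

end closure

section uniqueness

variable {A B : Type u} [CommRing A] [CommRing B] [Algebra A B]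

/-- If the differentials `d (z i)` span `Ω[B⁄A]`, then the diagonal ideal is generated by the
`δ (z i)` modulo its square. -/
lemma ideal_le_span_sup_sq {ι : Type*} (z : ι → B)
    (hz : Submodule.span B (Set.range fun i => KaehlerDifferential.D A B (z i)) = ⊤) :
    KaehlerDifferential.ideal A B ≤
      Ideal.span (Set.range fun i => δ A B (z i)) ⊔ KaehlerDifferential.ideal A B ^ 2 := by
  set I := KaehlerDifferential.ideal A B with hI
  set J := Ideal.span (Set.range fun i => δ A B (z i)) ⊔ I ^ 2 with hJ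
  have hD : ∀ s : B, KaehlerDifferential.D A B s = KaehlerDifferential.fromIdeal A B
      ⟨δ A B s, KaehlerDifferential.one_smul_sub_smul_one_mem_ideal A s⟩ := fun s => rfl
  have h_eq : ∀ x y : I, KaehlerDifferential.fromIdeal A B x = KaehlerDifferential.fromIdeal A B y ↔
      (x - y : B ⊗[A] B) ∈ I ^ 2 := fun x y => Ideal.toCotangent_eq (I := I)
  have h_zero : ∀ x : I, KaehlerDifferential.fromIdeal A B x = 0 ↔ (x : B ⊗[A] B) ∈ I ^ 2 :=
    fun x => Ideal.toCotangent_eq_zero I x
  have key : ∀ ω : Ω[B⁄A], ∀ x : I, KaehlerDifferential.fromIdeal A B x = ω →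
      (x : B ⊗[A] B) ∈ J := by
    intro ω
    have hω : ω ∈ Submodule.span B (Set.range fun i => KaehlerDifferential.D A B (z i)) := by
      rw [hz]; trivial
    induction hω using Submodule.span_induction with
    | mem ω h =>
      obtain ⟨i, rfl⟩ := h
      intro x hx
      simp only [] at hx
      rw [hD, h_eq] at hx
      have h1 : (x : B ⊗[A] B) = δ A B (z i) + ((x : B ⊗[A] B) - δ A B (z i)) := by abel
      rw [h1]
      exact J.add_mem (Ideal.mem_sup_left (Ideal.subset_span ⟨i, rfl⟩)) (Ideal.mem_sup_right hx)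
    | zero =>
      intro x hx
      rw [h_zero] at hx
      exact Ideal.mem_sup_right hx
    | add ω₁ ω₂ _ _ h₁ h₂ =>
      intro x hx
      obtain ⟨x₁, hx₁⟩ := KaehlerDifferential.fromIdeal_surjective A B ω₁
      have h3 : KaehlerDifferential.fromIdeal A B (x - x₁) = ω₂ := by
        rw [map_sub, hx, hx₁]; abel
      have h4 := h₂ (x - x₁) h3
      have h5 := h₁ x₁ hx₁
      have h6 : (x : B ⊗[A] B) = ((x - x₁ : I) : B ⊗[A] B) + (x₁ : B ⊗[A] B) := by
        simp
      rw [h6]
      exact J.add_mem h4 h5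
    | smul b ω _ h =>
      intro x hx
      obtain ⟨x₁, hx₁⟩ := KaehlerDifferential.fromIdeal_surjective A B ω
      have h5 := h x₁ hx₁
      have h3 : KaehlerDifferential.fromIdeal A B ((b ⊗ₜ[A] (1 : B)) • x₁) = b • ω := by
        rw [map_smul, hx₁, ← algebraMap_smul (B ⊗[A] B) b ω, Algebra.TensorProduct.algebraMap_apply,
          Algebra.algebraMap_self_apply]
      have h4 : KaehlerDifferential.fromIdeal A B (x - (b ⊗ₜ[A] (1 : B)) • x₁) = 0 := by
        rw [map_sub, hx, h3, sub_self]
      rw [h_zero] at h4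
      have h6 : (x : B ⊗[A] B) =
          ((x - (b ⊗ₜ[A] (1 : B)) • x₁ : I) : B ⊗[A] B) + (b ⊗ₜ[A] (1 : B)) * (x₁ : B ⊗[A] B) := by
        simp
      rw [h6]
      exact J.add_mem (Ideal.mem_sup_right h4) (J.mul_mem_left _ h5)
  intro x hx
  exact key _ ⟨x, hx⟩ rfl

/-- Pure ideal theory: if `I ≤ J₀ ⊔ I ^ 2`, `J₀ ≤ J` and `I ^ (m + 1) ≤ J` then `I ≤ J`. -/
lemma ideal_le_of_le_sup_sq {R : Type*} [CommRing R] (I J₀ J : Ideal R) (m : ℕ)
    (h1 : I ≤ J₀ ⊔ I ^ 2) (h2 : J₀ ≤ J) (h3 : I ^ (m + 1) ≤ J) : I ≤ J := by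
  have key : ∀ k : ℕ, I ≤ J ⊔ I ^ (k + 1) := by
    intro k
    induction k with
    | zero => simp
    | succ k ih =>
      calc I ≤ J₀ ⊔ I ^ 2 := h1
        _ ≤ J ⊔ I * I := by rw [sq]; exact sup_le_sup_right h2 _
        _ ≤ J ⊔ I * (J ⊔ I ^ (k + 1)) := sup_le_sup_left (Ideal.mul_mono_right ih) _
        _ ≤ J ⊔ I ^ (k + 1 + 1) := by
          rw [Ideal.mul_sup]
          refine sup_le le_sup_left (sup_le (Ideal.mul_le_right.trans le_sup_left) ?_)
          rw [pow_succ' I (k + 1)]
          exact le_sup_right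
  exact (key m).trans (sup_le le_rfl h3)

variable {N : Type u} [AddCommGroup N] [Module A N] [Module B N] [IsScalarTower A B N]

lemma eq_zero_of_isDiffOpLE_zero {E : B →ₗ[A] N} (h : IsDiffOpLE A B B N 0 E) (h1 : E 1 = 0) :
    E = 0 := by
  ext b
  have := h b 1
  rw [smul_eq_mul, mul_one] at this
  rw [this, h1, smul_zero, LinearMap.zero_apply]

/-- Uniqueness principle: if the `d (z i)` span `Ω[B⁄A]`, a differential operator `B → N`
vanishing on the subalgebra generated by the `z i` is zero. -/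
theorem eq_zero_of_vanish_adjoin {ι : Type*} (z : ι → B)
    (hz : Submodule.span B (Set.range fun i => KaehlerDifferential.D A B (z i)) = ⊤)
    (m : ℕ) (E : B →ₗ[A] N) (hE : IsDiffOpLE A B B N m E)
    (h0 : ∀ c ∈ Algebra.adjoin A (Set.range z), E c = 0) : E = 0 := by
  induction m generalizing E with
  | zero => exact eq_zero_of_isDiffOpLE_zero hE (h0 1 (one_mem _))
  | succ m ih =>
    have hcomm : ∀ c ∈ Algebra.adjoin A (Set.range z), Diff16.commutator A B B N E c = 0 := by
      intro c hc
      refine ih _ (hE c) fun c' hc' => ?_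
      simp only [Diff16.commutator, LinearMap.sub_apply, LinearMap.comp_apply,
        LinearMap.restrictScalars_apply, LinearMap.lsmul_apply, smul_eq_mul]
      rw [h0 _ (mul_mem hc hc'), h0 _ hc', smul_zero, sub_zero]
    have hJ0 : Ideal.span (Set.range fun i => δ A B (z i)) ≤ ann E := by
      rw [Ideal.span_le]
      rintro _ ⟨i, rfl⟩
      change act A B B N (δ A B (z i)) E = 0
      rw [act_δ]
      exact hcomm _ (Algebra.subset_adjoin ⟨i, rfl⟩)
    have hpow : KaehlerDifferential.ideal A B ^ (m + 1 + 1) ≤ ann E :=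
      (isDiffOpLE_iff_pow_le (m + 1) E).mp hE
    have hle : KaehlerDifferential.ideal A B ≤ ann E :=
      ideal_le_of_le_sup_sq _ _ _ (m + 1) (ideal_le_span_sup_sq z hz) hJ0 hpow
    have h0' : IsDiffOpLE A B B N 0 E := by
      rw [isDiffOpLE_iff_pow_le, zero_add, pow_one]
      exact hle
    exact eq_zero_of_isDiffOpLE_zero h0' (h0 1 (one_mem _))

/-- Uniqueness principle, monomial form. -/
theorem eq_zero_of_vanish_monomials {n : ℕ} (z : Fin n → B)
    (hz : Submodule.span B (Set.range fun i => KaehlerDifferential.D A B (z i)) = ⊤)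
    (m : ℕ) (E : B →ₗ[A] N) (hE : IsDiffOpLE A B B N m E)
    (h0 : ∀ q : Fin n → ℕ, E (∏ i, z i ^ q i) = 0) : E = 0 := by
  refine eq_zero_of_vanish_adjoin z hz m E hE fun c hc => ?_
  rw [Algebra.adjoin_range_eq_range_aeval] at hc
  obtain ⟨P, rfl⟩ := hc
  change E (MvPolynomial.aeval z P) = 0
  induction P using MvPolynomial.induction_on' with
  | monomial q a =>
    rw [MvPolynomial.aeval_monomial, ← Algebra.smul_def, map_smul, Finsupp.prod_fintype]
    · rw [h0, smul_zero]
    · intro i; exact pow_zero _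
  | add P Q hP hQ => rw [map_add, map_add, hP, hQ, add_zero]

end uniqueness

end Groth.Agent.Lib.Helper5.DiffOp
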