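import Mathlib

/-!
# The forgetful functor from sheaves of modules to abelian sheaves preserves colimits
-/

set_option autoImplicit false

universe w' w v v' u' u

open CategoryTheory Limits

namespace Groth.Agent.Lib.Helper5.ToSheafColim

variable {C : Type u'} [Category.{v'} C] {J : GrothendieckTopology C}
  (R : Sheaf J RingCat.{u}) [HasWeakSheafify J AddCommGrpCat.{v}]
  [J.WEqualsLocallyBijective AddCommGrpCat.{v}] (K : Type w) [Category.{w'} K]
  [HasColimitsOfShape K AddCommGrpCat.{v}]

/-- `SheafOfModules.toSheaf` preserves colimits. -/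
noncomputable instance preservesColimitsOfShape_toSheaf :
    PreservesColimitsOfShape K (SheafOfModules.toSheaf.{v} R) := by
  constructor
  intro F
  let S := PresheafOfModules.sheafification.{v} (𝟙 R.obj)
  let F₀ := F ⋙ SheafOfModules.forget R
  let e : F ≅ F₀ ⋙ S := Functor.isoWhiskerLeft F
    (asIso (PresheafOfModules.sheafificationAdjunction (𝟙 R.obj)).counit).symm
  suffices h : PreservesColimit (F₀ ⋙ S) (SheafOfModules.toSheaf.{v} R) from
    preservesColimit_of_iso_diagram _ e.symm
  haveI : PreservesColimitsOfSize.{w', w} S :=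
    (PresheafOfModules.sheafificationAdjunction (𝟙 R.obj)).leftAdjoint_preservesColimits
  haveI : PreservesColimitsOfSize.{w', w} (presheafToSheaf J AddCommGrpCat.{v}) :=
    (sheafificationAdjunction J AddCommGrpCat.{v}).leftAdjoint_preservesColimits
  haveI : PreservesColimit F₀ (S ⋙ SheafOfModules.toSheaf.{v} R) :=
    preservesColimit_of_natIso F₀ (PresheafOfModules.sheafificationCompToSheaf (𝟙 R.obj)).symm
  exact preservesColimit_of_preserves_colimit_cocone
    (isColimitOfPreserves S (colimit.isColimit F₀))
    (isColimitOfPreserves (S ⋙ SheafOfModules.toSheaf.{v} R) (colimit.isColimit F₀))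

end Groth.Agent.Lib.Helper5.ToSheafColim
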