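import Mathlib
import Groth.Prelude.Def_ModSite
import Groth.Agent.Lib.Helper17.ExtZero
import Groth.Agent.Lib.Helper17.ModSiteExact

/-!
# Exactness of restriction of modules to a localised site (no `HasPushOver` needed)
-/

set_option autoImplicit false

universe u

open CategoryTheory Limits Opposite

namespace Groth.Agent.Lib.Helper5.RestrExact

variable {C : Type u} [SmallCategory C] {J : GrothendieckTopology C} (O : Sheaf J CommRingCat.{u})
  (U : C)

/-- restriction of abelian sheaves to `C/U` -/
noncomputable abbrev restrAb : Sheaf J AddCommGrpCat.{u} ⥤ Sheaf (J.over U) AddCommGrpCat.{u} :=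
  (Over.forget U).sheafPushforwardContinuous AddCommGrpCat.{u} (J.over U) J

instance : (restrAb (J := J) U).IsLeftAdjoint :=
  ((Over.forget U).sheafAdjunctionCocontinuous AddCommGrpCat.{u} (J.over U) J).isLeftAdjoint

lemma toSheaf_restr_map {M N : ModSite.Mod O} (φ : M ⟶ N) :
    (SheafOfModules.toSheaf _).map ((ModSite.restr O U).map φ) =
      (restrAb U).map ((SheafOfModules.toSheaf _).map φ) := rfl

instance restr_preservesEpimorphisms : (ModSite.restr O U).PreservesEpimorphisms where
  preserves {M N} φ hφ := by
    haveI hf : (SheafOfModules.toSheaf.{u} (ModSite.ringSh (O.over U))).Faithful := inferInstance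
    haveI := Functor.reflectsEpimorphisms_of_faithful
      (SheafOfModules.toSheaf.{u} (ModSite.ringSh (O.over U)))
    apply (SheafOfModules.toSheaf.{u} (ModSite.ringSh (O.over U))).epi_of_epi_map
    rw [toSheaf_restr_map]
    haveI : Epi ((SheafOfModules.toSheaf (ModSite.ringSh O)).map φ) := by
      haveI := Groth.Agent.Lib.Helper17.ModSiteExact.toSheaf_preservesFiniteColimits (ModSite.ringSh O)
      infer_instance
    haveI : (restrAb (J := J) U).PreservesEpimorphisms :=
      Functor.preservesEpimorphisms_of_adjunction
        ((Over.forget U).sheafAdjunctionCocontinuous AddCommGrpCat.{u} (J.over U) J)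
    exact (restrAb (J := J) U).map_epi _

instance restr_additive : (ModSite.restr O U).Additive :=
  Groth.Agent.Lib.Helper17.ExtZero.restr_additive O U

instance restr_preservesFiniteLimits : PreservesFiniteLimits (ModSite.restr O U) := by
  haveI := (ModSite.extZeroAdj O U).rightAdjoint_preservesLimits
  infer_instance

instance restr_preservesHomology : (ModSite.restr O U).PreservesHomology :=
  Functor.preservesHomology_of_preservesEpis_and_kernels _

instance restr_preservesFiniteColimits : PreservesFiniteColimits (ModSite.restr O U) :=
  Functor.preservesFiniteColimits_of_preservesHomology _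

instance restr_preservesInjectiveObjects : (ModSite.restr O U).PreservesInjectiveObjects where
  injective_obj {I} _ := by
    haveI : (ModSite.extZero O U).PreservesMonomorphisms :=
      Groth.Agent.Lib.Helper17.ExtZero.extZero_preservesMonomorphisms O U
    exact Injective.injective_of_adjoint (ModSite.extZeroAdj O U) I

end Groth.Agent.Lib.Helper5.RestrExact
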