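import Mathlib
import Groth.Prelude.Def_ExtSupp
import Groth.Agent.Lib.Helper5.RestrExact
import Groth.Agent.Lib.Helper17.Tensor
import Groth.Agent.Lib.Helper17.ProjFormula

/-!
# The adjunction `quotOn ⊣ sectOn` and the universal property of `M ⟶ M/M_U`

For a ringed site `(C, J, O)` and an object `U`:
* `adj O U : ModSite.quotOn O U ⊣ ModSite.sectOn O U`;
* `IsQuot O U p`: a morphism `p : X ⟶ Y` is "the" quotient `X ⟶ X/X_U`; `quotNatIso`;
* compatibility of `quotOn` with tensor products, `sheafHom` and `sectOn`.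
-/

set_option autoImplicit false

universe u

open CategoryTheory Limits Opposite

namespace Groth.Agent.Lib.Helper5.QS

open Groth.Agent.Lib.Helper5.RestrExact

variable {C : Type u} [SmallCategory C] {J : GrothendieckTopology C} (O : Sheaf J CommRingCat.{u})
  (U : C)

/-- counit of `j_! ⊣ j^*` -/
noncomputable abbrev ε (M : ModSite.Mod O) :
    (ModSite.extZero O U).obj ((ModSite.restr O U).obj M) ⟶ M :=
  (ModSite.extZeroAdj O U).counit.app M

/-- the projection `M ⟶ M/M_U` -/
noncomputable abbrev π (M : ModSite.Mod O) : M ⟶ (ModSite.quotOn O U).obj M :=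
  (ModSite.quotOnπ O U).app M

instance (M : ModSite.Mod O) : Epi (π O U M) := by
  change Epi (cokernel.π _)
  infer_instance

lemma ε_π (M : ModSite.Mod O) : ε O U M ≫ π O U M = 0 := cokernel.condition _

lemma π_naturality {M N : ModSite.Mod O} (f : M ⟶ N) :
    π O U M ≫ (ModSite.quotOn O U).map f = f ≫ π O U N :=
  ((ModSite.quotOnπ O U).naturality f).symm

/-- maps from an extension by zero to a module null on `U` vanish -/
lemma hom_null_eq_zero {G : ModSite.Mod (O.over U)} {Z : ModSite.Mod O}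
    (hZ : ModSite.IsNullOn O U Z) (f : (ModSite.extZero O U).obj G ⟶ Z) : f = 0 := by
  apply ((ModSite.extZeroAdj O U).homEquiv _ _).injective
  exact hZ.eq_of_tgt _ _

lemma restr_map_eq_zero_iff {M N : ModSite.Mod O} (φ : M ⟶ N) :
    (ModSite.restr O U).map φ = 0 ↔ ε O U M ≫ φ = 0 :=
  ExtSupp.mem_homZ_iff U φ

lemma isNullOn_quotOn' (M : ModSite.Mod O) :
    ModSite.IsNullOn O U ((ModSite.quotOn O U).obj M) := by
  let adj := ModSite.extZeroAdj O U
  have hsplit : adj.unit.app ((ModSite.restr O U).obj M) ≫ (ModSite.restr O U).map (adj.counit.app M) = 𝟙 _ :=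
    adj.right_triangle_components M
  have : Epi ((ModSite.restr O U).map (adj.counit.app M)) := by
    have : IsSplitEpi ((ModSite.restr O U).map (adj.counit.app M)) := ⟨⟨⟨_, hsplit⟩⟩⟩
    infer_instance
  exact (isZero_cokernel_of_epi ((ModSite.restr O U).map (adj.counit.app M))).of_iso
    (PreservesCokernel.iso (ModSite.restr O U) (adj.counit.app M))

/-- morphisms out of `M/M_U` -/
noncomputable def descQ {M N : ModSite.Mod O} (φ : M ⟶ N) (h : (ModSite.restr O U).map φ = 0) :
    (ModSite.quotOn O U).obj M ⟶ N :=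
  cokernel.desc _ φ ((restr_map_eq_zero_iff O U φ).1 h)

lemma π_descQ {M N : ModSite.Mod O} (φ : M ⟶ N) (h : (ModSite.restr O U).map φ = 0) :
    π O U M ≫ descQ O U φ h = φ := cokernel.π_desc _ _ _

lemma restr_map_π_comp {M N : ModSite.Mod O} (g : (ModSite.quotOn O U).obj M ⟶ N) :
    (ModSite.restr O U).map (π O U M ≫ g) = 0 := by
  rw [restr_map_eq_zero_iff, ← Category.assoc, ε_π, zero_comp]

lemma quot_hom_ext {M N : ModSite.Mod O} {a b : (ModSite.quotOn O U).obj M ⟶ N}
    (h : π O U M ≫ a = π O U M ≫ b) : a = b := (cancel_epi (π O U M)).1 h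

section Push

variable [ModSite.HasPushOver O U]

/-- unit of `j^* ⊣ j_*` -/
noncomputable abbrev η (M : ModSite.Mod O) :
    M ⟶ (ModSite.pushOver O U).obj ((ModSite.restr O U).obj M) :=
  (ModSite.restrPushOverAdj O U).unit.app M

/-- the inclusion `Γ_Z M ⟶ M` -/
noncomputable abbrev ι (M : ModSite.Mod O) : (ModSite.sectOn O U).obj M ⟶ M :=
  (ModSite.sectOnι O U).app M

instance (M : ModSite.Mod O) : Mono (ι O U M) := by
  change Mono (kernel.ι _)
  infer_instance

lemma ι_η (M : ModSite.Mod O) : ι O U M ≫ η O U M = 0 := kernel.condition _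

lemma ι_naturality {M N : ModSite.Mod O} (f : M ⟶ N) :
    (ModSite.sectOn O U).map f ≫ ι O U N = ι O U M ≫ f :=
  (ModSite.sectOnι O U).naturality f

instance : (ModSite.pushOver O U).Additive :=
  (ModSite.restrPushOverAdj O U).right_adjoint_additive

lemma restr_map_eq_zero_iff' {M N : ModSite.Mod O} (φ : M ⟶ N) :
    (ModSite.restr O U).map φ = 0 ↔ φ ≫ η O U N = 0 := by
  let adj := ModSite.restrPushOverAdj O U
  have key : adj.homEquiv _ _ ((ModSite.restr O U).map φ) = φ ≫ η O U N := by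
    rw [adj.homEquiv_unit]
    exact (adj.unit.naturality φ).symm
  have key0 : adj.homEquiv M ((ModSite.restr O U).obj N) 0 = 0 := by
    rw [adj.homEquiv_unit, Functor.map_zero, comp_zero]
  constructor
  · intro h
    rw [← key, h, key0]
  · intro h
    apply (adj.homEquiv _ _).injective
    rw [key, key0, h]

/-- morphisms into `Γ_Z N` -/
noncomputable def liftS {M N : ModSite.Mod O} (φ : M ⟶ N) (h : (ModSite.restr O U).map φ = 0) :
    M ⟶ (ModSite.sectOn O U).obj N :=
  kernel.lift _ φ ((restr_map_eq_zero_iff' O U φ).1 h)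

lemma liftS_ι {M N : ModSite.Mod O} (φ : M ⟶ N) (h : (ModSite.restr O U).map φ = 0) :
    liftS O U φ h ≫ ι O U N = φ := kernel.lift_ι _ _ _

lemma restr_map_comp_ι {M N : ModSite.Mod O} (f : M ⟶ (ModSite.sectOn O U).obj N) :
    (ModSite.restr O U).map (f ≫ ι O U N) = 0 := by
  rw [restr_map_eq_zero_iff', Category.assoc, ι_η, comp_zero]

lemma sect_hom_ext {M N : ModSite.Mod O} {a b : M ⟶ (ModSite.sectOn O U).obj N}
    (h : a ≫ ι O U N = b ≫ ι O U N) : a = b := (cancel_mono (ι O U N)).1 h

/-- the bijection `Hom(M/M_U, N) ≃ Hom(M, Γ_Z N)` -/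
noncomputable def homEquiv (M N : ModSite.Mod O) :
    ((ModSite.quotOn O U).obj M ⟶ N) ≃ (M ⟶ (ModSite.sectOn O U).obj N) where
  toFun g := liftS O U (π O U M ≫ g) (restr_map_π_comp O U g)
  invFun f := descQ O U (f ≫ ι O U N) (restr_map_comp_ι O U f)
  left_inv g := by
    apply quot_hom_ext
    rw [π_descQ, liftS_ι]
  right_inv f := by
    apply sect_hom_ext
    rw [liftS_ι, π_descQ]

lemma homEquiv_apply_ι {M N : ModSite.Mod O} (g : (ModSite.quotOn O U).obj M ⟶ N) :
    homEquiv O U M N g ≫ ι O U N = π O U M ≫ g :=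
  liftS_ι O U (π O U M ≫ g) (restr_map_π_comp O U g)

lemma π_homEquiv_symm {M N : ModSite.Mod O} (f : M ⟶ (ModSite.sectOn O U).obj N) :
    π O U M ≫ (homEquiv O U M N).symm f = f ≫ ι O U N :=
  π_descQ O U (f ≫ ι O U N) (restr_map_comp_ι O U f)

/-- the adjunction `M ↦ M/M_U ⊣ Γ_Z` -/
noncomputable def adj : ModSite.quotOn O U ⊣ ModSite.sectOn O U :=
  Adjunction.mkOfHomEquiv
    { homEquiv := homEquiv O U
      homEquiv_naturality_left_symm := by
        intro M' M N f g
        apply quot_hom_ext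
        rw [π_homEquiv_symm, ← Category.assoc, π_naturality, Category.assoc, Category.assoc,
          π_homEquiv_symm]
      homEquiv_naturality_right := by
        intro M N N' g h
        apply sect_hom_ext
        rw [homEquiv_apply_ι, Category.assoc, ι_naturality, ← Category.assoc, ← Category.assoc,
          homEquiv_apply_ι] }

lemma adj_homEquiv_apply_ι {M N : ModSite.Mod O} (g : (ModSite.quotOn O U).obj M ⟶ N) :
    (adj O U).homEquiv M N g ≫ ι O U N = π O U M ≫ g := by
  rw [adj, Adjunction.mkOfHomEquiv_homEquiv]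
  exact homEquiv_apply_ι O U g

end Push

/-! ### The universal property of `X ⟶ X/X_U` -/

/-- `p : X ⟶ Y` is a model of `X ⟶ X/X_U` -/
structure IsQuot {X Y : ModSite.Mod O} (p : X ⟶ Y) : Prop where
  null : ModSite.IsNullOn O U Y
  exists_cokernel : ∃ (W : ModSite.Mod O) (w : W ⟶ X) (hwp : w ≫ p = 0),
    Nonempty (IsColimit (CokernelCofork.ofπ p hwp)) ∧ w ≫ π O U X = 0

variable {O U}

lemma IsQuot.epi {X Y : ModSite.Mod O} {p : X ⟶ Y} (hp : IsQuot O U p) : Epi p := by
  obtain ⟨W, w, hwp, ⟨hc⟩, -⟩ := hp.exists_cokernel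
  exact epi_of_isColimit_cofork hc

/-- the comparison `X/X_U ⟶ Y` -/
noncomputable def IsQuot.hom {X Y : ModSite.Mod O} {p : X ⟶ Y} (hp : IsQuot O U p) :
    (ModSite.quotOn O U).obj X ⟶ Y :=
  cokernel.desc _ p (hom_null_eq_zero O U hp.null _)

lemma IsQuot.π_hom {X Y : ModSite.Mod O} {p : X ⟶ Y} (hp : IsQuot O U p) :
    π O U X ≫ hp.hom = p := cokernel.π_desc _ _ _

lemma IsQuot.isIso_hom {X Y : ModSite.Mod O} {p : X ⟶ Y} (hp : IsQuot O U p) : IsIso hp.hom := by
  obtain ⟨W, w, hwp, ⟨hc⟩, hw⟩ := hp.exists_cokernel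
  let inv : Y ⟶ (ModSite.quotOn O U).obj X := hc.desc (CokernelCofork.ofπ (π O U X) hw)
  have h1 : p ≫ inv = π O U X := hc.fac (CokernelCofork.ofπ (π O U X) hw) WalkingParallelPair.one
  haveI := hp.epi
  refine ⟨inv, ?_, ?_⟩
  · apply quot_hom_ext
    rw [← Category.assoc, hp.π_hom, h1, Category.comp_id]
  · rw [← cancel_epi p, ← Category.assoc, h1, hp.π_hom, Category.comp_id]

/-- a natural transformation which is pointwise a model of the quotient gives an isomorphism of
functors -/
noncomputable def quotNatIso {A : Type*} [Category A] {F G : A ⥤ ModSite.Mod O} (p : F ⟶ G)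
    (hp : ∀ a, IsQuot O U (p.app a)) : F ⋙ ModSite.quotOn O U ≅ G :=
  haveI : ∀ a, IsIso (hp a).hom := fun a => (hp a).isIso_hom
  NatIso.ofComponents (fun a => asIso (hp a).hom) (by
    intro a b f
    apply quot_hom_ext
    dsimp only [Functor.comp_obj, Functor.comp_map, asIso_hom]
    rw [← Category.assoc, π_naturality, Category.assoc, (hp b).π_hom, ← Category.assoc,
      (hp a).π_hom]
    exact p.naturality f)

lemma π_quotNatIso_hom_app {A : Type*} [Category A] {F G : A ⥤ ModSite.Mod O} (p : F ⟶ G)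
    (hp : ∀ a, IsQuot O U (p.app a)) (a : A) :
    π O U (F.obj a) ≫ (quotNatIso p hp).hom.app a = p.app a := (hp a).π_hom

variable (O U)

/-- a functor `T` which preserves cokernels, sends modules null on `U` to such and `j_!`-modules to
modules all of whose maps to null modules vanish, commutes with `M ↦ M/M_U`. -/
lemma isQuot_map (T : ModSite.Mod O ⥤ ModSite.Mod O) [T.PreservesZeroMorphisms]
    [PreservesFiniteColimits T]
    (h1 : ∀ Z, ModSite.IsNullOn O U Z → ModSite.IsNullOn O U (T.obj Z))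
    (h2 : ∀ (G : ModSite.Mod (O.over U)) (Z : ModSite.Mod O), ModSite.IsNullOn O U Z →
      ∀ f : T.obj ((ModSite.extZero O U).obj G) ⟶ Z, f = 0) (N : ModSite.Mod O) :
    IsQuot O U (T.map (π O U N)) where
  null := h1 _ (isNullOn_quotOn' O U N)
  exists_cokernel := by
    refine ⟨_, T.map (ε O U N), by rw [← T.map_comp, ε_π, T.map_zero], ⟨?_⟩,
      h2 _ _ (isNullOn_quotOn' O U _) _⟩
    have hc : IsColimit (CokernelCofork.ofπ (π O U N) (ε_π O U N)) :=
      cokernelIsCokernel (ε O U N)
    exact CokernelCofork.mapIsColimit _ hc T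

end Groth.Agent.Lib.Helper5.QS
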