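import Mathlib
import Groth.Prelude.Def_CohCx

/-
Helper5: consequences of the Milnor exact sequence for a derived limit `L = R lim K_n` in a
pretriangulated category: compatible families of maps `A ⟶ K_n[m]` lift to `A ⟶ L[m]`, uniquely
if `R¹ lim Hom(A, K_n[m-1]) = 0`.
-/

set_option autoImplicit false

universe u

open CategoryTheory Limits Opposite Pretriangulated

namespace Groth.Agent.Lib.Helper5.Milnor

variable {T : Type*} [Category T] [Preadditive T] [HasZeroObject T] [HasShift T ℤ]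
  [∀ n : ℤ, (shiftFunctor T n).Additive] [Pretriangulated T]
  (K : ℕ → T) (t : ∀ n, K (n + 1) ⟶ K n) [HasProduct K]

/-- The shifted product fan is a limit fan. -/
noncomputable def hlim (k : ℤ) :
    IsLimit (Fan.mk ((shiftFunctor T k).obj (∏ᶜ K)) (fun n => (shiftFunctor T k).map (Pi.π K n)) :
      Fan fun n => (shiftFunctor T k).obj (K n)) :=
  isLimitFanMkObjOfIsLimit (shiftFunctor T k) K _ (productIsProduct K)

lemma exists_lift (k : ℤ) {A : T} (x : ∀ n, A ⟶ (K n)⟦k⟧) :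
    ∃ y : A ⟶ (∏ᶜ K)⟦k⟧, ∀ n, y ≫ (Pi.π K n)⟦k⟧' = x n :=
  ⟨Fan.IsLimit.lift (hlim K k) x, fun n => Fan.IsLimit.fac (hlim K k) x n⟩

lemma hom_ext (k : ℤ) {A : T} (y y' : A ⟶ (∏ᶜ K)⟦k⟧)
    (h : ∀ n, y ≫ (Pi.π K n)⟦k⟧' = y' ≫ (Pi.π K n)⟦k⟧') : y = y' :=
  Fan.IsLimit.hom_ext (hlim K k) y y' h

/-- The map `1 - shift` on the product. -/
noncomputable abbrev oneSubShift : ∏ᶜ K ⟶ ∏ᶜ K :=
  Pi.lift fun n => Pi.π K n - Pi.π K (n + 1) ≫ t n

lemma comp_oneSubShift (k : ℤ) {A : T} (y : A ⟶ (∏ᶜ K)⟦k⟧) (n : ℕ) :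
    (y ≫ (oneSubShift K t)⟦k⟧') ≫ (Pi.π K n)⟦k⟧' =
      y ≫ (Pi.π K n)⟦k⟧' - (y ≫ (Pi.π K (n + 1))⟦k⟧') ≫ (t n)⟦k⟧' := by
  rw [Category.assoc, ← Functor.map_comp, Pi.lift_π, Functor.map_sub, Preadditive.comp_sub,
    Functor.map_comp, Category.assoc]

variable {K t}

theorem milnor {L : T} {a : ∀ n, L ⟶ K n} (hL : CohCx.IsRlimVia K t L a) (A : T) (m : ℤ) :
    (∀ x : ∀ n, A ⟶ (K n)⟦m⟧, (∀ n, x (n + 1) ≫ (t n)⟦m⟧' = x n) →
      ∃ y : A ⟶ L⟦m⟧, ∀ n, y ≫ (a n)⟦m⟧' = x n) ∧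
    (CohCx.LimOneIsZero (fun n => (A ⟶ (K n)⟦m - 1⟧))
        (fun n => Preadditive.rightComp _ ((t n)⟦m - 1⟧')) →
      ∀ y : A ⟶ L⟦m⟧, (∀ n, y ≫ (a n)⟦m⟧' = 0) → y = 0) := by
  obtain ⟨c, hT⟩ := hL
  set Tr : Triangle T := Triangle.mk (Pi.lift a) (oneSubShift K t) c with hTr
  let F : T ⥤ AddCommGrpCat := preadditiveCoyoneda.obj (op A)
  letI : F.ShiftSequence ℤ := Functor.ShiftSequence.tautological F ℤ
  constructor
  · intro x hx
    obtain ⟨z, hz⟩ := exists_lift K m x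
    have h0 : z ≫ (oneSubShift K t)⟦m⟧' = 0 := by
      apply hom_ext K m
      intro n
      rw [comp_oneSubShift, hz, hz, hx, sub_self, zero_comp]
    have hex := F.homologySequence_exact₂ Tr hT m
    rw [ShortComplex.ab_exact_iff] at hex
    obtain ⟨y, hy⟩ := hex z h0
    refine ⟨y, fun n => ?_⟩
    have hy' : y ≫ (Pi.lift a)⟦m⟧' = z := hy
    calc y ≫ (a n)⟦m⟧' = y ≫ ((Pi.lift a)⟦m⟧' ≫ (Pi.π K n)⟦m⟧') := by
          rw [← Functor.map_comp, Pi.lift_π]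
      _ = z ≫ (Pi.π K n)⟦m⟧' := by rw [← Category.assoc, hy']
      _ = x n := hz n
  · intro hlim1 y hy
    have h0 : y ≫ (Pi.lift a)⟦m⟧' = 0 := by
      apply hom_ext K m
      intro n
      rw [Category.assoc, ← Functor.map_comp, Pi.lift_π, hy, zero_comp]
    have hex := F.homologySequence_exact₁ Tr hT (m - 1) m (by omega)
    rw [ShortComplex.ab_exact_iff] at hex
    obtain ⟨z, hz⟩ := hex y h0
    -- `z : A ⟶ (∏ K)[m-1]`
    obtain ⟨w, hw⟩ := hlim1 (fun n => (z : A ⟶ (∏ᶜ K)⟦m - 1⟧) ≫ (Pi.π K n)⟦m - 1⟧')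
    obtain ⟨w', hw'⟩ := exists_lift K (m - 1) w
    have hzw : w' ≫ (oneSubShift K t)⟦m - 1⟧' = z := by
      apply hom_ext K (m - 1)
      intro n
      rw [comp_oneSubShift, hw', hw']
      exact congrFun hw n
    have hδ := F.comp_homologySequenceδ Tr hT (m - 1) m (by omega)
    have hδ' := ConcreteCategory.congr_hom hδ w'
    rw [← hz]
    have : ((F.shift (m - 1)).map Tr.mor₂).hom w' = z := hzw
    rw [← this]
    exact hδ'

end Groth.Agent.Lib.Helper5.Milnor
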