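import Groth.Agent.Lib.Helper5.IHomAcyclic
import Groth.Agent.Lib.Helper5.GrothSSInst
import Groth.Agent.Lib.Helper5.ExtDerived
import Groth.Agent.Lib.Helper5.FreeSheafify
import Groth.Agent.S0491
import Groth.Prelude.Def_ModSite2

/-!
# The local-to-global `Ext` spectral sequence on a ringed site

`E₂^{p,q} = H^p(C, ℰxt^q_O(M, N)) ⇒ Ext^{p+q}_O(M, N)` as an instance of the Grothendieck spectral sequence, using
that `ℋom_O(M, I)` is totally acyclic for injective `I` and that cohomology of modules is computed on the underlying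
abelian sheaves.
-/

set_option autoImplicit false
set_option maxSynthPendingDepth 3

universe u

open CategoryTheory Limits Opposite Abelian

namespace Groth.Agent.Lib.Helper5.LocalGlobalExt

variable {C : Type u} [SmallCategory C] {J : GrothendieckTopology C}

/-- Totally acyclic abelian sheaves have no higher cohomology on the site. -/
lemma subsingleton_H_succ (A : Sheaf J AddCommGrpCat.{u}) (hA : CohCx.IsTotallyAcyclic A) (n : ℕ) :
    Subsingleton (Sheaf.H A (n + 1)) :=
  FreeSheafify.subsingleton_ext_of_iso (Groth.Agent.S0491.ZcIso J) A (n + 1)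
    (hA (Groth.Agent.S0491.Kt J) n)

variable (O : Sheaf J CommRingCat.{u})

section

variable [HasExt.{u} (ModSite.Mod O)]

/-- Global sections of modules, as `Hom(O, -)`. -/
noncomputable abbrev Γ : ModSite.Mod O ⥤ AddCommGrpCat.{u} := ExtDer.G (ModSite.unit O)

/-- `R^p Γ(M) ≅ H^p(C, M)`. -/
lemma nonempty_rightDerived_Γ_iso [HasInjectiveResolutions (ModSite.Mod O)] (M : ModSite.Mod O) (p : ℕ) :
    Nonempty (((Γ O).rightDerived p).obj M ≅ AddCommGrpCat.of (ModSite.HC O M p)) := by
  obtain ⟨e⟩ := Groth.Agent.S0491.result J (ModSite.ringSh O) M p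
  exact ⟨(ExtDer.extIso (ModSite.unit O) p).app M ≪≫ e.toAddCommGrpIso⟩

variable (M : ModSite.Mod O) [ModSite.HasSheafHom M]

/-- `Hom(M, N) ≃+ Hom(O, ℋom(M, N))`. -/
noncomputable def homEquiv (N : ModSite.Mod O) :
    (M ⟶ N) ≃+ (ModSite.unit O ⟶ (ModSite.sheafHom M).obj N) :=
  haveI : ((ModSite.tensorBi O).flip.obj M).Additive := (ModSite.sheafHomAdj M).left_adjoint_additive
  (AddEquiv.mk' ((Groth.Agent.Lib.Helper17.IHom.tensorUnitIso M).homFromEquiv)
    (fun f g => Preadditive.comp_add _ _ _ _ f g)).symm.trans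
    ((ModSite.sheafHomAdj M).homAddEquiv (ModSite.unit O) N)

lemma homEquiv_apply (N : ModSite.Mod O) (φ : M ⟶ N) :
    homEquiv O M N φ = (ModSite.sheafHomAdj M).homEquiv (ModSite.unit O) N
      ((Groth.Agent.Lib.Helper17.IHom.tensorUnitIso M).hom ≫ φ) := rfl

/-- `Hom(M, -) ≅ Γ ∘ ℋom(M, -)`. -/
noncomputable def compIso : ModSite.sheafHom M ⋙ Γ O ≅ ExtDer.G M :=
  (NatIso.ofComponents (fun N => (homEquiv O M N).toAddCommGrpIso) (by
    intro N N' g
    ext φ
    change homEquiv O M N' (φ ≫ g) = homEquiv O M N φ ≫ (ModSite.sheafHom M).map g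
    rw [homEquiv_apply, homEquiv_apply, ← Category.assoc,
      Adjunction.homEquiv_naturality_right])).symm

end

/-- **The local-to-global `Ext` spectral sequence** on a small ringed site. -/
theorem main (M N : ModSite.Mod O) [ModSite.HasSheafHom M] [HasInjectiveResolutions (ModSite.Mod O)]
    [HasExt.{u} (ModSite.Mod O)] (Z Z' : AddCommGrpCat.{u}) (hZ : IsZero Z) (hZ' : IsZero Z') :
    ∃ (E : E₂CohomologicalSpectralSequence AddCommGrpCat.{u})
      (a : SpSeq.Abutment E (fun n : ℤ =>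
        if 0 ≤ n then AddCommGrpCat.of (Abelian.Ext.{u} M N n.toNat) else Z)),
      (∀ n : ℤ, a.IsFinite n) ∧ SpSeq.IsBounded E ∧
      ∀ p q : ℤ, Nonempty ((E.page 2 le_rfl).X (p, q) ≅
        (if 0 ≤ p ∧ 0 ≤ q then AddCommGrpCat.of (ModSite.HC O ((ModSite.extSh M q.toNat).obj N) p.toNat)
          else Z')) := by
  refine GrothSSInst.main' (ModSite.sheafHom M) (Γ O) ?_ N
    (fun n => AddCommGrpCat.of (Abelian.Ext.{u} M N n))
    (fun p q => AddCommGrpCat.of (ModSite.HC O ((ModSite.extSh M q).obj N) p)) Z Z' hZ hZ' ?_ ?_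
  · intro Q hQ q hq
    obtain ⟨q, rfl⟩ : ∃ q', q = q' + 1 := ⟨q - 1, by omega⟩
    obtain ⟨e⟩ := nonempty_rightDerived_Γ_iso O ((ModSite.sheafHom M).obj Q) (q + 1)
    refine IsZero.of_iso ?_ e
    haveI : Subsingleton (ModSite.HC O ((ModSite.sheafHom M).obj Q) (q + 1)) :=
      subsingleton_H_succ _ (IHomAcyclic.isTotallyAcyclic_sheafHom O M Q) q
    exact AddCommGrpCat.isZero_of_subsingleton _
  · intro n
    exact ⟨(ExtDer.extIsoOfIso M (ModSite.sheafHom M ⋙ Γ O) (compIso O M) n).app N⟩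
  · intro p q
    exact nonempty_rightDerived_Γ_iso O ((ModSite.extSh M q).obj N) p

end Groth.Agent.Lib.Helper5.LocalGlobalExt
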