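import Groth.Agent.Lib.Helper22.ExtCompare
import Groth.Agent.Lib.Helper5.ModAcyclic
import Groth.Agent.Lib.Helper17.ModSiteExact
import Groth.Agent.S0485

/-!
# Degree zero comparison data from a "unit" morphism, and `Ext` out of free modules

* `deg0OfBij Φ ι bij`: a `Deg0Iso` (in the sense of `Helper22.ExtCompare`) built from a morphism
  `ι : P' ⟶ Φ.obj P` such that `f ↦ ι ≫ Φ.map f` is bijective.
* `nonempty_ext_free_addEquiv`: for a sheaf of rings `R` on a small site, a presheaf of sets `L`, and a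
  sheaf of modules `M`, `Ext^n_R(a R[L], M) ≃+ Ext^n_ℤ(a ℤ[L], M)` provided `Ext^{>0}(a ℤ[L], Φ I) = 0` for
  injective modules `I` (which holds e.g. if `L` is a sheaf, by `ModAcyclic.isTotallyAcyclic_toSheaf`).
-/

set_option autoImplicit false

universe w w' v v' u u'

open CategoryTheory Limits Abelian Opposite

namespace Groth.Agent.Lib.Helper5.Deg0

open Groth.Agent.Lib.Helper22.ExtCompare

section general

variable {𝒜 : Type u} [Category.{v} 𝒜] [Abelian 𝒜] [HasExt.{w} 𝒜]
  {ℬ : Type u'} [Category.{v'} ℬ] [Abelian ℬ] [HasExt.{w'} ℬ]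
  (Φ : 𝒜 ⥤ ℬ) [Φ.Additive] {P : 𝒜} {P' : ℬ} (ι : P' ⟶ Φ.obj P)
  (bij : ∀ G : 𝒜, Function.Bijective (fun f : P ⟶ G => ι ≫ Φ.map f))

/-- `Hom(P, G) ≃+ Hom(P', Φ G)` -/
noncomputable def homE (G : 𝒜) : (P ⟶ G) ≃+ (P' ⟶ Φ.obj G) :=
  AddEquiv.ofBijective
    (AddMonoidHom.mk' (fun f : P ⟶ G => ι ≫ Φ.map f) (fun f g => by simp [Functor.map_add]))
    (bij G)

omit [HasExt.{w} 𝒜] [HasExt.{w'} ℬ] in
lemma homE_apply (G : 𝒜) (f : P ⟶ G) : homE Φ ι bij G f = ι ≫ Φ.map f := rfl

/-- the degree zero comparison -/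
noncomputable def deg0OfBij : Deg0Iso Φ P P' where
  e G := Ext.addEquiv₀.trans ((homE Φ ι bij G).trans Ext.addEquiv₀.symm)
  nat {G G'} g x := by
    obtain ⟨f, rfl⟩ := (Ext.mk₀_bijective _ _).2 x
    rw [Ext.mk₀_comp_mk₀]
    have h0 : ∀ {A B : 𝒜} (h : A ⟶ B), Ext.addEquiv₀ (Ext.mk₀ h) = h :=
      fun h => Ext.addEquiv₀.apply_symm_apply h
    have h0' : ∀ {A B : ℬ} (h : A ⟶ B), Ext.addEquiv₀.symm h = Ext.mk₀ h :=
      fun h => rfl
    simp only [AddEquiv.trans_apply, h0, h0', homE_apply]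
    rw [Ext.mk₀_comp_mk₀, Functor.map_comp, Category.assoc]

end general

section free

open Groth.Agent.Lib.Helper5.ModAcyclic

variable {C : Type u} [SmallCategory C] {J : GrothendieckTopology C} (R : Sheaf J RingCat.{u})

/-- sheafification of presheaves of modules -/
noncomputable abbrev aR : PresheafOfModules.{u} R.obj ⥤ SheafOfModules.{u} R :=
  PresheafOfModules.sheafification.{u} (𝟙 R.obj)

/-- the sheafification adjunction for modules -/
noncomputable abbrev adjR :
    aR R ⊣ SheafOfModules.forget R ⋙ PresheafOfModules.restrictScalars (𝟙 R.obj) :=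
  PresheafOfModules.sheafificationAdjunction (𝟙 R.obj)

/-- the sheafification adjunction for abelian sheaves -/
noncomputable abbrev adjZ' := sheafificationAdjunction J AddCommGrpCat.{u}

/-- the free sheaf of modules on a presheaf of sets -/
noncomputable abbrev freeR (L : Cᵒᵖ ⥤ Type u) : SheafOfModules.{u} R :=
  (aR R).obj ((PresheafOfModules.free R.obj).obj L)

/-- the free abelian sheaf on a presheaf of sets -/
noncomputable abbrev freeZ (L : Cᵒᵖ ⥤ Type u) : Sheaf J AddCommGrpCat.{u} :=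
  (presheafToSheaf J AddCommGrpCat.{u}).obj (L ⋙ AddCommGrpCat.free.{u})

/-- the canonical map `ℤ[L]^# ⟶ R[L]^#` of abelian sheaves -/
noncomputable def ιL (L : Cᵒᵖ ⥤ Type u) :
    freeZ (J := J) L ⟶ (SheafOfModules.toSheaf R).obj (freeR R L) :=
  ((adjZ' (J := J)).homEquiv (L ⋙ AddCommGrpCat.free.{u})
      ((SheafOfModules.toSheaf R).obj (freeR R L))).symm
    (Θ R.obj L (Ip R (freeR R L)) ((adjR R).unit.app ((PresheafOfModules.free R.obj).obj L)))

lemma key (L : Cᵒᵖ ⥤ Type u) {G : SheafOfModules.{u} R} (f : freeR R L ⟶ G) :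
    ιL R L ≫ (SheafOfModules.toSheaf R).map f =
      ((adjZ' (J := J)).homEquiv (L ⋙ AddCommGrpCat.free.{u})
          ((SheafOfModules.toSheaf R).obj G)).symm
        (Θ R.obj L (Ip R G) ((adjR R).homEquiv _ _ f)) := by
  apply ((adjZ' (J := J)).homEquiv _ _).injective
  rw [Equiv.apply_symm_apply, Adjunction.homEquiv_naturality_right]
  unfold ιL
  rw [Equiv.apply_symm_apply, Adjunction.homEquiv_unit]
  unfold Θ
  rw [Functor.map_comp]
  exact Category.assoc _ _ _

lemma bij (L : Cᵒᵖ ⥤ Type u) (G : SheafOfModules.{u} R) :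
    Function.Bijective (fun f : freeR R L ⟶ G => ιL R L ≫ (SheafOfModules.toSheaf R).map f) := by
  have : (fun f : freeR R L ⟶ G => ιL R L ≫ (SheafOfModules.toSheaf R).map f) =
      ((adjZ' (J := J)).homEquiv (L ⋙ AddCommGrpCat.free.{u})
          ((SheafOfModules.toSheaf R).obj G)).symm ∘ (Θ R.obj L (Ip R G)) ∘
        ((adjR R).homEquiv _ _) := by
    funext f
    exact key R L f
  rw [this]
  exact (Equiv.bijective _).comp ((Θ_bijective R.obj L (Ip R G)).comp (Equiv.bijective _))

variable [HasExt.{u} (SheafOfModules.{u} R)]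

/-- **`Ext` out of a free sheaf of modules computed on abelian sheaves**, assuming the relevant
vanishing for injective sheaves of modules. -/
theorem nonempty_ext_free_addEquiv (L : Cᵒᵖ ⥤ Type u)
    (hL : ∀ (I : SheafOfModules.{u} R) [Injective I] (n : ℕ),
      Subsingleton (Ext (freeZ (J := J) L) ((SheafOfModules.toSheaf R).obj I) (n + 1)))
    (M : SheafOfModules.{u} R) (n : ℕ) :
    Nonempty (Ext (freeR R L) M n ≃+ Ext (freeZ (J := J) L) ((SheafOfModules.toSheaf R).obj M) n) := by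
  haveI : EnoughInjectives (SheafOfModules.{u} R) := Groth.Agent.S0485.result J R
  haveI := Groth.Agent.Lib.Helper17.ModSiteExact.toSheaf_preservesFiniteColimits R
  exact nonempty_ext_addEquiv (deg0OfBij (SheafOfModules.toSheaf R) (ιL R L) (bij R L))
    (fun _ => True)
    (fun F _ => (injSC_shortExact F).map_of_exact (SheafOfModules.toSheaf R))
    (fun _ _ => trivial)
    (fun F _ n x => (hL (injSC F).X₂ n).elim _ _) n M trivial

/-- The case of a sheaf of sets. -/
theorem nonempty_ext_free_addEquiv_HK (K : Sheaf J (Type u)) (M : SheafOfModules.{u} R) (n : ℕ) :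
    Nonempty (Ext (freeR R K.obj) M n ≃+ CohCx.HK K ((SheafOfModules.toSheaf R).obj M) n) :=
  nonempty_ext_free_addEquiv R K.obj
    (fun I _ n => isTotallyAcyclic_toSheaf R I K n) M n

end free

end Groth.Agent.Lib.Helper5.Deg0
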