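import Groth.Agent.Lib.Helper5.QS

/-!
# `M ↦ M/M_U` commutes with tensor products; consequences for `Γ_Z` and `ℋom`
-/

set_option autoImplicit false

universe u

open CategoryTheory Limits Opposite

namespace Groth.Agent.Lib.Helper5.QS

open Groth.Agent.Lib.Helper17.IHom Groth.Agent.Lib.Helper17.Tensor
  Groth.Agent.Lib.Helper17.ProjFormula

variable {C : Type u} [SmallCategory C] {J : GrothendieckTopology C} (O : Sheaf J CommRingCat.{u})
  (U : C)

lemma isNullOn_tensor_left (Z M : ModSite.Mod O) (hZ : ModSite.IsNullOn O U Z) :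
    ModSite.IsNullOn O U (((ModSite.tensorBi O).obj Z).obj M) := by
  refine IsZero.of_iso ?_ (restrTensorIso U Z M)
  exact ((ModSite.tensorBi (O.over U)).flip.obj ((ModSite.restr O U).obj M)).map_isZero hZ

lemma isNullOn_tensor_right (N Z : ModSite.Mod O) (hZ : ModSite.IsNullOn O U Z) :
    ModSite.IsNullOn O U (((ModSite.tensorBi O).obj N).obj Z) := by
  refine IsZero.of_iso ?_ (restrTensorIso U N Z)
  exact ((ModSite.tensorBi (O.over U)).obj ((ModSite.restr O U).obj N)).map_isZero hZ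

lemma hom_extZero_tensor_null (G : ModSite.Mod (O.over U)) (M Z : ModSite.Mod O)
    (hZ : ModSite.IsNullOn O U Z)
    (f : ((ModSite.tensorBi O).obj ((ModSite.extZero O U).obj G)).obj M ⟶ Z) : f = 0 := by
  let e := (projectionFormulaIso M U).app G
  have h : e.hom ≫ f = 0 := hom_null_eq_zero O U hZ _
  rw [← cancel_epi e.hom, h, comp_zero]

lemma hom_tensor_extZero_null (G : ModSite.Mod (O.over U)) (N Z : ModSite.Mod O)
    (hZ : ModSite.IsNullOn O U Z)
    (f : ((ModSite.tensorBi O).obj N).obj ((ModSite.extZero O U).obj G) ⟶ Z) : f = 0 := by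
  let e : ((ModSite.tensorBi O).obj ((ModSite.extZero O U).obj G)).obj N ≅
      ((ModSite.tensorBi O).obj N).obj ((ModSite.extZero O U).obj G) :=
    braidIso ((ModSite.extZero O U).obj G) N
  have h : e.hom ≫ f = 0 := hom_extZero_tensor_null O U G N Z hZ _
  rw [← cancel_epi e.hom, h, comp_zero]

/-- `π ⊗ M` is a model of the quotient of `N ⊗ M` -/
lemma isQuot_tensor_flip (M N : ModSite.Mod O) :
    IsQuot O U (((ModSite.tensorBi O).flip.obj M).map (π O U N)) :=
  isQuot_map O U ((ModSite.tensorBi O).flip.obj M)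
    (fun Z hZ => isNullOn_tensor_left O U Z M hZ)
    (fun G Z hZ f => hom_extZero_tensor_null O U G M Z hZ f) N

/-- `N ⊗ π` is a model of the quotient of `N ⊗ M` -/
lemma isQuot_tensor (M N : ModSite.Mod O) :
    IsQuot O U (((ModSite.tensorBi O).obj N).map (π O U M)) :=
  isQuot_map O U ((ModSite.tensorBi O).obj N)
    (fun Z hZ => isNullOn_tensor_right O U N Z hZ)
    (fun G Z hZ f => hom_tensor_extZero_null O U G N Z hZ f) M

/-- `(N ⊗ M)/(N ⊗ M)_U ≅ N/N_U ⊗ M`, naturally in `N` -/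
noncomputable def quotTensorIso₁ (M : ModSite.Mod O) :
    (ModSite.tensorBi O).flip.obj M ⋙ ModSite.quotOn O U ≅
      ModSite.quotOn O U ⋙ (ModSite.tensorBi O).flip.obj M :=
  quotNatIso (F := (ModSite.tensorBi O).flip.obj M)
    (G := ModSite.quotOn O U ⋙ (ModSite.tensorBi O).flip.obj M)
    (Functor.whiskerRight (ModSite.quotOnπ O U) ((ModSite.tensorBi O).flip.obj M))
    (fun N => isQuot_tensor_flip O U M N)

/-- `(N ⊗ M)/(N ⊗ M)_U ≅ N ⊗ M/M_U`, naturally in `N` -/
noncomputable def quotTensorIso₂ (M : ModSite.Mod O) :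
    (ModSite.tensorBi O).flip.obj M ⋙ ModSite.quotOn O U ≅
      (ModSite.tensorBi O).flip.obj ((ModSite.quotOn O U).obj M) :=
  quotNatIso (F := (ModSite.tensorBi O).flip.obj M)
    (G := (ModSite.tensorBi O).flip.obj ((ModSite.quotOn O U).obj M))
    ((ModSite.tensorBi O).flip.map (π O U M))
    (fun N => isQuot_tensor O U M N)

section Push

variable [ModSite.HasPushOver O U]

/-- `Γ_Z ℋom(M, -) ≅ ℋom(M, Γ_Z -)` -/
noncomputable def sectSheafHomIso (M : ModSite.Mod O) [ModSite.HasSheafHom M] :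
    ModSite.sheafHom M ⋙ ModSite.sectOn O U ≅ ModSite.sectOn O U ⋙ ModSite.sheafHom M :=
  ((adj O U).comp (ModSite.sheafHomAdj M)).rightAdjointUniq
    (((ModSite.sheafHomAdj M).comp (adj O U)).ofNatIsoLeft (quotTensorIso₁ O U M))

/-- `ℋom(M, Γ_Z -) ≅ ℋom(M/M_U, -)` -/
noncomputable def sheafHomSectIso (M : ModSite.Mod O) [ModSite.HasSheafHom M]
    [ModSite.HasSheafHom ((ModSite.quotOn O U).obj M)] :
    ModSite.sectOn O U ⋙ ModSite.sheafHom M ≅ ModSite.sheafHom ((ModSite.quotOn O U).obj M) :=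
  (((ModSite.sheafHomAdj M).comp (adj O U)).ofNatIsoLeft (quotTensorIso₂ O U M)).rightAdjointUniq
    (ModSite.sheafHomAdj ((ModSite.quotOn O U).obj M))

/-- `Γ_Z ℋom(M, -) ≅ ℋom(M/M_U, -)` -/
noncomputable def sectSheafHomQuotIso (M : ModSite.Mod O) [ModSite.HasSheafHom M]
    [ModSite.HasSheafHom ((ModSite.quotOn O U).obj M)] :
    ModSite.sheafHom M ⋙ ModSite.sectOn O U ≅ ModSite.sheafHom ((ModSite.quotOn O U).obj M) :=
  sectSheafHomIso O U M ≪≫ sheafHomSectIso O U M

end Push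

end Groth.Agent.Lib.Helper5.QS
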