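import Groth.Agent.Lib.Helper5.QExact

/-!
# Localisation at a subterminal object `U`
* the unit `G ⟶ (j_! G)|_U` is an isomorphism;
* the counit `j_!(M|_U) ⟶ M` is a monomorphism;
* for `I` injective, `I ⟶ j_*(I|_U)` is a split epimorphism.
-/

set_option autoImplicit false

universe u

open CategoryTheory Limits Opposite

namespace Groth.Agent.Lib.Helper5.QS

open Groth.Agent.Lib.Helper17.IHom Groth.Agent.Lib.Helper17.ExtZeroP
  Groth.Agent.Lib.Helper17.ExtZero

variable {C : Type u} [SmallCategory C] {J : GrothendieckTopology C} (O : Sheaf J CommRingCat.{u})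
  (U : C) (hU : ∀ V : C, Subsingleton (V ⟶ U))

include hU in
lemma isIso_jPAdj_unit (G : PModU O U) :
    IsIso ((jPAdj U (ModSite.ringSh O).obj).unit.app G) := by
  have h : ∀ Y, IsIso (((jPAdj U (ModSite.ringSh O).obj).unit.app G).app Y) := by
    intro Y
    have e : ((jPAdj U (ModSite.ringSh O).obj).unit.app G).app Y =
        Sigma.ι (smd G Y.unop.left) Y.unop.hom :=
      Category.comp_id (Sigma.ι (smd G Y.unop.left) Y.unop.hom)
    rw [e]
    letI : Unique (Y.unop.left ⟶ U) :=
      { default := Y.unop.hom
        uniq := fun a => (hU Y.unop.left).elim a _ }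
    have h3 : Sigma.ι (smd G Y.unop.left) Y.unop.hom =
        (coproductUniqueIso (smd G Y.unop.left)).inv :=
      (coproductUniqueIso_inv (smd G Y.unop.left)).symm
    rw [h3]
    infer_instance
  let e : G ≅ (resP U (ModSite.ringSh O).obj).obj ((jPF U (ModSite.ringSh O).obj).obj G) :=
    PresheafOfModules.isoMk (fun Y => asIso (((jPAdj U (ModSite.ringSh O).obj).unit.app G).app Y))
      (fun Y Y' f => by
        simp only [asIso_hom]
        exact ((jPAdj U (ModSite.ringSh O).obj).unit.app G).naturality f)
  have he : e.hom = (jPAdj U (ModSite.ringSh O).obj).unit.app G := by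
    ext Y x
    rfl
  rw [← he]
  infer_instance


omit O U in
lemma isIso_map_comp_of {A B : Type*} [Category A] [Category B] (F : A ⥤ B) {X Y Z : A}
    (f : X ⟶ Y) (g : Y ⟶ Z) (h1 : IsIso (F.map f)) (h2 : IsIso (F.map g)) {k : X ⟶ Z}
    (hk : k = f ≫ g) : IsIso (F.map k) := by
  subst hk
  rw [F.map_comp]
  infer_instance

include hU in
theorem isIso_unit' (G : ModSite.Mod (O.over U)) : IsIso ((extZero'Adj O U).unit.app G) := by
  have h1 : IsIso ((shfU O U).map ((forgetU O U).map ((extZero'Adj O U).unit.app G))) := by
    have m1 : IsIso ((shfU O U).map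
        ((jPAdj U (ModSite.ringSh O).obj).unit.app ((forgetU O U).obj G))) := by
      have := isIso_jPAdj_unit O U hU ((forgetU O U).obj G)
      infer_instance
    exact isIso_map_comp_of (shfU O U) _ _ m1
      (isIso_shfU_map_resP_unit O U (jP ((forgetU O U).obj G))) (unit_val O U G)
  have e := asIso (shfUAdj O U).counit
  have h2 : (extZero'Adj O U).unit.app G =
      e.inv.app G ≫ (shfU O U).map ((forgetU O U).map ((extZero'Adj O U).unit.app G)) ≫
        e.hom.app _ := by
    have := e.hom.naturality ((extZero'Adj O U).unit.app G)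
    simp only [Functor.comp_map, Functor.id_map] at this
    rw [this]
    simp
  rw [h2]
  infer_instance

include hU in
theorem isIso_unit (G : ModSite.Mod (O.over U)) :
    IsIso ((ModSite.extZeroAdj O U).unit.app G) := by
  have h := Adjunction.unit_leftAdjointUniq_hom_app (ModSite.extZeroAdj O U) (extZero'Adj O U) G
  haveI := isIso_unit' O U hU G
  haveI : IsIso ((ModSite.restr O U).map
      (((ModSite.extZeroAdj O U).leftAdjointUniq (extZero'Adj O U)).hom.app G)) := inferInstance
  have h' : (ModSite.extZeroAdj O U).unit.app G = (extZero'Adj O U).unit.app G ≫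
      inv ((ModSite.restr O U).map
        (((ModSite.extZeroAdj O U).leftAdjointUniq (extZero'Adj O U)).hom.app G)) := by
    rw [← h, Category.assoc, IsIso.hom_inv_id, Category.comp_id]
  rw [h']
  infer_instance

include hU in
theorem isIso_restr_map_ε (M : ModSite.Mod O) : IsIso ((ModSite.restr O U).map (ε O U M)) := by
  have h : (ModSite.extZeroAdj O U).unit.app ((ModSite.restr O U).obj M) ≫
      (ModSite.restr O U).map (ε O U M) = 𝟙 _ :=
    (ModSite.extZeroAdj O U).right_triangle_components M
  haveI := isIso_unit O U hU ((ModSite.restr O U).obj M)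
  have h' : (ModSite.restr O U).map (ε O U M) =
      inv ((ModSite.extZeroAdj O U).unit.app ((ModSite.restr O U).obj M)) := by
    rw [← cancel_epi ((ModSite.extZeroAdj O U).unit.app ((ModSite.restr O U).obj M)), h,
      IsIso.hom_inv_id]
  rw [h']
  infer_instance

include hU in
theorem mono_ε (M : ModSite.Mod O) : Mono (ε O U M) := by
  haveI := isIso_restr_map_ε O U hU M
  have hN : ModSite.IsNullOn O U (kernel (ε O U M)) := by
    haveI : Mono ((ModSite.restr O U).map (kernel.ι (ε O U M))) := inferInstance
    have h0 : (ModSite.restr O U).map (kernel.ι (ε O U M)) = 0 := by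
      rw [← cancel_mono ((ModSite.restr O U).map (ε O U M)), ← Functor.map_comp,
        kernel.condition, Functor.map_zero, zero_comp]
    exact IsZero.of_mono_eq_zero _ h0
  have hz : IsZero (kernel (ε O U M)) :=
    isZero_of_epi_of_mono_extZero O U (kernel.ι (ε O U M)) (𝟙 _) hN
  exact Preadditive.mono_of_kernel_zero (hz.eq_of_src _ _)

include hU in
/-- for `U` subterminal and `I` injective, `I ⟶ j_*(I|_U)` is a split epimorphism -/
theorem exists_section_η [ModSite.HasPushOver O U] (I : ModSite.Mod O) [Injective I] :
    ∃ s : (ModSite.pushOver O U).obj ((ModSite.restr O U).obj I) ⟶ I, s ≫ η O U I = 𝟙 _ := by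
  let adjL := ModSite.extZeroAdj O U
  let adjR := ModSite.restrPushOverAdj O U
  let X := (ModSite.pushOver O U).obj ((ModSite.restr O U).obj I)
  let g' : (ModSite.restr O U).obj X ⟶ (ModSite.restr O U).obj I := (adjR.homEquiv X _).symm (𝟙 X)
  let g'' : (ModSite.extZero O U).obj ((ModSite.restr O U).obj X) ⟶ I := (adjL.homEquiv _ I).symm g'
  haveI := mono_ε O U hU X
  let f : X ⟶ I := Injective.factorThru g'' (ε O U X)
  have hf : ε O U X ≫ f = g'' := Injective.comp_factorThru g'' (ε O U X)
  have key1 : adjL.homEquiv _ _ (ε O U X ≫ f) = (ModSite.restr O U).map f := by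
    rw [adjL.homEquiv_unit, Functor.map_comp, ← Category.assoc, adjL.right_triangle_components,
      Category.id_comp]
  have h1 : (ModSite.restr O U).map f = g' := by
    rw [← key1, hf]
    exact Equiv.apply_symm_apply _ _
  have key2 : adjR.homEquiv _ _ ((ModSite.restr O U).map f) = f ≫ η O U I := by
    rw [adjR.homEquiv_unit]
    exact (adjR.unit.naturality f).symm
  refine ⟨f, ?_⟩
  rw [← key2, h1]
  exact Equiv.apply_symm_apply _ _

end Groth.Agent.Lib.Helper5.QS
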