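import Groth.Agent.Lib.Helper5.RestrSect
import Groth.Agent.Lib.Helper5.SubtermU
import Groth.Agent.Lib.Helper5.QSTensor
import Groth.Agent.Lib.Helper5.RestrExact

/-!
# Excision for `Ext` with supports
-/

set_option autoImplicit false

universe w u

open CategoryTheory Limits Opposite

namespace Groth.Agent.Lib.Helper5.QS

open Groth.Agent.Lib.Helper17.IHom Groth.Agent.Lib.Helper17.Tensor
  Groth.Agent.Lib.Helper17.LocInj Groth.Agent.Lib.Helper17.ExtZeroP
  Groth.Agent.Lib.Helper17.ExtZero

section ExtCongr

open Abelian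

variable {𝒜 : Type*} [Category 𝒜] [Abelian 𝒜] [HasExt.{w} 𝒜]

/-- `Ext` groups of isomorphic objects (first variable) -/
noncomputable def extCongrLeft {A B : 𝒜} (e : A ≅ B) (N : 𝒜) (i : ℕ) :
    Ext.{w} A N i ≃+ Ext.{w} B N i where
  toFun x := (Ext.mk₀ e.inv).comp x (zero_add i)
  invFun y := (Ext.mk₀ e.hom).comp y (zero_add i)
  left_inv x := by
    change (Ext.mk₀ e.hom).comp ((Ext.mk₀ e.inv).comp x (zero_add i)) (zero_add i) = x
    rw [Ext.mk₀_comp_mk₀_assoc, e.hom_inv_id, Ext.mk₀_id_comp]
  right_inv y := by
    change (Ext.mk₀ e.inv).comp ((Ext.mk₀ e.hom).comp y (zero_add i)) (zero_add i) = y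
    rw [Ext.mk₀_comp_mk₀_assoc, e.inv_hom_id, Ext.mk₀_id_comp]
  map_add' x y := Ext.comp_add _ _ _ _

end ExtCongr

variable {C : Type u} [SmallCategory C] {J : GrothendieckTopology C} (O : Sheaf J CommRingCat.{u})

/-- a module null on each member of a family covering the final object is zero -/
lemma isZero_of_isNullOn_coversTop {I : Type*} (Y : I → C) (hY : J.CoversTop Y)
    (Z : ModSite.Mod O) (h : ∀ i, ModSite.IsNullOn O (Y i) Z) : IsZero Z := by
  apply isZero_of_sections_eq_zero
  intro V z
  refine section_eq_zero_of_locally Z z (Sieve.ofObjects Y V) (hY V) ?_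
  rintro W g ⟨i, ⟨f⟩⟩
  exact (ExtSupp.isNullOn_iff O (Y i) Z).1 (h i) f _

lemma isNullOn_of_epi (U : C) {Y K : ModSite.Mod O} (k : Y ⟶ K) [Epi k]
    (hY : ModSite.IsNullOn O U Y) : ModSite.IsNullOn O U K := by
  haveI := RestrExact.restr_preservesEpimorphisms O U
  haveI : Epi ((ModSite.restr O U).map k) := inferInstance
  exact IsZero.of_epi ((ModSite.restr O U).map k) hY

/-- a morphism which is an isomorphism on each member of a family covering the final object is an
isomorphism -/
lemma isIso_of_restr_coversTop {I : Type*} (Y : I → C) (hY : J.CoversTop Y)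
    {A B : ModSite.Mod O} (f : A ⟶ B) (h : ∀ i, IsIso ((ModSite.restr O (Y i)).map f)) :
    IsIso f := by
  have hK : IsZero (kernel f) := by
    refine isZero_of_isNullOn_coversTop O Y hY _ (fun i => ?_)
    haveI := h i
    haveI : Mono ((ModSite.restr O (Y i)).map (kernel.ι f)) := inferInstance
    have h0 : (ModSite.restr O (Y i)).map (kernel.ι f) = 0 := by
      rw [← cancel_mono ((ModSite.restr O (Y i)).map f), ← Functor.map_comp,
        kernel.condition, Functor.map_zero, zero_comp]
    exact IsZero.of_mono_eq_zero _ h0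
  have hQ : IsZero (cokernel f) := by
    refine isZero_of_isNullOn_coversTop O Y hY _ (fun i => ?_)
    haveI := h i
    haveI := RestrExact.restr_preservesEpimorphisms O (Y i)
    haveI : Epi ((ModSite.restr O (Y i)).map (cokernel.π f)) := inferInstance
    have h0 : (ModSite.restr O (Y i)).map (cokernel.π f) = 0 := by
      rw [← cancel_epi ((ModSite.restr O (Y i)).map f), ← Functor.map_comp,
        cokernel.condition, Functor.map_zero, comp_zero]
    exact IsZero.of_epi_eq_zero _ h0
  haveI : Mono f := Preadditive.mono_of_kernel_zero (hK.eq_of_src _ _)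
  haveI : Epi f := Preadditive.epi_of_cokernel_zero (hQ.eq_of_tgt _ _)
  exact isIso_of_mono_of_epi f

section Prod

variable [HasBinaryProducts C] (U X : C)

/-- maps from the restriction of an extension by zero from `U` to a module null on `U × X` vanish -/
lemma hom_restr_extZero_null (G : ModSite.Mod (O.over U)) (Z : ModSite.Mod (O.over X))
    (hZ : ModSite.IsNullOn (O.over X) (W U X) Z)
    (f : (ModSite.restr O X).obj ((ModSite.extZero O U).obj G) ⟶ Z) : f = 0 := by
  apply (ModSite.extZero O X).map_injective
  obtain ⟨e⟩ := freeOn_tensor_iso (O := O) X ((ModSite.extZero O U).obj G)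
  have h := hom_tensor_extZero_null O U G (ModSite.freeOn O X) _
    (isNullOn_extZero O U X Z hZ) (e.hom ≫ (ModSite.extZero O X).map f)
  rw [Functor.map_zero, ← cancel_epi e.hom, h, comp_zero]

/-- `π|_X` is a model of the quotient of `M|_X` -/
lemma isQuot_restr_map (M : ModSite.Mod O) :
    IsQuot (O.over X) (W U X) ((ModSite.restr O X).map (π O U M)) where
  null := isNullOn_restr O U X _ (isNullOn_quotOn' O U M)
  exists_cokernel := by
    haveI := RestrExact.restr_preservesFiniteColimits O X
    haveI := RestrExact.restr_additive O X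
    refine ⟨_, (ModSite.restr O X).map (ε O U M),
      by rw [← Functor.map_comp, ε_π, Functor.map_zero], ⟨?_⟩,
      hom_restr_extZero_null O U X _ _ (isNullOn_quotOn' (O.over X) (W U X) _) _⟩
    have hc : IsColimit (CokernelCofork.ofπ (π O U M) (ε_π O U M)) :=
      cokernelIsCokernel (ε O U M)
    exact CokernelCofork.mapIsColimit _ hc (ModSite.restr O X)

/-- the natural transformation `π|_X` -/
noncomputable def restrπ : ModSite.restr O X ⟶ ModSite.quotOn O U ⋙ ModSite.restr O X where
  app M := (ModSite.restr O X).map (π O U M)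
  naturality M M' f := by
    change (ModSite.restr O X).map f ≫ (ModSite.restr O X).map (π O U M') =
      (ModSite.restr O X).map (π O U M) ≫
        (ModSite.restr O X).map ((ModSite.quotOn O U).map f)
    rw [← Functor.map_comp, ← Functor.map_comp, π_naturality]

/-- `(M/M_U)|_X ≅ M|_X/(M|_X)_{U × X}` -/
noncomputable def restrQuotIso :
    ModSite.restr O X ⋙ ModSite.quotOn (O.over X) (W U X) ≅
      ModSite.quotOn O U ⋙ ModSite.restr O X :=
  quotNatIso (restrπ O U X) (fun M => isQuot_restr_map O U X M)

/-- a module null on `U` is the extension by zero of its restriction to a subterminal `V` such that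
`U`, `V` cover the final object -/
lemma isIso_ε_of_isNullOn (V : C) (hV : ∀ T : C, Subsingleton (T ⟶ V))
    (hUV : J.CoversTop (fun b : Bool => cond b U V)) (A : ModSite.Mod O)
    (hA : ModSite.IsNullOn O U A) : IsIso (ε O V A) := by
  refine isIso_of_restr_coversTop O _ hUV (ε O V A) ?_
  rintro (_ | _)
  · exact isIso_restr_map_ε O V hV A
  · have h1 : IsZero ((ModSite.restr O U).obj
        ((ModSite.extZero O V).obj ((ModSite.restr O V).obj A))) :=
      isNullOn_extZero O U V _ (isNullOn_restr O U V A hA)
    exact ⟨0, h1.eq_of_src _ _, hA.eq_of_src _ _⟩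

end Prod

end Groth.Agent.Lib.Helper5.QS
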