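import Groth.Prelude.Def_LocCohZ
import Groth.Agent.Lib.Helper22.CohTop.FlasqueAcyclic
import Groth.Agent.Lib.Helper22.CohTop.Pushforward
import Groth.Agent.Lib.Helper22.DimShift

set_option autoImplicit false
universe u
open CategoryTheory CategoryTheory.Limits TopologicalSpace Opposite

namespace Groth.Agent.Lib.Helper5.SectSupp

lemma isContinuous_map {X Y : TopCat.{u}} (f : X ⟶ Y) :
    (Opens.map f).IsContinuous (Opens.grothendieckTopology Y) (Opens.grothendieckTopology X) :=
  inferInstance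

variable {X : TopCat.{u}} (U : Opens X)

lemma isOpenMap_incl : IsOpenMap (CohCx.incl U) := U.isOpenEmbedding.isOpenMap

instance : (isOpenMap_incl U).functor.IsContinuous (Opens.grothendieckTopology (TopCat.of U))
    (Opens.grothendieckTopology X) :=
  Topology.IsOpenEmbedding.functor_isContinuous (f := CohCx.incl U) U.isOpenEmbedding

instance : (Opens.map (CohCx.incl U)).IsContinuous (Opens.grothendieckTopology X)
    (Opens.grothendieckTopology (TopCat.of U)) :=
  isContinuous_map _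

/-- restriction ⊣ pushforward -/
noncomputable def adjR : CohTop.restrFunctor U ⊣ CohTop.push (CohCx.incl U) :=
  (IsOpenMap.adjunction (isOpenMap_incl U)).sheafPushforwardContinuous (E := AddCommGrpCat.{u})
    (Opens.grothendieckTopology (TopCat.of U)) (Opens.grothendieckTopology X)

lemma adjR_unit_app (F : CohTop.Ab X) (V : (Opens X)ᵒᵖ) :
    ((adjR U).unit.app F).hom.app V =
      F.obj.map ((IsOpenMap.adjunction (isOpenMap_incl U)).counit.app V.unop).op :=
  Adjunction.sheafPushforwardContinuous_unit_app_hom_app _ _ _ _ _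

/-- `j⁻¹ ≅ restriction`. -/
noncomputable def pullIso : CohTop.pull (CohCx.incl U) ≅ CohTop.restrFunctor U :=
  (TopCat.Sheaf.pullbackPushforwardAdjunction AddCommGrpCat.{u} (CohCx.incl U)).leftAdjointUniq (adjR U)

lemma unit_comp_pullIso (F : CohTop.Ab X) :
    (TopCat.Sheaf.pullbackPushforwardAdjunction AddCommGrpCat.{u} (CohCx.incl U)).unit.app F ≫
      (CohTop.push (CohCx.incl U)).map ((pullIso U).hom.app F) = (adjR U).unit.app F :=
  Adjunction.unit_leftAdjointUniq_hom_app _ _ _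

/-- The unit `F ⟶ j_* j⁻¹ F` (Mathlib's pullback). -/
noncomputable abbrev η (F : CohTop.Ab X) :
    F ⟶ (CohTop.push (CohCx.incl U)).obj ((CohTop.pull (CohCx.incl U)).obj F) :=
  (TopCat.Sheaf.pullbackPushforwardAdjunction AddCommGrpCat.{u} (CohCx.incl U)).unit.app F

lemma image_preimage_le (V : Opens X) :
    (isOpenMap_incl U).functor.obj ((Opens.map (CohCx.incl U)).obj V) ≤ V ⊓ U := by
  rintro _ ⟨y, hy, rfl⟩
  exact ⟨hy, y.2⟩

lemma le_image_preimage (V : Opens X) :
    V ⊓ U ≤ (isOpenMap_incl U).functor.obj ((Opens.map (CohCx.incl U)).obj V) := by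
  rintro x ⟨hxV, hxU⟩
  exact ⟨⟨x, hxU⟩, hxV, rfl⟩

lemma map_apply_eq_zero_of {F : CohTop.Ab X} {V W W' : Opens X} (h : W ≤ V) (h' : W' ≤ V)
    (hWW' : W' ≤ W) (s : F.obj.obj (op V)) (hs : (F.obj.map (homOfLE h).op).hom s = 0) :
    (F.obj.map (homOfLE h').op).hom s = 0 := by
  have : F.obj.map (homOfLE h').op = F.obj.map (homOfLE h).op ≫ F.obj.map (homOfLE hWW').op := by
    rw [← F.obj.map_comp]; rfl
  rw [this, ConcreteCategory.comp_apply, hs, map_zero]

theorem η_apply_eq_zero_iff (F : CohTop.Ab X) (V : Opens X) (s : F.obj.obj (op V)) :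
    ((η U F).hom.app (op V)).hom s = 0 ↔
      (F.obj.map (homOfLE (inf_le_left : V ⊓ U ≤ V)).op).hom s = 0 := by
  have h1 : ((η U F).hom.app (op V) ≫
      ((CohTop.push (CohCx.incl U)).map ((pullIso U).hom.app F)).hom.app (op V)) =
      F.obj.map ((IsOpenMap.adjunction (isOpenMap_incl U)).counit.app V).op := by
    rw [← adjR_unit_app, ← unit_comp_pullIso]
    rfl
  have h2 := ConcreteCategory.congr_hom h1 s
  rw [ConcreteCategory.comp_apply] at h2
  constructor
  · intro hs
    rw [hs, map_zero] at h2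
    exact map_apply_eq_zero_of (leOfHom ((IsOpenMap.adjunction (isOpenMap_incl U)).counit.app V))
      inf_le_left (le_image_preimage U V) s h2.symm
  · intro hs
    have h3 : (F.obj.map ((IsOpenMap.adjunction (isOpenMap_incl U)).counit.app V).op).hom s = 0 :=
      map_apply_eq_zero_of inf_le_left
        (leOfHom ((IsOpenMap.adjunction (isOpenMap_incl U)).counit.app V))
        (image_preimage_le U V) s hs
    have h2' := h2.trans h3
    have hiso : IsIso (((CohTop.push (CohCx.incl U)).map ((pullIso U).hom.app F)).hom.app (op V)) :=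
      Functor.map_isIso (sheafToPresheaf _ _ ⋙ (evaluation _ _).obj (op V))
        ((CohTop.push (CohCx.incl U)).map ((pullIso U).hom.app F))
    have hinj := (AddCommGrpCat.mono_iff_injective
      (((CohTop.push (CohCx.incl U)).map ((pullIso U).hom.app F)).hom.app (op V))).1 inferInstance
    apply hinj
    rw [map_zero]
    exact h2'


/-- Restriction of sections along `W ≤ V`. -/
noncomputable abbrev res (F : CohTop.Ab X) {W V : Opens X} (h : W ≤ V) :
    F.obj.obj (op V) →+ F.obj.obj (op W) := (F.obj.map (homOfLE h).op).hom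

lemma res_res (F : CohTop.Ab X) {W' W V : Opens X} (h : W ≤ V) (h' : W' ≤ W)
    (s : F.obj.obj (op V)) : res F h' (res F h s) = res F (h'.trans h) s := by
  change (F.obj.map (homOfLE h).op ≫ F.obj.map (homOfLE h').op).hom s = _
  rw [← F.obj.map_comp]
  rfl

lemma map_eq_res (F : CohTop.Ab X) {V W : (Opens X)ᵒᵖ} (i : V ⟶ W) (s : F.obj.obj V) :
    (F.obj.map i).hom s = res F (leOfHom i.unop) s := rfl

lemma app_res {F G : CohTop.Ab X} (φ : F ⟶ G) {W V : Opens X} (h : W ≤ V) (s : F.obj.obj (op V)) :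
    (φ.hom.app (op W)).hom (res F h s) = res G h ((φ.hom.app (op V)).hom s) :=
  (ConcreteCategory.congr_hom (φ.hom.naturality (homOfLE h).op) s)

lemma exists_glue₂ (F : CohTop.Ab X) (A B : Opens X) (sA : F.obj.obj (op A)) (sB : F.obj.obj (op B))
    (h : (F.obj.map (homOfLE (inf_le_left : A ⊓ B ≤ A)).op).hom sA =
      (F.obj.map (homOfLE (inf_le_right : A ⊓ B ≤ B)).op).hom sB) :
    ∃ s : F.obj.obj (op (A ⊔ B)), (F.obj.map (homOfLE (le_sup_left : A ≤ A ⊔ B)).op).hom s = sA ∧
      (F.obj.map (homOfLE (le_sup_right : B ≤ A ⊔ B)).op).hom s = sB := by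
  let Uf : Bool → Opens X := fun b => if b then A else B
  let sf : ∀ b : Bool, F.obj.obj (op (Uf b)) := fun b => match b with
    | true => sA
    | false => sB
  have hc : TopCat.Presheaf.IsCompatible F.obj Uf sf := by
    rintro (_ | _) (_ | _)
    · rfl
    · have := h.symm
      dsimp [sf, Uf]
      have e : F.obj.map (homOfLE (inf_le_left : B ⊓ A ≤ B)).op =
          F.obj.map (homOfLE (inf_le_right : A ⊓ B ≤ B)).op ≫
            F.obj.map (homOfLE (le_of_eq (inf_comm B A))).op := by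
        rw [← F.obj.map_comp]; rfl
      have e' : F.obj.map (homOfLE (inf_le_right : B ⊓ A ≤ A)).op =
          F.obj.map (homOfLE (inf_le_left : A ⊓ B ≤ A)).op ≫
            F.obj.map (homOfLE (le_of_eq (inf_comm B A))).op := by
        rw [← F.obj.map_comp]; rfl
      change (F.obj.map (homOfLE (inf_le_left : B ⊓ A ≤ B)).op).hom sB =
        (F.obj.map (homOfLE (inf_le_right : B ⊓ A ≤ A)).op).hom sA
      rw [e, e', ConcreteCategory.comp_apply, ConcreteCategory.comp_apply]
      exact congrArg _ this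
    · exact h
    · rfl
  obtain ⟨s, hs, -⟩ := TopCat.Sheaf.existsUnique_gluing' F Uf (A ⊔ B)
    (fun b => match b with
      | true => homOfLE (le_sup_left : A ≤ A ⊔ B)
      | false => homOfLE (le_sup_right : B ≤ A ⊔ B))
    (by
      rw [sup_le_iff]
      exact ⟨le_iSup Uf true, le_iSup Uf false⟩) sf hc
  exact ⟨s, hs true, hs false⟩

/-- The inclusion `Γ_Z F ⟶ F`. -/
noncomputable def ι (F : CohTop.Ab X) : (LocCohZ.sectSuppF U).obj F ⟶ F := kernel.ι _

@[reassoc (attr := simp)]
lemma ι_comp_η (F : CohTop.Ab X) : ι U F ≫ η U F = 0 := kernel.condition _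

instance (F : CohTop.Ab X) : Mono (ι U F) := equalizer.ι_mono

/-- Lifting a morphism killed by the unit to `Γ_Z F`. -/
noncomputable def lift {T F : CohTop.Ab X} (y : T ⟶ F) (hy : y ≫ η U F = 0) :
    T ⟶ (LocCohZ.sectSuppF U).obj F := kernel.lift _ y hy

@[reassoc (attr := simp)]
lemma lift_ι {T F : CohTop.Ab X} (y : T ⟶ F) (hy : y ≫ η U F = 0) : lift U y hy ≫ ι U F = y :=
  kernel.lift_ι _ _ _

lemma app_injective_of_mono {F G : CohTop.Ab X} (f : F ⟶ G) [Mono f] (V : Opens X) :
    Function.Injective (f.hom.app (op V)).hom := by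
  have : Mono ((sheafToPresheaf _ _ ⋙ (evaluation _ _).obj (op V)).map f) := inferInstance
  exact (AddCommGrpCat.mono_iff_injective (f.hom.app (op V))).1 this

lemma ι_app_injective (F : CohTop.Ab X) (V : Opens X) :
    Function.Injective ((ι U F).hom.app (op V)).hom :=
  app_injective_of_mono _ V

lemma res_ι_apply (F : CohTop.Ab X) (V : Opens X) (t : ((LocCohZ.sectSuppF U).obj F).obj.obj (op V)) :
    (F.obj.map (homOfLE (inf_le_left : V ⊓ U ≤ V)).op).hom (((ι U F).hom.app (op V)).hom t) = 0 := by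
  rw [← η_apply_eq_zero_iff]
  have := ConcreteCategory.congr_hom (congrArg (fun f => f.hom.app (op V)) (ι_comp_η U F)) t
  exact this

lemma exists_of_res_eq_zero (F : CohTop.Ab X) (V : Opens X) (s : F.obj.obj (op V))
    (hs : (F.obj.map (homOfLE (inf_le_left : V ⊓ U ≤ V)).op).hom s = 0) :
    ∃ t, ((ι U F).hom.app (op V)).hom t = s := by
  rw [← η_apply_eq_zero_iff] at hs
  let J := Opens.grothendieckTopology X
  have h0 : CohFree.ofSect J V F s ≫ η U F = 0 := by
    apply (CohFree.homEquivSect J V _).injective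
    rw [map_zero]
    change ((η U F).hom.app (op V)).hom (CohFree.evalGen J V F (CohFree.ofSect J V F s)) = 0
    rw [CohFree.evalGen_ofSect]
    exact hs
  refine ⟨CohFree.evalGen J V _ (lift U _ h0), ?_⟩
  change CohFree.evalGen J V F (lift U _ h0 ≫ ι U F) = s
  rw [lift_ι, CohFree.evalGen_ofSect]

@[reassoc]
lemma sectSuppF_map_ι {F G : CohTop.Ab X} (φ : F ⟶ G) :
    (LocCohZ.sectSuppF U).map φ ≫ ι U G = ι U F ≫ φ := by
  exact kernel.lift_ι _ _ _

theorem sectSupp_isFlasque (A : CohTop.Ab X) [TopCat.Sheaf.IsFlasque A] :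
    TopCat.Sheaf.IsFlasque ((LocCohZ.sectSuppF U).obj A) := by
  constructor
  intro V' W' i
  rw [AddCommGrpCat.epi_iff_surjective]
  intro t
  obtain ⟨V⟩ := V'
  obtain ⟨W⟩ := W'
  have hWV : W ≤ V := leOfHom i.unop
  have hs := res_ι_apply U A W t
  obtain ⟨s', hs'W, hs'U⟩ := exists_glue₂ A W U (((ι U A).hom.app (op W)).hom t) 0
    (by rw [map_zero]; exact hs)
  obtain ⟨s'', hs''⟩ := (AddCommGrpCat.epi_iff_surjective
    (A.obj.map (homOfLE (le_top : W ⊔ U ≤ ⊤)).op)).1 inferInstance s'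
  have hs3 : res A (inf_le_left : V ⊓ U ≤ V) (res A (le_top : V ≤ ⊤) s'') = 0 := by
    have h1 : res A (le_sup_right : U ≤ W ⊔ U) (res A (le_top : W ⊔ U ≤ ⊤) s'') = 0 := by
      rw [← hs'U]; exact congrArg _ hs''
    rw [res_res] at h1 ⊢
    have h2 := congrArg (res A (inf_le_right : V ⊓ U ≤ U)) h1
    rw [res_res, map_zero] at h2
    exact h2
  obtain ⟨t', ht'⟩ := exists_of_res_eq_zero U A V _ hs3
  refine ⟨t', ?_⟩
  apply ι_app_injective U A W
  rw [map_eq_res, app_res, ht', res_res, ← hs'W, ← hs'', res_res]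

instance mono_sectSuppF_map {F G : CohTop.Ab X} (f : F ⟶ G) [Mono f] :
    Mono ((LocCohZ.sectSuppF U).map f) := by
  have : Mono ((LocCohZ.sectSuppF U).map f ≫ ι U G) := by
    rw [sectSuppF_map_ι]; infer_instance
  exact mono_of_mono _ (ι U G)

instance mono_restr_map {F G : CohTop.Ab X} (f : F ⟶ G) [Mono f] :
    Mono ((CohTop.restrFunctor U).map f) := by
  apply Sheaf.Hom.mono_of_presheaf_mono

instance mono_pull_map {F G : CohTop.Ab X} (f : F ⟶ G) [Mono f] :
    Mono ((CohTop.pull (CohCx.incl U)).map f) := by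
  have h : (CohTop.pull (CohCx.incl U)).map f =
      (pullIso U).hom.app F ≫ (CohTop.restrFunctor U).map f ≫ (pullIso U).inv.app G := by
    rw [← NatTrans.naturality_assoc, Iso.hom_inv_id_app, Category.comp_id]
  rw [h]
  infer_instance

instance mono_push_map {Y : TopCat.{u}} (g : Y ⟶ X) {F G : CohTop.Ab Y} (f : F ⟶ G) [Mono f] :
    Mono ((CohTop.push g).map f) := inferInstance

@[reassoc]
lemma η_naturality {F G : CohTop.Ab X} (f : F ⟶ G) :
    f ≫ η U G = η U F ≫ (CohTop.push (CohCx.incl U)).map ((CohTop.pull (CohCx.incl U)).map f) :=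
  (TopCat.Sheaf.pullbackPushforwardAdjunction AddCommGrpCat.{u} (CohCx.incl U)).unit.naturality f

lemma sectSuppF_map_exact (S : ShortComplex (CohTop.Ab X)) (hS : S.ShortExact) :
    (S.map (LocCohZ.sectSuppF U)).Exact := by
  have := hS.mono_f
  apply ShortComplex.exact_of_f_is_kernel
  have key : ∀ {T : CohTop.Ab X} (x : T ⟶ (LocCohZ.sectSuppF U).obj S.X₂)
      (hx : x ≫ (LocCohZ.sectSuppF U).map S.g = 0),
      ∃ z : T ⟶ (LocCohZ.sectSuppF U).obj S.X₁, z ≫ (LocCohZ.sectSuppF U).map S.f = x := by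
    intro T x hx
    have h1 : (x ≫ ι U S.X₂) ≫ S.g = 0 := by
      rw [Category.assoc, ← sectSuppF_map_ι, reassoc_of% hx, zero_comp]
    have h2 : hS.exact.lift (x ≫ ι U S.X₂) h1 ≫ S.f = x ≫ ι U S.X₂ := hS.exact.lift_f _ _
    have h3 : hS.exact.lift (x ≫ ι U S.X₂) h1 ≫ η U S.X₁ = 0 := by
      rw [← cancel_mono ((CohTop.push (CohCx.incl U)).map ((CohTop.pull (CohCx.incl U)).map S.f)),
        Category.assoc, ← η_naturality, reassoc_of% h2, ι_comp_η, comp_zero, zero_comp]
    refine ⟨lift U _ h3, ?_⟩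
    rw [← cancel_mono (ι U S.X₂), Category.assoc, sectSuppF_map_ι, lift_ι_assoc]
    exact h2
  refine KernelFork.IsLimit.ofι _ _ (fun x hx => (key x hx).choose)
    (fun x hx => (key x hx).choose_spec) (fun x hx m hm => ?_)
  exact (cancel_mono ((LocCohZ.sectSuppF U).map S.f)).1 (hm.trans (key x hx).choose_spec.symm)

noncomputable instance preservesFiniteLimits_sectSuppF : PreservesFiniteLimits (LocCohZ.sectSuppF U) := by
  rw [Functor.preservesFiniteLimits_iff_forall_exact_map_and_mono]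
  intro S hS
  have := hS.mono_f
  exact ⟨sectSuppF_map_exact U S hS, inferInstance⟩

lemma sectSuppF_map_ι_apply {F G : CohTop.Ab X} (φ : F ⟶ G) (V : Opens X)
    (t : ((LocCohZ.sectSuppF U).obj F).obj.obj (op V)) :
    ((ι U G).hom.app (op V)).hom ((((LocCohZ.sectSuppF U).map φ).hom.app (op V)).hom t) =
      (φ.hom.app (op V)).hom (((ι U F).hom.app (op V)).hom t) :=
  ConcreteCategory.congr_hom (congrArg (fun f => f.hom.app (op V)) (sectSuppF_map_ι U φ)) t

/-- Lifting sections with support through an epimorphism with flasque kernel. -/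
theorem exists_lift_res_eq_zero (S : ShortComplex (CohTop.Ab X)) (hS : S.ShortExact)
    [TopCat.Sheaf.IsFlasque S.X₁] {W V : Opens X} (h : W ≤ V) (c : S.X₃.obj.obj (op V))
    (hc : res S.X₃ h c = 0) :
    ∃ b : S.X₂.obj.obj (op V), res S.X₂ h b = 0 ∧ (S.g.hom.app (op V)).hom b = c := by
  have hepi : Epi (S.g.hom.app (op V)) := TopCat.Sheaf.IsFlasque.epi_of_shortExact hS
  obtain ⟨b, hb⟩ := (AddCommGrpCat.epi_iff_surjective _).1 hepi c
  have hb0 : (S.g.hom.app (op W)).hom (res S.X₂ h b) = 0 := by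
    rw [app_res, hb]; exact hc
  obtain ⟨a, ha⟩ := TopCat.Sheaf.sections_exact_of_left_exact hS.exact hS.mono_f _ hb0
  obtain ⟨a', ha'⟩ := (AddCommGrpCat.epi_iff_surjective
    (S.X₁.obj.map (homOfLE h).op)).1 inferInstance a
  refine ⟨b - (S.f.hom.app (op V)).hom a', ?_, ?_⟩
  · rw [map_sub, ← app_res, sub_eq_zero, ← ha]
    exact congrArg _ ha'.symm
  · have : (S.g.hom.app (op V)).hom ((S.f.hom.app (op V)).hom a') = 0 :=
      ConcreteCategory.congr_hom (congrArg (fun f => f.hom.app (op V)) S.zero) a'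
    rw [map_sub, hb, this, sub_zero]

/-- Surjectivity on sections of `Γ_Z(B) → Γ_Z(C)` for a short exact sequence with flasque kernel. -/
theorem sectSuppF_map_app_surjective_of_flasque (S : ShortComplex (CohTop.Ab X)) (hS : S.ShortExact)
    [TopCat.Sheaf.IsFlasque S.X₁] (V : Opens X) :
    Function.Surjective (((LocCohZ.sectSuppF U).map S.g).hom.app (op V)).hom := by
  intro t
  obtain ⟨b, hb0, hb⟩ := exists_lift_res_eq_zero S hS (inf_le_left : V ⊓ U ≤ V) _
    (res_ι_apply U S.X₃ V t)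
  obtain ⟨t', ht'⟩ := exists_of_res_eq_zero U S.X₂ V _ hb0
  refine ⟨t', ?_⟩
  apply ι_app_injective U S.X₃ V
  rw [sectSuppF_map_ι_apply, ht', hb]

theorem epi_of_app_surjective {F G : CohTop.Ab X} (f : F ⟶ G)
    (h : ∀ V : Opens X, Function.Surjective (f.hom.app (op V)).hom) : Epi f := by
  have : ∀ V, Epi (f.hom.app V) := fun V => (AddCommGrpCat.epi_iff_surjective _).2 (h V.unop)
  have : Epi f.hom := NatTrans.epi_of_epi_app _
  exact Sheaf.Hom.epi_of_presheaf_epi _ _ f

theorem epi_sectSuppF_map_of_flasque (S : ShortComplex (CohTop.Ab X)) (hS : S.ShortExact)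
    [TopCat.Sheaf.IsFlasque S.X₁] : Epi ((LocCohZ.sectSuppF U).map S.g) :=
  epi_of_app_surjective _ (sectSuppF_map_app_surjective_of_flasque U S hS)

open Groth.Agent.Lib.Helper22.CohTop Groth.Agent.Lib.Helper22 in
/-- Flasque sheaves are acyclic for `Γ_Z`. -/
theorem isZero_HZsh_succ_of_flasque (q : ℕ) : ∀ (F : CohTop.Ab X) [TopCat.Sheaf.IsFlasque F],
    IsZero ((LocCohZ.HZsh U (q + 1)).obj F) := by
  induction q with
  | zero =>
    intro F _
    have : TopCat.Sheaf.IsFlasque (injSC F).X₁ := ‹_›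
    exact (DimShift.isZero_rightDerived_one_iff (LocCohZ.sectSuppF U) (injSC F)
      (injSC_shortExact F)).2 (epi_sectSuppF_map_of_flasque U (injSC F) (injSC_shortExact F))
  | succ q ih =>
    intro F _
    exact (DimShift.isZero_rightDerived_succ_succ_iff (LocCohZ.sectSuppF U) (injSC F)
      (injSC_shortExact F) q).2 (ih (injSC F).X₃)

section Ext

open Abelian

variable {U}

lemma sect0Equiv_apply (F : CohTop.Ab X) {W V : Opens X} (h : W ≤ V) (x : LocCohZ.HZ F 0 h) :
    (LocCohZ.sect0Equiv F h x).1 = CohFree.evalGen (Opens.grothendieckTopology X) V F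
      (cokernel.π (CohCx.freeSheafMap (Opens.grothendieckTopology X) (homOfLE h)) ≫
        Ext.addEquiv₀ x) := rfl

lemma sect0Equiv_comp_mk₀ {F G : CohTop.Ab X} (φ : F ⟶ G) {W V : Opens X} (h : W ≤ V)
    (x : LocCohZ.HZ F 0 h) :
    (LocCohZ.sect0Equiv G h (x.comp (Ext.mk₀ φ) (add_zero 0))).1 =
      (φ.hom.app (op V)).hom (LocCohZ.sect0Equiv F h x).1 := by
  rw [sect0Equiv_apply, sect0Equiv_apply]
  have : Ext.addEquiv₀ (x.comp (Ext.mk₀ φ) (add_zero 0)) = Ext.addEquiv₀ x ≫ φ := by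
    apply Ext.addEquiv₀.symm.injective
    rw [AddEquiv.symm_apply_apply, Ext.addEquiv₀_symm_apply, ← Ext.mk₀_comp_mk₀,
      Ext.mk₀_addEquiv₀_apply]
  rw [this, ← Category.assoc]
  rfl

open Groth.Agent.Lib.Helper22.CohTop in
theorem liftsFlasque_zq {W V : Opens X} (h : W ≤ V) : LiftsFlasque (LocCohZ.zq h) := by
  intro S hS _ y
  obtain ⟨b, hb0, hb⟩ := exists_lift_res_eq_zero S hS h (LocCohZ.sect0Equiv S.X₃ h y).1
    (LocCohZ.sect0Equiv S.X₃ h y).2
  refine ⟨(LocCohZ.sect0Equiv S.X₂ h).symm ⟨b, hb0⟩, ?_⟩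
  apply (LocCohZ.sect0Equiv S.X₃ h).injective
  apply Subtype.ext
  rw [sect0Equiv_comp_mk₀, AddEquiv.apply_symm_apply]
  exact hb

open Groth.Agent.Lib.Helper22.CohTop in
theorem subsingleton_HZ_succ_of_flasque (F : CohTop.Ab X) [TopCat.Sheaf.IsFlasque F]
    {W V : Opens X} (h : W ≤ V) (n : ℕ) : Subsingleton (LocCohZ.HZ F (n + 1) h) :=
  subsingleton_ext_succ_of_flasque (liftsFlasque_zq h) n F

end Ext

end Groth.Agent.Lib.Helper5.SectSupp
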