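import Groth.Agent.Lib.Helper22.Cech.SiteLeray

/-!
# Global cohomology is cohomology over a terminal object
-/

set_option autoImplicit false

universe u

open CategoryTheory CategoryTheory.Limits Opposite Abelian

namespace Groth.Agent.Lib.Helper5.HTerminal

open Groth.Agent.Lib.Helper22.ExtCompare

variable {C : Type u} [SmallCategory C] (J : GrothendieckTopology C) {T : C} (hT : IsTerminal T)

/-- The degree zero comparison datum between `Hom(ℤ, -)` and `Hom(ℤ_T, -)`. -/
noncomputable def deg0 :
    Deg0Iso (𝟭 (Sheaf J AddCommGrpCat.{u}))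
      ((constantSheaf J AddCommGrpCat.{u}).obj (AddCommGrpCat.of (ULift ℤ)))
      (CohCx.freeSheaf J T) where
  e G := (Sheaf.H.equiv₀ G hT).trans ((CohFree.homEquivSect J T G).symm.trans Ext.addEquiv₀.symm)
  nat := by
    intro G G' g x
    have h1 : x.comp (Ext.mk₀ g) (add_zero 0) = Sheaf.H.map g 0 x := rfl
    simp only [AddEquiv.trans_apply, Ext.addEquiv₀_symm_apply]
    rw [h1, ← Sheaf.H.equiv₀_naturality, Ext.mk₀_comp_mk₀]
    congr 1
    apply (CohFree.homEquivSect J T G').injective
    rw [AddEquiv.apply_symm_apply]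
    refine Eq.trans ?_ (Groth.Agent.Lib.Helper22.Cech.Site.homEquivSect_naturality_right T _ g).symm
    rw [AddEquiv.apply_symm_apply]

include hT in
/-- `H^n(C, F) ≃ H^n(T, F)` for a terminal object `T`. -/
theorem nonempty_H_addEquiv_HU (F : Sheaf J AddCommGrpCat.{u}) (n : ℕ) :
    Nonempty (Sheaf.H F n ≃+ CohSite.HU F n T) :=
  nonempty_ext_addEquiv (deg0 J hT) (fun _ => True)
    (fun G _ => (injSC_shortExact G).map_of_exact (𝟭 _))
    (fun _ _ => trivial)
    (fun G _ n x => by
      haveI : Injective ((𝟭 (Sheaf J AddCommGrpCat.{u})).obj (injSC G).X₂) :=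
        inferInstanceAs (Injective (injSC G).X₂)
      exact Ext.eq_zero_of_injective x)
    n F trivial

end Groth.Agent.Lib.Helper5.HTerminal
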