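import Groth.Prelude.Def_CohCmp
import Groth.Agent.Lib.Helper5.RpushAb
import Groth.Agent.Lib.Helper28.DCohRes1

/-!
# The comparison `H^p(f⁻¹V, F) → Γ(V, R^p f_* F)` is locally surjective
-/

set_option autoImplicit false
set_option linter.unusedSectionVars false

universe u

open CategoryTheory CategoryTheory.Limits Opposite TopologicalSpace AlgebraicGeometry
  AlgebraicGeometry.Scheme.Modules

namespace Groth.Agent.Lib.Helper5.SectCmpSurj

open Groth.Agent.Lib.Helper22 Groth.Agent.Lib.Helper22.DimShift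

variable {X Y : Scheme.{u}}

/-- naturality of the action of a morphism of modules on sections -/
lemma app_map {M N : Y.Modules} (ψ : M ⟶ N) {V W : Y.Opens} (hWV : W ≤ V)
    (t : M.presheaf.obj (op V)) :
    ψ.app W (M.presheaf.map (homOfLE hWV).op t) = N.presheaf.map (homOfLE hWV).op (ψ.app V t) := by
  have := ψ.mapPresheaf.naturality (homOfLE hWV).op
  exact congrArg (fun k => k.hom t) this

/-- an epimorphism of modules is locally surjective on sections -/
lemma exists_local_lift {M N : Y.Modules} (ψ : M ⟶ N) [Epi ψ] (V : Y.Opens)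
    (t : N.presheaf.obj (op V)) (y : Y) (hy : y ∈ V) :
    ∃ (W : Y.Opens) (hWV : W ≤ V), y ∈ W ∧ ∃ s : M.presheaf.obj (op W),
      ψ.app W s = N.presheaf.map (homOfLE hWV).op t := by
  have hepi : Epi ((RpushAb.TT Y).map ψ) := inferInstance
  have h := (TopCat.Sheaf.isLocallySurjective_iff_epi ((RpushAb.TT Y).map ψ)).mpr hepi
  rw [TopCat.Presheaf.isLocallySurjective_iff] at h
  obtain ⟨W, hWV, ⟨s, hs⟩, hyW⟩ := h V t y hy
  exact ⟨W, hWV, hyW, s, hs⟩

/-- short exact sequences of modules restrict to short exact sequences of abelian sheaves -/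
lemma shortExact_toAbOn (U : X.Opens) {S : ShortComplex X.Modules} (hS : S.ShortExact) :
    (S.map (CohCmp.toAbOn X U)).ShortExact := by
  haveI : PreservesFiniteLimits (SheafOfModules.toSheaf (U : Scheme.{u}).ringCatSheaf) :=
    RpushAb.preservesFiniteLimits_TT _
  haveI : PreservesFiniteColimits (SheafOfModules.toSheaf (U : Scheme.{u}).ringCatSheaf) :=
    RpushAb.preservesFiniteColimits_TT _
  haveI : PreservesFiniteLimits (CohCmp.toAbOn X U) := comp_preservesFiniteLimits _ _
  haveI : PreservesFiniteColimits (CohCmp.toAbOn X U) := comp_preservesFiniteColimits _ _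
  exact hS.map_of_exact (CohCmp.toAbOn X U)

variable (f : X ⟶ Y) [HasInjectiveResolutions X.Modules]
  {Δ : RDer.DerivedLES (pushforward f)} (E : CohCmp.SectCmp f Δ)

instance : PreservesFiniteLimits (pushforward f) := by
  haveI := (Scheme.Modules.pullbackPushforwardAdjunction f).rightAdjoint_preservesLimits
  infer_instance

theorem locally_surjective (p : ℕ) : ∀ (F : X.Modules) (V : Y.Opens)
    (t : ((Coh.Rpush f p).obj F).presheaf.obj (op V)) (y : Y) (_ : y ∈ V),
    ∃ (W : Y.Opens) (hWV : W ≤ V), y ∈ W ∧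
      ∃ x : Coh.HHon X F (f ⁻¹ᵁ W) p,
        E.ε W F p x = ((Coh.Rpush f p).obj F).presheaf.map (homOfLE hWV).op t := by
  haveI : EnoughInjectives X.Modules :=
    Groth.Agent.S0485.result (Opens.grothendieckTopology X) X.ringCatSheaf
  induction p with
  | zero =>
    intro F V t y hy
    refine ⟨V, le_rfl, hy, ?_⟩
    have hiso : IsIso ((pushforward f).toRightDerivedZero.app F) := inferInstance
    let e := asIso ((pushforward f).toRightDerivedZero.app F)
    let s : F.presheaf.obj (op (f ⁻¹ᵁ V)) := e.inv.app V t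
    refine ⟨CohPull.sectH0 F (f ⁻¹ᵁ V) s, ?_⟩
    rw [E.zero]
    have h1 : ((pushforward f).toRightDerivedZero.app F).app V (e.inv.app V t) = t := by
      have h2 : e.inv ≫ (pushforward f).toRightDerivedZero.app F = 𝟙 _ := e.inv_hom_id
      have h3 := congrArg (fun k => Scheme.Modules.Hom.app k V) h2
      exact congrArg (fun k => k.hom t) h3
    have h4 : ((Coh.Rpush f 0).obj F).presheaf.map (homOfLE (le_refl V)).op t = t := by
      have : (homOfLE (le_refl V)).op = 𝟙 (op V) := rfl
      rw [this, CategoryTheory.Functor.map_id]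
      rfl
    rw [h4]
    exact h1
  | succ p ih =>
    intro F V t y hy
    have hS := injSC_shortExact F
    have hz : IsZero ((Coh.Rpush f (p + 1)).obj (injSC F).X₂) :=
      Functor.isZero_rightDerived_obj_injective_succ _ p _
    have hex := Δ.exact₁ (injSC F) hS p (p + 1) rfl
    haveI hepi : Epi (Δ.δ (injSC F) hS p (p + 1) rfl) := hex.epi_f (hz.eq_of_tgt _ _)
    obtain ⟨W, hWV, hyW, t', ht'⟩ := exists_local_lift (Δ.δ (injSC F) hS p (p + 1) rfl) V t y hy
    obtain ⟨W', hW'W, hyW', x', hx'⟩ := ih (injSC F).X₃ W t' y hyW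
    refine ⟨W', hW'W.trans hWV, hyW', ?_⟩
    have hA := shortExact_toAbOn (f ⁻¹ᵁ W') hS
    refine ⟨CohCmp.extδ hA p x', ?_⟩
    rw [E.delta W' (injSC F) hS hA p x', hx', app_map, ht']
    rw [← CategoryTheory.Functor.map_comp_apply]
    rfl

end Groth.Agent.Lib.Helper5.SectCmpSurj
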