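import Groth.Prelude.Def_CohCmp
import Groth.Agent.Lib.Helper5.SectCmpSurj
import Groth.Agent.Lib.Helper5.CompAcyclic
import Groth.Agent.Lib.Helper5.HZKoszul
import Groth.Agent.Lib.Helper5.HTerminal
import Groth.Agent.Lib.Helper5.ModAcyclic
import Groth.Agent.Lib.Helper5.PushAcyclic
import Groth.Agent.Lib.Helper22.FourTerm
import Groth.Agent.Lib.Helper22.CohTop.Leray
import Groth.Agent.Lib.Helper22.CohTop.LerayAcyclicBase
import Groth.Agent.S0030
import Groth.Agent.S0007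

/-!
# The comparison `H^q(f⁻¹ S, F) → Γ(S, R^q f_* F)` is bijective over an acyclic base
-/

set_option autoImplicit false
set_option linter.unusedSectionVars false

universe u

open CategoryTheory CategoryTheory.Limits Opposite TopologicalSpace AlgebraicGeometry
  AlgebraicGeometry.Scheme.Modules Abelian

namespace Groth.Agent.Lib.Helper5.SectCmpAffine

open Groth.Agent.Lib.Helper22 Groth.Agent.Lib.Helper22.DimShift
  Groth.Agent.Lib.Helper5.SectCmpSurj

lemma comp_g_extClass {𝒞 : Type*} [Category 𝒞] [Abelian 𝒞] [HasExt 𝒞] {A : ShortComplex 𝒞}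
    (hA : A.ShortExact) {Z : 𝒞} (x : Ext Z A.X₂ 0) :
    (x.comp (Ext.mk₀ A.g) (add_zero 0)).comp hA.extClass (rfl : 0 + 1 = 1) = 0 := by
  rw [Ext.comp_assoc_of_second_deg_zero, hA.comp_extClass, Ext.comp_zero]

variable {X S : Scheme.{u}}

instance (X : Scheme.{u}) : EnoughInjectives X.Modules :=
  Groth.Agent.S0485.result (Opens.grothendieckTopology X) X.ringCatSheaf

/-- the forgetful functor to abelian sheaves -/
noncomputable abbrev T (S : Scheme.{u}) := RpushAb.TT S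

/-! ### Acyclicity on the base -/

/-- vanishing of the higher cohomology of the underlying abelian sheaf -/
def P (N : S.Modules) : Prop := ∀ (a : ℕ) (x : Sheaf.H (Coh.toAb N) (a + 1)), x = 0

lemma P_of_iso {N N' : S.Modules} (e : N ≅ N') (h : P N) : P N' := fun a =>
  CohTop.ext_eq_zero_of_iso ((T S).mapIso e) (a + 1) (h a)

lemma P_X₃ {A : ShortComplex S.Modules} (hA : A.ShortExact) (h1 : P A.X₁) (h2 : P A.X₂) :
    P A.X₃ := fun a =>
  ExtCompare.ext_eq_zero_X₃ (hA.map_of_exact (T S)) _ (a + 1) (h2 a) (h1 (a + 1))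

lemma P_X₂ {A : ShortComplex S.Modules} (hA : A.ShortExact) (h1 : P A.X₁) (h3 : P A.X₃) :
    P A.X₂ := fun a =>
  ExtCompare.ext_eq_zero_X₂ (hA.map_of_exact (T S)) _ (a + 1) (h1 a) (h3 a)

variable (f : X ⟶ S)

/-- the direct image of an injective module is acyclic -/
lemma P_push_injective (I : X.Modules) [hI : Injective I] : P ((pushforward f).obj I) := by
  intro a x
  have hta : CohCx.IsTotallyAcyclic (Coh.toAb I) :=
    @ModAcyclic.isTotallyAcyclic_toSheaf _ _ _ X.ringCatSheaf I hI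
  obtain ⟨e⟩ := CohTop.leray_degenerate f.base (Coh.toAb I)
    (fun q => RpushAb.isZero_RpushA_succ (Opens.grothendieckTopology X)
      (Opens.grothendieckTopology S) (Opens.map f.base) q _ hta) (a + 1)
  obtain ⟨e2⟩ := HTerminal.nonempty_H_addEquiv_HU (Opens.grothendieckTopology X)
    (isTerminalTop : IsTerminal (⊤ : Opens X)) (Coh.toAb I) (a + 1)
  have hs : Subsingleton (CohSite.HU (Coh.toAb I) (a + 1) (⊤ : Opens X)) :=
    PushAcyclic.subsingleton_ext_freeSheaf _ _ hta ⊤ a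
  have hs2 : Subsingleton (Sheaf.H (Coh.toAb I) (a + 1)) := e2.toEquiv.subsingleton
  have hs3 : Subsingleton (CohTop.H ((CohTop.push f.base).obj (Coh.toAb I)) (a + 1)) :=
    e.symm.toEquiv.subsingleton
  exact hs3.elim x 0

variable [HasInjectiveResolutions X.Modules]

/-- all higher direct images are acyclic on the base -/
def BA (F : X.Modules) : Prop := ∀ q : ℕ, P ((Coh.Rpush f q).obj F)

variable {f}

lemma BA.quot {F : X.Modules} (hF : BA f F) : BA f (injSC F).X₃ := by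
  intro q
  cases q with
  | zero =>
    have hFM : P ((pushforward f).obj F) :=
      P_of_iso ((pushforward f).rightDerivedZeroIsoSelf.app F) (hF 0)
    have hK : P (CompAcyclic.S1 (pushforward f) F).X₃ :=
      P_X₃ (CompAcyclic.S1_shortExact (pushforward f) F) hFM
        (P_push_injective f (injSC F).X₂)
    have hC : P (cokernel ((pushforward f).map (injSC F).g)) :=
      P_of_iso (rightDerivedOneIso (pushforward f) (injSC F) (injSC_shortExact F)) (hF 1)
    have hQ : P ((pushforward f).obj (injSC F).X₃) :=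
      P_X₂ (CompAcyclic.S2_shortExact (pushforward f) F) hK hC
    exact P_of_iso ((pushforward f).rightDerivedZeroIsoSelf.app _).symm hQ
  | succ q =>
    exact P_of_iso (rightDerivedSuccSuccIso (pushforward f) (injSC F) (injSC_shortExact F) q)
      (hF (q + 2))

/-! ### Sections and degree zero cohomology -/

/-- exactness of global sections along a four-term exact sequence with acyclic left part -/
lemma sections_exact {K A B C : S.Modules} (i : K ⟶ A) (φ : A ⟶ B) (π : B ⟶ C) [Mono i] [Epi π]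
    (w₁ : i ≫ φ = 0) (w₂ : φ ≫ π = 0) (h₁ : (ShortComplex.mk i φ w₁).Exact)
    (h₂ : (ShortComplex.mk φ π w₂).Exact) (hK : P K) (hA : P A) :
    (∀ t : C.presheaf.obj (op ⊤), ∃ s : B.presheaf.obj (op ⊤), π.app ⊤ s = t) ∧
      (∀ s : B.presheaf.obj (op ⊤), π.app ⊤ s = 0 →
        ∃ r : A.presheaf.obj (op ⊤), φ.app ⊤ r = s) := by
  haveI : (T S).PreservesHomology := Functor.preservesHomologyOfExact _
  haveI : Mono ((T S).map i) := inferInstance
  haveI : Epi ((T S).map π) := inferInstance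
  have w₁' : (T S).map i ≫ (T S).map φ = 0 := by
    rw [← (T S).map_comp, w₁, (T S).map_zero]
  have w₂' : (T S).map φ ≫ (T S).map π = 0 := by
    rw [← (T S).map_comp, w₂, (T S).map_zero]
  have h₁' : (ShortComplex.mk ((T S).map i) ((T S).map φ) w₁').Exact := h₁.map (T S)
  have h₂' : (ShortComplex.mk ((T S).map φ) ((T S).map π) w₂').Exact := h₂.map (T S)
  obtain ⟨hex1, hex2⟩ := ExtCompare.FourTerm.hom_exact ((T S).map i) ((T S).map φ) ((T S).map π)
    w₁' w₂' h₁' h₂' (CohTop.constZ S.carrier) (hK 0) (hK 1) (hA 0)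
  have hT : IsTerminal (⊤ : Opens S) := isTerminalTop
  constructor
  · intro t
    obtain ⟨s₀, hs₀⟩ := hex1 (Ext.homEquiv₀ ((Sheaf.H.equiv₀ (Coh.toAb C) hT).symm t))
    refine ⟨Sheaf.H.equiv₀ (Coh.toAb B) hT (Ext.mk₀ s₀), ?_⟩
    have h1 := Sheaf.H.equiv₀_naturality (hT := hT) ((T S).map π) (Ext.mk₀ s₀)
    refine h1.trans ?_
    rw [Sheaf.H.map_apply, Ext.mk₀_comp_mk₀, hs₀, Ext.mk₀_homEquiv₀_apply,
      AddEquiv.apply_symm_apply]
  · intro s hs
    obtain ⟨s₀, hs₀⟩ : ∃ s₀, (Sheaf.H.equiv₀ (Coh.toAb B) hT).symm s = Ext.mk₀ s₀ :=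
      ⟨Ext.homEquiv₀ _, (Ext.mk₀_homEquiv₀_apply _).symm⟩
    have hs' : s = Sheaf.H.equiv₀ (Coh.toAb B) hT (Ext.mk₀ s₀) := by
      rw [← hs₀, AddEquiv.apply_symm_apply]
    have h1 := Sheaf.H.equiv₀_naturality (hT := hT) ((T S).map π) (Ext.mk₀ s₀)
    have h2 : Sheaf.H.equiv₀ (Coh.toAb C) hT (Sheaf.H.map ((T S).map π) 0 (Ext.mk₀ s₀)) = 0 := by
      rw [← h1, ← hs']
      exact hs
    rw [Sheaf.H.map_apply, Ext.mk₀_comp_mk₀] at h2
    have h3 : Ext.mk₀ (s₀ ≫ (T S).map π) = (0 : Ext (CohTop.constZ S.carrier) (Coh.toAb C) 0) := by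
      apply (Sheaf.H.equiv₀ (Coh.toAb C) hT).injective
      rw [map_zero]
      exact h2
    have h4 : s₀ ≫ (T S).map π = 0 := by
      apply (Ext.mk₀_bijective _ _).1
      rw [h3, Ext.mk₀_zero]
    obtain ⟨r₀, hr₀⟩ := hex2 s₀ h4
    refine ⟨Sheaf.H.equiv₀ (Coh.toAb A) hT (Ext.mk₀ r₀), ?_⟩
    have h5 := Sheaf.H.equiv₀_naturality (hT := hT) ((T S).map φ) (Ext.mk₀ r₀)
    refine h5.trans ?_
    rw [Sheaf.H.map_apply, Ext.mk₀_comp_mk₀, hr₀, hs']

/-- an isomorphism of modules is bijective on sections -/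
lemma bijective_app_of_isIso {M N : S.Modules} (ψ : M ⟶ N) [IsIso ψ] (V : S.Opens) :
    Function.Bijective (fun s : M.presheaf.obj (op V) => ψ.app V s) := by
  rw [Function.bijective_iff_has_inverse]
  refine ⟨fun t => (inv ψ).app V t, fun s => ?_, fun t => ?_⟩
  · have h2 : ψ ≫ inv ψ = 𝟙 _ := IsIso.hom_inv_id ψ
    have h3 := congrArg (fun k => Scheme.Modules.Hom.app k V) h2
    exact congrArg (fun k => k.hom s) h3
  · have h2 : inv ψ ≫ ψ = 𝟙 _ := IsIso.inv_hom_id ψ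
    have h3 := congrArg (fun k => Scheme.Modules.Hom.app k V) h2
    exact congrArg (fun k => k.hom t) h3

/-! ### Vanishing over opens for injective modules -/

lemma HHon_eq_zero_of_injective (I : X.Modules) [hI : Injective I] (U : X.Opens) (p : ℕ)
    (x : Coh.HHon X I U (p + 1)) : x = 0 := by
  have hta : CohCx.IsTotallyAcyclic (Coh.toAb I) :=
    @ModAcyclic.isTotallyAcyclic_toSheaf _ _ _ X.ringCatSheaf I hI
  have hs : Subsingleton (CohSite.HU (Coh.toAb I) (p + 1) U) :=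
    PushAcyclic.subsingleton_ext_freeSheaf _ _ hta U p
  obtain ⟨e⟩ := HZKoszul.nonempty_HU_addEquiv_HHon I U (p + 1)
  have hs2 : Subsingleton (Coh.HHon X I U (p + 1)) := e.symm.toEquiv.subsingleton
  exact hs2.elim x 0

/-! ### The main induction -/

variable {Δ : RDer.DerivedLES (pushforward f)} (E : CohCmp.SectCmp f Δ)

theorem bijective_zero (F : X.Modules) : Function.Bijective (E.ε ⊤ F 0) := by
  have hiso : IsIso ((pushforward f).toRightDerivedZero.app F) := inferInstance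
  have hb := bijective_app_of_isIso ((pushforward f).toRightDerivedZero.app F) ⊤
  have heq : ∀ x, E.ε ⊤ F 0 x =
      ((pushforward f).toRightDerivedZero.app F).app ⊤ ((CohPull.sectH0 F (f ⁻¹ᵁ ⊤)).symm x) := by
    intro x
    have := E.zero ⊤ F ((CohPull.sectH0 F (f ⁻¹ᵁ ⊤)).symm x)
    rw [AddEquiv.apply_symm_apply] at this
    exact this
  constructor
  · intro x x' hxx
    rw [heq, heq] at hxx
    exact (CohPull.sectH0 F (f ⁻¹ᵁ ⊤)).symm.injective (hb.1 hxx)
  · intro t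
    obtain ⟨s, hs⟩ := hb.2 t
    refine ⟨CohPull.sectH0 F (f ⁻¹ᵁ ⊤) s, ?_⟩
    rw [E.zero]
    exact hs

theorem bijective_one (F : X.Modules) (hF : BA f F) : Function.Bijective (E.ε ⊤ F 1) := by
  have hS := injSC_shortExact F
  have hA := shortExact_toAbOn (f ⁻¹ᵁ ⊤) hS
  have hz : IsZero ((Coh.Rpush f 1).obj (injSC F).X₂) :=
    Functor.isZero_rightDerived_obj_injective_succ _ 0 _
  haveI hepi : Epi (Δ.δ (injSC F) hS 0 1 rfl) :=
    (Δ.exact₁ (injSC F) hS 0 1 rfl).epi_f (hz.eq_of_tgt _ _)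
  haveI hmono : Mono ((Coh.Rpush f 0).map (injSC F).f) := by
    haveI : Mono (injSC F).f := hS.mono_f
    infer_instance
  have w₁ : (Coh.Rpush f 0).map (injSC F).f ≫ (Coh.Rpush f 0).map (injSC F).g = 0 := by
    rw [← Functor.map_comp, (injSC F).zero, Functor.map_zero]
  have hPI : P ((Coh.Rpush f 0).obj (injSC F).X₂) :=
    P_of_iso ((pushforward f).rightDerivedZeroIsoSelf.app _).symm
      (P_push_injective f (injSC F).X₂)
  obtain ⟨hex1, hex2⟩ := sections_exact ((Coh.Rpush f 0).map (injSC F).f)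
    ((Coh.Rpush f 0).map (injSC F).g) (Δ.δ (injSC F) hS 0 1 rfl) w₁
    (Δ.comp_δ (injSC F) hS 0 1 rfl) (Δ.exact₂ (injSC F) hS 0) (Δ.exact₃ (injSC F) hS 0 1 rfl)
    (hF 0) hPI
  have hbQ := bijective_zero E (injSC F).X₃
  have hbI := bijective_zero E (injSC F).X₂
  constructor
  · rw [injective_iff_map_eq_zero]
    intro x hx
    have hx1 : x.comp (Ext.mk₀ ((injSC F).map (CohCmp.toAbOn X (f ⁻¹ᵁ ⊤))).f) (add_zero 1) = 0 :=
      HHon_eq_zero_of_injective (injSC F).X₂ (f ⁻¹ᵁ ⊤) 0 _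
    obtain ⟨x', hx'⟩ := Ext.covariant_sequence_exact₁ _ hA x hx1 (rfl : 0 + 1 = 1)
    have hd := E.delta ⊤ (injSC F) hS hA 0 x'
    have hx'' : CohCmp.extδ hA 0 x' = x := hx'
    rw [hx'', hx] at hd
    obtain ⟨r, hr⟩ := hex2 _ hd.symm
    obtain ⟨x₂, hx₂⟩ := hbI.2 r
    have hn := E.natural ⊤ (injSC F).g 0 x₂
    rw [hx₂, hr] at hn
    have hx₃ := hbQ.1 hn
    rw [← hx', ← hx₃]
    exact comp_g_extClass hA x₂
  · intro t
    obtain ⟨t', ht'⟩ := hex1 t
    obtain ⟨x', hx'⟩ := hbQ.2 t'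
    refine ⟨CohCmp.extδ hA 0 x', ?_⟩
    rw [E.delta ⊤ (injSC F) hS hA 0 x', hx', ht']

theorem bijective_succ_succ (q : ℕ) (F : X.Modules)
    (hQ : Function.Bijective (E.ε ⊤ (injSC F).X₃ (q + 1))) :
    Function.Bijective (E.ε ⊤ F (q + 2)) := by
  have hS := injSC_shortExact F
  have hA := shortExact_toAbOn (f ⁻¹ᵁ ⊤) hS
  have hz1 : IsZero ((Coh.Rpush f (q + 1)).obj (injSC F).X₂) :=
    Functor.isZero_rightDerived_obj_injective_succ _ q _
  have hz2 : IsZero ((Coh.Rpush f (q + 2)).obj (injSC F).X₂) :=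
    Functor.isZero_rightDerived_obj_injective_succ _ (q + 1) _
  haveI hepi : Epi (Δ.δ (injSC F) hS (q + 1) (q + 2) rfl) :=
    (Δ.exact₁ (injSC F) hS (q + 1) (q + 2) rfl).epi_f (hz2.eq_of_tgt _ _)
  haveI hmono : Mono (Δ.δ (injSC F) hS (q + 1) (q + 2) rfl) :=
    (Δ.exact₃ (injSC F) hS (q + 1) (q + 2) rfl).mono_g (hz1.eq_of_src _ _)
  haveI hiso : IsIso (Δ.δ (injSC F) hS (q + 1) (q + 2) rfl) := isIso_of_mono_of_epi _
  have hbδ := bijective_app_of_isIso (Δ.δ (injSC F) hS (q + 1) (q + 2) rfl) ⊤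
  have hbe : Function.Bijective (CohCmp.extδ hA (q + 1)) :=
    (ExtCompare.shiftEquiv hA (CohTop.const (f ⁻¹ᵁ ⊤ : Scheme.{u}) (ULift.{u} ℤ)) q
      (fun x => HHon_eq_zero_of_injective (injSC F).X₂ (f ⁻¹ᵁ ⊤) q x)
      (fun x => HHon_eq_zero_of_injective (injSC F).X₂ (f ⁻¹ᵁ ⊤) (q + 1) x)).bijective
  have hd : ∀ x', E.ε ⊤ F (q + 2) (CohCmp.extδ hA (q + 1) x') =
      (Δ.δ (injSC F) hS (q + 1) (q + 2) rfl).app ⊤ (E.ε ⊤ (injSC F).X₃ (q + 1) x') :=
    fun x' => E.delta ⊤ (injSC F) hS hA (q + 1) x'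
  constructor
  · intro x y hxy
    obtain ⟨x', rfl⟩ := hbe.2 x
    obtain ⟨y', rfl⟩ := hbe.2 y
    rw [hd, hd] at hxy
    rw [hQ.1 (hbδ.1 hxy)]
  · intro t
    obtain ⟨t', ht'⟩ := hbδ.2 t
    obtain ⟨x', hx'⟩ := hQ.2 t'
    refine ⟨CohCmp.extδ hA (q + 1) x', ?_⟩
    rw [hd, hx']
    exact ht'

theorem bijective_of_BA : ∀ (q : ℕ) (F : X.Modules), BA f F → Function.Bijective (E.ε ⊤ F q)
  | 0, F, _ => bijective_zero E F
  | 1, F, hF => bijective_one E F hF
  | q + 2, F, hF => bijective_succ_succ E q F (bijective_of_BA (q + 1) _ hF.quot)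

/-- quasi-coherent modules over a quasi-compact quasi-separated morphism to an affine scheme have
acyclic higher direct images -/
theorem BA_of_isQuasicoherent [QuasiCompact f] [QuasiSeparated f] [IsAffine S] (F : X.Modules)
    [F.IsQuasicoherent] : BA f F := by
  intro q a x
  haveI : ((Coh.Rpush f q).obj F).IsQuasicoherent := Groth.Agent.S0030.result f F q
  have hs : Subsingleton (Coh.HH S ((Coh.Rpush f q).obj F) (a + 1)) :=
    Groth.Agent.S0007.result S _ (a + 1) (by omega)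
  exact hs.elim x 0

end Groth.Agent.Lib.Helper5.SectCmpAffine
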