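import Groth.Prelude.Def_CohPull
import Groth.Agent.Lib.Helper5.SectCmpAffine
import Groth.Agent.Lib.Helper5.RpushAb
import Groth.Agent.S0028

/-!
# The edge map `H^p(Y, f_* G) → H^p(X, G)`

* topological part: `pullAb` is natural and compatible with connecting maps; the edge map
  `edge f G p` (pull back, then the counit of `f⁻¹ ⊣ f_*`) is natural, compatible with connecting
  maps, bijective in degree zero, and satisfies a dimension shifting step;
* scheme part: `CohPull.pushEdge f G p = edge f.base (toAb G) p`, and `pushEdge` is bijective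
  when all higher direct images of `G` vanish.
-/

set_option autoImplicit false
set_option linter.unusedSectionVars false

universe u

open CategoryTheory CategoryTheory.Limits Opposite TopologicalSpace AlgebraicGeometry Abelian

namespace Groth.Agent.Lib.Helper5.PushEdge

lemma comp_g_extClass' {𝒞 : Type*} [Category 𝒞] [Abelian 𝒞] [HasExt 𝒞] {A : ShortComplex 𝒞}
    (hA : A.ShortExact) {Z : 𝒞} {p : ℕ} (x : Ext Z A.X₂ p) :
    (x.comp (Ext.mk₀ A.g) (add_zero p)).comp hA.extClass (rfl : p + 1 = p + 1) = 0 := by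
  rw [Ext.comp_assoc_of_second_deg_zero, hA.comp_extClass, Ext.comp_zero]

section Top

variable {X Y : TopCat.{u}} (f : X ⟶ Y)

lemma pullAb_apply (M : CohTop.Ab Y) (p : ℕ) (x : Sheaf.H M p) :
    CohPull.pullAb f M p x =
      (Ext.mk₀ (CohPull.oneTo f)).comp (x.mapExactFunctor (CohPull.inv f)) (zero_add p) := rfl

lemma pullAb_map {M M' : CohTop.Ab Y} (φ : M ⟶ M') (p : ℕ) (x : Sheaf.H M p) :
    CohPull.pullAb f M' p (Sheaf.H.map φ p x) =
      Sheaf.H.map ((CohPull.inv f).map φ) p (CohPull.pullAb f M p x) := by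
  rw [pullAb_apply, pullAb_apply, Sheaf.H.map_apply, Sheaf.H.map_apply,
    Ext.mapExactFunctor_comp, Ext.mapExactFunctor_mk₀, Ext.comp_assoc_of_third_deg_zero]

lemma pullAb_extClass {S : ShortComplex (CohTop.Ab Y)} (hS : S.ShortExact) (p : ℕ)
    (x : Sheaf.H S.X₃ p) :
    CohPull.pullAb f S.X₁ (p + 1) (x.comp hS.extClass rfl) =
      (CohPull.pullAb f S.X₃ p x).comp (hS.map_of_exact (CohPull.inv f)).extClass rfl := by
  rw [pullAb_apply, pullAb_apply, Ext.mapExactFunctor_comp, Ext.mapExactFunctor_extClass]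
  exact (Ext.comp_assoc _ _ _ (zero_add p) rfl (by omega)).symm

/-- the counit of `f⁻¹ ⊣ f_*` -/
noncomputable abbrev cu (G : CohTop.Ab X) : (CohPull.inv f).obj ((CohTop.push f).obj G) ⟶ G :=
  (CohPull.invPushAdj f).counit.app G

lemma cu_naturality {G G' : CohTop.Ab X} (φ : G ⟶ G') :
    (CohPull.inv f).map ((CohTop.push f).map φ) ≫ cu f G' = cu f G ≫ φ :=
  (CohPull.invPushAdj f).counit.naturality φ

/-- the edge map `H^p(Y, f_* G) → H^p(X, G)` for abelian sheaves -/
noncomputable def edge (G : CohTop.Ab X) (p : ℕ) :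
    Sheaf.H ((CohTop.push f).obj G) p →+ Sheaf.H G p :=
  (Sheaf.H.map (cu f G) p).comp (CohPull.pullAb f ((CohTop.push f).obj G) p)

lemma edge_apply (G : CohTop.Ab X) (p : ℕ) (x : Sheaf.H ((CohTop.push f).obj G) p) :
    edge f G p x = Sheaf.H.map (cu f G) p (CohPull.pullAb f ((CohTop.push f).obj G) p x) := rfl

lemma edge_map {G G' : CohTop.Ab X} (φ : G ⟶ G') (p : ℕ)
    (x : Sheaf.H ((CohTop.push f).obj G) p) :
    edge f G' p (Sheaf.H.map ((CohTop.push f).map φ) p x) = Sheaf.H.map φ p (edge f G p x) := by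
  rw [edge_apply, edge_apply, pullAb_map, ← Sheaf.H.map_comp_apply, ← Sheaf.H.map_comp_apply,
    cu_naturality]

/-- the morphism of short complexes given by the counit -/
noncomputable def cuSC (S : ShortComplex (CohTop.Ab X)) :
    (S.map (CohTop.push f)).map (CohPull.inv f) ⟶ S where
  τ₁ := cu f S.X₁
  τ₂ := cu f S.X₂
  τ₃ := cu f S.X₃
  comm₁₂ := (cu_naturality f S.f).symm
  comm₂₃ := (cu_naturality f S.g).symm

lemma edge_extClass {S : ShortComplex (CohTop.Ab X)} (hS : S.ShortExact)
    (hS' : (S.map (CohTop.push f)).ShortExact) (p : ℕ)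
    (x : Sheaf.H ((CohTop.push f).obj S.X₃) p) :
    edge f S.X₁ (p + 1) (x.comp hS'.extClass rfl) = (edge f S.X₃ p x).comp hS.extClass rfl := by
  rw [edge_apply, edge_apply]
  have h1 := pullAb_extClass f hS' p x
  have h2 := ShortComplex.ShortExact.extClass_naturality (hS'.map_of_exact (CohPull.inv f)) hS
    (cuSC f S)
  rw [Sheaf.H.map_apply, Sheaf.H.map_apply]
  refine (congrArg (fun z => z.comp (Ext.mk₀ (cu f S.X₁)) (add_zero (p + 1))) h1).trans ?_
  refine (Ext.comp_assoc_of_third_deg_zero _ _ _ _).trans ?_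
  refine (congrArg (fun z => (CohPull.pullAb f ((CohTop.push f).obj S.X₃) p x).comp z rfl) h2).trans ?_
  exact (Ext.comp_assoc_of_second_deg_zero _ _ _ _).symm

/-- degree zero: the edge map is the identity on global sections -/
lemma equiv₀_edge (G : CohTop.Ab X) (s : Sheaf.H ((CohTop.push f).obj G) 0) :
    Sheaf.H.equiv₀ G isTerminalTop (edge f G 0 s) =
      Sheaf.H.equiv₀ ((CohTop.push f).obj G) isTerminalTop s := by
  rw [edge_apply, ← Sheaf.H.equiv₀_naturality, CohPull.equiv₀_pullAb]
  have h := (CohPull.invPushAdj f).right_triangle_components G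
  have h2 := congrArg (fun φ => φ.hom.app (op ⊤)
    (Sheaf.H.equiv₀ ((CohTop.push f).obj G) isTerminalTop s)) h
  exact h2

lemma bijective_edge_zero (G : CohTop.Ab X) : Function.Bijective (edge f G 0) := by
  have h : ⇑(edge f G 0) = ⇑(Sheaf.H.equiv₀ G isTerminalTop).symm ∘
      ⇑(Sheaf.H.equiv₀ ((CohTop.push f).obj G) isTerminalTop) := by
    funext s
    apply (Sheaf.H.equiv₀ G isTerminalTop).injective
    rw [equiv₀_edge, Function.comp_apply, AddEquiv.apply_symm_apply]
  rw [h]
  exact (Sheaf.H.equiv₀ G isTerminalTop).symm.bijective.comp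
    (Sheaf.H.equiv₀ ((CohTop.push f).obj G) isTerminalTop).bijective

/-- the dimension shifting step -/
lemma bijective_edge_succ {S : ShortComplex (CohTop.Ab X)} (hS : S.ShortExact)
    (hS' : (S.map (CohTop.push f)).ShortExact) (p : ℕ)
    (h₂ : Function.Bijective (edge f S.X₂ p)) (h₃ : Function.Bijective (edge f S.X₃ p))
    (hI : ∀ x : Sheaf.H S.X₂ (p + 1), x = 0)
    (hI' : ∀ x : Sheaf.H ((CohTop.push f).obj S.X₂) (p + 1), x = 0) :
    Function.Bijective (edge f S.X₁ (p + 1)) := by
  constructor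
  · rw [injective_iff_map_eq_zero]
    intro y hy
    have h0 : y.comp (Ext.mk₀ (S.map (CohTop.push f)).f) (add_zero (p + 1)) = 0 := hI' _
    obtain ⟨z', rfl⟩ := Ext.covariant_sequence_exact₁ _ hS' y h0 rfl
    have hy' := (edge_extClass f hS hS' p z').symm.trans hy
    obtain ⟨w, hw⟩ := Ext.covariant_sequence_exact₃ _ hS (edge f S.X₃ p z') rfl hy'
    obtain ⟨w', rfl⟩ := h₂.2 w
    have h1 : edge f S.X₃ p (Sheaf.H.map ((CohTop.push f).map S.g) p w') = edge f S.X₃ p z' := by
      rw [edge_map]
      exact hw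
    have hz' := h₃.1 h1
    rw [← hz', Sheaf.H.map_apply]
    exact comp_g_extClass' hS' w'
  · intro x
    have h0 : x.comp (Ext.mk₀ S.f) (add_zero (p + 1)) = 0 := hI _
    obtain ⟨z, hz⟩ := Ext.covariant_sequence_exact₁ _ hS x h0 rfl
    obtain ⟨z', rfl⟩ := h₃.2 z
    exact ⟨z'.comp hS'.extClass rfl, (edge_extClass f hS hS' p z').trans hz⟩

end Top

section Sch

open AlgebraicGeometry.Scheme.Modules Groth.Agent.Lib.Helper22 Groth.Agent.Lib.Helper22.DimShift
  Groth.Agent.Lib.Helper5.SectCmpAffine

variable {X Y : Scheme.{u}} (f : X ⟶ Y)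

lemma eps_eq (G : X.Modules) :
    CohPull.theta f ((pushforward f).obj G) ≫
      (SheafOfModules.toSheaf X.ringCatSheaf).map ((pullbackPushforwardAdjunction f).counit.app G) =
    cu f.base (Coh.toAb G) := by
  unfold CohPull.theta
  have h : (SheafOfModules.toSheaf Y.ringCatSheaf).map
      ((pullbackPushforwardAdjunction f).unit.app ((pushforward f).obj G)) ≫
      (CohTop.push f.base).map ((SheafOfModules.toSheaf X.ringCatSheaf).map
        ((pullbackPushforwardAdjunction f).counit.app G)) = 𝟙 _ := by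
    have h1 := (pullbackPushforwardAdjunction f).right_triangle_components G
    exact ((SheafOfModules.toSheaf Y.ringCatSheaf).map_comp _ _).symm.trans
      ((congrArg (fun φ => (SheafOfModules.toSheaf Y.ringCatSheaf).map φ) h1).trans
        ((SheafOfModules.toSheaf Y.ringCatSheaf).map_id _))
  rw [← Adjunction.homEquiv_naturality_right_symm]
  erw [h]
  exact (CohPull.invPushAdj f.base).homEquiv_symm_id _

lemma pushEdge_eq (G : X.Modules) (p : ℕ) (x : Coh.HH Y ((pushforward f).obj G) p) :
    CohPull.pushEdge f G p x = edge f.base (Coh.toAb G) p x := by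
  unfold CohPull.pushEdge CohPull.pullMod CohPull.mapH
  rw [edge_apply, ← eps_eq]
  exact (Sheaf.H.map_comp_apply _ _ _).symm

lemma P_injective (I : X.Modules) [hI : Injective I] : P I := by
  intro a x
  have hta : CohCx.IsTotallyAcyclic (Coh.toAb I) :=
    @ModAcyclic.isTotallyAcyclic_toSheaf _ _ _ X.ringCatSheaf I hI
  obtain ⟨e2⟩ := HTerminal.nonempty_H_addEquiv_HU (Opens.grothendieckTopology X)
    (isTerminalTop : IsTerminal (⊤ : Opens X)) (Coh.toAb I) (a + 1)
  have hs : Subsingleton (CohSite.HU (Coh.toAb I) (a + 1) (⊤ : Opens X)) :=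
    PushAcyclic.subsingleton_ext_freeSheaf _ _ hta ⊤ a
  have hs2 : Subsingleton (Sheaf.H (Coh.toAb I) (a + 1)) := e2.toEquiv.subsingleton
  exact hs2.elim x 0

instance preservesFiniteLimits_pushforward : PreservesFiniteLimits (pushforward f) := by
  haveI := (pullbackPushforwardAdjunction f).rightAdjoint_preservesLimits
  infer_instance

variable [HasInjectiveResolutions X.Modules]

lemma shortExact_map_push {A : ShortComplex X.Modules} (hA : A.ShortExact)
    (h1 : IsZero ((Coh.Rpush f 1).obj A.X₁)) : (A.map (pushforward f)).ShortExact := by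
  haveI := hA.mono_f
  have hex : (A.map (pushforward f)).Exact :=
    hA.exact.map_of_mono_of_preservesKernel (pushforward f) hA.mono_f inferInstance
  haveI : Mono (A.map (pushforward f)).f := inferInstanceAs (Mono ((pushforward f).map A.f))
  haveI : Epi (A.map (pushforward f)).g := CompAcyclic.epi_map_g hA h1
  exact ShortComplex.ShortExact.mk' hex inferInstance inferInstance

/-- **The edge map is bijective when the higher direct images vanish.** -/
theorem bijective_pushEdge (p : ℕ) :
    ∀ G : X.Modules, (∀ q : ℕ, 0 < q → IsZero ((Coh.Rpush f q).obj G)) →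
      Function.Bijective (CohPull.pushEdge f G p) := by
  induction p with
  | zero =>
    intro G _
    have h : ⇑(CohPull.pushEdge f G 0) = ⇑(edge f.base (Coh.toAb G) 0) :=
      funext (pushEdge_eq f G 0)
    rw [h]
    exact bijective_edge_zero f.base (Coh.toAb G)
  | succ p ih =>
    intro G hG
    have hA := injSC_shortExact G
    have hB : ((injSC G).map (pushforward f)).ShortExact :=
      shortExact_map_push f hA (hG 1 Nat.one_pos)
    have hI : ∀ q : ℕ, 0 < q → IsZero ((Coh.Rpush f q).obj (injSC G).X₂) := by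
      intro q hq
      obtain ⟨q, rfl⟩ : ∃ k, q = k + 1 := ⟨q - 1, by omega⟩
      exact Functor.isZero_rightDerived_obj_injective_succ (pushforward f) q (injSC G).X₂
    have hQ : ∀ q : ℕ, 0 < q → IsZero ((Coh.Rpush f q).obj (injSC G).X₃) := by
      intro q hq
      obtain ⟨q, rfl⟩ : ∃ k, q = k + 1 := ⟨q - 1, by omega⟩
      exact (hG (q + 2) (by omega)).of_iso
        (rightDerivedSuccSuccIso (pushforward f) (injSC G) hA q).symm
    have h2 := ih (injSC G).X₂ hI
    have h3 := ih (injSC G).X₃ hQ
    have e2 : ⇑(CohPull.pushEdge f (injSC G).X₂ p) = ⇑(edge f.base (Coh.toAb (injSC G).X₂) p) :=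
      funext (pushEdge_eq f _ p)
    have e3 : ⇑(CohPull.pushEdge f (injSC G).X₃ p) = ⇑(edge f.base (Coh.toAb (injSC G).X₃) p) :=
      funext (pushEdge_eq f _ p)
    have e1 : ⇑(CohPull.pushEdge f G (p + 1)) = ⇑(edge f.base (Coh.toAb G) (p + 1)) :=
      funext (pushEdge_eq f G (p + 1))
    rw [e2] at h2
    rw [e3] at h3
    rw [e1]
    have hS : ((injSC G).map (T X)).ShortExact := hA.map_of_exact (T X)
    have hS' : (((injSC G).map (T X)).map (CohTop.push f.base)).ShortExact :=
      hB.map_of_exact (T Y)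
    exact bijective_edge_succ f.base hS hS' p h2 h3
      (fun x => P_injective (injSC G).X₂ p x)
      (fun x => P_push_injective f (injSC G).X₂ p x)

/-- reflecting zero objects along the forgetful functor to abelian sheaves -/
lemma isZero_of_isZero_toAb (N : Y.Modules) (h : IsZero (Coh.toAb N)) : IsZero N := by
  rw [IsZero.iff_id_eq_zero]
  apply (SheafOfModules.toSheaf Y.ringCatSheaf).map_injective
  exact h.eq_of_src _ _

lemma isZero_Rpush_of_isAffineHom [IsAffineHom f] (F : X.Modules) [Coh.IsQCoh F] (q : ℕ)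
    (hq : 0 < q) : IsZero ((Coh.Rpush f q).obj F) := by
  obtain ⟨e⟩ := RpushAb.main f F q
  exact isZero_of_isZero_toAb _ ((Groth.Agent.S0028.result f F q hq).of_iso e)

end Sch

end Groth.Agent.Lib.Helper5.PushEdge
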