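import Groth.Agent.Lib.Helper5.SubspaceAcyclic
import Groth.Agent.Lib.Helper5.PushEdge
import Groth.Agent.Lib.Helper22.CohTop.FlasqueAcyclic

/-!
# Cohomology of a directed intersection of quasi-compact opens of a spectral space

For a spectral space `X`, a directed system `S` of quasi-compact opens with intersection `Z`
and an abelian sheaf `F` on `X`, the cohomology `H^p(Z, F|_Z)` is the colimit of the
`H^p(U, F)`, `U` in the system.
-/

set_option autoImplicit false

universe u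

open CategoryTheory CategoryTheory.Limits TopologicalSpace Opposite TopCat Abelian

namespace Groth.Agent.Lib.Helper5.SubspaceCoh

open Groth.Agent.Lib.Helper5.PullStalk Groth.Agent.Lib.Helper5.SubspaceSect

open Groth.Agent.Lib.Helper22.CohTop (ZU freeSheafFunctor unitSec homEquivSections
  homEquivSections_apply homEquivSections_naturality_left homAddEquivSections
  homAddEquivSections_apply freeSheafFunctor_map_unitSec injSC injSC_shortExact)

variable {X : TopCat.{u}}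

section defs

variable (Z : Set X)

instance : (CohPull.inv (incl Z)).Additive := CohPull.inv_additive _

instance : PreservesFiniteLimits (CohPull.inv (incl Z)) := CohPull.inv_preservesFiniteLimits _

instance : PreservesFiniteColimits (CohPull.inv (incl Z)) :=
  CohPull.inv_preservesFiniteColimits _

/-- restriction of Ext classes along a morphism of opens -/
noncomputable def rsM (F : CohTop.Ab X) (p : ℕ) {U V : Opens X} (g : V ⟶ U) :
    Ext (ZU U) F p →+ Ext (ZU V) F p :=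
  (Ext.mk₀ ((freeSheafFunctor X).map g)).precomp F (zero_add p)

lemma rsM_apply (F : CohTop.Ab X) (p : ℕ) {U V : Opens X} (g : V ⟶ U) (x : Ext (ZU U) F p) :
    rsM F p g x = (Ext.mk₀ ((freeSheafFunctor X).map g)).comp x (zero_add p) := rfl

lemma rsM_rsM (F : CohTop.Ab X) (p : ℕ) {U V W : Opens X} (g : V ⟶ U) (g' : W ⟶ V)
    (g'' : W ⟶ U) (x : Ext (ZU U) F p) :
    rsM F p g' (rsM F p g x) = rsM F p g'' x := by
  rw [rsM_apply, rsM_apply, rsM_apply, Ext.mk₀_comp_mk₀_assoc, ← Functor.map_comp]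
  have e : g' ≫ g = g'' := Subsingleton.elim _ _
  rw [e]

lemma rsM_comp (F F' : CohTop.Ab X) (p q n : ℕ) (hn : p + q = n) {U V : Opens X} (g : V ⟶ U)
    (x : Ext (ZU U) F p) (e : Ext F F' q) :
    rsM F' n g (x.comp e hn) = (rsM F p g x).comp e hn := by
  rw [rsM_apply, rsM_apply]
  exact (Ext.comp_assoc _ _ _ (zero_add p) hn (by omega)).symm

lemma res_eq (F : CohTop.Ab X) (p : ℕ) {U V : Opens X} (h : V ≤ U) (x : Ext (ZU U) F p) :
    CohTop.res F p h x = rsM F p (homOfLE h) x := rfl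

/-- the tautological global section of the inverse image of `ℤ_U`, for `Z ⊆ U` -/
noncomputable def uSec (U : Opens X) (hU : Z ⊆ (U : Set X)) :
    ((CohPull.inv (incl Z)).obj (ZU U)).obj.obj (op ⊤) :=
  cmp Z (ZU U) (show (⊤ : Opens (TopCat.of Z)) ≤ pre Z U from fun x _ => hU x.2) (unitSec U)

lemma uSec_map {U V : Opens X} (g : V ⟶ U) (hV : Z ⊆ (V : Set X)) (hU : Z ⊆ (U : Set X)) :
    (((CohPull.inv (incl Z)).map ((freeSheafFunctor X).map g)).hom.app (op ⊤)).hom (uSec Z V hV) =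
      uSec Z U hU := by
  have hV' : (⊤ : Opens (TopCat.of Z)) ≤ pre Z V := fun x _ => hV x.2
  have hU' : (⊤ : Opens (TopCat.of Z)) ≤ pre Z U := fun x _ => hU x.2
  have e1 := cmp_natural Z ((freeSheafFunctor X).map g) hV' (unitSec V)
  refine e1.symm.trans ?_
  have e2 : ((((freeSheafFunctor X).map g).hom.app (op V)).hom (unitSec V)) =
      rs (ZU U) (leOfHom g) (unitSec U) := freeSheafFunctor_map_unitSec g
  refine (congrArg (fun s => cmp Z (ZU U) hV' s) e2).trans ?_
  refine (cmp_res Z (ZU U) hU' hV' (leOfHom g) le_rfl (unitSec U)).trans ?_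
  exact rs_self _ _ _

/-- the corresponding class in degree zero -/
noncomputable def oCls (U : Opens X) (hU : Z ⊆ (U : Set X)) :
    Sheaf.H ((CohPull.inv (incl Z)).obj (ZU U)) 0 :=
  (Sheaf.H.equiv₀ ((CohPull.inv (incl Z)).obj (ZU U)) isTerminalTop).symm (uSec Z U hU)

lemma oCls_map {U V : Opens X} (g : V ⟶ U) (hV : Z ⊆ (V : Set X)) (hU : Z ⊆ (U : Set X)) :
    (oCls Z V hV).comp (Ext.mk₀ ((CohPull.inv (incl Z)).map ((freeSheafFunctor X).map g)))
      (add_zero 0) = oCls Z U hU := by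
  have h1 := Sheaf.H.equiv₀_symm_naturality (T := (⊤ : Opens (TopCat.of Z))) isTerminalTop
    ((CohPull.inv (incl Z)).map ((freeSheafFunctor X).map g)) (uSec Z V hV)
  refine h1.trans ?_
  exact congrArg (fun s => (Sheaf.H.equiv₀ ((CohPull.inv (incl Z)).obj (ZU U)) isTerminalTop).symm s)
    (uSec_map Z g hV hU)

/-- the map `H^p(U, F) → H^p(Z, F|_Z)` for `Z ⊆ U` -/
noncomputable def rho (U : Opens X) (hU : Z ⊆ (U : Set X)) (F : CohTop.Ab X) (p : ℕ) :
    Ext (ZU U) F p →+ Sheaf.H ((CohPull.inv (incl Z)).obj F) p :=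
  ((oCls Z U hU).precomp ((CohPull.inv (incl Z)).obj F) (zero_add p)).comp
    ((CohPull.inv (incl Z)).mapExtAddHom (ZU U) F p)

lemma rho_apply (U : Opens X) (hU : Z ⊆ (U : Set X)) (F : CohTop.Ab X) (p : ℕ)
    (x : Ext (ZU U) F p) :
    rho Z U hU F p x =
      (oCls Z U hU).comp (x.mapExactFunctor (CohPull.inv (incl Z))) (zero_add p) := rfl

lemma rho_rsM {U V : Opens X} (g : V ⟶ U) (hV : Z ⊆ (V : Set X)) (hU : Z ⊆ (U : Set X))
    (F : CohTop.Ab X) (p : ℕ) (x : Ext (ZU U) F p) :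
    rho Z V hV F p (rsM F p g x) = rho Z U hU F p x := by
  rw [rho_apply, rho_apply, rsM_apply, Ext.mapExactFunctor_comp, Ext.mapExactFunctor_mk₀]
  refine (Ext.comp_assoc _ _ _ (add_zero 0) (zero_add p) (by omega)).symm.trans ?_
  exact congrArg (fun z => z.comp (x.mapExactFunctor (CohPull.inv (incl Z))) (zero_add p))
    (oCls_map Z g hV hU)

lemma rho_map (U : Opens X) (hU : Z ⊆ (U : Set X)) {F F' : CohTop.Ab X} (φ : F ⟶ F') (p : ℕ)
    (x : Ext (ZU U) F p) :
    rho Z U hU F' p (x.comp (Ext.mk₀ φ) (add_zero p)) =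
      (rho Z U hU F p x).comp (Ext.mk₀ ((CohPull.inv (incl Z)).map φ)) (add_zero p) := by
  rw [rho_apply, rho_apply, Ext.mapExactFunctor_comp, Ext.mapExactFunctor_mk₀,
    Ext.comp_assoc_of_third_deg_zero]

lemma rho_extClass (U : Opens X) (hU : Z ⊆ (U : Set X)) {A : ShortComplex (CohTop.Ab X)}
    (hA : A.ShortExact) (p : ℕ) (x : Ext (ZU U) A.X₃ p) :
    rho Z U hU A.X₁ (p + 1) (x.comp hA.extClass rfl) =
      (rho Z U hU A.X₃ p x).comp (hA.map_of_exact (CohPull.inv (incl Z))).extClass rfl := by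
  rw [rho_apply, rho_apply, Ext.mapExactFunctor_comp, Ext.mapExactFunctor_extClass]
  exact (Ext.comp_assoc _ _ _ (zero_add p) rfl (by omega)).symm

lemma rho_zero (U : Opens X) (hU : Z ⊆ (U : Set X)) (F : CohTop.Ab X) (ψ : ZU U ⟶ F) :
    Sheaf.H.equiv₀ ((CohPull.inv (incl Z)).obj F) isTerminalTop (rho Z U hU F 0 (Ext.mk₀ ψ)) =
      cmp Z F (show (⊤ : Opens (TopCat.of Z)) ≤ pre Z U from fun x _ => hU x.2)
        (homEquivSections U F ψ) := by
  have hU' : (⊤ : Opens (TopCat.of Z)) ≤ pre Z U := fun x _ => hU x.2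
  have h1 := Sheaf.H.equiv₀_symm_naturality (T := (⊤ : Opens (TopCat.of Z))) isTerminalTop
    ((CohPull.inv (incl Z)).map ψ) (uSec Z U hU)
  have h2 : rho Z U hU F 0 (Ext.mk₀ ψ) =
      Sheaf.H.map ((CohPull.inv (incl Z)).map ψ) 0 (oCls Z U hU) := by
    rw [rho_apply, Ext.mapExactFunctor_mk₀]
    rfl
  rw [h2]
  refine (congrArg (fun z => Sheaf.H.equiv₀ ((CohPull.inv (incl Z)).obj F) isTerminalTop z)
    h1).trans ?_
  rw [AddEquiv.apply_symm_apply]
  refine (cmp_natural Z ψ hU' (unitSec U)).symm.trans ?_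
  rw [homEquivSections_apply]

end defs

section main

variable [SpectralSpace X] (S : Sys X)

/-- representability and injectivity in the colimit, simultaneously in all sheaves -/
theorem rep_and_zero (p : ℕ) :
    (∀ (F : CohTop.Ab X) (y : Sheaf.H ((CohPull.inv (incl S.Z)).obj F) p),
      ∃ (U : Opens X) (hU : U ∈ S.𝒩) (x : Ext (ZU U) F p),
        rho S.Z U (S.Z_le hU) F p x = y) ∧
    (∀ (F : CohTop.Ab X) (U : Opens X) (hU : U ∈ S.𝒩) (x : Ext (ZU U) F p),
      rho S.Z U (S.Z_le hU) F p x = 0 →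
        ∃ (U' : Opens X) (_ : U' ∈ S.𝒩) (h : U' ≤ U), rsM F p (homOfLE h) x = 0) := by
  induction p with
  | zero =>
    constructor
    · intro F y
      let t := Sheaf.H.equiv₀ ((CohPull.inv (incl S.Z)).obj F) isTerminalTop y
      obtain ⟨U, hU, s, hs⟩ := S.exists_cmp_eq F ⊤ isCompact_univ
        (rs (Gs S.Z F) (le_top : pre S.Z ⊤ ≤ ⊤) t)
      have hU' : U ⊓ ⊤ ∈ S.𝒩 := S.inf_mem U hU ⊤ S.top_mem
      refine ⟨U ⊓ ⊤, hU', Ext.mk₀ ((homEquivSections (U ⊓ ⊤) F).symm s), ?_⟩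
      apply (Sheaf.H.equiv₀ ((CohPull.inv (incl S.Z)).obj F) isTerminalTop).injective
      refine (rho_zero S.Z (U ⊓ ⊤) (S.Z_le hU') F _).trans ?_
      rw [Equiv.apply_symm_apply]
      have h1 : (⊤ : Opens (TopCat.of S.Z)) ≤ pre S.Z (U ⊓ ⊤) := fun x _ => S.Z_le hU' x.2
      have hW : (⊤ : Opens (TopCat.of S.Z)) ≤ pre S.Z ⊤ := fun _ _ => trivial
      have e1 := cmp_res S.Z F (S.pre_le_pre_inf hU ⊤) h1 (le_refl (U ⊓ ⊤)) hW s
      rw [rs_self] at e1
      refine e1.trans ?_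
      refine (congrArg (fun z => rs (Gs S.Z F) hW z) hs).trans ?_
      refine (rs_rs _ _ _ _).trans ?_
      exact rs_self _ _ _
    · intro F U hU x hx
      obtain ⟨ψ, rfl⟩ := (Ext.mk₀_bijective (ZU U) F).2 x
      have hU'' : (⊤ : Opens (TopCat.of S.Z)) ≤ pre S.Z U := fun x _ => S.Z_le hU x.2
      have h0 : cmp S.Z F hU'' (homEquivSections U F ψ) = 0 := by
        refine (rho_zero S.Z U (S.Z_le hU) F ψ).symm.trans ?_
        rw [hx]
        exact map_zero _
      obtain ⟨U₁, hU₁, hs⟩ := S.cmp_eq_zero F U (S.compact U hU) (homEquivSections U F ψ) ⊤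
        hU'' le_top h0
      refine ⟨U₁ ⊓ U, S.inf_mem _ hU₁ _ hU, inf_le_right, ?_⟩
      rw [rsM_apply, Ext.mk₀_comp_mk₀]
      have e : (freeSheafFunctor X).map (homOfLE (inf_le_right : U₁ ⊓ U ≤ U)) ≫ ψ = 0 := by
        apply (homAddEquivSections (U₁ ⊓ U) F).injective
        rw [map_zero, homAddEquivSections_apply, homEquivSections_naturality_left]
        exact hs
      rw [e, Ext.mk₀_zero]
  | succ p ih =>
    constructor
    · intro F y
      have hA := injSC_shortExact F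
      have hA' := hA.map_of_exact (CohPull.inv (incl S.Z))
      have h0 : y.comp (Ext.mk₀ ((injSC F).map (CohPull.inv (incl S.Z))).f) (add_zero (p + 1)) = 0 :=
        (SubspaceAcyclic.subsingleton_H_succ S (injSC F).X₂ p).elim _ _
      obtain ⟨z, hz⟩ := Ext.covariant_sequence_exact₁ _ hA' y h0 rfl
      obtain ⟨U, hU, x', hx'⟩ := ih.1 (injSC F).X₃ z
      refine ⟨U, hU, x'.comp hA.extClass rfl, ?_⟩
      refine (rho_extClass S.Z U (S.Z_le hU) hA p x').trans ?_
      rw [hx']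
      exact hz
    · intro F U hU x hx
      have hA := injSC_shortExact F
      have hA' := hA.map_of_exact (CohPull.inv (incl S.Z))
      have h0 : x.comp (Ext.mk₀ (injSC F).f) (add_zero (p + 1)) = 0 := Ext.eq_zero_of_injective _
      obtain ⟨x', rfl⟩ := Ext.covariant_sequence_exact₁ _ hA x h0 rfl
      have hx2 : (rho S.Z U (S.Z_le hU) (injSC F).X₃ p x').comp hA'.extClass rfl = 0 :=
        (rho_extClass S.Z U (S.Z_le hU) hA p x').symm.trans hx
      obtain ⟨w, hw⟩ := Ext.covariant_sequence_exact₃ _ hA' _ rfl hx2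
      obtain ⟨U₁, hU₁, w', hw'⟩ := ih.1 (injSC F).X₂ w
      have hU₂ : U₁ ⊓ U ∈ S.𝒩 := S.inf_mem _ hU₁ _ hU
      let d : Ext (ZU (U₁ ⊓ U)) (injSC F).X₃ p :=
        rsM _ p (homOfLE (inf_le_right : U₁ ⊓ U ≤ U)) x' -
          (rsM _ p (homOfLE (inf_le_left : U₁ ⊓ U ≤ U₁)) w').comp (Ext.mk₀ (injSC F).g) (add_zero p)
      have hd : rho S.Z (U₁ ⊓ U) (S.Z_le hU₂) (injSC F).X₃ p d = 0 := by
        rw [map_sub, rho_rsM S.Z _ (S.Z_le hU₂) (S.Z_le hU), rho_map,
          rho_rsM S.Z _ (S.Z_le hU₂) (S.Z_le hU₁), hw', sub_eq_zero]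
        exact hw.symm
      obtain ⟨U₃, hU₃, h₃, hd₃⟩ := ih.2 _ (U₁ ⊓ U) hU₂ d hd
      refine ⟨U₃, hU₃, h₃.trans inf_le_right, ?_⟩
      rw [rsM_comp]
      have e : rsM _ p (homOfLE (h₃.trans (inf_le_right : U₁ ⊓ U ≤ U))) x' =
          (rsM _ p (homOfLE (h₃.trans (inf_le_left : U₁ ⊓ U ≤ U₁))) w').comp
            (Ext.mk₀ (injSC F).g) (add_zero p) := by
        have h4 := hd₃
        rw [map_sub, sub_eq_zero, rsM_rsM _ p _ _ (homOfLE (h₃.trans inf_le_right)),
          rsM_comp, rsM_rsM _ p _ _ (homOfLE (h₃.trans inf_le_left))] at h4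
        exact h4
      rw [e]
      exact PushEdge.comp_g_extClass' hA _

end main

end Groth.Agent.Lib.Helper5.SubspaceCoh
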