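import Groth.Agent.Lib.Helper5.SpectralSub
import Groth.Agent.Lib.Helper5.SubspaceCoh
import Groth.Agent.Lib.Helper5.SectSupp
import Groth.Agent.Lib.Helper22.CohTop.MayerVietoris

/-!
# Cohomological dimension of spectral spaces

For a spectral space `X` of Krull dimension `≤ d` and an abelian sheaf `F` on `X`:

* `H^q(X, F) = 0` for `q > d`;
* `H^d(X, F) → H^d(U, F)` is surjective for every quasi-compact open `U`.

The proof is by induction on `d`, simultaneously for all spectral spaces.  For a quasi-compact open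
`U` one considers the subspace `Z` of `U` of all points which do not specialize to a point of the
complement of `U` ... more precisely the intersection of all `U ∩ V` with `V` quasi-compact open
and `U ∪ V = X`; it is a spectral space of smaller dimension, its cohomology is the colimit
of the cohomologies of the `U ∩ V`, and Mayer-Vietoris finishes the argument.
-/

set_option autoImplicit false

universe u

open CategoryTheory CategoryTheory.Limits TopologicalSpace Opposite TopCat Abelian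

namespace Groth.Agent.Lib.Helper5.SpectralVanish

open Groth.Agent.Lib.Helper5.PullStalk Groth.Agent.Lib.Helper5.SubspaceSect
  Groth.Agent.Lib.Helper5.BasisFlasque Groth.Agent.Lib.Helper5.SubspaceCoh
  Groth.Agent.Lib.Helper5.SpectralSub

open Groth.Agent.Lib.Helper22.CohTop (ZU freeSheafFunctor unitSec homEquivSections
  homEquivSections_apply homEquivSections_naturality_left homAddEquivSections
  homAddEquivSections_apply injSC injSC_shortExact)

variable {X : TopCat.{u}}

/-! ### the basis of quasi-compact opens -/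

lemma isCompact_top [CompactSpace X] : IsCompact (((⊤ : Opens X) : Opens X) : Set X) := by
  rw [Opens.coe_top]
  exact isCompact_univ

lemma goodBasis_compact [SpectralSpace X] :
    GoodBasis {W : Opens X | IsCompact (W : Set X)} where
  bot_mem := by
    show IsCompact (((⊥ : Opens X) : Opens X) : Set X)
    rw [Opens.coe_bot]
    exact isCompact_empty
  top_mem := isCompact_top
  inf_mem := fun A₁ h₁ A₂ h₂ => QuasiSeparatedSpace.inter_isCompact _ _ A₁.2 h₁ A₂.2 h₂
  sup_mem := fun A₁ h₁ A₂ h₂ => by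
    show IsCompact ((A₁ ⊔ A₂ : Opens X) : Set X)
    rw [Opens.coe_sup]
    exact IsCompact.union h₁ h₂
  compact := fun A h => h
  basis := fun W x hx => by
    obtain ⟨V, ⟨hVo, hVc⟩, hxV, hVW⟩ :=
      PrespectralSpace.isTopologicalBasis.exists_subset_of_mem_open hx W.2
    exact ⟨⟨V, hVo⟩, hVc, hxV, hVW⟩

/-! ### degree zero classes and sections -/

lemma rsM_mk₀ (G : CohTop.Ab X) {U V : Opens X} (g : V ⟶ U) (ψ : ZU U ⟶ G) :
    rsM G 0 g (Ext.mk₀ ψ) = Ext.mk₀ ((freeSheafFunctor X).map g ≫ ψ) := by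
  rw [rsM_apply, Ext.mk₀_comp_mk₀]

lemma rsM_id (G : CohTop.Ab X) (p : ℕ) {U : Opens X} (g : U ⟶ U) (x : Ext (ZU U) G p) :
    rsM G p g x = x := by
  have e : g = 𝟙 U := Subsingleton.elim _ _
  rw [rsM_apply, e, CategoryTheory.Functor.map_id]
  exact Ext.mk₀_id_comp x

lemma exists_ext_of_section (G : CohTop.Ab X) (U : Opens X)
    (h : Function.Surjective (rs G (le_top : U ≤ ⊤))) (x : Ext (ZU U) G 0) :
    ∃ y : Ext (ZU (⊤ : Opens X)) G 0, rsM G 0 (homOfLE (le_top : U ≤ ⊤)) y = x := by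
  obtain ⟨ψ, rfl⟩ := (Ext.mk₀_bijective (ZU U) G).2 x
  obtain ⟨t, ht⟩ := h (homEquivSections U G ψ)
  refine ⟨Ext.mk₀ ((homEquivSections ⊤ G).symm t), ?_⟩
  rw [rsM_mk₀]
  congr 1
  apply (homEquivSections U G).injective
  rw [homEquivSections_naturality_left, Equiv.apply_symm_apply]
  exact ht

lemma section_surj_of_ext (G : CohTop.Ab X) (U : Opens X)
    (h : ∀ x : Ext (ZU U) G 0, ∃ y : Ext (ZU (⊤ : Opens X)) G 0,
      rsM G 0 (homOfLE (le_top : U ≤ ⊤)) y = x) :
    Function.Surjective (rs G (le_top : U ≤ ⊤)) := by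
  intro s
  obtain ⟨y, hy⟩ := h (Ext.mk₀ ((homEquivSections U G).symm s))
  obtain ⟨ψ, rfl⟩ := (Ext.mk₀_bijective (ZU (⊤ : Opens X)) G).2 y
  rw [rsM_mk₀] at hy
  have hy' := (Ext.mk₀_bijective (ZU U) G).1 hy
  refine ⟨homEquivSections ⊤ G ψ, ?_⟩
  have e := homEquivSections_naturality_left (homOfLE (le_top : U ≤ ⊤)) G ψ
  rw [hy', Equiv.apply_symm_apply] at e
  exact e.symm

/-! ### surjectivity of restriction in a fixed degree, and dimension shifting -/

/-- the restriction maps `H^m(X, G) → H^m(U, G)`, `U` quasi-compact open, are surjective -/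
def ResSurj (G : CohTop.Ab X) (m : ℕ) : Prop :=
  ∀ U : Opens X, IsCompact (U : Set X) → ∀ x : Ext (ZU U) G m,
    ∃ y : Ext (ZU (⊤ : Opens X)) G m, rsM G m (homOfLE (le_top : U ≤ ⊤)) y = x

lemma resSurj_injSC (G : CohTop.Ab X) (m : ℕ) (h : ResSurj G (m + 1)) :
    ResSurj (injSC G).X₃ m := by
  intro U hU x
  have hA := injSC_shortExact G
  obtain ⟨y', hy'⟩ := h U hU (x.comp hA.extClass rfl)
  have h0 : y'.comp (Ext.mk₀ (injSC G).f) (add_zero (m + 1)) = 0 := Ext.eq_zero_of_injective _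
  obtain ⟨z, hz⟩ := Ext.covariant_sequence_exact₁ _ hA y' h0 rfl
  -- the difference comes from the middle term
  have hdiff : (rsM (injSC G).X₃ m (homOfLE (le_top : U ≤ ⊤)) z + -x).comp hA.extClass rfl = 0 := by
    rw [Ext.add_comp, Ext.neg_comp, ← rsM_comp, hz, hy', add_neg_cancel]
  obtain ⟨w, hw⟩ := Ext.covariant_sequence_exact₃ _ hA _ rfl hdiff
  -- lift `w` to the whole space
  have hw' : ∃ w' : Ext (ZU (⊤ : Opens X)) (injSC G).X₂ m,
      rsM (injSC G).X₂ m (homOfLE (le_top : U ≤ ⊤)) w' = w := by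
    cases m with
    | zero =>
      apply exists_ext_of_section
      have hepi : Epi ((injSC G).X₂.obj.map (homOfLE (le_top : U ≤ ⊤)).op) :=
        TopCat.Presheaf.IsFlasque.epi (F := (injSC G).X₂.obj) _
      exact (AddCommGrpCat.epi_iff_surjective _).1 hepi
    | succ m =>
      refine ⟨0, ?_⟩
      rw [map_zero]
      exact (Ext.eq_zero_of_injective w).symm
  obtain ⟨w', hw'⟩ := hw'
  refine ⟨z + -(w'.comp (Ext.mk₀ (injSC G).g) (add_zero m)), ?_⟩
  rw [map_add, map_neg, rsM_comp, hw', hw]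
  abel

/-- the iterated cosyzygies with respect to the chosen injective hulls -/
noncomputable def cosyz : ℕ → CohTop.Ab X → CohTop.Ab X
  | 0, F => F
  | k + 1, F => cosyz k (injSC F).X₃

lemma resSurj_cosyz (k : ℕ) : ∀ (F : CohTop.Ab X) (m : ℕ), ResSurj F (m + k) →
    ResSurj (cosyz k F) m := by
  induction k with
  | zero =>
    intro F m h
    exact h
  | succ k ih =>
    intro F m h
    exact ih (injSC F).X₃ m (resSurj_injSC F (m + k) h)

lemma subsingleton_H_shift (G : CohTop.Ab X) (n : ℕ)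
    (h : Subsingleton (CohTop.H (injSC G).X₃ (n + 1))) : Subsingleton (CohTop.H G (n + 1 + 1)) := by
  refine subsingleton_of_forall_eq 0 fun x => ?_
  have hA := injSC_shortExact G
  have h0 : x.comp (Ext.mk₀ (injSC G).f) (add_zero (n + 1 + 1)) = 0 := Ext.eq_zero_of_injective _
  obtain ⟨z, hz⟩ := Ext.covariant_sequence_exact₁ _ hA x h0 (n₀ := n + 1) rfl
  rw [← hz, h.elim z 0, Ext.zero_comp]

lemma subsingleton_H_cosyz (k : ℕ) : ∀ (F : CohTop.Ab X),
    (∀ p : ℕ, Subsingleton (CohTop.H (cosyz k F) (p + 1))) →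
    ∀ p : ℕ, Subsingleton (CohTop.H F (p + k + 1)) := by
  induction k with
  | zero =>
    intro F h p
    exact h p
  | succ k ih =>
    intro F h p
    exact subsingleton_H_shift F (p + k) (ih (injSC F).X₃ h p)

/-- if restriction to quasi-compact opens is surjective in degree `d` for all sheaves,
cohomology vanishes above degree `d` -/
theorem vanish_of_resSurj [SpectralSpace X] (d : ℕ) (h : ∀ F : CohTop.Ab X, ResSurj F d)
    (F : CohTop.Ab X) (q : ℕ) (hq : d < q) : Subsingleton (CohTop.H F q) := by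
  have h1 : ResSurj (cosyz d F) 0 := resSurj_cosyz d F 0 (by rw [zero_add]; exact h F)
  have hBF : BF {W : Opens X | IsCompact (W : Set X)} (cosyz d F) := by
    intro A hA
    exact section_surj_of_ext (cosyz d F) A (h1 A hA)
  have h2 : ∀ p : ℕ, Subsingleton (CohTop.H (cosyz d F) (p + 1)) := fun p =>
    BasisFlasque.subsingleton_H_succ goodBasis_compact (cosyz d F) hBF p
  obtain ⟨p, rfl⟩ : ∃ p, q = p + d + 1 := ⟨q - d - 1, by omega⟩
  exact subsingleton_H_cosyz d F h2 p

/-! ### Mayer-Vietoris -/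

lemma mv_lift (F : CohTop.Ab X) (d : ℕ) (U V : Opens X) (ξ : Ext (ZU U) F d)
    (h0 : rsM F d (homOfLE (inf_le_left : U ⊓ V ≤ U)) ξ = 0) :
    ∃ y : Ext (ZU (U ⊔ V)) F d, rsM F d (homOfLE (le_sup_left : U ≤ U ⊔ V)) y = ξ := by
  let S := Opens.mayerVietorisSquare U V
  have hex : (ShortComplex.mk (S.toBiprod F d) (S.fromBiprod F d)
      (S.toBiprod_fromBiprod F d)).Exact := (S.sequence_exact F d (d + 1) rfl).exact 0
  rw [ShortComplex.ab_exact_iff] at hex
  let ξ₂ : Sheaf.H'.{u} F d S.X₂ := ξ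
  let z₃ : Sheaf.H'.{u} F d S.X₃ := 0
  have hz : (S.fromBiprod F d) ((AddCommGrpCat.biprodIsoProd _ _).inv ⟨ξ₂, z₃⟩) = 0 := by
    refine (S.fromBiprod_biprodIsoProd_inv_apply F ξ₂ z₃).trans ?_
    have e1 : ((Sheaf.cohomologyPresheaf.{u} F d).map S.f₁₃.op) z₃ = 0 := map_zero _
    rw [e1, sub_zero]
    exact h0
  obtain ⟨y, hy⟩ := hex _ hz
  refine ⟨y, ?_⟩
  have h1 := (S.toBiprod_apply F y).symm.trans hy
  have h2 := congrArg (fun t => ((AddCommGrpCat.biprodIsoProd _ _).hom t)) h1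
  simp only [Iso.inv_hom_id_apply] at h2
  exact congrArg Prod.fst h2

/-! ### the system of opens attached to a quasi-compact open -/

section sys

variable [SpectralSpace X]

/-- the system of all `V ∩ U`, `V` a quasi-compact open with `U ∪ V = X` -/
def sysU (U : Opens X) (hU : IsCompact (U : Set X)) : Sys X where
  𝒩 := {W | W = ⊤ ∨ ∃ V : Opens X, IsCompact (V : Set X) ∧ U ⊔ V = ⊤ ∧ W = V ⊓ U}
  compact := by
    rintro W (rfl | ⟨V, hV, -, rfl⟩)
    · exact isCompact_top
    · exact QuasiSeparatedSpace.inter_isCompact _ _ V.2 hV U.2 hU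
  inf_mem := by
    rintro W₁ (rfl | ⟨V₁, hV₁, hc₁, rfl⟩) W₂ (rfl | ⟨V₂, hV₂, hc₂, rfl⟩)
    · left
      exact top_inf_eq _
    · right
      exact ⟨V₂, hV₂, hc₂, top_inf_eq _⟩
    · right
      exact ⟨V₁, hV₁, hc₁, inf_top_eq _⟩
    · right
      refine ⟨V₁ ⊓ V₂, QuasiSeparatedSpace.inter_isCompact _ _ V₁.2 hV₁ V₂.2 hV₂, ?_, ?_⟩
      · rw [sup_inf_left, hc₁, hc₂, inf_top_eq]
      · exact (inf_inf_distrib_right V₁ V₂ U).symm
  top_mem := Or.inl rfl
  Z := {x | x ∈ U ∧ ∀ V : Opens X, IsCompact (V : Set X) → U ⊔ V = ⊤ → x ∈ V}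
  mem_Z := by
    intro x
    constructor
    · rintro ⟨hxU, hx⟩ W (rfl | ⟨V, hV, hc, rfl⟩)
      · trivial
      · exact ⟨hx V hV hc, hxU⟩
    · intro hx
      refine ⟨?_, ?_⟩
      · exact (hx (⊤ ⊓ U) (Or.inr ⟨⊤, isCompact_top, sup_top_eq _, rfl⟩)).2
      · intro V hV hc
        exact (hx (V ⊓ U) (Or.inr ⟨V, hV, hc, rfl⟩)).1

lemma mem_sysU (U : Opens X) (hU : IsCompact (U : Set X)) : U ∈ (sysU U hU).𝒩 :=
  Or.inr ⟨⊤, isCompact_top, sup_top_eq _, (top_inf_eq _).symm⟩

/-- every point of `Z` specializes to a point outside of `U` -/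
lemma exists_specializes (U : Opens X) (hU : IsCompact (U : Set X)) (t : X)
    (ht : t ∈ (sysU U hU).Z) : ∃ z, z ∉ (sysU U hU).Z ∧ t ⤳ z := by
  have hE : IsCompact ((U : Set X)ᶜ) := U.2.isClosed_compl.isCompact
  have key := (SpectralInter.mem_generalizations_iff ((U : Set X)ᶜ) hE t).2 (by
    intro V hVo hVc hEV
    refine ht.2 ⟨V, hVo⟩ hVc ?_
    apply top_le_iff.1
    intro x _
    by_cases hx : x ∈ U
    · exact Or.inl hx
    · exact Or.inr (hEV hx))
  obtain ⟨e, he, het⟩ := key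
  refine ⟨e, fun h => he h.1, ?_⟩
  rw [specializes_iff_mem_closure]
  exact het

end sys

/-! ### the induction -/

/-- the base case: dimension zero -/
theorem resSurj_zero [SpectralSpace X] (h0 : topologicalKrullDim X ≤ 0) (F : CohTop.Ab X) :
    ResSurj F 0 := by
  intro U hU x
  apply exists_ext_of_section
  intro s
  have hcl : IsClosed (U : Set X) := isClosed_of_dim_zero h0 U.2 hU
  let U' : Opens X := ⟨(U : Set X)ᶜ, hcl.isOpen_compl⟩
  have hbot : U ⊓ U' = ⊥ := by
    ext x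
    constructor
    · rintro ⟨h1, h2⟩
      exact (h2 h1).elim
    · intro h
      exact h.elim
  have htop : (⊤ : Opens X) ≤ U ⊔ U' := by
    intro x _
    by_cases hx : x ∈ U
    · exact Or.inl hx
    · exact Or.inr hx
  haveI : Subsingleton (F.obj.obj (op (U ⊓ U'))) :=
    Groth.Agent.Lib.Helper22.CohTop.subsingleton_sections_of_isEmpty F (U ⊓ U') hbot
  obtain ⟨s', hs', -⟩ := SectSupp.exists_glue₂ F U U' s 0 (Subsingleton.elim _ _)
  refine ⟨rs F htop s', ?_⟩
  rw [rs_rs]
  exact hs'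

/-- the induction step -/
theorem resSurj_succ [SpectralSpace X] (d : ℕ)
    (hd : topologicalKrullDim X ≤ ((d + 1 : ℕ) : WithBot ℕ∞))
    (IH : ∀ (Y : TopCat.{u}) [SpectralSpace Y], topologicalKrullDim Y ≤ ((d : ℕ) : WithBot ℕ∞) →
      ∀ G : CohTop.Ab Y, Subsingleton (CohTop.H G (d + 1)))
    (F : CohTop.Ab X) : ResSurj F (d + 1) := by
  intro U hU ξ
  let S := sysU U hU
  haveI : SpectralSpace (TopCat.of S.Z) := spectralSpace_Z S
  have hdim : topologicalKrullDim (TopCat.of S.Z) ≤ ((d : ℕ) : WithBot ℕ∞) := by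
    haveI : QuasiSober S.Z := inferInstanceAs (QuasiSober (TopCat.of S.Z))
    exact dim_sub_le S.Z d hd (exists_specializes U hU)
  haveI hsub : Subsingleton (CohTop.H ((CohPull.inv (incl S.Z)).obj F) (d + 1)) :=
    IH (TopCat.of S.Z) hdim _
  obtain ⟨U'', hU'', hle, hzero⟩ := (rep_and_zero S (d + 1)).2 F U (mem_sysU U hU) ξ
    (Subsingleton.elim _ _)
  rcases hU'' with rfl | ⟨V, hV, hc, rfl⟩
  · refine ⟨rsM F (d + 1) (homOfLE hle) ξ, ?_⟩
    rw [rsM_rsM F (d + 1) (homOfLE hle) (homOfLE (le_top : U ≤ ⊤)) (𝟙 U)]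
    exact rsM_id F (d + 1) (𝟙 U) ξ
  · have h0 : rsM F (d + 1) (homOfLE (inf_le_left : U ⊓ V ≤ U)) ξ = 0 := by
      rw [← rsM_rsM F (d + 1) (homOfLE hle) (homOfLE (le_of_eq (inf_comm U V))) _ ξ, hzero,
        map_zero]
    obtain ⟨y', hy'⟩ := mv_lift F (d + 1) U V ξ h0
    refine ⟨rsM F (d + 1) (homOfLE (le_of_eq hc.symm) : (⊤ : Opens X) ⟶ U ⊔ V) y', ?_⟩
    rw [rsM_rsM F (d + 1) _ _ (homOfLE (le_sup_left : U ≤ U ⊔ V))]
    exact hy'

/-- **Restriction to quasi-compact opens is surjective in top degree.** -/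
theorem resSurj_main (d : ℕ) : ∀ (X : TopCat.{u}) [SpectralSpace X],
    topologicalKrullDim X ≤ ((d : ℕ) : WithBot ℕ∞) → ∀ F : CohTop.Ab X, ResSurj F d := by
  induction d with
  | zero =>
    intro X _ hd F
    exact resSurj_zero (by rw [Nat.cast_zero] at hd; exact hd) F
  | succ d ih =>
    intro X _ hd F
    exact resSurj_succ d hd
      (fun Y _ hY G => vanish_of_resSurj d (ih Y hY) G (d + 1) (Nat.lt_succ_self d)) F

/-- **Cohomology of a spectral space vanishes above the Krull dimension.** -/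
theorem vanish_main [SpectralSpace X] (d : ℕ)
    (hd : topologicalKrullDim X ≤ ((d : ℕ) : WithBot ℕ∞)) (F : CohTop.Ab X) (q : ℕ) (hq : d < q) :
    Subsingleton (CohTop.H F q) :=
  vanish_of_resSurj d (resSurj_main d X hd) F q hq

/-- the surjectivity in the form of `CohTop.res` -/
theorem res_surjective [SpectralSpace X] (d : ℕ)
    (hd : topologicalKrullDim X ≤ ((d : ℕ) : WithBot ℕ∞)) (F : CohTop.Ab X) (U : Opens X)
    (hU : IsCompact (U : Set X)) :
    Function.Surjective (CohTop.res F d (le_top : U ≤ ⊤)) := by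
  intro x
  obtain ⟨y, hy⟩ := resSurj_main d X hd F U hU x
  exact ⟨y, hy⟩

end Groth.Agent.Lib.Helper5.SpectralVanish
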