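import Mathlib

/-!
# Sections of formal coproducts and the Yoneda lemma for copowers of simplicial formal coproducts
-/

set_option autoImplicit false

universe u

open CategoryTheory CategoryTheory.Limits Opposite Simplicial

namespace Groth.Agent.Lib.Helper5.HyFC

variable {C : Type u} [SmallCategory C]

/-! ### the presheaf of sections of a formal coproduct -/

/-- the sections of a formal coproduct over an object -/
abbrev SecT (X : FormalCoproduct.{u} C) (T : C) : Type u := Σ i : X.I, (T ⟶ X.obj i)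

/-- the presheaf of sections of a formal coproduct -/
def secObj (X : FormalCoproduct.{u} C) : Cᵒᵖ ⥤ Type u where
  obj T := SecT X T.unop
  map {T T'} h := ↾(fun s : SecT X T.unop => (⟨s.1, h.unop ≫ s.2⟩ : SecT X T'.unop))
  map_id T := by
    refine ConcreteCategory.hom_ext _ _ (fun s => ?_)
    change (⟨s.1, 𝟙 _ ≫ s.2⟩ : SecT X T.unop) = s
    rw [Category.id_comp]
  map_comp h h' := by
    refine ConcreteCategory.hom_ext _ _ (fun s => ?_)
    change (⟨s.1, (h'.unop ≫ h.unop) ≫ s.2⟩ : SecT X _) = ⟨s.1, h'.unop ≫ h.unop ≫ s.2⟩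
    rw [Category.assoc]

/-- functoriality of the presheaf of sections -/
def secMap {X Y : FormalCoproduct.{u} C} (m : X ⟶ Y) : secObj X ⟶ secObj Y where
  app T := ↾(fun s : SecT X T.unop => (⟨m.f s.1, s.2 ≫ m.φ s.1⟩ : SecT Y T.unop))
  naturality T T' h := by
    refine ConcreteCategory.hom_ext _ _ (fun s => ?_)
    change (⟨m.f s.1, (h.unop ≫ s.2) ≫ m.φ s.1⟩ : SecT Y T'.unop) =
      ⟨m.f s.1, h.unop ≫ s.2 ≫ m.φ s.1⟩
    rw [Category.assoc]

/-- the functor of sections -/
def Sec : FormalCoproduct.{u} C ⥤ (Cᵒᵖ ⥤ Type u) where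
  obj X := secObj X
  map m := secMap m
  map_id X := by
    refine NatTrans.ext (funext fun T => ConcreteCategory.hom_ext _ _ (fun s => ?_))
    change (⟨s.1, s.2 ≫ 𝟙 _⟩ : SecT X T.unop) = s
    rw [Category.comp_id]
    rfl
  map_comp m m' := by
    refine NatTrans.ext (funext fun T => ConcreteCategory.hom_ext _ _ (fun s => ?_))
    change (⟨m'.f (m.f s.1), s.2 ≫ m.φ s.1 ≫ m'.φ (m.f s.1)⟩ : SecT _ T.unop) =
      ⟨m'.f (m.f s.1), (s.2 ≫ m.φ s.1) ≫ m'.φ (m.f s.1)⟩
    rw [Category.assoc]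

lemma Sec_map_app {X Y : FormalCoproduct.{u} C} (m : X ⟶ Y) (T : C) (s : SecT X T) :
    (Sec.map m).app (op T) s = (⟨m.f s.1, s.2 ≫ m.φ s.1⟩ : SecT Y T) := rfl

lemma Sec_obj_map (X : FormalCoproduct.{u} C) {T T' : C} (h : T' ⟶ T) (s : SecT X T) :
    (Sec.obj X).map h.op s = (⟨s.1, h ≫ s.2⟩ : SecT X T') := rfl

/-- the cofan of the presheaf of sections -/
def secCofan (X : FormalCoproduct.{u} C) : Cofan (fun i : X.I => yoneda.obj (X.obj i)) :=
  Cofan.mk (Sec.obj X) (fun i =>
    { app := fun T => ↾(fun g : T.unop ⟶ X.obj i => (⟨i, g⟩ : SecT X T.unop))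
      naturality := fun T T' h => rfl })

/-- the presheaf of sections is the coproduct of the representable presheaves -/
def isColimitSecCofan (X : FormalCoproduct.{u} C) : IsColimit (secCofan X) :=
  mkCofanColimit _
    (fun s =>
      { app := fun T => ↾(fun x : SecT X T.unop => (s.inj x.1).app T x.2)
        naturality := fun T T' h => by
          refine ConcreteCategory.hom_ext _ _ (fun x => ?_)
          exact congrArg (fun φ => φ x.2) ((s.inj x.1).naturality h) })
    (fun s i => by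
      refine NatTrans.ext (funext fun T => ConcreteCategory.hom_ext _ _ (fun g => ?_))
      rfl)
    (fun s m hm => by
      refine NatTrans.ext (funext fun T => ConcreteCategory.hom_ext _ _ (fun x => ?_))
      obtain ⟨i, g⟩ := x
      have h := congrArg (fun φ => φ.app T g) (hm i)
      exact h)

/-- the comparison with the coproduct of the representable presheaves -/
noncomputable def secIso (X : FormalCoproduct.{u} C) :
    FormalCoproduct.yoneda.obj X ≅ Sec.obj X :=
  (coproductIsCoproduct (fun i : X.I => yoneda.obj (X.obj i))).coconePointUniqueUpToIso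
    (isColimitSecCofan X)

lemma ι_secIso_hom (X : FormalCoproduct.{u} C) (i : X.I) :
    Sigma.ι (fun i : X.I => yoneda.obj (X.obj i)) i ≫ (secIso X).hom = (secCofan X).inj i :=
  IsColimit.comp_coconePointUniqueUpToIso_hom
    (coproductIsCoproduct (fun i : X.I => yoneda.obj (X.obj i))) (isColimitSecCofan X) ⟨i⟩

lemma secIso_naturality {X Y : FormalCoproduct.{u} C} (m : X ⟶ Y) :
    FormalCoproduct.yoneda.map m ≫ (secIso Y).hom = (secIso X).hom ≫ Sec.map m := by
  apply Sigma.hom_ext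
  intro i
  have h1 : Sigma.ι (fun i : X.I => yoneda.obj (X.obj i)) i ≫ FormalCoproduct.yoneda.map m =
      yoneda.map (m.φ i) ≫ Sigma.ι (fun j : Y.I => yoneda.obj (Y.obj j)) (m.f i) :=
    Sigma.ι_desc (fun i => yoneda.map (m.φ i) ≫ Sigma.ι (yoneda.obj ∘ Y.obj) (m.f i)) i
  have h2 : Sigma.ι (fun i : X.I => yoneda.obj (X.obj i)) i ≫
      (FormalCoproduct.yoneda.map m ≫ (secIso Y).hom) =
      yoneda.map (m.φ i) ≫ (secCofan Y).inj (m.f i) :=
    (Category.assoc _ _ _).symm.trans ((congrArg (fun z => z ≫ (secIso Y).hom) h1).trans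
      ((Category.assoc _ _ _).trans
        (congrArg (fun z => yoneda.map (m.φ i) ≫ z) (ι_secIso_hom Y (m.f i)))))
  have h3 : Sigma.ι (fun i : X.I => yoneda.obj (X.obj i)) i ≫ ((secIso X).hom ≫ Sec.map m) =
      (secCofan X).inj i ≫ Sec.map m :=
    (Category.assoc _ _ _).symm.trans (congrArg (fun z => z ≫ Sec.map m) (ι_secIso_hom X i))
  refine h2.trans (Eq.trans ?_ h3.symm)
  refine NatTrans.ext (funext fun T => ConcreteCategory.hom_ext _ _ (fun g => ?_))
  rfl

/-- the natural isomorphism with the Yoneda functor of formal coproducts -/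
noncomputable def secNatIso : (FormalCoproduct.yoneda : FormalCoproduct.{u} C ⥤ _) ≅ Sec :=
  NatIso.ofComponents secIso (fun m => secIso_naturality m)

/-! ### copowers -/

/-- the copower of an object -/
def cop (I : Type u) (T : C) : FormalCoproduct.{u} C := ⟨I, fun _ => T⟩

/-- morphisms from a copower are families of sections -/
def famEquiv {I : Type u} {T : C} {X : FormalCoproduct.{u} C} :
    (cop I T ⟶ X) ≃ (I → SecT X T) where
  toFun m a := ⟨m.f a, m.φ a⟩
  invFun s := ⟨fun a => (s a).1, fun a => (s a).2⟩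
  left_inv _ := rfl
  right_inv _ := rfl

lemma famEquiv_comp {I : Type u} {T : C} {X Y : FormalCoproduct.{u} C} (m : cop I T ⟶ X)
    (g : X ⟶ Y) (a : I) :
    famEquiv (m ≫ g) a = (Sec.map g).app (op T) (famEquiv m a) := rfl

/-- reindexing of copowers -/
def copMap {I I' : Type u} (r : I' → I) (T : C) : cop I' T ⟶ cop I T := ⟨r, fun _ => 𝟙 T⟩

lemma copMap_id (I : Type u) (T : C) : copMap (id : I → I) T = 𝟙 (cop I T) := rfl

lemma copMap_comp {I I' I'' : Type u} (r : I' → I) (r' : I'' → I') (T : C) :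
    copMap (r ∘ r') T = copMap r' T ≫ copMap r T := by
  refine FormalCoproduct.hom_ext rfl (fun i => ?_)
  change 𝟙 T ≫ eqToHom _ = 𝟙 T ≫ 𝟙 T
  rw [eqToHom_refl]

lemma famEquiv_copMap {I I' : Type u} (r : I' → I) {T : C} {X : FormalCoproduct.{u} C}
    (m : cop I T ⟶ X) (a : I') : famEquiv (copMap r T ≫ m) a = famEquiv m (r a) := by
  change (⟨m.f (r a), 𝟙 T ≫ m.φ (r a)⟩ : SecT X T) = ⟨m.f (r a), m.φ (r a)⟩
  rw [Category.id_comp]

/-- restriction of copowers -/
def copRes (I : Type u) {T T' : C} (h : T' ⟶ T) : cop I T' ⟶ cop I T := ⟨id, fun _ => h⟩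

lemma famEquiv_copRes {I : Type u} {T T' : C} (h : T' ⟶ T) {X : FormalCoproduct.{u} C}
    (m : cop I T ⟶ X) (a : I) :
    famEquiv (copRes I h ≫ m) a = (Sec.obj X).map h.op (famEquiv m a) := rfl

lemma copMap_copRes {I I' : Type u} (r : I' → I) {T T' : C} (h : T' ⟶ T) :
    copMap r T' ≫ copRes I h = copRes I' h ≫ copMap r T := by
  refine FormalCoproduct.hom_ext rfl (fun i => ?_)
  change (𝟙 T' ≫ h) ≫ eqToHom _ = h ≫ 𝟙 T
  rw [eqToHom_refl, Category.id_comp]

/-! ### the copower of an object by a simplex -/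

/-- the copower of `T` by the standard simplex of dimension `m` -/
def A (m : ℕ) (T : C) : SimplicialObject (FormalCoproduct.{u} C) where
  obj Δ := cop (ULift.{u} (Δ.unop ⟶ ⦋m⦌)) T
  map θ := copMap (fun σ => ULift.up (θ.unop ≫ σ.down)) T
  map_id Δ := by
    have h : (fun σ : ULift.{u} (Δ.unop ⟶ ⦋m⦌) => ULift.up ((𝟙 Δ).unop ≫ σ.down)) = id := by
      funext σ
      change ULift.up (𝟙 _ ≫ σ.down) = σ
      rw [Category.id_comp]
    rw [h]
    rfl
  map_comp {Δ Δ' Δ''} θ θ' := by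
    have h : (fun σ : ULift.{u} (Δ.unop ⟶ ⦋m⦌) => ULift.up ((θ ≫ θ').unop ≫ σ.down)) =
        (fun σ : ULift.{u} (Δ'.unop ⟶ ⦋m⦌) => ULift.up (θ'.unop ≫ σ.down)) ∘
          (fun σ : ULift.{u} (Δ.unop ⟶ ⦋m⦌) => ULift.up (θ.unop ≫ σ.down)) := by
      funext σ
      change ULift.up ((θ'.unop ≫ θ.unop) ≫ σ.down) = ULift.up (θ'.unop ≫ θ.unop ≫ σ.down)
      rw [Category.assoc]
    rw [h]
    exact copMap_comp _ _ T

variable {m : ℕ} {T : C} {L L' : SimplicialObject (FormalCoproduct.{u} C)}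

/-- the value of a morphism from a copower at the identity -/
def ev0 (g : A m T ⟶ L) : SecT (L.obj (op ⦋m⦌)) T :=
  famEquiv (g.app (op ⦋m⦌)) (ULift.up (𝟙 _))

lemma fam_eq_ev0 (g : A m T ⟶ L) (Δ : SimplexCategoryᵒᵖ) (σ : ULift.{u} (Δ.unop ⟶ ⦋m⦌)) :
    famEquiv (g.app Δ) σ = (Sec.map (L.map σ.down.op)).app (op T) (ev0 g) := by
  have nat : (A m T).map σ.down.op ≫ g.app Δ = g.app (op ⦋m⦌) ≫ L.map σ.down.op :=
    g.naturality σ.down.op
  have h1 := congrArg (fun φ => famEquiv φ (ULift.up (𝟙 ⦋m⦌))) nat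
  have h2 : famEquiv ((A m T).map σ.down.op ≫ g.app Δ) (ULift.up (𝟙 ⦋m⦌)) =
      famEquiv (g.app Δ) σ := by
    refine (famEquiv_copMap _ (g.app Δ) _).trans ?_
    refine congrArg (famEquiv (g.app Δ)) ?_
    change ULift.up (σ.down ≫ 𝟙 _) = σ
    rw [Category.comp_id]
  exact h2.symm.trans h1

lemma hom_ext_ev0 (g g' : A m T ⟶ L) (h : ev0 g = ev0 g') : g = g' := by
  refine NatTrans.ext (funext fun Δ => famEquiv.injective (funext fun σ => ?_))
  rw [fam_eq_ev0, fam_eq_ev0, h]

/-- the morphism from the copower attached to a simplex -/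
def yo (x : SecT (L.obj (op ⦋m⦌)) T) : A m T ⟶ L where
  app Δ := famEquiv.symm (fun σ => (Sec.map (L.map σ.down.op)).app (op T) x)
  naturality Δ Δ' θ := by
    apply famEquiv.injective
    funext σ
    refine (famEquiv_copMap _ _ σ).trans ?_
    refine Eq.trans ?_ (famEquiv_comp _ (L.map θ) σ).symm
    change (Sec.map (L.map (θ.unop ≫ σ.down).op)).app (op T) x =
      (Sec.map (L.map θ)).app (op T) ((Sec.map (L.map σ.down.op)).app (op T) x)
    have e : (θ.unop ≫ σ.down).op = σ.down.op ≫ θ := by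
      rw [op_comp]
      rfl
    rw [e, L.map_comp, Sec.map_comp]
    rfl

lemma ev0_yo (x : SecT (L.obj (op ⦋m⦌)) T) : ev0 (yo x) = x := by
  change (Sec.map (L.map (𝟙 ⦋m⦌).op)).app (op T) x = x
  rw [op_id, L.map_id, Sec.map_id]
  rfl

lemma ev0_comp (g : A m T ⟶ L) (h : L ⟶ L') :
    ev0 (g ≫ h) = (Sec.map (h.app (op ⦋m⦌))).app (op T) (ev0 g) := rfl

/-- restriction of the copowers -/
def Ares (m : ℕ) {T T' : C} (f : T' ⟶ T) : A m T' ⟶ A m T where
  app Δ := copRes _ f
  naturality Δ Δ' θ := copMap_copRes _ f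

lemma ev0_Ares {T' : C} (f : T' ⟶ T) (g : A m T ⟶ L) :
    ev0 (Ares m f ≫ g) = (Sec.obj (L.obj (op ⦋m⦌))).map f.op (ev0 g) := rfl

end Groth.Agent.Lib.Helper5.HyFC
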