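import Groth.Agent.Lib.Helper5.HySite

/-!
# Hypercoverings of an object are hypercoverings of the localized site
-/

set_option autoImplicit false

universe u

open CategoryTheory CategoryTheory.Limits Opposite Simplicial

noncomputable section

namespace Groth.Agent.Lib.Helper5.HyOver

open Groth.Agent.Lib.Helper5.HyCone Groth.Agent.Lib.Helper5.HyChain
  Groth.Agent.Lib.Helper5.HySheaf Groth.Agent.Lib.Helper5.HyBridge Groth.Agent.Lib.Helper5.HyFC
  Groth.Agent.Lib.Helper5.HySite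

section General

variable {C : Type u} [SmallCategory C] (J : GrothendieckTopology C)

/-- coverings of formal coproducts induce locally surjective maps on sections -/
lemma locSurj_Sec_of_isSRCovering {K L : FormalCoproduct.{u} C} (f : K ⟶ L)
    (hf : Hyper.IsSRCovering J f) : Presheaf.IsLocallySurjective J (Sec.map f) := by
  refine ⟨fun {U} s => ?_⟩
  obtain ⟨j, g⟩ := s
  refine J.superset_covering ?_ (J.pullback_stable g (hf j))
  intro T' h' hh
  obtain ⟨i, a, ha⟩ := (Sieve.mem_ofArrows_iff _ _ _).1 hh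
  obtain ⟨i, rfl⟩ := i
  have ha' : h' ≫ g = a ≫ f.φ i := by
    rw [ha]
    simp
  refine ⟨(⟨i, a⟩ : SecT K T'), ?_⟩
  change (⟨f.f i, a ≫ f.φ i⟩ : SecT L T') = ⟨f.f i, h' ≫ g⟩
  rw [ha']

lemma yoneda_map_eq {K L : FormalCoproduct.{u} C} (f : K ⟶ L) :
    FormalCoproduct.yoneda.map f = (secIso K).hom ≫ Sec.map f ≫ (secIso L).inv := by
  rw [← Category.assoc, ← secIso_naturality, Category.assoc, Iso.hom_inv_id, Category.comp_id]

lemma locSurj_yoneda_of_isSRCovering {K L : FormalCoproduct.{u} C} (f : K ⟶ L)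
    (hf : Hyper.IsSRCovering J f) :
    Presheaf.IsLocallySurjective J (FormalCoproduct.yoneda.map f) := by
  haveI := locSurj_Sec_of_isSRCovering J f hf
  rw [yoneda_map_eq]
  infer_instance

lemma subsingleton_terminal_obj (V : C) : Subsingleton ((⊤_ (Cᵒᵖ ⥤ Type u)).obj (op V)) := by
  constructor
  intro x y
  have h : yonedaEquiv.symm x = yonedaEquiv.symm y := Subsingleton.elim _ _
  exact yonedaEquiv.symm.injective h

lemma prod_obj_ext {F G : Cᵒᵖ ⥤ Type u} {T : C} (x y : (F ⨯ G).obj (op T))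
    (h1 : (prod.fst : F ⨯ G ⟶ F).app (op T) x = (prod.fst : F ⨯ G ⟶ F).app (op T) y)
    (h2 : (prod.snd : F ⨯ G ⟶ G).app (op T) x = (prod.snd : F ⨯ G ⟶ G).app (op T) y) :
    x = y := by
  have h : yonedaEquiv.symm x = yonedaEquiv.symm y := by
    apply Limits.prod.hom_ext
    · apply yonedaEquiv.injective
      rw [yonedaEquiv_comp, yonedaEquiv_comp, Equiv.apply_symm_apply, Equiv.apply_symm_apply]
      exact h1
    · apply yonedaEquiv.injective
      rw [yonedaEquiv_comp, yonedaEquiv_comp, Equiv.apply_symm_apply, Equiv.apply_symm_apply]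
      exact h2
  exact yonedaEquiv.symm.injective h

lemma secIso_hom_injective (X : FormalCoproduct.{u} C) (T : C)
    (x y : (FormalCoproduct.yoneda.obj X).obj (op T))
    (h : (secIso X).hom.app (op T) x = (secIso X).hom.app (op T) y) : x = y := by
  have h1 := congrArg (fun z => (secIso X).inv.app (op T) z) h
  have e : ∀ z, (secIso X).inv.app (op T) ((secIso X).hom.app (op T) z) = z := fun z =>
    congrArg (fun φ => φ.app (op T) z) (secIso X).hom_inv_id
  exact (e x).symm.trans (h1.trans (e y))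

lemma secIso_hom_inv_apply (X : FormalCoproduct.{u} C) (T : C) (x : SecT X T) :
    (secIso X).hom.app (op T) ((secIso X).inv.app (op T) x) = x :=
  congrArg (fun φ => φ.app (op T) x) (secIso X).inv_hom_id

end General

section Zero

variable {C : Type u} [SmallCategory C] (J : GrothendieckTopology C)
variable {K : SimplicialObject (FormalCoproduct.{u} C)}

/-- the family on the `0`-skeleton of the `1`-simplex attached to two vertices -/
def vtx {T : C} (c : Fin 2 → SecT (K.obj (op ⦋0⦌)) T) (Δ : SimplexCategory) (_ : Δ.len ≤ 0)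
    (σ : Δ ⟶ ⦋1⦌) : SecT (K.obj (op Δ)) T :=
  sopg (PK K) (SimplexCategory.const Δ ⦋0⦌ 0) (c (σ.toOrderHom 0))

lemma vtx_comp {T : C} (c : Fin 2 → SecT (K.obj (op ⦋0⦌)) T) (Δ Δ' : SimplexCategory)
    (hΔ : Δ.len ≤ 0) (hΔ' : Δ'.len ≤ 0) (τ : Δ' ⟶ Δ) (σ : Δ ⟶ ⦋1⦌) :
    (Sec.map (K.map τ.op)).app (op T) (vtx c Δ hΔ σ) = vtx c Δ' hΔ' (τ ≫ σ) := by
  have e1 : τ ≫ SimplexCategory.const Δ ⦋0⦌ 0 = SimplexCategory.const Δ' ⦋0⦌ 0 := by
    ext x
    exact congrArg Fin.val (Subsingleton.elim (α := Fin 1) _ _)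
  have : Subsingleton (Fin (Δ.len + 1)) := Fin.subsingleton_iff_le_one.2 (by omega)
  have e2 : (τ ≫ σ).toOrderHom 0 = σ.toOrderHom 0 := by
    change σ.toOrderHom (τ.toOrderHom 0) = σ.toOrderHom 0
    exact congrArg _ (Subsingleton.elim _ _)
  change sopg (PK K) τ (sopg (PK K) (SimplexCategory.const Δ ⦋0⦌ 0) (c (σ.toOrderHom 0))) =
    sopg (PK K) (SimplexCategory.const Δ' ⦋0⦌ 0) (c ((τ ≫ σ).toOrderHom 0))
  rw [← sopg_comp, e1, e2]

lemma vtx_δ {T : C} (c : Fin 2 → SecT (K.obj (op ⦋0⦌)) T) (i : Fin 2) :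
    vtx c ⦋0⦌ (le_refl _) (SimplexCategory.δ i) = c (i.succAbove 0) := by
  have e1 : SimplexCategory.const ⦋0⦌ ⦋0⦌ 0 = 𝟙 _ := by
    ext x
    exact congrArg Fin.val (Subsingleton.elim (α := Fin 1) _ _)
  change sopg (PK K) (SimplexCategory.const ⦋0⦌ ⦋0⦌ 0) (c (i.succAbove 0)) = _
  rw [e1]
  exact sopg_id (PK K) _

variable [∀ (n : ℕ) (F : (SimplexCategory.Truncated n)ᵒᵖ ⥤ FormalCoproduct.{u} C),
  (SimplexCategory.Truncated.inclusion n).op.HasRightKanExtension F]

/-- local surjectivity of the unit of the `0`-coskeleton in degree one gives local fillers of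
pairs of vertices -/
lemma locFill_pair
    (h0 : Presheaf.IsLocallySurjective J
      (FormalCoproduct.yoneda.map (((SimplicialObject.coskAdj 0).unit.app K).app (op ⦋1⦌))))
    (T : C) (c : Fin 2 → SecT (K.obj (op ⦋0⦌)) T) : ∃ S : Sieve T, S ∈ J T ∧
      ∀ ⦃T' : C⦄ (f : T' ⟶ T), S f → ∃ x : SecT (K.obj (op ⦋1⦌)) T',
        ∀ i : Fin 2, (Sec.map (K.δ i)).app (op T') x =
          (Sec.obj (K.obj (op ⦋0⦌))).map f.op (c (i.succAbove 0)) := by
  have := locSurj_sec J _ h0
  let s := ev0 ((SimplicialObject.coskAdj 0).homEquiv (A 1 T) _ (φfam (vtx c) (vtx_comp c)))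
  refine ⟨Presheaf.imageSieve
      (Sec.map (((SimplicialObject.coskAdj 0).unit.app K).app (op ⦋1⦌))) s,
    Presheaf.imageSieve_mem J
      (Sec.map (((SimplicialObject.coskAdj 0).unit.app K).app (op ⦋1⦌))) (U := op T) s, ?_⟩
  rintro T' f ⟨x, hx⟩
  refine ⟨x, fun i => ?_⟩
  have h := sop_eq_of_unit f (vtx c) (vtx_comp c) x hx ⦋0⦌ (le_refl _) (SimplexCategory.δ i)
  refine h.trans ?_
  exact congrArg ((Sec.obj (K.obj (op ⦋0⦌))).map f.op) (vtx_δ c i)

lemma locSurj_prod_of_unit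
    (h0 : Presheaf.IsLocallySurjective J
      (FormalCoproduct.yoneda.map (((SimplicialObject.coskAdj 0).unit.app K).app (op ⦋1⦌)))) :
    Presheaf.IsLocallySurjective J
      (prod.lift (FormalCoproduct.yoneda.map (K.δ (1 : Fin 2)))
        (FormalCoproduct.yoneda.map (K.δ (0 : Fin 2)))) := by
  refine ⟨fun {T} s => ?_⟩
  let F₀ := FormalCoproduct.yoneda.obj (K.obj (op ⦋0⦌))
  let F₁ := FormalCoproduct.yoneda.obj (K.obj (op ⦋1⦌))
  let d1 : F₁ ⟶ F₀ := FormalCoproduct.yoneda.map (K.δ (1 : Fin 2))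
  let d0 : F₁ ⟶ F₀ := FormalCoproduct.yoneda.map (K.δ (0 : Fin 2))
  let a' : F₀.obj (op T) := (prod.fst : F₀ ⨯ F₀ ⟶ F₀).app (op T) s
  let b' : F₀.obj (op T) := (prod.snd : F₀ ⨯ F₀ ⟶ F₀).app (op T) s
  let c : Fin 2 → SecT (K.obj (op ⦋0⦌)) T :=
    ![(secIso (K.obj (op ⦋0⦌))).hom.app (op T) a', (secIso (K.obj (op ⦋0⦌))).hom.app (op T) b']
  obtain ⟨S, hS, hS'⟩ := locFill_pair J h0 T c
  refine J.superset_covering ?_ hS
  intro T' f hf
  obtain ⟨x, hx⟩ := hS' f hf
  -- the general transport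
  have key : ∀ (i : Fin 2) (z : F₀.obj (op T)),
      c (i.succAbove 0) = (secIso (K.obj (op ⦋0⦌))).hom.app (op T) z →
      (FormalCoproduct.yoneda.map (K.δ i)).app (op T')
        ((secIso (K.obj (op ⦋1⦌))).inv.app (op T') x) = F₀.map f.op z := by
    intro i z hz
    apply secIso_hom_injective
    have n1 := congrArg (fun φ => φ.app (op T') ((secIso (K.obj (op ⦋1⦌))).inv.app (op T') x))
      (secIso_naturality (K.δ i))
    refine n1.trans ?_
    have n2 : (secIso (K.obj (op ⦋0⦌))).hom.app (op T') (F₀.map f.op z) =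
        (Sec.obj (K.obj (op ⦋0⦌))).map f.op ((secIso (K.obj (op ⦋0⦌))).hom.app (op T) z) :=
      congrArg (fun φ => φ z) ((secIso (K.obj (op ⦋0⦌))).hom.naturality f.op)
    refine Eq.trans ?_ n2.symm
    rw [← hz, ← hx i]
    exact congrArg (fun w => (Sec.map (K.δ i)).app (op T') w) (secIso_hom_inv_apply _ _ x)
  refine ⟨(secIso (K.obj (op ⦋1⦌))).inv.app (op T') x, ?_⟩
  apply prod_obj_ext
  · have h2 : (prod.fst : F₀ ⨯ F₀ ⟶ F₀).app (op T') ((prod.lift d1 d0).app (op T')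
        ((secIso (K.obj (op ⦋1⦌))).inv.app (op T') x)) =
        d1.app (op T') ((secIso (K.obj (op ⦋1⦌))).inv.app (op T') x) :=
      congrArg (fun φ => φ.app (op T') ((secIso (K.obj (op ⦋1⦌))).inv.app (op T') x))
        (prod.lift_fst d1 d0)
    have h3 : (prod.fst : F₀ ⨯ F₀ ⟶ F₀).app (op T') ((F₀ ⨯ F₀).map f.op s) =
        F₀.map f.op ((prod.fst : F₀ ⨯ F₀ ⟶ F₀).app (op T) s) :=
      congrArg (fun φ => φ s) ((prod.fst : F₀ ⨯ F₀ ⟶ F₀).naturality f.op)
    refine h2.trans (Eq.trans ?_ h3.symm)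
    exact key 1 a' rfl
  · have h2 : (prod.snd : F₀ ⨯ F₀ ⟶ F₀).app (op T') ((prod.lift d1 d0).app (op T')
        ((secIso (K.obj (op ⦋1⦌))).inv.app (op T') x)) =
        d0.app (op T') ((secIso (K.obj (op ⦋1⦌))).inv.app (op T') x) :=
      congrArg (fun φ => φ.app (op T') ((secIso (K.obj (op ⦋1⦌))).inv.app (op T') x))
        (prod.lift_snd d1 d0)
    have h3 : (prod.snd : F₀ ⨯ F₀ ⟶ F₀).app (op T') ((F₀ ⨯ F₀).map f.op s) =
        F₀.map f.op ((prod.snd : F₀ ⨯ F₀ ⟶ F₀).app (op T) s) :=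
      congrArg (fun φ => φ s) ((prod.snd : F₀ ⨯ F₀ ⟶ F₀).naturality f.op)
    refine h2.trans (Eq.trans ?_ h3.symm)
    exact key 0 b' rfl

end Zero

section Over

variable {C : Type u} [SmallCategory C] (J : GrothendieckTopology C) (X : C)

lemma locSurj_terminal_over (K0 : FormalCoproduct.{u} (Over X))
    (h : Sieve.ofArrows (fun i => (K0.obj i).left) (fun i => (K0.obj i).hom) ∈ J X) :
    Presheaf.IsLocallySurjective (J.over X)
      (terminal.from (FormalCoproduct.yoneda.obj K0)) := by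
  refine ⟨fun {U} s => ?_⟩
  rw [GrothendieckTopology.mem_over_iff]
  refine J.superset_covering ?_ (J.pullback_stable U.hom h)
  intro W g hg
  obtain ⟨i, a, ha⟩ := (Sieve.mem_ofArrows_iff _ _ _).1 hg
  rw [Sieve.overEquiv_iff]
  refine ⟨(secIso K0).inv.app (op (Over.mk (g ≫ U.hom)))
    (⟨i, Over.homMk a ha.symm⟩ : SecT K0 (Over.mk (g ≫ U.hom))), ?_⟩
  exact (subsingleton_terminal_obj _).elim _ _

variable (K : SimplicialObject (FormalCoproduct.{u} (Over X)))
  [∀ (n : ℕ) (F : (SimplexCategory.Truncated n)ᵒᵖ ⥤ FormalCoproduct.{u} (Over X)),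
    (SimplexCategory.Truncated.inclusion n).op.HasRightKanExtension F]

/-- **a hypercovering of an object is a hypercovering of the localized site** -/
theorem isHypercoveringSite_over (hK : Hyper.IsHypercovering J X K) :
    Hyper.IsHypercoveringSite (J.over X) K :=
  ⟨locSurj_terminal_over J X _ hK.1,
    locSurj_prod_of_unit (J.over X)
      (locSurj_yoneda_of_isSRCovering (J.over X) _ (hK.2 0)),
    fun n _ => locSurj_yoneda_of_isSRCovering (J.over X) _ (hK.2 n)⟩

/-- the constant sheaves with values `ℤ` -/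
def constIso {D : Type u} [SmallCategory D] (J' : GrothendieckTopology D) :
    (constantSheaf J' AddCommGrpCat.{u}).obj (AddCommGrpCat.of (ULift.{u} ℤ)) ≅
      (presheafToSheaf J' AddCommGrpCat.{u}).obj
        ((Functor.const Dᵒᵖ).obj (AddCommGrpCat.free.{u}.obj PUnit.{u + 1})) :=
  (constantSheaf J' AddCommGrpCat.{u}).mapIso
    (AddEquiv.toAddCommGrpIso
      (AddEquiv.ulift.trans (FreeAbelianGroup.uniqueEquiv PUnit.{u + 1}).symm))

include K in
theorem freeChainCx_over_acyclic (hK : Hyper.IsHypercovering J X K) :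
    (∀ i : ℕ, IsZero ((Hyper.freeChainCx (J.over X) K).homology (i + 1))) ∧
    Nonempty ((Hyper.freeChainCx (J.over X) K).homology 0 ≅
      (presheafToSheaf (J.over X) AddCommGrpCat.{u}).obj
        ((Functor.const (Over X)ᵒᵖ).obj (AddCommGrpCat.free.{u}.obj PUnit.{u + 1}))) := by
  obtain ⟨h1, ⟨e⟩⟩ := freeChainCx_acyclic (J.over X) (isHypercoveringSite_over J X K hK)
  exact ⟨h1, ⟨e ≪≫ constIso (J.over X)⟩⟩

end Over

end Groth.Agent.Lib.Helper5.HyOver
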