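import Groth.Agent.Lib.Helper5.CechClosed

/-!
# Dimension shifting for the cohomology of the extended Čech complex

* `Hq_iso_of_tors`: a linear map with `fs`-torsion kernel and cokernel induces isomorphisms on `H^p`,
  `p ≥ 2`.
* `dimShift`: for `0 → NG → NA → NQ` exact with `NA` Čech-acyclic, `NQ` closed and `NQ / im` torsion:
  `H^2(NG) ≅ NQ / im` and `H^{p+3}(NG) ≅ H^{p+2}(NQ)`.
-/

set_option autoImplicit false

universe u

open CategoryTheory CategoryTheory.Limits CochainComplex DerCA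
open Groth.Agent.Lib.Helper28.ExtCech Groth.Agent.Lib.Helper5.ExtCechFunctor
open Groth.Agent.Lib.Helper5.ExtCechH0

noncomputable section

namespace Groth.Agent.Lib.Helper5.CechClosed

variable {R : Type u} [CommRing R]

lemma tors_ker {M N : ModuleCat.{u} R} (r : M ⟶ N) (fs : List R)
    (hK : ∀ m : M, r.hom m = 0 → ∀ f ∈ fs, ∃ n : ℕ, f ^ n • m = 0) :
    Tors fs (ModuleCat.of R (LinearMap.ker r.hom)) := by
  intro f hf x
  obtain ⟨n, hn⟩ := hK x.1 x.2 f hf
  exact ⟨n, Subtype.ext hn⟩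

lemma tors_coker {M N : ModuleCat.{u} R} (r : M ⟶ N) (fs : List R)
    (hC : ∀ y : N, ∀ f ∈ fs, ∃ (n : ℕ) (m : M), r.hom m = f ^ n • y) :
    Tors fs (ModuleCat.of R (N ⧸ LinearMap.range r.hom)) := by
  intro f hf y
  obtain ⟨y', rfl⟩ := Submodule.mkQ_surjective _ y
  obtain ⟨n, m, hm⟩ := hC y' f hf
  refine ⟨n, ?_⟩
  rw [← map_smul, ← hm]
  exact (Submodule.Quotient.mk_eq_zero _).2 ⟨m, rfl⟩

/-- an exact sequence `A → B → C` of cohomology with `A` and `C` zero in the right places gives an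
isomorphism: the map induced by `g` of a short exact sequence is an isomorphism on `H^p` when
`H^p` and `H^{p+1}` of the kernel vanish -/
lemma isIso_homologyMap_g {T : ShortComplex (ModuleCat.{u} R)} (hT : T.ShortExact) (fs : List R)
    (p : ℤ) (h1 : IsZero (Hq fs T.X₁ p)) (h2 : IsZero (Hq fs T.X₁ (p + 1))) :
    IsIso (HomologicalComplex.homologyMap ((T.map (cechF fs)).g) p) := by
  have hS := cechF_shortExact fs T hT
  haveI : Mono (HomologicalComplex.homologyMap ((T.map (cechF fs)).g) p) :=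
    (hS.homology_exact₂ p).mono_g (h1.eq_of_src _ _)
  haveI : Epi (HomologicalComplex.homologyMap ((T.map (cechF fs)).g) p) :=
    (hS.homology_exact₃ p (p + 1) rfl).epi_f (h2.eq_of_tgt _ _)
  exact isIso_of_mono_of_epi _

/-- the map induced by `f` of a short exact sequence is an isomorphism on `H^p` when
`H^{p-1}` and `H^p` of the cokernel vanish -/
lemma isIso_homologyMap_f {T : ShortComplex (ModuleCat.{u} R)} (hT : T.ShortExact) (fs : List R)
    (p₀ p : ℤ) (hp : p₀ + 1 = p) (h1 : IsZero (Hq fs T.X₃ p₀)) (h2 : IsZero (Hq fs T.X₃ p)) :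
    IsIso (HomologicalComplex.homologyMap ((T.map (cechF fs)).f) p) := by
  have hS := cechF_shortExact fs T hT
  haveI : Mono (HomologicalComplex.homologyMap ((T.map (cechF fs)).f) p) :=
    (hS.homology_exact₁ p₀ p hp).mono_g (h1.eq_of_src _ _)
  haveI : Epi (HomologicalComplex.homologyMap ((T.map (cechF fs)).f) p) :=
    (hS.homology_exact₂ p).epi_f (h2.eq_of_tgt _ _)
  exact isIso_of_mono_of_epi _

theorem Hq_iso_of_tors {M N : ModuleCat.{u} R} (r : M ⟶ N) (fs : List R)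
    (hK : ∀ m : M, r.hom m = 0 → ∀ f ∈ fs, ∃ n : ℕ, f ^ n • m = 0)
    (hC : ∀ y : N, ∀ f ∈ fs, ∃ (n : ℕ) (m : M), r.hom m = f ^ n • y)
    (n₀ : ℤ) (hn : 0 ≤ n₀) : Nonempty (Hq fs M (n₀ + 2) ≅ Hq fs N (n₀ + 2)) := by
  have tK := tors_ker r fs hK
  have tC := tors_coker r fs hC
  have h1 := isIso_homologyMap_g (ses1_shortExact r) fs (n₀ + 2)
    (by
      have := isZero_Hq_of_tors fs _ tK (n₀ + 1) (by omega)
      rwa [show n₀ + 1 + 1 = n₀ + 2 by ring] at this)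
    (isZero_Hq_of_tors fs _ tK (n₀ + 2) (by omega))
  have h2 := isIso_homologyMap_f (ses2_shortExact r) fs (n₀ + 1) (n₀ + 2) (by ring)
    (isZero_Hq_of_tors fs _ tC n₀ hn)
    (by
      have := isZero_Hq_of_tors fs _ tC (n₀ + 1) (by omega)
      rwa [show n₀ + 1 + 1 = n₀ + 2 by ring] at this)
  exact ⟨@asIso _ _ _ _ _ h1 ≪≫ @asIso _ _ _ _ _ h2⟩

section DimShift

variable {NG NA NQ : ModuleCat.{u} R} (a : NG ⟶ NA) (b : NA ⟶ NQ)

/-- `0 → NG → NA → im b → 0` -/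
def sesA (hab : ∀ x, b.hom (a.hom x) = 0) : ShortComplex (ModuleCat.{u} R) :=
  ShortComplex.mk a (ModuleCat.ofHom b.hom.rangeRestrict) (by
    apply ModuleCat.hom_ext
    apply LinearMap.ext
    intro x
    exact Subtype.ext (hab x))

lemma sesA_shortExact (hab : ∀ x, b.hom (a.hom x) = 0) (ha : Function.Injective a.hom)
    (hex : ∀ y, b.hom y = 0 → ∃ x, a.hom x = y) : (sesA a b hab).ShortExact := by
  refine shortExact_of (S := sesA a b hab) ha ?_ ?_
  · rintro ⟨y, x, rfl⟩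
    exact ⟨x, rfl⟩
  · intro y hy
    exact hex y (congrArg Subtype.val hy)

variable (fs : List R)

theorem dimShift (hab : ∀ x, b.hom (a.hom x) = 0) (ha : Function.Injective a.hom)
    (hex : ∀ y, b.hom y = 0 → ∃ x, a.hom x = y)
    (hA : ∀ p : ℤ, IsZero (Hq fs NA p))
    (hQ : Closed fs NQ)
    (hT : ∀ y : NQ, ∀ f ∈ fs, ∃ (n : ℕ) (m : NA), b.hom m = f ^ n • y) :
    Nonempty (Hq fs NG 2 ≅ ModuleCat.of R (NQ ⧸ LinearMap.range b.hom)) ∧
    ∀ n₀ : ℤ, 0 ≤ n₀ → Nonempty (Hq fs NG (n₀ + 3) ≅ Hq fs NQ (n₀ + 2)) := by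
  have hS1 := cechF_shortExact fs (sesA a b hab) (sesA_shortExact a b hab ha hex)
  have hS2 := cechF_shortExact fs (ses2 b) (ses2_shortExact b)
  have tC := tors_coker b fs hT
  -- `H^p(im b) ≅ H^{p+1}(NG)`
  have d1 : ∀ p : ℤ, Nonempty (Hq fs (ModuleCat.of R (LinearMap.range b.hom)) p ≅
      Hq fs NG (p + 1)) := fun p => ⟨hS1.δIso p (p + 1) rfl (hA p) (hA (p + 1))⟩
  constructor
  · obtain ⟨e1⟩ := d1 1
    -- `H^0(T) ≅ H^1(im b)`
    let e2 : Hq fs (ModuleCat.of R (NQ ⧸ LinearMap.range b.hom)) 0 ≅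
        Hq fs (ModuleCat.of R (LinearMap.range b.hom)) 1 :=
      hS2.δIso 0 1 (by simp) hQ.1 hQ.2
    haveI : IsIso (ρ fs (ModuleCat.of R (NQ ⧸ LinearMap.range b.hom))) := by
      rw [ConcreteCategory.isIso_iff_bijective]
      refine ⟨(ρ_spec fs _).1, fun y => ?_⟩
      exact ((ρ_spec fs _).2 y).2 (fun f hf => tC f hf y)
    let e3 : Hq fs (ModuleCat.of R (NQ ⧸ LinearMap.range b.hom)) 0 ≅
        ModuleCat.of R (NQ ⧸ LinearMap.range b.hom) :=
      asIso (ρ fs (ModuleCat.of R (NQ ⧸ LinearMap.range b.hom)))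
    exact ⟨e1.symm ≪≫ e2.symm ≪≫ e3⟩
  · intro n₀ hn
    obtain ⟨e1⟩ := d1 (n₀ + 2)
    have h2 := isIso_homologyMap_f (ses2_shortExact b) fs (n₀ + 1) (n₀ + 2) (by ring)
      (isZero_Hq_of_tors fs _ tC n₀ hn)
      (by
        have := isZero_Hq_of_tors fs _ tC (n₀ + 1) (by omega)
        rwa [show n₀ + 1 + 1 = n₀ + 2 by ring] at this)
    have e1' : Hq fs (ModuleCat.of R (LinearMap.range b.hom)) (n₀ + 2) ≅ Hq fs NG (n₀ + 3) := by
      rw [show n₀ + 3 = n₀ + 2 + 1 by ring]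
      exact e1
    exact ⟨e1'.symm ≪≫ @asIso _ _ _ _ _ h2⟩

end DimShift

end Groth.Agent.Lib.Helper5.CechClosed
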