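import Groth.Agent.Lib.Helper5.QcqsClosedHom
import Groth.Agent.Lib.Helper5.CechDimShift
import Groth.Agent.Lib.Helper22.Cech.AffineMorphism
import Groth.Agent.Lib.Helper22.FourTerm
import Groth.Agent.Lib.Helper29.QCohCrit
import Groth.Agent.Lib.Helper17.ModSiteExact

/-!
# An acyclic quasi-coherent embedding

For a separated scheme `Y`, a ring map `φ : R → Γ(Y, ⊤)` and elements `f₀, f₁, …` of `R` such that the
`Y_{φ f_i}` are affine and cover `Y`, every quasi-coherent module `G` embeds into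
`A = ⨁ (j_i)_* (j_i)^* G`, which has no higher cohomology and whose module of global sections is
acyclic for the extended Čech complex.
-/

set_option autoImplicit false

universe u

open CategoryTheory CategoryTheory.Limits AlgebraicGeometry Opposite TopologicalSpace
open Groth.Agent.Lib.Helper29.QCoh Groth.Agent.Lib.Helper5.CechClosed
open Groth.Agent.Lib.Helper5.QcqsClosed Groth.Agent.Lib.Helper5.QcqsClosedHom
open Groth.Agent.Lib.Helper28.ExtCech Groth.Agent.Lib.Helper5.ExtCechH0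

noncomputable section

namespace Groth.Agent.Lib.Helper5.AcyclicEmb

variable {Y : Scheme.{u}} {R : Type u} [CommRing R] (φ : R →+* Γ(Y, ⊤))

/-! ### Global sections as an `R`-module -/

/-- global sections as an `R`-module, functorially -/
def Nf : Y.Modules ⥤ ModuleCat.{u} R where
  obj G := secModφ φ G ⊤
  map {G G'} ψ :=
    letI := sectionsModule G (le_top : (⊤ : Y.Opens) ≤ ⊤)
    letI := sectionsModule G' (le_top : (⊤ : Y.Opens) ≤ ⊤)
    letI : Module R Γ(G, ⊤) := Module.compHom _ φ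
    letI : Module R Γ(G', ⊤) := Module.compHom _ φ
    ModuleCat.ofHom
      { toFun := fun m => ψ.app ⊤ m
        map_add' := fun a b => map_add (ψ.app ⊤).hom a b
        map_smul' := fun r m => app_rsmul ψ (le_top : (⊤ : Y.Opens) ≤ ⊤) (φ r) m }
  map_id G := rfl
  map_comp ψ ψ' := rfl

lemma Nf_map_apply {G G' : Y.Modules} (ψ : G ⟶ G') (m : (Nf φ).obj G) :
    ((Nf φ).map ψ).hom m = ψ.app ⊤ m := rfl

instance : (Nf φ).Additive where
  map_add {G G' ψ ψ'} := rfl

/-! ### One affine open -/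

lemma isAffineHom_ι [Y.IsSeparated] {V : Y.Opens} (hV : IsAffineOpen V) : IsAffineHom V.ι := by
  have h1 : IsAffine V.toScheme := hV
  have h2 : IsSeparated (terminal.from Y) := inferInstance
  have h3 : IsAffineHom (V.ι ≫ terminal.from Y) := by
    have e : V.ι ≫ terminal.from Y = terminal.from V.toScheme := terminal.hom_ext _ _
    rw [e]
    infer_instance
  exact IsAffineHom.of_comp V.ι (terminal.from Y)

variable (g : Γ(Y, ⊤)) (G : Y.Modules)

/-- `j_* j^* G` for the inclusion `j` of `Y_g` -/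
def Af : Y.Modules :=
  (Scheme.Modules.pushforward (Y.basicOpen g).ι).obj (G.restrict (Y.basicOpen g).ι)

/-- the unit `G ⟶ j_* j^* G` -/
def ηf : G ⟶ Af g G := (Scheme.Modules.restrictAdjunction (Y.basicOpen g).ι).unit.app G

lemma ηf_app (U : Y.Opens) (s : Γ(G, U)) :
    (ηf g G).app U s = res G ((Y.basicOpen g).ι.image_preimage_le U) s := rfl

lemma isQuasicoherent_Af [Y.IsSeparated] [G.IsQuasicoherent] (hg : IsAffineOpen (Y.basicOpen g)) :
    (Af g G).IsQuasicoherent := by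
  haveI := isAffineHom_ι hg
  exact isQuasicoherent_pushforward_of_isAffineHom (Y.basicOpen g).ι
    (G.restrict (Y.basicOpen g).ι)

lemma subsingleton_HH_Af [Y.IsSeparated] [G.IsQuasicoherent] (hg : IsAffineOpen (Y.basicOpen g))
    (q : ℕ) : Subsingleton (Coh.HH Y (Af g G) (q + 1)) := by
  haveI := isAffineHom_ι hg
  haveI : IsAffine (Y.basicOpen g).toScheme := hg
  obtain ⟨e⟩ := Groth.Agent.Lib.Helper22.Cech.nonempty_HH_addEquiv_HH_push (Y.basicOpen g).ι
    (G.restrict (Y.basicOpen g).ι) (q + 1)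
  haveI := Groth.Agent.Lib.Helper22.Cech.subsingleton_HH_succ_of_isAffine (Y.basicOpen g).toScheme
    (G.restrict (Y.basicOpen g).ι) q
  exact e.symm.toEquiv.subsingleton

/-- the function is invertible on the sections of `j_* j^* G` -/
lemma isUnit_app_top :
    IsUnit ((Y.basicOpen g).ι.app ⊤ g) := by
  have h : IsUnit (Y.presheaf.map (homOfLE (le_top :
      (Y.basicOpen g).ι ''ᵁ (Y.basicOpen g).ι ⁻¹ᵁ ⊤ ≤ ⊤)).op g) :=
    isUnit_res_of_le_basicOpen g
      (((Y.basicOpen g).ι.image_preimage_eq_opensRange_inf ⊤).le.trans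
        (inf_le_left.trans (Scheme.Opens.opensRange_ι _).le))
  exact h

lemma actsBij_Af (f : R) : ActsBij f ((Nf φ).obj (Af (φ f) G)) := by
  obtain ⟨u, hu⟩ := isUnit_app_top (φ f)
  have key : ∀ m : (Nf φ).obj (Af (φ f) G), f • m =
      (show Γ((Scheme.Modules.pushforward (Y.basicOpen (φ f)).ι).obj
          (G.restrict (Y.basicOpen (φ f)).ι), ⊤) from
        ((u : Γ((Y.basicOpen (φ f)).toScheme, (Y.basicOpen (φ f)).ι ⁻¹ᵁ ⊤)) •
          (show Γ(G.restrict (Y.basicOpen (φ f)).ι, (Y.basicOpen (φ f)).ι ⁻¹ᵁ ⊤) from m))) := by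
    intro m
    rw [hu]
    change rsmul (Af (φ f) G) (le_top : (⊤ : Y.Opens) ≤ ⊤) (φ f) m = _
    rw [rsmul_self]
    rfl
  constructor
  · intro m m' h
    have h' : f • m = f • m' := h
    rw [key, key] at h'
    have h2 := congrArg (fun z => (show Γ(G.restrict (Y.basicOpen (φ f)).ι,
      (Y.basicOpen (φ f)).ι ⁻¹ᵁ ⊤) from
        ((↑u⁻¹ : Γ((Y.basicOpen (φ f)).toScheme, (Y.basicOpen (φ f)).ι ⁻¹ᵁ ⊤)) •
          (show Γ(G.restrict (Y.basicOpen (φ f)).ι, (Y.basicOpen (φ f)).ι ⁻¹ᵁ ⊤) from z)))) h'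
    simp only [smul_smul, Units.inv_mul, one_smul] at h2
    exact h2
  · intro m
    refine ⟨(show Γ(G.restrict (Y.basicOpen (φ f)).ι, (Y.basicOpen (φ f)).ι ⁻¹ᵁ ⊤) from
      ((↑u⁻¹ : Γ((Y.basicOpen (φ f)).toScheme, (Y.basicOpen (φ f)).ι ⁻¹ᵁ ⊤)) •
        (show Γ(G.restrict (Y.basicOpen (φ f)).ι, (Y.basicOpen (φ f)).ι ⁻¹ᵁ ⊤) from m))), ?_⟩
    change f • _ = m
    rw [key]
    change ((u : Γ((Y.basicOpen (φ f)).toScheme, (Y.basicOpen (φ f)).ι ⁻¹ᵁ ⊤)) •
      ((↑u⁻¹ : Γ((Y.basicOpen (φ f)).toScheme, (Y.basicOpen (φ f)).ι ⁻¹ᵁ ⊤)) •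
        (show Γ(G.restrict (Y.basicOpen (φ f)).ι, (Y.basicOpen (φ f)).ι ⁻¹ᵁ ⊤) from m))) = m
    rw [smul_smul, Units.mul_inv, one_smul]

/-! ### The embedding -/

variable {g G} in
lemma ηf_eq_zero {U : Y.Opens} {s : Γ(G, U)} (hs : (ηf g G).app U s = 0) (W : Y.Opens)
    (hW : W ≤ U) (hWg : W ≤ Y.basicOpen g) : res G hW s = 0 := by
  have h0 : res G ((Y.basicOpen g).ι.image_preimage_le U) s = 0 := hs
  have hle : W ≤ (Y.basicOpen g).ι ''ᵁ (Y.basicOpen g).ι ⁻¹ᵁ U := by
    rw [Scheme.Hom.image_preimage_eq_opensRange_inf, Scheme.Opens.opensRange_ι]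
    exact le_inf hWg hW
  rw [← res_res G ((Y.basicOpen g).ι.image_preimage_le U) hle, h0, map_zero]

/-- `⨁ (j_f)_* (j_f)^* G` over the nonempty list `f :: l` -/
def Aobj (G : Y.Modules) : R → List R → Y.Modules
  | f, [] => Af (φ f) G
  | f, f' :: l => Af (φ f) G ⊞ Aobj G f' l

/-- the map `G ⟶ ⨁ (j_f)_* (j_f)^* G` -/
def Amap (G : Y.Modules) : ∀ (f : R) (l : List R), G ⟶ Aobj φ G f l
  | f, [] => ηf (φ f) G
  | f, f' :: l => biprod.lift (ηf (φ f) G) (Amap G f' l)

lemma biprod_shortExact {C : Type*} [Category C] [Abelian C] (A B : C) :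
    (ShortComplex.mk (biprod.inl : A ⟶ A ⊞ B) (biprod.snd : A ⊞ B ⟶ B)
      biprod.inl_snd).ShortExact :=
  (ShortComplex.Splitting.ofHasBinaryBiproduct A B).shortExact

theorem isQuasicoherent_Aobj [Y.IsSeparated] (G : Y.Modules) [G.IsQuasicoherent] :
    ∀ (f : R) (l : List R), (∀ f' ∈ f :: l, IsAffineOpen (Y.basicOpen (φ f'))) →
      (Aobj φ G f l).IsQuasicoherent
  | f, [], h => isQuasicoherent_Af (φ f) G (h f List.mem_cons_self)
  | f, f' :: l, h => by
    haveI h1 := isQuasicoherent_Af (φ f) G (h f List.mem_cons_self)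
    haveI h3 := isQuasicoherent_Aobj G f' l (fun x hx => h x (List.mem_cons_of_mem _ hx))
    exact @isQuasicoherent_of_shortExact _ _ (biprod_shortExact (Af (φ f) G) (Aobj φ G f' l)) h1 h3

lemma Amap_app_eq_zero (G : Y.Modules) : ∀ (f : R) (l : List R) (U : Y.Opens) (s : Γ(G, U)),
    (Amap φ G f l).app U s = 0 → ∀ f' ∈ f :: l, ∀ (W : Y.Opens) (hW : W ≤ U),
      W ≤ Y.basicOpen (φ f') → res G hW s = 0
  | f, [], U, s, hs, f', hf', W, hW, hWf => by
    obtain rfl : f' = f := by simpa using hf'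
    exact ηf_eq_zero hs W hW hWf
  | f, f'' :: l, U, s, hs, f', hf', W, hW, hWf => by
    have h1 : (ηf (φ f) G).app U s = 0 := by
      have e : ηf (φ f) G = Amap φ G f (f'' :: l) ≫ biprod.fst := (biprod.lift_fst _ _).symm
      rw [e, Scheme.Modules.Hom.comp_app]
      have hs' : (show Γ(Af (φ f) G ⊞ Aobj φ G f'' l, U) from
          (Amap φ G f (f'' :: l)).app U s) = 0 := hs
      exact (congrArg (fun t => (biprod.fst : Af (φ f) G ⊞ Aobj φ G f'' l ⟶ _).app U t) hs').trans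
        (map_zero _)
    have h2 : (Amap φ G f'' l).app U s = 0 := by
      have e : Amap φ G f'' l = Amap φ G f (f'' :: l) ≫ biprod.snd := (biprod.lift_snd _ _).symm
      rw [e, Scheme.Modules.Hom.comp_app]
      have hs' : (show Γ(Af (φ f) G ⊞ Aobj φ G f'' l, U) from
          (Amap φ G f (f'' :: l)).app U s) = 0 := hs
      exact (congrArg (fun t => (biprod.snd : Af (φ f) G ⊞ Aobj φ G f'' l ⟶ _).app U t) hs').trans
        (map_zero _)
    rcases List.mem_cons.1 hf' with rfl | hf''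
    · exact ηf_eq_zero h1 W hW hWf
    · exact Amap_app_eq_zero G f'' l U s h2 f' hf'' W hW hWf

theorem mono_Amap (G : Y.Modules) (f : R) (l : List R)
    (hcov : ∀ x : Y, ∃ f' ∈ f :: l, x ∈ Y.basicOpen (φ f')) : Mono (Amap φ G f l) := by
  rw [mono_iff_app_injective]
  intro U
  rw [injective_iff_map_eq_zero]
  intro s hs
  have h := Amap_app_eq_zero φ G f l U s hs
  refine eq_zero_of_res_cover_eq_zero G
    (fun i : {f' // f' ∈ f :: l} => U ⊓ Y.basicOpen (φ i.1)) (fun i => inf_le_left)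
    (fun x hx => ?_) s (fun i => h i.1 i.2 _ inf_le_left inf_le_right)
  obtain ⟨f', hf', hx'⟩ := hcov x
  exact Opens.mem_iSup.mpr ⟨⟨f', hf'⟩, ⟨hx, hx'⟩⟩

/-- the underlying abelian sheaf, as a functor on `Y.Modules` -/
def TA (Y : Scheme.{u}) : Y.Modules ⥤ Sheaf (Opens.grothendieckTopology Y) AddCommGrpCat.{u} :=
  SheafOfModules.toSheaf Y.ringCatSheaf

instance additive_TA (Y : Scheme.{u}) : (TA Y).Additive :=
  inferInstanceAs (SheafOfModules.toSheaf Y.ringCatSheaf).Additive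

instance preservesFiniteLimits_TA (Y : Scheme.{u}) : PreservesFiniteLimits (TA Y) :=
  Groth.Agent.Lib.Helper17.ModSiteExact.toSheaf_preservesFiniteLimits Y.ringCatSheaf

instance preservesFiniteColimits_TA (Y : Scheme.{u}) : PreservesFiniteColimits (TA Y) :=
  Groth.Agent.Lib.Helper17.ModSiteExact.toSheaf_preservesFiniteColimits Y.ringCatSheaf

theorem subsingleton_HH_Aobj [Y.IsSeparated] (G : Y.Modules) [G.IsQuasicoherent] (q : ℕ) :
    ∀ (f : R) (l : List R), (∀ f' ∈ f :: l, IsAffineOpen (Y.basicOpen (φ f'))) →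
      Subsingleton (Coh.HH Y (Aobj φ G f l) (q + 1))
  | f, [], h => subsingleton_HH_Af (φ f) G (h f List.mem_cons_self) q
  | f, f' :: l, h => by
    have h1 := subsingleton_HH_Af (φ f) G (h f List.mem_cons_self) q
    have h3 := subsingleton_HH_Aobj G q f' l (fun x hx => h x (List.mem_cons_of_mem _ hx))
    have hS := ((ShortComplex.Splitting.ofHasBinaryBiproduct (Af (φ f) G)
      (Aobj φ G f' l)).map (TA Y)).shortExact
    have hz := Groth.Agent.Lib.Helper22.ExtCompare.ext_eq_zero_X₂ hS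
      ((constantSheaf (Opens.grothendieckTopology Y) AddCommGrpCat.{u}).obj
        (AddCommGrpCat.of (ULift ℤ))) (q + 1)
      (fun x => h1.elim x 0) (fun x => h3.elim x 0)
    exact ⟨fun x y => (hz x).trans (hz y).symm⟩

lemma isZero_Hq_Af (fs : List R) (G : Y.Modules) (p : ℤ) (f : R) (hf : f ∈ fs) :
    IsZero (Hq fs ((Nf φ).obj (Af (φ f) G)) p) := by
  have h := isZero_extCechH_of_actsBij (actsBij_Af φ G f) fs hf p
  change IsZero (((cechF fs).obj _).homology p)
  rw [cechF_obj]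
  exact h

theorem isZero_Hq_Aobj (fs : List R) (G : Y.Modules) (p : ℤ) :
    ∀ (f : R) (l : List R), (∀ f' ∈ f :: l, f' ∈ fs) →
      IsZero (Hq fs ((Nf φ).obj (Aobj φ G f l)) p)
  | f, [], h => isZero_Hq_Af φ fs G p f (h f List.mem_cons_self)
  | f, f' :: l, h => by
    have h1 := isZero_Hq_Af φ fs G p f (h f List.mem_cons_self)
    have h3 := isZero_Hq_Aobj fs G p f' l (fun x hx => h x (List.mem_cons_of_mem _ hx))
    have hT := ((ShortComplex.Splitting.ofHasBinaryBiproduct (Af (φ f) G)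
      (Aobj φ G f' l)).map (Nf φ)).shortExact
    have hS := cechF_shortExact fs _ hT
    exact (hS.homology_exact₂ p).isZero_X₂ (h1.eq_of_src _ _) (h3.eq_of_tgt _ _)

end Groth.Agent.Lib.Helper5.AcyclicEmb
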