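import Mathlib.Algebra.Homology.HomologicalComplexAbelian
import Mathlib.Algebra.Homology.Embedding.CochainComplex
import Mathlib.CategoryTheory.Limits.Preserves.Shapes.Kernels
import Mathlib.CategoryTheory.Limits.Preserves.Finite
import Mathlib.Algebra.Homology.Additive
import Mathlib.Algebra.Homology.HomotopyCategory.Acyclic
import Mathlib.Algebra.Homology.HomotopyCategory.Plus
import Mathlib.CategoryTheory.Preadditive.Injective.Basic

/-
Helper5: (1) a left exact functor preserves `H⁰`-isomorphisms between cochain complexes in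
degrees `≥ 0` (`LeftExactH0`); (2) classes of objects adapted to a left exact functor `S`
(`AcyclicRes.IsAdapted`): `S` preserves exactness of bounded below exact complexes with adapted
terms, and quasi-isomorphisms from bounded below complexes with adapted terms to bounded below
complexes of injectives (Leray's acyclicity lemma).
-/

set_option autoImplicit false
set_option maxSynthPendingDepth 3

open CategoryTheory Limits HomologicalComplex

namespace Groth.Agent.Lib.Helper5.LeftExactH0

variable {B E : Type*} [Category B] [Category E] [Abelian B] [Abelian E]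
  (S : B ⥤ E) [S.Additive] [PreservesFiniteLimits S]

/-- `S(Z⁰ K) ≅ Z⁰(S K)` for a left exact functor `S`. -/
noncomputable def cyclesIso (K : CochainComplex B ℤ) :
    S.obj (K.cycles 0) ≅ ((S.mapHomologicalComplex (ComplexShape.up ℤ)).obj K).cycles 0 :=
  IsLimit.conePointUniqueUpToIso
    (KernelFork.mapIsLimit _ (K.cyclesIsKernel 0 1 (by simp)) S)
    (((S.mapHomologicalComplex (ComplexShape.up ℤ)).obj K).cyclesIsKernel 0 1 (by simp))

@[reassoc]
lemma cyclesIso_hom_iCycles (K : CochainComplex B ℤ) :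
    (cyclesIso S K).hom ≫ ((S.mapHomologicalComplex (ComplexShape.up ℤ)).obj K).iCycles 0 =
      S.map (K.iCycles 0) :=
  IsLimit.conePointUniqueUpToIso_hom_comp
    (KernelFork.mapIsLimit _ (K.cyclesIsKernel 0 1 (by simp)) S)
    (((S.mapHomologicalComplex (ComplexShape.up ℤ)).obj K).cyclesIsKernel 0 1 (by simp))
    WalkingParallelPair.zero

lemma cyclesMap_eq {K L : CochainComplex B ℤ} (u : K ⟶ L) :
    cyclesMap ((S.mapHomologicalComplex (ComplexShape.up ℤ)).map u) 0 =
      (cyclesIso S K).inv ≫ S.map (cyclesMap u 0) ≫ (cyclesIso S L).hom := by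
  rw [← cancel_mono (((S.mapHomologicalComplex (ComplexShape.up ℤ)).obj L).iCycles 0),
    ← cancel_epi (cyclesIso S K).hom]
  simp only [Category.assoc, Iso.hom_inv_id_assoc, cyclesMap_i]
  have h1 := cyclesIso_hom_iCycles S K
  have h2 := cyclesIso_hom_iCycles S L
  have e1 : (cyclesIso S K).hom ≫ ((S.mapHomologicalComplex (ComplexShape.up ℤ)).obj K).iCycles 0 ≫
        ((S.mapHomologicalComplex (ComplexShape.up ℤ)).map u).f 0 =
      S.map (K.iCycles 0) ≫ S.map (u.f 0) := by
    rw [← Category.assoc, h1]; rfl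
  have e2 : S.map (K.iCycles 0) ≫ S.map (u.f 0) = S.map (cyclesMap u 0) ≫ S.map (L.iCycles 0) := by
    rw [← S.map_comp, ← S.map_comp, cyclesMap_i]
  have e3 : S.map (cyclesMap u 0) ≫ (cyclesIso S L).hom ≫
      ((S.mapHomologicalComplex (ComplexShape.up ℤ)).obj L).iCycles 0 =
      S.map (cyclesMap u 0) ≫ S.map (L.iCycles 0) := by
    rw [h2]; rfl
  exact e1.trans (e2.trans e3.symm)

lemma isIso_homologyMap_iff_isIso_cyclesMap {A : Type*} [Category A] [Abelian A]
    {K L : CochainComplex A ℤ} [K.IsStrictlyGE 0] [L.IsStrictlyGE 0] (u : K ⟶ L) :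
    IsIso (homologyMap u 0) ↔ IsIso (cyclesMap u 0) := by
  have hK : K.d (-1) 0 = 0 := (K.isZero_of_isStrictlyGE 0 (-1) (by lia)).eq_of_src _ _
  have hL : L.d (-1) 0 = 0 := (L.isZero_of_isStrictlyGE 0 (-1) (by lia)).eq_of_src _ _
  have := K.isIso_homologyπ (-1) 0 (by simp) hK
  have := L.isIso_homologyπ (-1) 0 (by simp) hL
  have h := homologyπ_naturality u 0
  constructor
  · intro _
    have : IsIso (cyclesMap u 0 ≫ L.homologyπ 0) := by rw [← h]; infer_instance
    exact IsIso.of_isIso_comp_right (cyclesMap u 0) (L.homologyπ 0)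
  · intro _
    have : IsIso (K.homologyπ 0 ≫ homologyMap u 0) := by rw [h]; infer_instance
    exact IsIso.of_isIso_comp_left (K.homologyπ 0) (homologyMap u 0)

/-- A left exact functor preserves `H⁰`-isomorphisms between complexes in degrees `≥ 0`. -/
lemma isIso_homologyMap_zero {K L : CochainComplex B ℤ} [K.IsStrictlyGE 0] [L.IsStrictlyGE 0]
    (u : K ⟶ L) (hu : IsIso (homologyMap u 0)) :
    IsIso (homologyMap ((S.mapHomologicalComplex (ComplexShape.up ℤ)).map u) 0) := by
  have : IsIso (cyclesMap u 0) := (isIso_homologyMap_iff_isIso_cyclesMap u).1 hu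
  rw [isIso_homologyMap_iff_isIso_cyclesMap, cyclesMap_eq]
  infer_instance

end Groth.Agent.Lib.Helper5.LeftExactH0

namespace Groth.Agent.Lib.Helper5.AcyclicRes

variable {B E : Type*} [Category B] [Category E] [Abelian B] [Abelian E]

section Cycles

variable (C : CochainComplex B ℤ)

lemma epi_toCycles_of_exactAt (n m : ℤ) (hnm : n + 1 = m) (h : C.ExactAt m) :
    Epi (C.toCycles n m) := by
  have hS : (C.sc' n m (m + 1)).Exact :=
    (C.exactAt_iff' n m (m + 1) (by simp; lia) (by simp)).1 h
  let kf : KernelFork (C.sc' n m (m + 1)).g :=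
    KernelFork.ofι (C.iCycles m) (C.iCycles_d m (m + 1))
  let hd := hS.leftHomologyDataOfIsLimitKernelFork kf (C.cyclesIsKernel m (m + 1) (by simp))
  have h1 : Epi hd.f' := hS.epi_f' hd
  have h2 : hd.f' = C.toCycles n m :=
    (cancel_mono (C.iCycles m)).1 ((hd.f'_i).trans (C.toCycles_i n m).symm)
  rwa [h2] at h1

/-- The short complex `Zⁿ → Cⁿ → Zᵐ`, `m = n + 1`. -/
noncomputable def cyclesSC (n m : ℤ) : ShortComplex B :=
  ShortComplex.mk (C.iCycles n) (C.toCycles n m) (by
    rw [← cancel_mono (C.iCycles m), Category.assoc, toCycles_i, iCycles_d, zero_comp])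

lemma cyclesSC_shortExact (n m : ℤ) (hnm : n + 1 = m) (h : C.ExactAt m) :
    (cyclesSC C n m).ShortExact := by
  have : Mono (cyclesSC C n m).f := inferInstanceAs (Mono (C.iCycles n))
  have : Epi (cyclesSC C n m).g := epi_toCycles_of_exactAt C n m hnm h
  refine ShortComplex.ShortExact.mk ?_
  let S₂ : ShortComplex B := ShortComplex.mk (C.iCycles n) (C.d n m) (C.iCycles_d n m)
  have hS₂ : S₂.Exact :=
    ShortComplex.exact_of_f_is_kernel _ (C.cyclesIsKernel n m (by simp; lia))
  let φ : cyclesSC C n m ⟶ S₂ :=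
    { τ₁ := 𝟙 _
      τ₂ := 𝟙 _
      τ₃ := C.iCycles m
      comm₁₂ := by simp [cyclesSC, S₂]
      comm₂₃ := by simp [cyclesSC, S₂] }
  have : Epi φ.τ₁ := inferInstanceAs (Epi (𝟙 _))
  have : IsIso φ.τ₂ := inferInstanceAs (IsIso (𝟙 _))
  have : Mono φ.τ₃ := inferInstanceAs (Mono (C.iCycles m))
  exact (ShortComplex.exact_iff_of_epi_of_isIso_of_mono φ).2 hS₂

end Cycles

variable (S : B ⥤ E) [S.Additive] [PreservesFiniteLimits S] (P : B → Prop)

/-- A class `P` of objects adapted to the left exact functor `S`. -/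
structure IsAdapted : Prop where
  of_isZero : ∀ M, IsZero M → P M
  of_iso : ∀ {M N : B} (_ : M ≅ N), P M → P N
  biprod : ∀ M N, P M → P N → P (M ⊞ N)
  of_injective : ∀ M, Injective M → P M
  epi_map : ∀ (X : ShortComplex B), X.ShortExact → P X.X₁ → Epi (S.map X.g)
  coker : ∀ (X : ShortComplex B), X.ShortExact → P X.X₁ → P X.X₂ → P X.X₃

variable {S P}

lemma IsAdapted.cycles (hP : IsAdapted S P) (C : CochainComplex B ℤ) (a : ℤ) [C.IsStrictlyGE a]
    (hC : ∀ n, C.ExactAt n) (hCP : ∀ n, P (C.X n)) (n : ℤ) : P (C.cycles n) := by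
  have h0 : ∀ n, n < a → P (C.cycles n) := fun n hn =>
    hP.of_isZero _ (IsZero.of_mono (C.iCycles n) (C.isZero_of_isStrictlyGE a n hn))
  by_cases hn : n < a
  · exact h0 n hn
  · have hn' : a - 1 ≤ n := by lia
    induction n, hn' using Int.leInduction with
    | base => exact h0 _ (by lia)
    | succ k hk ih =>
      by_cases hk' : k < a
      · exact hP.coker _ (cyclesSC_shortExact C k (k + 1) rfl (hC _)) (h0 k hk') (hCP k)
      · exact hP.coker _ (cyclesSC_shortExact C k (k + 1) rfl (hC _)) (ih hk') (hCP k)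

/-- A left exact functor preserves the exactness of bounded below exact complexes whose terms
are in an adapted class. -/
theorem IsAdapted.exactAt_map (hP : IsAdapted S P) (C : CochainComplex B ℤ) (a : ℤ)
    [C.IsStrictlyGE a] (hC : ∀ n, C.ExactAt n) (hCP : ∀ n, P (C.X n)) (m : ℤ) :
    ((S.mapHomologicalComplex (ComplexShape.up ℤ)).obj C).ExactAt m := by
  rw [exactAt_iff' _ (m - 1) m (m + 1) (by simp) (by simp)]
  let S₂ : ShortComplex E := ShortComplex.mk (S.map (C.iCycles m)) (S.map (C.d m (m + 1)))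
    (by rw [← S.map_comp, iCycles_d, S.map_zero])
  have hS₂ : S₂.Exact :=
    ShortComplex.exact_of_f_is_kernel _
      (KernelFork.mapIsLimit _ (C.cyclesIsKernel m (m + 1) (by simp)) S)
  let φ : ((S.mapHomologicalComplex (ComplexShape.up ℤ)).obj C).sc' (m - 1) m (m + 1) ⟶ S₂ :=
    { τ₁ := S.map (C.toCycles (m - 1) m)
      τ₂ := 𝟙 _
      τ₃ := 𝟙 _
      comm₁₂ := by
        show S.map (C.toCycles (m - 1) m) ≫ S.map (C.iCycles m) = S.map (C.d (m - 1) m) ≫ 𝟙 _
        rw [← S.map_comp, toCycles_i, Category.comp_id]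
      comm₂₃ := by
        show 𝟙 _ ≫ S.map (C.d m (m + 1)) = S.map (C.d m (m + 1)) ≫ 𝟙 _
        rw [Category.comp_id, Category.id_comp] }
  have : Epi φ.τ₁ := hP.epi_map (cyclesSC C (m - 1) m)
    (cyclesSC_shortExact C (m - 1) m (by lia) (hC m)) (hP.cycles C a hC hCP (m - 1))
  have : IsIso φ.τ₂ := inferInstanceAs (IsIso (𝟙 _))
  have : Mono φ.τ₃ := inferInstanceAs (Mono (𝟙 _))
  exact (ShortComplex.exact_iff_of_epi_of_isIso_of_mono φ).2 hS₂

section Cone

open CochainComplex

lemma quasiIso_iff_mappingCone_exactAt {A : Type*} [Category A] [Abelian A]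
    {K L : CochainComplex A ℤ} (j : K ⟶ L) :
    QuasiIso j ↔ ∀ n, (mappingCone j).ExactAt n := by
  rw [← HomologicalComplex.mem_quasiIso_iff, ← HomotopyCategory.quotient_map_mem_quasiIso_iff,
    HomotopyCategory.quasiIso_eq_trW_subcategoryAcyclic,
    ← HomotopyCategory.quotient_obj_mem_subcategoryAcyclic_iff_exactAt]
  exact (HomotopyCategory.subcategoryAcyclic _).trW_iff_of_distinguished _
    (HomotopyCategory.mappingCone_triangleh_distinguished j)

/-- A left exact functor `S` preserves quasi-isomorphisms from a bounded below complex with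
terms in an adapted class to a bounded below complex of injectives. -/
theorem IsAdapted.quasiIso_map (hP : IsAdapted S P) {K L : CochainComplex B ℤ} (a : ℤ)
    [K.IsStrictlyGE a] [L.IsStrictlyGE a] (hK : ∀ n, P (K.X n)) [∀ n, Injective (L.X n)]
    (j : K ⟶ L) [QuasiIso j] :
    QuasiIso ((S.mapHomologicalComplex (ComplexShape.up ℤ)).map j) := by
  rw [quasiIso_iff_mappingCone_exactAt]
  intro n
  have : (mappingCone j).IsStrictlyGE (a - 1) :=
    CochainComplex.isStrictlyGE_mappingCone j a a (a - 1)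
  have hC : ∀ n, (mappingCone j).ExactAt n := (quasiIso_iff_mappingCone_exactAt j).1 inferInstance
  have hCP : ∀ n, P ((mappingCone j).X n) := fun n =>
    hP.of_iso (homotopyCofiber.XIsoBiprod j n (n + 1) rfl).symm
      (hP.biprod _ _ (hK _) (hP.of_injective _ inferInstance))
  exact (hP.exactAt_map (mappingCone j) (a - 1) hC hCP n).of_iso
    (mappingCone.mapHomologicalComplexIso j S)

end Cone

end Groth.Agent.Lib.Helper5.AcyclicRes
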