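import Mathlib

/-
Helper5: the augmentation `ε` of the alternating face map complex of an augmented simplicial
object in an abelian category is a quasi-isomorphism iff the augmented complex is exact;
compatibility of the alternating face map complex with additive functors, degreewise.
-/

set_option autoImplicit false

universe v v' u u'

open CategoryTheory Limits Simplicial Opposite SimplicialObject AlgebraicTopology

namespace Groth.Agent.Lib.Helper5.AugRes

section Functor

variable {𝒟 : Type u} [Category.{v} 𝒟] [Preadditive 𝒟] {ℰ : Type u'} [Category.{v'} ℰ] [Preadditive ℰ]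
  (F : 𝒟 ⥤ ℰ) [F.Additive] (Z : SimplicialObject 𝒟)

lemma afmc_d_map (n : ℕ) :
    (AlternatingFaceMapComplex.obj (Z ⋙ F)).d (n + 1) n =
      F.map ((AlternatingFaceMapComplex.obj Z).d (n + 1) n) := by
  rw [AlternatingFaceMapComplex.obj_d_eq, AlternatingFaceMapComplex.obj_d_eq, Functor.map_sum]
  refine Finset.sum_congr rfl fun i _ => ?_
  rw [Functor.map_zsmul]
  rfl

/-- The short complexes of the alternating face map complex commute with additive functors. -/
noncomputable def scMapIso (n : ℕ) :
    ((AlternatingFaceMapComplex.obj Z).sc' (n + 2) (n + 1) n).map F ≅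
      (AlternatingFaceMapComplex.obj (Z ⋙ F)).sc' (n + 2) (n + 1) n :=
  ShortComplex.isoMk (Iso.refl _) (Iso.refl _) (Iso.refl _)
    ((Category.id_comp ((AlternatingFaceMapComplex.obj (Z ⋙ F)).d (n + 2) (n + 1))).trans
      ((afmc_d_map F Z (n + 1)).trans
        (Category.comp_id (F.map ((AlternatingFaceMapComplex.obj Z).d (n + 2) (n + 1)))).symm))
    ((Category.id_comp ((AlternatingFaceMapComplex.obj (Z ⋙ F)).d (n + 1) n)).trans
      ((afmc_d_map F Z n).trans
        (Category.comp_id (F.map ((AlternatingFaceMapComplex.obj Z).d (n + 1) n))).symm))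

end Functor

section QI

variable {𝒟 : Type u} [Category.{v} 𝒟] [Abelian 𝒟] (X : Augmented 𝒟)

lemma d_comp_ε :
    (AlternatingFaceMapComplex.obj X.left).d 1 0 ≫ (AlternatingFaceMapComplex.ε.app X).f 0 = 0 := by
  have h := (AlternatingFaceMapComplex.ε.app X).comm 1 0
  exact h.symm.trans zero_comp

/-- Exactness of the augmented complex implies that `ε` is a quasi-isomorphism. -/
lemma quasiIso_ε_of_exact
    (h1 : ∀ n : ℕ, ((AlternatingFaceMapComplex.obj X.left).sc' (n + 2) (n + 1) n).Exact)
    (h0 : (ShortComplex.mk _ _ (d_comp_ε X)).Exact)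
    (hepi : Epi ((AlternatingFaceMapComplex.ε.app X).f 0)) :
    QuasiIso (AlternatingFaceMapComplex.ε.app X) := ⟨fun n => by
  cases n with
  | zero =>
    rw [ChainComplex.quasiIsoAt₀_iff, ShortComplex.quasiIso_iff_of_zeros']
    · exact ⟨h0, hepi⟩
    all_goals rfl
  | succ n =>
    rw [quasiIsoAt_iff_exactAt']
    · rw [HomologicalComplex.exactAt_iff' _ (n + 1 + 1) (n + 1) n (by simp) (by simp)]
      exact h1 n
    · apply ChainComplex.exactAt_succ_single_obj⟩

/-- If `ε` is a quasi-isomorphism, the augmented complex is exact. -/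
lemma exact_of_quasiIso_ε [QuasiIso (AlternatingFaceMapComplex.ε.app X)] :
    (∀ n : ℕ, ((AlternatingFaceMapComplex.obj X.left).sc' (n + 2) (n + 1) n).Exact) ∧
    (ShortComplex.mk _ _ (d_comp_ε X)).Exact ∧
      Epi ((AlternatingFaceMapComplex.ε.app X).f 0) := by
  refine ⟨fun n => ?_, ?_⟩
  · have h : QuasiIsoAt (AlternatingFaceMapComplex.ε.app X) (n + 1) := inferInstance
    rw [quasiIsoAt_iff_exactAt' _ _ (ChainComplex.exactAt_succ_single_obj _ _),
      HomologicalComplex.exactAt_iff' _ (n + 1 + 1) (n + 1) n (by simp) (by simp)] at h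
    exact h
  · have h : QuasiIsoAt (AlternatingFaceMapComplex.ε.app X) 0 := inferInstance
    rw [ChainComplex.quasiIsoAt₀_iff, ShortComplex.quasiIso_iff_of_zeros'] at h
    · exact h
    all_goals rfl

end QI

end Groth.Agent.Lib.Helper5.AugRes
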