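import Groth.Agent.Lib.Helper26.AffineBC
import Groth.Prelude.Def_CechOX

/-!
# Base change of `f_* (j_W)_* (F|_W)`, naturally in the open `W` (helper5)

For a commutative square `g' ≫ f = f' ≫ g` and an open `W ⊆ X` with preimage `W' = g'⁻¹ W`, the canonical map
`Θ_W : g^* f_* (j_W)_*(F|_W) ⟶ f'_* (j_{W'})_* ((g'^*F)|_{W'})`; it is natural in `W` (`ΘNat`) and an isomorphism
when the square is cartesian, `W ⟶ S` is affine and `F` is quasi-coherent (`isIso_Θ`, from helper26's affine base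
change).
-/

set_option autoImplicit false
set_option linter.unusedSectionVars false

universe u

open CategoryTheory CategoryTheory.Limits Opposite TopologicalSpace AlgebraicGeometry

namespace Groth.Agent.Lib.Helper5.BCCech

open Groth.Agent.Lib.Helper26.AffineBC

variable {X S S' X' : Scheme.{u}} (f : X ⟶ S) (g : S' ⟶ S) (g' : X' ⟶ X) (f' : X' ⟶ S')

section square

lemma wW (w : g' ≫ f = f' ≫ g) (W : X.Opens) :
    (g' ∣_ W) ≫ (W.ι ≫ f) = ((g' ⁻¹ᵁ W).ι ≫ f') ≫ g := by
  rw [← Category.assoc, morphismRestrict_ι, Category.assoc, w, Category.assoc]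

lemma isPullback_W (hc : IsPullback g' f' f g) (W : X.Opens) :
    IsPullback (g' ∣_ W) ((g' ⁻¹ᵁ W).ι ≫ f') (W.ι ≫ f) g :=
  (isPullback_morphismRestrict g' W).paste_vert hc

end square

section rho

variable (W : X.Opens)

/-- `g'^*` followed by restriction to `W' = g'⁻¹ W`, with its right adjoint -/
noncomputable abbrev adjA :
    Scheme.Modules.pullback g' ⋙ Scheme.Modules.restrictFunctor (g' ⁻¹ᵁ W).ι ⊣
      Scheme.Modules.pushforward (g' ⁻¹ᵁ W).ι ⋙ Scheme.Modules.pushforward g' :=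
  (Scheme.Modules.pullbackPushforwardAdjunction g').comp
    (Scheme.Modules.restrictAdjunction (g' ⁻¹ᵁ W).ι)

/-- restriction to `W` followed by `(g'|_W)^*`, with its right adjoint -/
noncomputable abbrev adjB :
    Scheme.Modules.restrictFunctor W.ι ⋙ Scheme.Modules.pullback (g' ∣_ W) ⊣
      Scheme.Modules.pushforward (g' ∣_ W) ⋙ Scheme.Modules.pushforward W.ι :=
  (Scheme.Modules.restrictAdjunction W.ι).comp
    (Scheme.Modules.pullbackPushforwardAdjunction (g' ∣_ W))

/-- the two right adjoints agree -/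
noncomputable def βiso :
    Scheme.Modules.pushforward (g' ⁻¹ᵁ W).ι ⋙ Scheme.Modules.pushforward g' ≅
      Scheme.Modules.pushforward (g' ∣_ W) ⋙ Scheme.Modules.pushforward W.ι :=
  Scheme.Modules.pushforwardComp (g' ⁻¹ᵁ W).ι g' ≪≫
    Scheme.Modules.pushforwardCongr (morphismRestrict_ι g' W).symm ≪≫
    (Scheme.Modules.pushforwardComp (g' ∣_ W) W.ι).symm

/-- hence so do the left adjoints: `(g'|_W)^*(F|_W) ≅ (g'^*F)|_{W'}` -/
noncomputable def ρ :
    Scheme.Modules.restrictFunctor W.ι ⋙ Scheme.Modules.pullback (g' ∣_ W) ≅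
      Scheme.Modules.pullback g' ⋙ Scheme.Modules.restrictFunctor (g' ⁻¹ᵁ W).ι :=
  (conjugateIsoEquiv (adjA g' W) (adjB g' W)).symm (βiso g' W)

/-- the map `F|_W ⟶ (g'|_W)_* ((g'^*F)|_{W'})` with computable sections -/
noncomputable def μ (F : X.Modules) :
    (Scheme.Modules.restrictFunctor W.ι).obj F ⟶
      (Scheme.Modules.pushforward (g' ∣_ W)).obj
        ((Scheme.Modules.restrictFunctor (g' ⁻¹ᵁ W).ι).obj ((Scheme.Modules.pullback g').obj F)) :=
  (Scheme.Modules.restrictFunctor W.ι).map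
      ((adjA g' W).unit.app F ≫ (βiso g' W).hom.app _) ≫
    (Scheme.Modules.restrictAdjunction W.ι).counit.app _

lemma key (F : X.Modules) :
    (Scheme.Modules.pullbackPushforwardAdjunction (g' ∣_ W)).unit.app
        ((Scheme.Modules.restrictFunctor W.ι).obj F) ≫
      (Scheme.Modules.pushforward (g' ∣_ W)).map ((ρ g' W).hom.app F) = μ g' W F := by
  have h := unit_conjugateEquiv_symm (adjA g' W) (adjB g' W) (βiso g' W).hom F
  have h2 : ((Scheme.Modules.restrictAdjunction W.ι).homEquiv _ _)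
      ((Scheme.Modules.pullbackPushforwardAdjunction (g' ∣_ W)).unit.app
        ((Scheme.Modules.restrictFunctor W.ι).obj F) ≫
      (Scheme.Modules.pushforward (g' ∣_ W)).map ((ρ g' W).hom.app F)) =
      (adjA g' W).unit.app F ≫ (βiso g' W).hom.app _ := by
    rw [Adjunction.homEquiv_unit, h, Adjunction.comp_unit_app, Functor.map_comp, Category.assoc]
    rfl
  have h3 := congrArg ((Scheme.Modules.restrictAdjunction W.ι).homEquiv _ _).symm h2
  rw [Equiv.symm_apply_apply, Adjunction.homEquiv_counit] at h3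
  exact h3

end rho

section theta

variable (w : g' ≫ f = f' ≫ g) (W : X.Opens) (F : X.Modules)

/-- the identification `(g'|_W)_* ; (W ⟶ S)_* ≅ (W' ⟶ S')_* ; g_*` -/
noncomputable def ν :
    Scheme.Modules.pushforward (g' ∣_ W) ⋙ Scheme.Modules.pushforward (W.ι ≫ f) ≅
      Scheme.Modules.pushforward ((g' ⁻¹ᵁ W).ι ≫ f') ⋙ Scheme.Modules.pushforward g :=
  Scheme.Modules.pushforwardComp (g' ∣_ W) (W.ι ≫ f) ≪≫
    Scheme.Modules.pushforwardCongr (wW f g g' f' w W) ≪≫
    (Scheme.Modules.pushforwardComp ((g' ⁻¹ᵁ W).ι ≫ f') g).symm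

lemma vMap_eq (M : (W : Scheme.{u}).Modules) :
    vMap (W.ι ≫ f) g (g' ∣_ W) ((g' ⁻¹ᵁ W).ι ≫ f') (wW f g g' f' w W) M =
      (Scheme.Modules.pushforward (W.ι ≫ f)).map
          ((Scheme.Modules.pullbackPushforwardAdjunction (g' ∣_ W)).unit.app M) ≫
        (ν f g g' f' w W).hom.app ((Scheme.Modules.pullback (g' ∣_ W)).obj M) := rfl

/-- the transposed comparison map `f_* (j_W)_*(F|_W) ⟶ g_* f'_* (j_{W'})_*((g'^*F)|_{W'})` -/
noncomputable def T :
    (Scheme.Modules.pushforward f).obj ((CechOX.pushRestr W).obj F) ⟶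
      (Scheme.Modules.pushforward g).obj ((Scheme.Modules.pushforward f').obj
        ((CechOX.pushRestr (g' ⁻¹ᵁ W)).obj ((Scheme.Modules.pullback g').obj F))) :=
  (Scheme.Modules.pushforwardComp W.ι f).hom.app ((Scheme.Modules.restrictFunctor W.ι).obj F) ≫
    vMap (W.ι ≫ f) g (g' ∣_ W) ((g' ⁻¹ᵁ W).ι ≫ f') (wW f g g' f' w W)
      ((Scheme.Modules.restrictFunctor W.ι).obj F) ≫
    (Scheme.Modules.pushforward g).map
      ((Scheme.Modules.pushforward ((g' ⁻¹ᵁ W).ι ≫ f')).map ((ρ g' W).hom.app F) ≫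
        (Scheme.Modules.pushforwardComp (g' ⁻¹ᵁ W).ι f').inv.app
          ((Scheme.Modules.restrictFunctor (g' ⁻¹ᵁ W).ι).obj
            ((Scheme.Modules.pullback g').obj F)))

/-- the comparison map `g^* f_* (j_W)_*(F|_W) ⟶ f'_* (j_{W'})_*((g'^*F)|_{W'})` -/
noncomputable def Θ :
    (Scheme.Modules.pullback g).obj
        ((Scheme.Modules.pushforward f).obj ((CechOX.pushRestr W).obj F)) ⟶
      (Scheme.Modules.pushforward f').obj
        ((CechOX.pushRestr (g' ⁻¹ᵁ W)).obj ((Scheme.Modules.pullback g').obj F)) :=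
  ((Scheme.Modules.pullbackPushforwardAdjunction g).homEquiv _ _).symm (T f g g' f' w W F)

lemma Θ_eq :
    Θ f g g' f' w W F =
      (Scheme.Modules.pullback g).map ((Scheme.Modules.pushforwardComp W.ι f).hom.app
          ((Scheme.Modules.restrictFunctor W.ι).obj F)) ≫
        uMap (W.ι ≫ f) g (g' ∣_ W) ((g' ⁻¹ᵁ W).ι ≫ f') (wW f g g' f' w W)
          ((Scheme.Modules.restrictFunctor W.ι).obj F) ≫
        (Scheme.Modules.pushforward ((g' ⁻¹ᵁ W).ι ≫ f')).map ((ρ g' W).hom.app F) ≫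
        (Scheme.Modules.pushforwardComp (g' ⁻¹ᵁ W).ι f').inv.app
          ((Scheme.Modules.restrictFunctor (g' ⁻¹ᵁ W).ι).obj
            ((Scheme.Modules.pullback g').obj F)) := by
  unfold Θ T uMap
  rw [Adjunction.homEquiv_naturality_left_symm, Adjunction.homEquiv_naturality_right_symm]

theorem isIso_Θ (hc : IsPullback g' f' f g) [IsAffineHom (W.ι ≫ f)] [F.IsQuasicoherent] :
    IsIso (Θ f g g' f' hc.w W F) := by
  haveI : IsIso (uMap (W.ι ≫ f) g (g' ∣_ W) ((g' ⁻¹ᵁ W).ι ≫ f') (wW f g g' f' hc.w W)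
      ((Scheme.Modules.restrictFunctor W.ι).obj F)) :=
    main (W.ι ≫ f) g (g' ∣_ W) ((g' ⁻¹ᵁ W).ι ≫ f') (isPullback_W f g g' f' hc W) _
  rw [Θ_eq]
  infer_instance

lemma T_eq :
    T f g g' f' w W F =
      (Scheme.Modules.pushforwardComp W.ι f).hom.app ((Scheme.Modules.restrictFunctor W.ι).obj F) ≫
        (Scheme.Modules.pushforward (W.ι ≫ f)).map (μ g' W F) ≫
        (ν f g g' f' w W).hom.app _ ≫
        (Scheme.Modules.pushforward g).map
          ((Scheme.Modules.pushforwardComp (g' ⁻¹ᵁ W).ι f').inv.app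
            ((Scheme.Modules.restrictFunctor (g' ⁻¹ᵁ W).ι).obj
              ((Scheme.Modules.pullback g').obj F))) := by
  have hn := (ν f g g' f' w W).hom.naturality ((ρ g' W).hom.app F)
  simp only [Functor.comp_map] at hn
  unfold T
  rw [vMap_eq f g g' f' w W, ← key, Functor.map_comp, Functor.map_comp, Category.assoc, Category.assoc,
    ← reassoc_of% hn]

omit f g f' in
lemma restrictFunctor_map_app {Y Z : Scheme.{u}} (j : Y ⟶ Z) [IsOpenImmersion j] {M N : Z.Modules}
    (φ : M ⟶ N) (U : Y.Opens) :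
    ((Scheme.Modules.restrictFunctor j).map φ).app U = φ.app (j ''ᵁ U) := rfl

omit f g f' g' in
lemma comp4 {C D : Type*} [Category C] [Category D] (P : C ⥤ D) {A : D} {o₁ o₂ o₃ o₄ o₅ : C}
    (x : A ⟶ P.obj o₁) (a : o₁ ⟶ o₂) (b : o₂ ⟶ o₃) (c : o₃ ⟶ o₄) (d : o₄ ⟶ o₅) :
    ((x ≫ P.map a ≫ P.map b) ≫ P.map c) ≫ P.map d = x ≫ P.map (a ≫ b ≫ c ≫ d) := by
  simp

lemma T_app (V : S.Opens) :
    ∃ s : op (g' ⁻¹ᵁ (W.ι ''ᵁ (W.ι ⁻¹ᵁ (f ⁻¹ᵁ V)))) ⟶
        op ((g' ⁻¹ᵁ W).ι ''ᵁ ((g' ⁻¹ᵁ W).ι ⁻¹ᵁ (f' ⁻¹ᵁ (g ⁻¹ᵁ V)))),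
      (T f g g' f' w W F).app V =
        ((Scheme.Modules.pullbackPushforwardAdjunction g').unit.app F).app
            (W.ι ''ᵁ (W.ι ⁻¹ᵁ (f ⁻¹ᵁ V))) ≫
          ((Scheme.Modules.pullback g').obj F).presheaf.map s := by
  refine ⟨?s, ?_⟩
  swap
  · rw [T_eq]
    simp only [μ, ν, βiso, Adjunction.comp_unit_app, Iso.trans_hom, Iso.symm_hom, NatTrans.comp_app,
      Scheme.Modules.Hom.comp_app, Scheme.Modules.pushforward_map_app, restrictFunctor_map_app,
      Scheme.Modules.pushforwardComp_hom_app_app, Scheme.Modules.pushforwardComp_inv_app_app,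
      Scheme.Modules.pushforwardCongr_hom_app_app, Scheme.Modules.restrictAdjunction_unit_app_app,
      Scheme.Modules.restrictAdjunction_counit_app_app,
      Category.id_comp, Category.comp_id, Category.assoc]
    repeat erw [Category.id_comp]
    repeat erw [Category.comp_id]
    simp only [Category.assoc, Functor.comp_obj, Scheme.Modules.restrict_map,
      Scheme.Modules.pushforward_obj_presheaf_map]
    exact comp4 ((Scheme.Modules.pullback g').obj F).presheaf
      (Scheme.Modules.Hom.app ((Scheme.Modules.pullbackPushforwardAdjunction g').unit.app F)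
        (W.ι ''ᵁ (W.ι ⁻¹ᵁ (f ⁻¹ᵁ V)))) _ _ _ _

lemma presheaf_map_congr {Y : Scheme.{u}} (M : Y.Modules) {A B : (Y.Opens)ᵒᵖ} (a b : A ⟶ B) :
    M.presheaf.map a = M.presheaf.map b := by
  rw [Subsingleton.elim a b]

omit f g f' g' in
lemma nat_aux {D : Type*} [Category D] {A₁ A₂ B₁ B₂ C' X₁ : D} (r : A₁ ⟶ A₂) (u₁ : A₁ ⟶ B₁)
    (u₂ : A₂ ⟶ B₂) (r' : B₁ ⟶ B₂) (hn : r ≫ u₂ = u₁ ≫ r') (p₂ : B₂ ⟶ C') (p₁ : B₁ ⟶ X₁)
    (q : X₁ ⟶ C') (hp : r' ≫ p₂ = p₁ ≫ q) : r ≫ u₂ ≫ p₂ = (u₁ ≫ p₁) ≫ q := by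
  rw [← Category.assoc, hn, Category.assoc, hp, Category.assoc]

/-- naturality of `T` in the open `W` -/
lemma T_naturality {W₁ W₂ : X.Opens} (h : W₂ ≤ W₁) :
    (Scheme.Modules.pushforward f).map (CechOX.pushRestrMapApp h F) ≫ T f g g' f' w W₂ F =
      T f g g' f' w W₁ F ≫ (Scheme.Modules.pushforward g).map ((Scheme.Modules.pushforward f').map
        (CechOX.pushRestrMapApp (g'.preimage_mono h) ((Scheme.Modules.pullback g').obj F))) := by
  apply Scheme.Modules.hom_ext
  intro V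
  obtain ⟨s₁, h₁⟩ := T_app f g g' f' w W₁ F V
  obtain ⟨s₂, h₂⟩ := T_app f g g' f' w W₂ F V
  rw [Scheme.Modules.Hom.comp_app, Scheme.Modules.Hom.comp_app, h₁, h₂,
    Scheme.Modules.pushforward_map_app, Scheme.Modules.pushforward_map_app,
    Scheme.Modules.pushforward_map_app, CechOX.pushRestrMapApp_app, CechOX.pushRestrMapApp_app]
  have hn := CechOX.app_naturality ((Scheme.Modules.pullbackPushforwardAdjunction g').unit.app F)
    (homOfLE (CechOX.image_preimage_mono h (f ⁻¹ᵁ V))).op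
  have hp : ((Scheme.Modules.pullback g').obj F).presheaf.map
        ((Opens.map g'.base).map (homOfLE (CechOX.image_preimage_mono h (f ⁻¹ᵁ V)))).op ≫
      ((Scheme.Modules.pullback g').obj F).presheaf.map s₂ =
      ((Scheme.Modules.pullback g').obj F).presheaf.map s₁ ≫
        ((Scheme.Modules.pullback g').obj F).presheaf.map
          (homOfLE (CechOX.image_preimage_mono (g'.preimage_mono h) (f' ⁻¹ᵁ (g ⁻¹ᵁ V)))).op := by
    rw [← Functor.map_comp, ← Functor.map_comp]
    exact presheaf_map_congr _ _ _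
  exact nat_aux _ _ _ _ hn _ _ _ hp

/-- the comparison maps form a natural transformation in `W` -/
noncomputable def ΘNat :
    (CechOX.pushRestrFam.flip.obj F ⋙ Scheme.Modules.pushforward f) ⋙ Scheme.Modules.pullback g ⟶
      (Opens.map g'.base).op ⋙
        (CechOX.pushRestrFam.flip.obj ((Scheme.Modules.pullback g').obj F) ⋙
          Scheme.Modules.pushforward f') where
  app W := Θ f g g' f' w W.unop F
  naturality W₁ W₂ i := by
    have hT := T_naturality f g g' f' w F (leOfHom i.unop)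
    change (Scheme.Modules.pullback g).map ((Scheme.Modules.pushforward f).map
        (CechOX.pushRestrMapApp (leOfHom i.unop) F)) ≫ Θ f g g' f' w W₂.unop F =
      Θ f g g' f' w W₁.unop F ≫ (Scheme.Modules.pushforward f').map
        (CechOX.pushRestrMapApp (g'.preimage_mono (leOfHom i.unop))
          ((Scheme.Modules.pullback g').obj F))
    unfold Θ
    rw [← Adjunction.homEquiv_naturality_left_symm, hT, Adjunction.homEquiv_naturality_right_symm]

lemma ΘNat_app (W : (X.Opens)ᵒᵖ) : (ΘNat f g g' f' w F).app W = Θ f g g' f' w W.unop F := rfl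

end theta

end Groth.Agent.Lib.Helper5.BCCech
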