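import Groth.Agent.Lib.Helper5.RelCechRpush

/-!
# The relative Čech complex computes `Rf_*` for coverings by opens that are affine over the base (helper5)

Generalisation of `PushRestrAcyc` / `RelCechRpush`: the opens `W` of the covering (and their finite intersections) are
only assumed to satisfy `IsAffineHom W.ι` and `IsAffineHom (W.ι ≫ f)`; no affine-diagonal hypothesis.
-/

set_option autoImplicit false
set_option linter.unusedSectionVars false

universe u

open CategoryTheory CategoryTheory.Limits Opposite TopologicalSpace AlgebraicGeometry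

attribute [local instance] HasDerivedCategory.standard

namespace Groth.Agent.Lib.Helper5.BCCech3

open Groth.Agent.Lib.Helper22 Groth.Agent.Lib.Helper22.Cech Groth.Agent.Lib.Helper22.CohTop
  Groth.Agent.Lib.Helper5.GrothSS Groth.Agent.Lib.Helper22.EGA7
  Groth.Agent.Lib.Helper5.CechShRes Groth.Agent.Lib.Helper5.PushRestrAcyc
  Groth.Agent.Lib.Helper5.RelCechRpush Groth.Agent.Lib.Helper29

variable {X S : Scheme.{u}} (f : X ⟶ S)

/-- `H^{q+1}(f⁻¹V, j_*G) = 0` for `V ⊆ S` affine, `j : W ⟶ X` an open with `j` and `j ≫ f` affine and `G`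
quasi-coherent on `W`. -/
theorem subsingleton_HU_push' (W : X.Opens) [hj : IsAffineHom W.ι] [hjf : IsAffineHom (W.ι ≫ f)]
    (G : (W : Scheme.{u}).Modules)
    [G.IsQuasicoherent] (V : S.Opens) (hV : IsAffineOpen V) (q : ℕ) :
    Subsingleton (CohTop.HU (Coh.toAb ((Scheme.Modules.pushforward W.ι).obj G)) (q + 1)
      (f ⁻¹ᵁ V)) := by
  set U : X.Opens := f ⁻¹ᵁ V with hU
  haveI : IsAffineHom (W.ι ∣_ U) := IsZariskiLocalAtTarget.restrict hj U
  have hW' : IsAffineOpen (W.ι ⁻¹ᵁ U) := hV.preimage (W.ι ≫ f)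
  haveI : IsAffine ((W.ι ⁻¹ᵁ U : (W : Scheme.{u}).Opens) : Scheme.{u}) := hW'
  set M := (Scheme.Modules.pushforward W.ι).obj G with hM
  obtain ⟨e⟩ := nonempty_HU_addEquiv_H_restr (X := X.carrier) U (Coh.toAb M) (q + 1)
  have e2 : CohTop.restr (Coh.toAb M) U ≅ Coh.toAb (M.restrict U.ι) :=
    (fullyFaithfulSheafToPresheaf _ _).preimageIso (Iso.refl _)
  have e3 : M.restrict U.ι ≅ (Scheme.Modules.pushforward (W.ι ∣_ U)).obj
      (G.restrict (W.ι ⁻¹ᵁ U).ι) := (Groth.Agent.Lib.Helper17.RpushRes.θ W.ι U).app G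
  obtain ⟨e4⟩ := nonempty_HH_addEquiv_HH_push (W.ι ∣_ U) (G.restrict (W.ι ⁻¹ᵁ U).ι) (q + 1)
  have h5 : Subsingleton (Coh.HH _ (G.restrict (W.ι ⁻¹ᵁ U).ι) (q + 1)) :=
    subsingleton_HH_succ_of_isAffine _ (G.restrict (W.ι ⁻¹ᵁ U).ι) q
  have h6 : Subsingleton (Coh.HH _ ((Coh.push (W.ι ∣_ U)).obj (G.restrict (W.ι ⁻¹ᵁ U).ι))
      (q + 1)) := e4.symm.toEquiv.subsingleton
  have h7 : Subsingleton (CohTop.H (Coh.toAb (M.restrict U.ι)) (q + 1)) :=
    subsingleton_H_of_iso ((SheafOfModules.toSheaf _).mapIso e3) (q + 1) h6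
  have h8 := subsingleton_H_of_iso e2 (q + 1) h7
  exact e.toEquiv.subsingleton

variable [HasInjectiveResolutions X.Modules]

/-- **`R^{k+1} f_* ((j_W)_*(F|_W)) = 0`** for `W` affine over `X` and over `S`, and `F` quasi-coherent. -/
theorem isZero_Rpush_pushRestr' (W : X.Opens) [IsAffineHom W.ι] [IsAffineHom (W.ι ≫ f)]
    (F : X.Modules) [F.IsQuasicoherent] (k : ℕ) :
    IsZero ((Coh.Rpush f (k + 1)).obj ((CechOX.pushRestr W).obj F)) := by
  set M := (CechOX.pushRestr W).obj F with hM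
  have hPA : PreimageAcyclic f.base (S.affineOpens : Set S.Opens) (Coh.toAb M) := by
    intro V hV q x
    have h := subsingleton_HU_push' f W ((Scheme.Modules.restrictFunctor W.ι).obj F) V hV q
    exact h.elim x 0
  have hz : IsZero ((Coh.RpushAb f (k + 1)).obj (Coh.toAb M)) :=
    isZero_Rpush_succ_of_preimageAcyclic f.base S.isBasis_affineOpens (Coh.toAb M) hPA k
  obtain ⟨e⟩ := Groth.Agent.Lib.Helper5.RpushAb.main f M (k + 1)
  have hz' : IsZero ((Groth.Agent.Lib.Helper5.RpushAb.TT S).obj ((Coh.Rpush f (k + 1)).obj M)) :=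
    hz.of_iso e
  haveI : (Groth.Agent.Lib.Helper5.RpushAb.TT S).Faithful :=
    inferInstanceAs (SheafOfModules.toSheaf S.ringCatSheaf).Faithful
  exact isZero_of_faithful (Groth.Agent.Lib.Helper5.RpushAb.TT S) _ hz'

theorem acyc_pushRestr' (W : X.Opens) [IsAffineHom W.ι] [IsAffineHom (W.ι ≫ f)] (F : X.Modules)
    [F.IsQuasicoherent] : Acyc (Scheme.Modules.pushforward f) ((CechOX.pushRestr W).obj F) :=
  fun k => isZero_Rpush_pushRestr' f W F k

variable {ι : Type u} [Finite ι] (𝒰 : ι → X.Opens)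
  (h𝒰 : ∀ (p : ℕ) (σ : Fin (p + 1) → ι),
    IsAffineHom (Uσg 𝒰 σ).ι ∧ IsAffineHom ((Uσg 𝒰 σ).ι ≫ f))

include h𝒰 in
/-- the terms of the Čech complex of sheaves are `f_*`-acyclic -/
theorem acyc_cechSh_X' (F : X.Modules) [F.IsQuasicoherent] (p : ℕ) :
    Acyc (Scheme.Modules.pushforward f) (((CechOX.cechSh 𝒰).obj F).X p) := by
  have h : Acyc (Scheme.Modules.pushforward f)
      (∏ᶜ fun σ : Fin (p + 1) → ι => (CechOX.pushRestr (Uσg 𝒰 σ)).obj F) :=
    acyc_pi (Scheme.Modules.pushforward f) _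
      (fun σ => by
        haveI := (h𝒰 p σ).1
        haveI := (h𝒰 p σ).2
        exact acyc_pushRestr' f (Uσg 𝒰 σ) F)
  exact h

include h𝒰 in
theorem acyc_cechShZ_X' (F : X.Modules) [F.IsQuasicoherent] (n : ℤ) :
    Acyc (Scheme.Modules.pushforward f) ((CechOX.cechShZ 𝒰 F).X n) := by
  haveI : PreservesFiniteLimits (Scheme.Modules.pushforward f) := by
    haveI := (Scheme.Modules.pullbackPushforwardAdjunction f).rightAdjoint_preservesLimits
    infer_instance
  have hP := isAdapted_acyc (Scheme.Modules.pushforward f)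
  by_cases hn : 0 ≤ n
  · obtain ⟨p, rfl⟩ := Int.eq_ofNat_of_zero_le hn
    exact hP.of_iso (((CechOX.cechSh 𝒰).obj F).extendXIso ComplexShape.embeddingUpNat
      (rfl : ComplexShape.embeddingUpNat.f p = (p : ℤ))).symm (acyc_cechSh_X' f 𝒰 h𝒰 F p)
  · exact hP.of_isZero _ ((CechOX.cechShZ 𝒰 F).isZero_of_isStrictlyGE 0 n (by lia))

omit [HasInjectiveResolutions X.Modules] in
include h𝒰 in
/-- **The relative Čech complex computes `Rf_* F`** (covering by opens affine over `X` and `S`). -/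
theorem nonempty_relCechZ_iso' (hcov : ⨆ i, 𝒰 i = ⊤) [DCoh.HasRpush f] (F : X.Modules)
    [F.IsQuasicoherent] :
    Nonempty (DCoh.toD S (CechOX.relCechZ 𝒰 f F) ≅ (DCoh.Rpush f).obj (DCoh.inD X F)) := by
  haveI : EnoughInjectives X.Modules :=
    Groth.Agent.S0485.result (Opens.grothendieckTopology X) X.ringCatSheaf
  haveI : HasInjectiveResolutions X.Modules := inferInstance
  haveI : PreservesFiniteLimits (Scheme.Modules.pushforward f) := by
    haveI := (Scheme.Modules.pullbackPushforwardAdjunction f).rightAdjoint_preservesLimits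
    infer_instance
  obtain ⟨e1⟩ := nonempty_inD_iso 𝒰 F hcov
  obtain ⟨e2⟩ := Groth.Agent.Lib.Helper5.PlusAcyc.nonempty_RF_iso (Scheme.Modules.pushforward f)
    (Groth.Agent.Lib.Helper17.PushCoh2.hA X) (CechOX.cechShZ 𝒰 F) 0
    (acyc_cechShZ_X' f 𝒰 h𝒰 F)
  have e3 := DerivedCategory.Q.mapIso (mapExtendIso ComplexShape.embeddingUpNat
    (Scheme.Modules.pushforward f) ((CechOX.cechSh 𝒰).obj F))
  exact ⟨(((DCoh.Rpush f).mapIso e1) ≪≫ e2 ≪≫ e3).symm⟩

end Groth.Agent.Lib.Helper5.BCCech3
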