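import Mathlib
import Groth.Prelude.Def_CohCx

/-!
# Čech complexes and product-preserving functors

For a functor `G : 𝒜 ⥤ ℬ` preserving finite products, a family `Y : ι → 𝒜` and a presheaf `Q` on `ℬ`, the
Čech complex of `G.op ⋙ Q` for the family `Y` is isomorphic to the Čech complex of `Q` for the family `G ∘ Y`.
-/

set_option autoImplicit false

universe w v₁ v₂ v₃ u₁ u₂ u₃

open CategoryTheory CategoryTheory.Limits Opposite

namespace Groth.Agent.Lib.Helper5.CechPost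

variable {𝒜 : Type u₁} [Category.{v₁} 𝒜] {ℬ : Type u₂} [Category.{v₂} ℬ]
  [HasFiniteProducts 𝒜] [HasFiniteProducts ℬ]
  (G : 𝒜 ⥤ ℬ) [PreservesFiniteProducts G]
  {A : Type u₃} [Category.{v₃} A] [HasProducts.{w} A]
  {ι : Type w} (Y : ι → 𝒜) (Q : ℬᵒᵖ ⥤ A)

/-- The comparison isomorphism `G (∏ Y ∘ σ) ≅ ∏ (G ∘ Y ∘ σ)`. -/
noncomputable def cmp {α : Type} [Finite α] (σ : α → ι) :
    G.obj (∏ᶜ (Y ∘ σ)) ≅ ∏ᶜ ((G.obj ∘ Y) ∘ σ) :=
  PreservesProduct.iso G (Y ∘ σ)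

@[reassoc (attr := simp)]
lemma cmp_hom_π {α : Type} [Finite α] (σ : α → ι) (a : α) :
    (cmp G Y σ).hom ≫ Pi.π ((G.obj ∘ Y) ∘ σ) a = G.map (Pi.π (Y ∘ σ) a) := by
  exact piComparison_comp_π G (Y ∘ σ) a

@[reassoc]
lemma cmp_natural {α β : Type} [Finite α] [Finite β] (f : α → β) (τ : β → ι) :
    G.map (Pi.lift (fun a => Pi.π (Y ∘ τ) (f a)) : ∏ᶜ (Y ∘ τ) ⟶ ∏ᶜ (Y ∘ τ ∘ f)) ≫
      (cmp G Y (τ ∘ f)).hom =
    (cmp G Y τ).hom ≫ (Pi.lift (fun a => Pi.π ((G.obj ∘ Y) ∘ τ) (f a)) :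
      ∏ᶜ ((G.obj ∘ Y) ∘ τ) ⟶ ∏ᶜ ((G.obj ∘ Y) ∘ τ ∘ f)) := by
  apply Pi.hom_ext
  intro a
  rw [Category.assoc, Category.assoc, cmp_hom_π, ← G.map_comp]
  erw [Pi.lift_π, Pi.lift_π]
  rw [cmp_hom_π]

/-- The levelwise comparison, explicit form. -/
noncomputable def pIso (α : Type) [Finite α] :
    (∏ᶜ fun σ : α → ι => Q.obj (op (G.obj (∏ᶜ (Y ∘ σ))))) ≅
      ∏ᶜ fun σ : α → ι => Q.obj (op (∏ᶜ ((G.obj ∘ Y) ∘ σ))) :=
  Pi.mapIso fun σ => (Q.mapIso (cmp G Y σ).op).symm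

lemma natural_aux {α β : Type} [Finite α] [Finite β] (f : α → β) :
    (Pi.lift fun τ : β → ι => Pi.π (fun σ : α → ι => Q.obj (op (G.obj (∏ᶜ (Y ∘ σ))))) (τ ∘ f) ≫
        Q.map (G.map (Pi.lift (fun a => Pi.π (Y ∘ τ) (f a)) : ∏ᶜ (Y ∘ τ) ⟶ ∏ᶜ (Y ∘ τ ∘ f))).op) ≫
      (pIso G Y Q β).hom =
    (pIso G Y Q α).hom ≫
      Pi.lift fun τ : β → ι => Pi.π (fun σ : α → ι => Q.obj (op (∏ᶜ ((G.obj ∘ Y) ∘ σ)))) (τ ∘ f) ≫
        Q.map (Pi.lift (fun a => Pi.π ((G.obj ∘ Y) ∘ τ) (f a)) :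
          ∏ᶜ ((G.obj ∘ Y) ∘ τ) ⟶ ∏ᶜ ((G.obj ∘ Y) ∘ τ ∘ f)).op := by
  apply Pi.hom_ext
  intro τ
  unfold pIso
  rw [Category.assoc, Category.assoc, Pi.mapIso_hom_π, Pi.lift_π, Pi.lift_π_assoc, Pi.mapIso_hom_π_assoc,
    Category.assoc]
  congr 1
  dsimp
  rw [← Q.map_comp, ← Q.map_comp]
  congr 1
  simp only [Iso.op_inv, ← op_comp]
  congr 1
  rw [← cancel_epi (cmp G Y τ).hom, Iso.hom_inv_id_assoc, ← cmp_natural_assoc, Iso.hom_inv_id,
    Category.comp_id]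

/-- The comparison of Čech cosimplicial objects. -/
noncomputable def cosimpIso :
    (FormalCoproduct.cosimplicialObjectFunctor (FormalCoproduct.mk _ Y).cech).obj (G.op ⋙ Q) ≅
    (FormalCoproduct.cosimplicialObjectFunctor (FormalCoproduct.mk _ (G.obj ∘ Y)).cech).obj Q :=
  NatIso.ofComponents (fun n => pIso G Y Q (ToType n)) (by
    intro n m f
    exact natural_aux G Y Q f.toOrderHom.toFun)

variable [Preadditive A]

/-- The comparison of Čech complexes. -/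
noncomputable def cechIso :
    (cechComplexFunctor Y).obj (G.op ⋙ Q) ≅ (cechComplexFunctor (G.obj ∘ Y)).obj Q :=
  (AlgebraicTopology.alternatingCofaceMapComplex A).mapIso (cosimpIso G Y Q)

section Over

variable {C D : Type u₁} [SmallCategory C] [SmallCategory D] [HasPullbacks C] [HasPullbacks D]
  (u : C ⥤ D) [PreservesLimitsOfShape WalkingCospan u] (U : C)

instance preservesBinaryProducts_post :
    PreservesLimitsOfShape (Discrete WalkingPair) (Over.post u (X := U)) := by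
  haveI : PreservesLimitsOfShape (WidePullbackShape WalkingPair) u :=
    inferInstanceAs (PreservesLimitsOfShape WalkingCospan u)
  infer_instance

instance preservesTerminal_post :
    PreservesLimitsOfShape (Discrete PEmpty.{1}) (Over.post u (X := U)) := by
  have ht : IsTerminal ((Over.post u (X := U)).obj (Over.mk (𝟙 U))) :=
    IsTerminal.ofIso Over.mkIdTerminal
      (Over.isoMk (Iso.refl _) (by
        change 𝟙 (u.obj U) ≫ u.map (𝟙 U) = 𝟙 (u.obj U)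
        rw [CategoryTheory.Functor.map_id, Category.comp_id]) : Over.mk (𝟙 (u.obj U)) ≅ (Over.post u).obj (Over.mk (𝟙 U)))
  have : PreservesLimit (Functor.empty.{0} (Over U)) (Over.post u (X := U)) :=
    preservesLimit_of_preserves_limit_cone Over.mkIdTerminal
      ((isLimitMapConeEmptyConeEquiv _ _).symm ht)
  exact preservesLimitsOfShape_pempty_of_preservesTerminal _

instance preservesFiniteProducts_post : PreservesFiniteProducts (Over.post u (X := U)) :=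
  PreservesFiniteProducts.of_preserves_binary_and_terminal _

/-- Čech cohomology of `u.op ⋙ P` for a family over `U` is the Čech cohomology of `P` for the image family. -/
noncomputable def cechHIso (P : Dᵒᵖ ⥤ AddCommGrpCat.{u₁}) {ι : Type u₁} (Y : ι → Over U) (p : ℕ) :
    CohCx.cechH (u.op ⋙ P) Y p ≅ CohCx.cechH P (fun i => (Over.post u).obj (Y i)) p :=
  (HomologicalComplex.homologyFunctor _ _ p).mapIso
    (cechIso (Over.post u (X := U)) Y ((Over.forget (u.obj U)).op ⋙ P))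

end Over

end Groth.Agent.Lib.Helper5.CechPost
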