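import Groth.Agent.Lib.Helper5.BCCech1
import Groth.Agent.Lib.Helper5.BCCech3
import Groth.Agent.Lib.Helper5.CechPost

/-!
# Base change of the relative Čech complex (helper5)

`g^* Č(𝒰, f, F) ≅ Č(g'⁻¹𝒰, f', g'^*F)` as complexes, for a cartesian square, a finite family of opens whose finite
intersections are affine over `S`, and `F` quasi-coherent; consequently `g^* Č(𝒰, f, F)` computes `Rf'_*(g'^*F)`.
-/

set_option autoImplicit false
set_option linter.unusedSectionVars false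

universe u

open CategoryTheory CategoryTheory.Limits Opposite TopologicalSpace AlgebraicGeometry

attribute [local instance] HasDerivedCategory.standard

namespace Groth.Agent.Lib.Helper5.BCCech

open Groth.Agent.Lib.Helper22.EGA7 Groth.Agent.Lib.Helper5.CechShRes
  Groth.Agent.Lib.Helper5.PushRestrAcyc Groth.Agent.Lib.Helper29

section thin

/-- in a thin category a cone receiving a map from every cone is a limit cone -/
def isLimitOfThin {J C : Type*} [Category J] [Category C] [Quiver.IsThin C] {K : J ⥤ C}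
    (c : Cone K) (lift : ∀ s : Cone K, s.pt ⟶ c.pt) : IsLimit c where
  lift := lift
  fac _ _ := Subsingleton.elim _ _
  uniq _ _ _ := Subsingleton.elim _ _

lemma preimage_iInf_finite {Y Z : TopCat.{u}} (φ : Y ⟶ Z) {J : Type*} [Finite J]
    (U : J → Opens Z) :
    (Opens.map φ).obj (⨅ j, U j) = ⨅ j, (Opens.map φ).obj (U j) := by
  apply Opens.ext
  rw [Opens.coe_iInf]
  show φ ⁻¹' ((⨅ j, U j : Opens Z) : Set Z) = _
  rw [Opens.coe_iInf, Set.preimage_iInter]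
  rfl

instance preservesFiniteProducts_opensMap {Y Z : TopCat.{u}} (φ : Y ⟶ Z) :
    PreservesFiniteProducts (Opens.map φ) := by
  refine ⟨fun n => { preservesLimit := fun {K} => ?_ }⟩
  refine preservesLimit_of_preserves_limit_cone (limit.isLimit K) ?_
  refine isLimitOfThin _ fun s => homOfLE ?_
  have h1 : (⨅ j : Discrete (Fin n), K.obj j) ≤ limit K :=
    leOfHom (limit.lift K ⟨⨅ j, K.obj j,
      { app := fun j => homOfLE (iInf_le _ j)
        naturality := fun _ _ _ => Subsingleton.elim _ _ }⟩)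
  have h2 : s.pt ≤ ⨅ j : Discrete (Fin n), (Opens.map φ).obj (K.obj j) :=
    le_iInf fun j => leOfHom (s.π.app j)
  rw [← preimage_iInf_finite] at h2
  exact h2.trans (leOfHom ((Opens.map φ).map (homOfLE h1)))

end thin

variable {X S S' X' : Scheme.{u}} (f : X ⟶ S) (g : S' ⟶ S) (g' : X' ⟶ X) (f' : X' ⟶ S')
  (hc : IsPullback g' f' f g) (F : X.Modules) [F.IsQuasicoherent]
  {ι : Type u} [Finite ι] (𝒰 : ι → X.Opens)

omit [Finite ι] in
lemma pi_opens_eq_iInf' {Y : Scheme.{u}} {J : Type} (g : J → Y.Opens) : ∏ᶜ g = ⨅ j, g j :=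
  le_antisymm (le_iInf fun j => leOfHom (Pi.π g j))
    (leOfHom (Pi.lift fun j => homOfLE (iInf_le g j)))

lemma Uσg_preimage {p : ℕ} (σ : Fin (p + 1) → ι) :
    Uσg (fun i => g' ⁻¹ᵁ 𝒰 i) σ = g' ⁻¹ᵁ (Uσg 𝒰 σ) := by
  show ∏ᶜ ((fun i => g' ⁻¹ᵁ 𝒰 i) ∘ σ) = g' ⁻¹ᵁ (∏ᶜ (𝒰 ∘ σ))
  rw [pi_opens_eq_iInf', pi_opens_eq_iInf']
  exact (preimage_iInf_finite g'.base _).symm

section part1

variable [(Scheme.Modules.pullback g).Additive]

include hc in
/-- **`g^* Č(𝒰, f, F) ≅ Č(g'⁻¹𝒰, f', g'^*F)`.** -/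
theorem nonempty_iso_relCech
    (hA : ∀ (p : ℕ) (σ : Fin (p + 1) → ι), IsAffineHom ((Uσg 𝒰 σ).ι ≫ f)) :
    Nonempty (((Scheme.Modules.pullback g).mapHomologicalComplex (ComplexShape.up ℕ)).obj
        ((CechOX.relCech 𝒰 f).obj F) ≅
      (CechOX.relCech (fun i => g' ⁻¹ᵁ (𝒰 i)) f').obj ((Scheme.Modules.pullback g').obj F)) := by
  haveI := (Scheme.Modules.pullbackPushforwardAdjunction f).rightAdjoint_preservesLimits
  haveI := (Scheme.Modules.pullbackPushforwardAdjunction f').rightAdjoint_preservesLimits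
  let e1 : ((Scheme.Modules.pullback g).mapHomologicalComplex (ComplexShape.up ℕ)).obj
        ((CechOX.relCech 𝒰 f).obj F) ≅
      ((Scheme.Modules.pullback g).mapHomologicalComplex (ComplexShape.up ℕ)).obj
        (CKg 𝒰 (PF F ⋙ Scheme.Modules.pushforward f)) :=
    ((Scheme.Modules.pullback g).mapHomologicalComplex (ComplexShape.up ℕ)).mapIso
      (cechMapIso 𝒰 (Scheme.Modules.pushforward f) (PF F))
  let e2 := cechMapIso 𝒰 (Scheme.Modules.pullback g) (PF F ⋙ Scheme.Modules.pushforward f)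
  let Θn := ΘNat f g g' f' hc.w F
  haveI : ∀ n, IsIso (((cechComplexFunctor 𝒰).map Θn).f n) := fun n => by
    haveI : ∀ σ : Fin (n + 1) → ι, IsIso (Θn.app (op (Uσg 𝒰 σ))) := fun σ => by
      haveI := hA n σ
      exact isIso_Θ f g g' f' (Uσg 𝒰 σ) F hc
    change IsIso (Limits.Pi.map fun σ : Fin (n + 1) → ι => Θn.app (op (Uσg 𝒰 σ)))
    infer_instance
  haveI : IsIso ((cechComplexFunctor 𝒰).map Θn) := HomologicalComplex.Hom.isIso_of_components _
  let e3 := asIso ((cechComplexFunctor 𝒰).map Θn)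
  let e4 := Groth.Agent.Lib.Helper5.CechPost.cechIso (Opens.map g'.base) 𝒰
    (PF ((Scheme.Modules.pullback g').obj F) ⋙ Scheme.Modules.pushforward f')
  let e5 := (cechMapIso (fun i => g' ⁻¹ᵁ (𝒰 i)) (Scheme.Modules.pushforward f')
    (PF ((Scheme.Modules.pullback g').obj F))).symm
  exact ⟨e1 ≪≫ e2 ≪≫ e3 ≪≫ e4 ≪≫ e5⟩

end part1

section affine

variable [IsAffineHom (pullback.diagonal (terminal.from X))]
  [IsAffineHom (pullback.diagonal (terminal.from S))]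
  (h𝒰 : ∀ i, IsAffineOpen (𝒰 i))

include h𝒰 in
lemma isAffineHom_Uσ_comp {p : ℕ} (σ : Fin (p + 1) → ι) : IsAffineHom ((Uσg 𝒰 σ).ι ≫ f) := by
  haveI : IsAffine ((Uσg 𝒰 σ : X.Opens) : Scheme.{u}) := isAffineOpen_Uσ 𝒰 h𝒰 σ
  exact isAffineHom_of_affineDiagonal _

include h𝒰 in
lemma isAffineHom_Uσ {p : ℕ} (σ : Fin (p + 1) → ι) : IsAffineHom (Uσg 𝒰 σ).ι := by
  haveI : IsAffine ((Uσg 𝒰 σ : X.Opens) : Scheme.{u}) := isAffineOpen_Uσ 𝒰 h𝒰 σ
  exact isAffineHom_of_affineDiagonal _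

include hc h𝒰 in
lemma isAffineHom_Uσ' {p : ℕ} (σ : Fin (p + 1) → ι) :
    IsAffineHom (Uσg (fun i => g' ⁻¹ᵁ 𝒰 i) σ).ι ∧
      IsAffineHom ((Uσg (fun i => g' ⁻¹ᵁ 𝒰 i) σ).ι ≫ f') := by
  have key : ∀ (U V : X'.Opens), U = V → (IsAffineHom V.ι ∧ IsAffineHom (V.ι ≫ f')) →
      (IsAffineHom U.ι ∧ IsAffineHom (U.ι ≫ f')) := by
    rintro U _ rfl h
    exact h
  refine key _ _ (Uσg_preimage g' 𝒰 σ) ⟨?_, ?_⟩
  · exact MorphismProperty.of_isPullback (isPullback_morphismRestrict g' (Uσg 𝒰 σ))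
      (isAffineHom_Uσ 𝒰 h𝒰 σ)
  · exact MorphismProperty.of_isPullback (isPullback_W f g g' f' hc (Uσg 𝒰 σ))
      (isAffineHom_Uσ_comp f 𝒰 h𝒰 σ)

include hc h𝒰 in
/-- **`g^* Č(𝒰, f, F)` computes `Rf'_*(g'^*F)`.** -/
theorem nonempty_iso_Rpush [(Scheme.Modules.pullback g).Additive] (hcov : ⨆ i, 𝒰 i = ⊤)
    [DCoh.HasRpush f'] :
    Nonempty (DCoh.toD S' ((((Scheme.Modules.pullback g).mapHomologicalComplex
        (ComplexShape.up ℕ)).obj ((CechOX.relCech 𝒰 f).obj F)).extend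
          ComplexShape.embeddingUpNat) ≅
      (DCoh.Rpush f').obj (DCoh.inD _ ((Scheme.Modules.pullback g').obj F))) := by
  obtain ⟨φ⟩ := nonempty_iso_relCech f g g' f' hc F 𝒰 (fun p σ => isAffineHom_Uσ_comp f 𝒰 h𝒰 σ)
  have hcov' : ⨆ i, g' ⁻¹ᵁ (𝒰 i) = ⊤ := by
    rw [← Scheme.Hom.preimage_iSup, hcov]
    rfl
  obtain ⟨ψ⟩ := Groth.Agent.Lib.Helper5.BCCech3.nonempty_relCechZ_iso' f'
    (fun i => g' ⁻¹ᵁ (𝒰 i)) (fun p σ => isAffineHom_Uσ' f g g' f' hc 𝒰 h𝒰 σ) hcov'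
    ((Scheme.Modules.pullback g').obj F)
  exact ⟨DerivedCategory.Q.mapIso
    ((ComplexShape.embeddingUpNat.extendFunctor S'.Modules).mapIso φ) ≪≫ ψ⟩

end affine

end Groth.Agent.Lib.Helper5.BCCech
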