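import Groth.Agent.Lib.Helper5.CechPost
import Groth.Agent.Lib.Helper22.EGA7.CechGen
import Groth.Agent.Lib.Helper29.QCohQcqs
import Groth.Agent.S0008

/-!
# Čech cohomology for a family of basic opens with a partition of unity (helper5)

Let `X` be a separated scheme, `f_1, …, f_n` global functions with quasi-compact `X_{f_i}`, `U₀ = ⋃ X_{f_i}` and
`Σ g_i f_i = 1` on `U₀`.  For a quasi-coherent `G` the Čech complex of `G` for the family `(X_{f_i})` is isomorphic to
the Čech complex of `φ_*(G|_{U₀})` on `Spec Γ(U₀, O)` for the standard cover `D(f_i)`, where `φ : U₀ → Spec Γ(U₀, O)`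
is the canonical (quasi-compact, quasi-separated) morphism; the affine case (S0008) then gives the vanishing.
-/

set_option autoImplicit false
set_option linter.unusedSectionVars false
set_option linter.style.haveILetI false

universe u

open CategoryTheory CategoryTheory.Limits Opposite TopologicalSpace AlgebraicGeometry

namespace Groth.Agent.Lib.Helper5.BasicCech

open Groth.Agent.Lib.Helper22.EGA7

section thin

/-- in a thin category a cone receiving a map from every cone is a limit cone -/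
def isLimitOfThin {J C : Type*} [Category J] [Category C] [Quiver.IsThin C] {K : J ⥤ C}
    (c : Cone K) (lift : ∀ s : Cone K, s.pt ⟶ c.pt) : IsLimit c where
  lift := lift
  fac _ _ := Subsingleton.elim _ _
  uniq _ _ _ := Subsingleton.elim _ _

lemma preimage_iInf_finite {Y Z : TopCat.{u}} (φ : Y ⟶ Z) {J : Type*} [Finite J]
    (U : J → Opens Z) :
    (Opens.map φ).obj (⨅ j, U j) = ⨅ j, (Opens.map φ).obj (U j) := by
  apply Opens.ext
  rw [Opens.coe_iInf]
  show φ ⁻¹' ((⨅ j, U j : Opens Z) : Set Z) = _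
  rw [Opens.coe_iInf, Set.preimage_iInter]
  rfl

instance preservesFiniteProducts_opensMap {Y Z : TopCat.{u}} (φ : Y ⟶ Z) :
    PreservesFiniteProducts (Opens.map φ) := by
  refine ⟨fun n => { preservesLimit := fun {K} => ?_ }⟩
  refine preservesLimit_of_preserves_limit_cone (limit.isLimit K) ?_
  refine isLimitOfThin _ fun s => homOfLE ?_
  have h1 : (⨅ j : Discrete (Fin n), K.obj j) ≤ limit K :=
    leOfHom (limit.lift K ⟨⨅ j, K.obj j,
      { app := fun j => homOfLE (iInf_le _ j)
        naturality := fun _ _ _ => Subsingleton.elim _ _ }⟩)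
  have h2 : s.pt ≤ ⨅ j : Discrete (Fin n), (Opens.map φ).obj (K.obj j) :=
    le_iInf fun j => leOfHom (s.π.app j)
  rw [← preimage_iInf_finite] at h2
  exact h2.trans (leOfHom ((Opens.map φ).map (homOfLE h1)))

end thin

/-- A morphism of presheaves which is an isomorphism on all the finite products `U_σ` induces an isomorphism of
Čech complexes. -/
lemma isIso_cechMap {C : Type u} [Category.{u} C] [HasFiniteProducts C] {ι : Type u} (U : ι → C)
    {P Q : Cᵒᵖ ⥤ AddCommGrpCat.{u}} (ρ : P ⟶ Q)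
    (h : ∀ (n : ℕ) (σ : Fin (n + 1) → ι), IsIso (ρ.app (op (Uσg U σ)))) :
    IsIso ((cechComplexFunctor U).map ρ) := by
  haveI : ∀ n, IsIso (((cechComplexFunctor U).map ρ).f n) := fun n => by
    haveI := h n
    change IsIso (Limits.Pi.map fun σ : Fin (n + 1) → ι => ρ.app (op (Uσg U σ)))
    infer_instance
  exact HomologicalComplex.Hom.isIso_of_components _

section

variable {X : Scheme.{u}} (U₀ : X.Opens) (G : X.Modules)

lemma presheaf_map_congr {A B : (X.Opens)ᵒᵖ} (a b : A ⟶ B) :
    G.presheaf.map a = G.presheaf.map b := by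
  rw [Subsingleton.elim a b]

/-- the comparison `G(V) → G(V ∩ U₀)` as a morphism of presheaves on `X` -/
noncomputable def ρ : G.presheaf ⟶
    (Opens.map U₀.ι.base).op ⋙ ((Scheme.Modules.restrictFunctor U₀.ι).obj G).presheaf where
  app V := G.presheaf.map (homOfLE (U₀.ι.image_preimage_le V.unop)).op
  naturality V W i := by
    show G.presheaf.map i ≫ G.presheaf.map (homOfLE (U₀.ι.image_preimage_le W.unop)).op =
      G.presheaf.map (homOfLE (U₀.ι.image_preimage_le V.unop)).op ≫
        G.presheaf.map (U₀.ι.opensFunctor.map ((Opens.map U₀.ι.base).map i.unop)).op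
    rw [← Functor.map_comp, ← Functor.map_comp]
    exact presheaf_map_congr G _ _

lemma isIso_ρ_app (V : X.Opens) (hV : V ≤ U₀) : IsIso ((ρ U₀ G).app (op V)) := by
  have heq : U₀.ι ''ᵁ (U₀.ι ⁻¹ᵁ V) = V := by
    rw [Scheme.Hom.image_preimage_eq_opensRange_inf, Scheme.Opens.opensRange_ι]
    exact inf_eq_right.mpr hV
  haveI : IsIso (homOfLE (U₀.ι.image_preimage_le V)) :=
    ⟨⟨homOfLE (le_of_eq heq.symm), Subsingleton.elim _ _, Subsingleton.elim _ _⟩⟩
  show IsIso (G.presheaf.map (homOfLE (U₀.ι.image_preimage_le V)).op)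
  infer_instance

end

/-- **Čech acyclicity for basic opens with a partition of unity.** -/
theorem main (X : Scheme.{u}) [X.IsSeparated] (n : ℕ)
    (f : Fin n → Γ(X, ⊤)) (hqc : ∀ i, IsCompact (X.basicOpen (f i) : Set X))
    (g : Fin n → Γ(X, ⨆ i, X.basicOpen (f i)))
    (hg : (Finset.univ.sum fun i => g i *
      (X.presheaf.map (homOfLE (le_top : (⨆ i, X.basicOpen (f i)) ≤ ⊤)).op).hom (f i)) = 1)
    (G : X.Modules) [G.IsQuasicoherent] (p : ℕ) (hp : 0 < p) :
    IsZero (CohB1.cechH (fun i : ULift.{u} (Fin n) => X.basicOpen (f i.down)) G p) := by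
  classical
  let U₀ : X.Opens := ⨆ i, X.basicOpen (f i)
  let A : Type u := Γ(X, U₀)
  let f' : ULift.{u} (Fin n) → A := fun i =>
    (X.presheaf.map (homOfLE (le_top : U₀ ≤ ⊤)).op).hom (f i.down)
  have hspan : Ideal.span (Set.range f') = ⊤ := by
    rw [Ideal.eq_top_iff_one, ← hg]
    exact Ideal.sum_mem _ fun i _ => Ideal.mul_mem_left _ _ (Ideal.subset_span ⟨⟨i⟩, rfl⟩)
  haveI : QuasiSeparatedSpace X := (quasiSeparatedSpace_iff_quasiSeparated X).mpr inferInstance
  haveI : QuasiSeparatedSpace (U₀ : Scheme.{u}) := quasiSeparatedSpace_of_quasiSeparated U₀.ι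
  haveI : CompactSpace (U₀ : Scheme.{u}) := by
    refine isCompact_iff_compactSpace.mp ?_
    show IsCompact ((⨆ i, X.basicOpen (f i) : X.Opens) : Set X)
    rw [Opens.coe_iSup]
    exact isCompact_iUnion hqc
  let φ : (U₀ : Scheme.{u}) ⟶ Spec (CommRingCat.of A) := U₀.toSpecΓ
  haveI : QuasiCompact φ := inferInstance
  haveI : QuasiSeparated φ := inferInstance
  let G₁ : (U₀ : Scheme.{u}).Modules := (Scheme.Modules.restrictFunctor U₀.ι).obj G
  haveI : G₁.IsQuasicoherent := inferInstance
  let N : (Spec (CommRingCat.of A)).Modules := (Scheme.Modules.pushforward φ).obj G₁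
  haveI : N.IsQuasicoherent :=
    Groth.Agent.Lib.Helper29.QCoh.isQuasicoherent_pushforward_of_qcqs φ G₁
  let M₀ : ModuleCat.{u} A := (modulesSpecToSheaf.obj N).presheaf.obj (op ⊤)
  haveI : IsIso (Scheme.Modules.fromTildeΓ (R := CommRingCat.of A) N) := inferInstance
  have hz := Groth.Agent.S0008.result A M₀ n f' hspan p hp
  let Xf : ULift.{u} (Fin n) → X.Opens := fun i => X.basicOpen (f i.down)
  let D : ULift.{u} (Fin n) → (Spec (CommRingCat.of A)).Opens :=
    fun i => PrimeSpectrum.basicOpen (f' i)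
  let e6 : (cechComplexFunctor D).obj (tilde (R := CommRingCat.of A) M₀).presheaf ≅
      (cechComplexFunctor D).obj N.presheaf :=
    (cechComplexFunctor D).mapIso ((Scheme.Modules.toPresheaf _).mapIso
      (asIso (Scheme.Modules.fromTildeΓ (R := CommRingCat.of A) N)))
  let e5 := Groth.Agent.Lib.Helper5.CechPost.cechIso (Opens.map φ.base) D G₁.presheaf
  let e4 := Groth.Agent.Lib.Helper5.CechPost.cechIso (Opens.map U₀.ι.base) Xf G₁.presheaf
  have hfam : (Opens.map φ.base).obj ∘ D = (Opens.map U₀.ι.base).obj ∘ Xf := by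
    funext i
    show U₀.toSpecΓ ⁻¹ᵁ PrimeSpectrum.basicOpen (f' i) = U₀.ι ⁻¹ᵁ X.basicOpen (f i.down)
    rw [Scheme.Opens.toSpecΓ_preimage_basicOpen]
    show U₀.ι ⁻¹ᵁ X.basicOpen ((X.presheaf.map (homOfLE (le_top : U₀ ≤ ⊤)).op) (f i.down)) = _
    rw [Scheme.basicOpen_res, Scheme.Hom.preimage_inf, Scheme.Opens.ι_preimage_self, top_inf_eq]
  haveI : IsIso ((cechComplexFunctor Xf).map (ρ U₀ G)) :=
    isIso_cechMap Xf (ρ U₀ G) (fun m σ => isIso_ρ_app U₀ G _
      ((leOfHom (Pi.π (Xf ∘ σ) 0)).trans (le_iSup (fun i => X.basicOpen (f i)) (σ 0).down)))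
  let e3 := asIso ((cechComplexFunctor Xf).map (ρ U₀ G))
  let e45 : (cechComplexFunctor ((Opens.map U₀.ι.base).obj ∘ Xf)).obj G₁.presheaf ≅
      (cechComplexFunctor ((Opens.map φ.base).obj ∘ D)).obj G₁.presheaf :=
    eqToIso (by rw [hfam])
  let E := e3 ≪≫ e4 ≪≫ e45 ≪≫ e5.symm ≪≫ e6.symm
  exact IsZero.of_iso hz
    ((HomologicalComplex.homologyFunctor AddCommGrpCat.{u} (ComplexShape.up ℕ) p).mapIso E)

end Groth.Agent.Lib.Helper5.BasicCech
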