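import Groth.Agent.Lib.Helper22.ColimCohU.ExtInd
import Groth.Agent.Lib.Helper22.ColimCohU.IsColimit
import Groth.Agent.Lib.Helper22.ColimCoh.Top

/-!
# Cohomology of a compact quasi-separated prespectral space commutes with sequential colimits

Elementwise form, for `Sheaf.H` (global cohomology), index category `ℕ`.
-/

set_option autoImplicit false
set_option linter.unusedSectionVars false

universe u

open CategoryTheory CategoryTheory.Limits Opposite TopologicalSpace

namespace Groth.Agent.Lib.Helper5.ColimTopN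

open Groth.Agent.Lib.Helper22.ColimCohU

instance : PreservesColimitsOfShape ℕ (forget AddCommGrpCat.{u}) := by
  have : PreservesFilteredColimitsOfSize.{0, 0} (forget AddCommGrpCat.{u}) :=
    preservesFilteredColimitsOfSize_shrink.{0, u, 0, u} _
  infer_instance

instance (X : TopCat.{u}) :
    HasExactColimitsOfShape ℕ (Sheaf (Opens.grothendieckTopology X) AddCommGrpCat.{u}) := by
  have h := AB5OfSize_shrink.{0, 0, u, u} (Sheaf (Opens.grothendieckTopology X) AddCommGrpCat.{u})
  exact h.ofShape ℕ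

variable (X : TopCat.{u}) [CompactSpace X] [QuasiSeparatedSpace X] [PrespectralSpace X]

/-- The constant sheaf `ℤ`. -/
noncomputable abbrev ZX : Sheaf (Opens.grothendieckTopology X) AddCommGrpCat.{u} :=
  (constantSheaf (Opens.grothendieckTopology X) AddCommGrpCat.{u}).obj
    (AddCommGrpCat.of (ULift.{u} ℤ))

theorem comm_top (n : ℕ) : Comm ℕ (ZX X) n := by
  obtain ⟨Jf, jf, hJ⟩ :=
    Groth.Agent.Lib.Helper18.FunctorialInjective.exists_functorial_injective_embedding.{u}
      (Sheaf (Opens.grothendieckTopology X) AddCommGrpCat.{u})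
  have hinj : ∀ G, Injective (Jf.obj G) := fun G => (hJ G).1
  have hmono : ∀ G, Mono (jf.app G) := fun G => (hJ G).2
  exact Groth.Agent.Lib.Helper22.ColimCohU.comm (J := Opens.grothendieckTopology X) Jf jf
    (B := Groth.Agent.Lib.Helper22.ColimCoh.Top.Bc X)
    (Cov := Groth.Agent.Lib.Helper22.ColimCoh.Top.Covc X)
    (fun Q => by
      rw [← isSheaf_iff_isSheaf_of_type]
      exact (Presheaf.isSheaf_iff_isSheaf_forget _ Q.obj (forget AddCommGrpCat.{u})).1 Q.property)
    Groth.Agent.Lib.Helper22.ColimCoh.Top.h1 Groth.Agent.Lib.Helper22.ColimCoh.Top.h2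
    (fun _ _ _ h => h.1) (ZX X) ⊤ (show IsCompact ((⊤ : Opens X) : Set X) from isCompact_univ)
    (fun G => Sheaf.H.equiv₀ G (isTerminalTop : IsTerminal (⊤ : Opens X)))
    (fun {G G'} φ x => (Sheaf.H.equiv₀_naturality (hT := (isTerminalTop : IsTerminal (⊤ : Opens X))) φ x).symm) n

variable {X}

/-- Every cohomology class of a sequential colimit comes from a finite stage. -/
lemma H_rep {F : ℕ ⥤ Sheaf (Opens.grothendieckTopology X) AddCommGrpCat.{u}} (c : Cocone F)
    (hc : IsColimit c) (n : ℕ) (x : Sheaf.H c.pt n) :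
    ∃ (i : ℕ) (y : Sheaf.H (F.obj i) n), Sheaf.H.map (c.ι.app i) n y = x := by
  let e : colimit F ≅ c.pt := (colimit.isColimit F).coconePointUniqueUpToIso hc
  have he : ∀ i, colimit.ι F i ≫ e.hom = c.ι.app i := fun i =>
    (colimit.isColimit F).comp_coconePointUniqueUpToIso_hom hc i
  obtain ⟨i, y, hy⟩ := (comm_top X n).rep F (Sheaf.H.map e.inv n x)
  refine ⟨i, y, ?_⟩
  have hy' : Sheaf.H.map (colimit.ι F i) n y = Sheaf.H.map e.inv n x := hy
  rw [← he i, Sheaf.H.map_comp_apply, hy', ← Sheaf.H.map_comp_apply, e.inv_hom_id,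
    Sheaf.H.map_id_apply]

/-- A cohomology class at a finite stage dying in the colimit dies at a later stage. -/
lemma H_zero {F : ℕ ⥤ Sheaf (Opens.grothendieckTopology X) AddCommGrpCat.{u}} (c : Cocone F)
    (hc : IsColimit c) (n : ℕ) (i : ℕ) (y : Sheaf.H (F.obj i) n)
    (hy : Sheaf.H.map (c.ι.app i) n y = 0) :
    ∃ (j : ℕ) (g : i ⟶ j), Sheaf.H.map (F.map g) n y = 0 := by
  let e : colimit F ≅ c.pt := (colimit.isColimit F).coconePointUniqueUpToIso hc
  have he : ∀ i, colimit.ι F i ≫ e.hom = c.ι.app i := fun i =>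
    (colimit.isColimit F).comp_coconePointUniqueUpToIso_hom hc i
  have h0 : Sheaf.H.map (colimit.ι F i) n y = 0 := by
    have h1 : Sheaf.H.map e.hom n (Sheaf.H.map (colimit.ι F i) n y) = 0 := by
      rw [← Sheaf.H.map_comp_apply, he i, hy]
    have h2 := congrArg (Sheaf.H.map e.inv n) h1
    rw [← Sheaf.H.map_comp_apply, e.hom_inv_id, Sheaf.H.map_id_apply, map_zero] at h2
    exact h2
  exact (comm_top X n).zero F i y h0

end Groth.Agent.Lib.Helper5.ColimTopN
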