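import Groth.Agent.Lib.Helper5.SubspaceSect
import Groth.Agent.Lib.Helper5.RpushColim
import Groth.Agent.Lib.Helper5.SectSupp
import Groth.Agent.Lib.Helper5.HTerminal
import Groth.Agent.Lib.Helper22.Cech.Basis

/-!
# Sheaves which are flasque with respect to a basis of quasi-compact opens

For a basis `B` of quasi-compact opens of a space `T`, stable under finite unions and
intersections, a sheaf `G` all of whose restriction maps `G(T) → G(A)`, `A ∈ B`, are surjective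
has vanishing higher cohomology.
-/

set_option autoImplicit false

universe u

open CategoryTheory CategoryTheory.Limits TopologicalSpace Opposite TopCat Abelian

namespace Groth.Agent.Lib.Helper5.BasisFlasque

open Groth.Agent.Lib.Helper5.PullStalk Groth.Agent.Lib.Helper5.SubspaceSect
  Groth.Agent.Lib.Helper5.RpushColim

variable {T : TopCat.{u}}

/-- a basis of quasi-compact opens stable under finite unions and intersections -/
structure GoodBasis (B : Set (Opens T)) : Prop where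
  bot_mem : ⊥ ∈ B
  top_mem : ⊤ ∈ B
  inf_mem : ∀ A₁ ∈ B, ∀ A₂ ∈ B, A₁ ⊓ A₂ ∈ B
  sup_mem : ∀ A₁ ∈ B, ∀ A₂ ∈ B, A₁ ⊔ A₂ ∈ B
  compact : ∀ A ∈ B, IsCompact (A : Set T)
  basis : ∀ (W : Opens T) (x : T), x ∈ W → ∃ A ∈ B, x ∈ A ∧ A ≤ W

/-- flasque relative to the basis -/
def BF (B : Set (Opens T)) (G : CohTop.Ab T) : Prop :=
  ∀ A ∈ B, Function.Surjective (rs G (le_top : A ≤ ⊤))

lemma app_rs {G G' : CohTop.Ab T} (φ : G ⟶ G') {W V : Opens T} (h : W ≤ V)
    (s : G.obj.obj (op V)) :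
    (φ.hom.app (op W)).hom (rs G h s) = rs G' h ((φ.hom.app (op V)).hom s) :=
  ConcreteCategory.congr_hom (φ.hom.naturality (homOfLE h).op) s

lemma subsingleton_bot (G : CohTop.Ab T) (s t : G.obj.obj (op (⊥ : Opens T))) : s = t :=
  eq_of_locally G (fun i : PEmpty.{1} => i.elim) ⊥ (fun i => i.elim)
    (by rw [iSup_of_empty]) s t (fun i => i.elim)

/-- exactness of sections in the middle -/
lemma exists_of_app_g_eq_zero (S : ShortComplex (CohTop.Ab T)) (hS : S.ShortExact) (A : Opens T)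
    (a : S.X₂.obj.obj (op A)) (ha : (S.g.hom.app (op A)).hom a = 0) :
    ∃ b : S.X₁.obj.obj (op A), (S.f.hom.app (op A)).hom b = a := by
  let ΓA : CohTop.Ab T ⥤ AddCommGrpCat.{u} :=
    sheafToPresheaf _ _ ⋙ (evaluation _ _).obj (op A)
  have hm := hS.mono_f
  have hΓ : (S.map ΓA).Exact := hS.exact.map_of_mono_of_preservesKernel ΓA hm inferInstance
  exact (ShortComplex.ab_exact_iff _).1 hΓ a ha

variable {B : Set (Opens T)}

/-- the gluing step -/
lemma glue_step (S : ShortComplex (CohTop.Ab T)) (hS : S.ShortExact)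
    (hG : BF B S.X₁) (hB : GoodBasis B) (W : Opens T) (t : S.X₃.obj.obj (op W))
    (A₁ A₂ : Opens T) (hA₁ : A₁ ∈ B) (hA₂ : A₂ ∈ B) (h₁ : A₁ ≤ W) (h₂ : A₂ ≤ W)
    (a₁ : S.X₂.obj.obj (op A₁)) (a₂ : S.X₂.obj.obj (op A₂))
    (e₁ : (S.g.hom.app (op A₁)).hom a₁ = rs S.X₃ h₁ t)
    (e₂ : (S.g.hom.app (op A₂)).hom a₂ = rs S.X₃ h₂ t) :
    ∃ a : S.X₂.obj.obj (op (A₁ ⊔ A₂)),
      (S.g.hom.app (op (A₁ ⊔ A₂))).hom a = rs S.X₃ (sup_le h₁ h₂) t := by
  -- the difference on the overlap comes from `S.X₁`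
  have hd : (S.g.hom.app (op (A₁ ⊓ A₂))).hom
      (rs S.X₂ (inf_le_left : A₁ ⊓ A₂ ≤ A₁) a₁ - rs S.X₂ (inf_le_right : A₁ ⊓ A₂ ≤ A₂) a₂) = 0 := by
    rw [map_sub, app_rs, app_rs, e₁, e₂, rs_rs, rs_rs, sub_self]
  obtain ⟨b, hb⟩ := exists_of_app_g_eq_zero S hS _ _ hd
  obtain ⟨bt, hbt⟩ := hG _ (hB.inf_mem A₁ hA₁ A₂ hA₂) b
  -- correct `a₂`
  let a₂' : S.X₂.obj.obj (op A₂) :=
    a₂ + (S.f.hom.app (op A₂)).hom (rs S.X₁ (le_top : A₂ ≤ ⊤) bt)
  have hgf : ∀ (A : Opens T) (y : S.X₁.obj.obj (op A)),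
      (S.g.hom.app (op A)).hom ((S.f.hom.app (op A)).hom y) = 0 := by
    intro A y
    have h0 := congrArg (fun k => (k.hom.app (op A)).hom y) S.zero
    exact h0
  have e₂' : (S.g.hom.app (op A₂)).hom a₂' = rs S.X₃ h₂ t := by
    simp only [a₂']
    rw [map_add, hgf, add_zero, e₂]
  have hagree : rs S.X₂ (inf_le_left : A₁ ⊓ A₂ ≤ A₁) a₁ =
      rs S.X₂ (inf_le_right : A₁ ⊓ A₂ ≤ A₂) a₂' := by
    simp only [a₂']
    rw [map_add, ← app_rs, rs_rs]
    have : rs S.X₁ ((inf_le_right : A₁ ⊓ A₂ ≤ A₂).trans le_top) bt = b := hbt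
    rw [this, hb]
    abel
  obtain ⟨a, ha₁, ha₂⟩ := SectSupp.exists_glue₂ S.X₂ A₁ A₂ a₁ a₂' hagree
  refine ⟨a, ?_⟩
  apply TopCat.Sheaf.eq_of_locally_eq₂ S.X₃ (homOfLE (le_sup_left : A₁ ≤ A₁ ⊔ A₂))
    (homOfLE (le_sup_right : A₂ ≤ A₁ ⊔ A₂)) le_rfl
  · change rs S.X₃ _ _ = rs S.X₃ _ _
    rw [← app_rs, rs_rs]
    have : rs S.X₂ (le_sup_left : A₁ ≤ A₁ ⊔ A₂) a = a₁ := ha₁
    rw [this, e₁]
  · change rs S.X₃ _ _ = rs S.X₃ _ _
    rw [← app_rs, rs_rs]
    have : rs S.X₂ (le_sup_right : A₂ ≤ A₁ ⊔ A₂) a = a₂' := ha₂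
    rw [this, e₂']

/-- sections of `S.X₂ → S.X₃` over members of the basis are surjective when `S.X₁` is flasque
relative to the basis -/
theorem surjective_app_g (hB : GoodBasis B) (S : ShortComplex (CohTop.Ab T)) (hS : S.ShortExact)
    (hG : BF B S.X₁) (W : Opens T) (hW : W ∈ B) :
    Function.Surjective (S.g.hom.app (op W)).hom := by
  classical
  intro t
  have hepi := hS.epi_g
  have hloc : ∀ x : T, x ∈ W → ∃ A ∈ B, x ∈ A ∧ ∃ hA : A ≤ W, ∃ a : S.X₂.obj.obj (op A),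
      (S.g.hom.app (op A)).hom a = rs S.X₃ hA t := by
    intro x hx
    obtain ⟨V', hV', hxV', a', ha'⟩ := epi_local_lift S.g W t x hx
    obtain ⟨A, hA, hxA, hAV'⟩ := hB.basis V' x hxV'
    refine ⟨A, hA, hxA, hAV'.trans hV', rs S.X₂ hAV' a', ?_⟩
    rw [app_rs]
    have : (S.g.hom.app (op V')).hom a' = rs S.X₃ hV' t := ha'
    rw [this, rs_rs]
  choose A hAB hxA hAW a ha using hloc
  obtain ⟨fs, hfs⟩ := (hB.compact W hW).elim_finite_subcover
    (fun x : W => (A x.1 x.2 : Set T)) (fun x => (A x.1 x.2).2)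
    (fun x hx => Set.mem_iUnion.2 ⟨⟨x, hx⟩, hxA x hx⟩)
  have ind : ∀ s : Finset W, ∀ O : Opens T, O = (s.sup fun x => A x.1 x.2) → O ∈ B ∧
      ∃ hle : O ≤ W, ∃ a' : S.X₂.obj.obj (op O),
        (S.g.hom.app (op O)).hom a' = rs S.X₃ hle t := by
    intro s
    induction s using Finset.induction_on with
    | empty =>
      intro O hO
      rw [Finset.sup_empty] at hO
      subst hO
      exact ⟨hB.bot_mem, bot_le, 0, subsingleton_bot S.X₃ _ _⟩
    | insert x s hx ih =>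
      intro O hO
      rw [Finset.sup_insert] at hO
      subst hO
      obtain ⟨hmem, hle, a', ha'⟩ := ih _ rfl
      obtain ⟨a'', ha''⟩ := glue_step S hS hG hB W t (A x.1 x.2) (s.sup fun x => A x.1 x.2)
        (hAB x.1 x.2) hmem (hAW x.1 x.2) hle (a x.1 x.2) a' (ha x.1 x.2) ha'
      exact ⟨hB.sup_mem _ (hAB x.1 x.2) _ hmem, sup_le (hAW x.1 x.2) hle, a'', ha''⟩
  obtain ⟨-, hle, a', ha'⟩ := ind fs _ rfl
  have hWle : W ≤ fs.sup fun x => A x.1 x.2 := by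
    intro y hy
    have := hfs hy
    simp only [Set.mem_iUnion] at this
    obtain ⟨x, hxfs, hyx⟩ := this
    exact (Finset.le_sup (f := fun x : W => A x.1 x.2) hxfs) hyx
  refine ⟨rs S.X₂ hWle a', ?_⟩
  rw [app_rs, ha', rs_rs, rs_self]

/-- the quotient of a basis-flasque sheaf by ... is basis-flasque -/
theorem BF_X₃ (hB : GoodBasis B) (S : ShortComplex (CohTop.Ab T)) (hS : S.ShortExact)
    (hG : BF B S.X₁) [TopCat.Sheaf.IsFlasque S.X₂] : BF B S.X₃ := by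
  intro A hA t
  obtain ⟨a, ha⟩ := surjective_app_g hB S hS hG A hA t
  have hepi : Epi (S.X₂.obj.map (homOfLE (le_top : A ≤ ⊤)).op) :=
    TopCat.Presheaf.IsFlasque.epi (F := S.X₂.obj) _
  obtain ⟨at', hat'⟩ := (AddCommGrpCat.epi_iff_surjective _).1 hepi a
  refine ⟨(S.g.hom.app (op ⊤)).hom at', ?_⟩
  rw [← app_rs]
  have : rs S.X₂ (le_top : A ≤ ⊤) at' = a := hat'
  rw [this, ha]

/-- **Basis-flasque sheaves are acyclic.** -/
theorem subsingleton_H_succ (hB : GoodBasis B) (G : CohTop.Ab T) (hG : BF B G) (p : ℕ) :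
    Subsingleton (CohTop.H G (p + 1)) := by
  have h := Groth.Agent.Lib.Helper22.Cech.ext_succ_eq_zero_of_class (BF B) B
    (fun F hF U hU => surjective_app_g hB _ (Groth.Agent.Lib.Helper22.CohTop.injSC_shortExact F)
      hF U hU)
    (fun F hF => BF_X₃ hB _ (Groth.Agent.Lib.Helper22.CohTop.injSC_shortExact F) hF) p G hG ⊤
    hB.top_mem
  obtain ⟨e⟩ := HTerminal.nonempty_H_addEquiv_HU (Opens.grothendieckTopology T)
    (isTerminalTop : IsTerminal (⊤ : Opens T)) G (p + 1)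
  have hs : Subsingleton (CohSite.HU G (p + 1) (⊤ : Opens T)) :=
    subsingleton_of_forall_eq 0 fun x => h x
  exact e.toEquiv.subsingleton

end Groth.Agent.Lib.Helper5.BasisFlasque
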