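import Mathlib

/-!
# Dévissage for fully faithfulness of a triangulated functor (abstract part)

`FF Φ K L` : `Φ` is bijective on `Hom(K, L)`.  `PP Φ K L` : the same for all shifts of `K` and `L`.
Both are stable under isomorphisms and `PP` satisfies two-out-of-three in distinguished triangles
in each variable (five lemma).
-/

set_option autoImplicit false

open CategoryTheory CategoryTheory.Limits CategoryTheory.Pretriangulated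

namespace Groth.Agent.Lib.Helper5.BddDev

universe v₁ v₂ u₁ u₂

variable {C : Type u₁} {D : Type u₂} [Category.{v₁} C] [Category.{v₂} D]
  [Preadditive C] [Preadditive D] [HasZeroObject C] [HasZeroObject D]
  [HasShift C ℤ] [HasShift D ℤ]
  [∀ n : ℤ, (shiftFunctor C n).Additive] [∀ n : ℤ, (shiftFunctor D n).Additive]
  [Pretriangulated C] [Pretriangulated D]
  (Φ : C ⥤ D) [Φ.CommShift ℤ] [Φ.IsTriangulated]

/-- `Φ` is bijective on `Hom(K, L)`. -/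
def FF (K L : C) : Prop := Function.Bijective (fun φ : K ⟶ L => Φ.map φ)

variable {Φ}

lemma FF.inj {K L : C} (h : FF Φ K L) {φ₁ φ₂ : K ⟶ L} (e : Φ.map φ₁ = Φ.map φ₂) : φ₁ = φ₂ :=
  h.1 e

lemma FF.inj0 {K L : C} (h : FF Φ K L) {φ : K ⟶ L} (e : Φ.map φ = 0) : φ = 0 :=
  h.1 (by simpa using e)

lemma FF.surj {K L : C} (h : FF Φ K L) (ψ : Φ.obj K ⟶ Φ.obj L) : ∃ φ : K ⟶ L, Φ.map φ = ψ :=
  h.2 ψ

lemma FF_of_inj0_surj {K L : C} (h0 : ∀ φ : K ⟶ L, Φ.map φ = 0 → φ = 0)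
    (hs : ∀ ψ : Φ.obj K ⟶ Φ.obj L, ∃ φ : K ⟶ L, Φ.map φ = ψ) : FF Φ K L := by
  refine ⟨fun φ₁ φ₂ e => ?_, hs⟩
  have : Φ.map (φ₁ - φ₂) = 0 := by
    rw [Φ.map_sub]; exact sub_eq_zero.2 e
  exact sub_eq_zero.1 (h0 _ this)

lemma FF_of_iso₁ {K K' L : C} (e : K ≅ K') (h : FF Φ K L) : FF Φ K' L := by
  constructor
  · intro φ₁ φ₂ he
    have : e.hom ≫ φ₁ = e.hom ≫ φ₂ := h.inj (by
      rw [Φ.map_comp, Φ.map_comp]; exact congrArg (fun t => Φ.map e.hom ≫ t) he)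
    exact (cancel_epi e.hom).1 this
  · intro ψ
    obtain ⟨φ, hφ⟩ := h.surj (Φ.map e.hom ≫ ψ)
    refine ⟨e.inv ≫ φ, ?_⟩
    show Φ.map (e.inv ≫ φ) = ψ
    rw [Φ.map_comp, hφ, ← Category.assoc, ← Φ.map_comp, e.inv_hom_id,
      CategoryTheory.Functor.map_id, Category.id_comp]

lemma FF_of_iso₂ {K L L' : C} (e : L ≅ L') (h : FF Φ K L) : FF Φ K L' := by
  constructor
  · intro φ₁ φ₂ he
    have : φ₁ ≫ e.inv = φ₂ ≫ e.inv := h.inj (by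
      rw [Φ.map_comp, Φ.map_comp]; exact congrArg (fun t => t ≫ Φ.map e.inv) he)
    exact (cancel_mono e.inv).1 this
  · intro ψ
    obtain ⟨φ, hφ⟩ := h.surj (ψ ≫ Φ.map e.inv)
    refine ⟨φ ≫ e.hom, ?_⟩
    show Φ.map (φ ≫ e.hom) = ψ
    rw [Φ.map_comp, hφ, Category.assoc, ← Φ.map_comp, e.inv_hom_id,
      CategoryTheory.Functor.map_id, Category.comp_id]

lemma FF_of_isZero₁ {K L : C} (hK : IsZero K) : FF Φ K L := by
  constructor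
  · intro φ₁ φ₂ _
    exact hK.eq_of_src _ _
  · intro ψ
    exact ⟨0, (Φ.map_isZero hK).eq_of_src _ _⟩

lemma FF_of_isZero₂ {K L : C} (hL : IsZero L) : FF Φ K L := by
  constructor
  · intro φ₁ φ₂ _
    exact hL.eq_of_tgt _ _
  · intro ψ
    exact ⟨0, (Φ.map_isZero hL).eq_of_tgt _ _⟩

/-- compatibility of `Φ` with the shift on morphisms -/
lemma map_shift_eq {K L : C} (ψ : K ⟶ L) (m : ℤ) :
    Φ.map (ψ⟦m⟧') = (Φ.commShiftIso m).hom.app K ≫ (Φ.map ψ)⟦m⟧' ≫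
      (Φ.commShiftIso m).inv.app L := by
  have h := (Φ.commShiftIso m).hom.naturality ψ
  dsimp at h
  rw [← Category.assoc, ← h, Category.assoc, Iso.hom_inv_id_app]
  dsimp
  rw [Category.comp_id]

lemma FF_shift {K L : C} (h : FF Φ K L) (m : ℤ) : FF Φ (K⟦m⟧) (L⟦m⟧) := by
  constructor
  · intro φ₁ φ₂ he
    obtain ⟨ψ₁, rfl⟩ := (shiftFunctor C m).map_surjective φ₁
    obtain ⟨ψ₂, rfl⟩ := (shiftFunctor C m).map_surjective φ₂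
    have he' : Φ.map (ψ₁⟦m⟧') = Φ.map (ψ₂⟦m⟧') := he
    rw [map_shift_eq, map_shift_eq] at he'
    have h1 : (Φ.map ψ₁)⟦m⟧' = (Φ.map ψ₂)⟦m⟧' := by
      have := (cancel_epi ((Φ.commShiftIso m).hom.app K)).1 he'
      exact (cancel_mono ((Φ.commShiftIso m).inv.app L)).1 this
    have h2 : Φ.map ψ₁ = Φ.map ψ₂ := (shiftFunctor D m).map_injective h1
    rw [h.inj h2]
  · intro χ
    obtain ⟨ξ, hξ⟩ := (shiftFunctor D m).map_surjective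
      ((Φ.commShiftIso m).inv.app K ≫ χ ≫ (Φ.commShiftIso m).hom.app L)
    obtain ⟨ψ, hψ⟩ := h.surj ξ
    refine ⟨ψ⟦m⟧', ?_⟩
    show Φ.map (ψ⟦m⟧') = χ
    rw [map_shift_eq, hψ, hξ]
    simp

section Five

variable (T : Triangle C) (hT : T ∈ distTriang C)
include hT

/-- five lemma in the second variable -/
lemma FF_ext₂ (K : C) (h₁ : FF Φ K T.obj₁) (h₃ : FF Φ K T.obj₃)
    (h₁' : FF Φ K (T.obj₁⟦(1 : ℤ)⟧)) (h₃' : FF Φ K (T.obj₃⟦(-1 : ℤ)⟧)) :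
    FF Φ K T.obj₂ := by
  have hΦT := Φ.map_distinguished T hT
  have hT' := inv_rot_of_distTriang T hT
  have hΦT' := Φ.map_distinguished T.invRotate hT'
  obtain ⟨u', hu'⟩ : ∃ u' : T.obj₃⟦(-1 : ℤ)⟧ ⟶ T.obj₁, u' = T.invRotate.mor₁ := ⟨_, rfl⟩
  have e4 : u' ≫ T.mor₁ = 0 := by
    rw [hu']; exact comp_distTriang_mor_zero₁₂ T.invRotate hT'
  refine FF_of_inj0_surj ?_ ?_
  · intro φ hφ
    have e1 : φ ≫ T.mor₂ = 0 := h₃.inj0 (by rw [Φ.map_comp, hφ, zero_comp])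
    obtain ⟨ψ, rfl⟩ := Triangle.coyoneda_exact₂ T hT φ e1
    have e2 : Φ.map ψ ≫ (Φ.mapTriangle.obj T.invRotate).mor₂ = 0 := by
      show Φ.map ψ ≫ Φ.map T.mor₁ = 0
      rw [← Φ.map_comp]; exact hφ
    obtain ⟨χ, hχ⟩ : ∃ χ : Φ.obj K ⟶ Φ.obj (T.obj₃⟦(-1 : ℤ)⟧), Φ.map ψ = χ ≫ Φ.map u' := by
      obtain ⟨χ, hχ⟩ := Triangle.coyoneda_exact₂ _ hΦT' (Φ.map ψ) e2
      refine ⟨χ, ?_⟩
      rw [hu']; exact hχ
    obtain ⟨χ', rfl⟩ := h₃'.surj χ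
    have e3 : ψ = χ' ≫ u' := h₁.inj (by
      rw [Φ.map_comp]; exact hχ)
    rw [e3, Category.assoc, e4, comp_zero]
  · intro χ
    obtain ⟨α, hα⟩ := h₃.surj (χ ≫ Φ.map T.mor₂)
    have e1 : α ≫ T.mor₃ = 0 := h₁'.inj0 (by
      rw [Φ.map_comp, hα, Category.assoc, ← Φ.map_comp, comp_distTriang_mor_zero₂₃ T hT,
        Φ.map_zero, comp_zero])
    obtain ⟨β, rfl⟩ := Triangle.coyoneda_exact₃ T hT α e1
    have e2 : (χ - Φ.map β) ≫ (Φ.mapTriangle.obj T).mor₂ = 0 := by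
      show (χ - Φ.map β) ≫ Φ.map T.mor₂ = 0
      rw [Preadditive.sub_comp, ← hα, Φ.map_comp, sub_self]
    obtain ⟨γ, hγ⟩ := Triangle.coyoneda_exact₂ _ hΦT (χ - Φ.map β) e2
    obtain ⟨γ', rfl⟩ := h₁.surj γ
    refine ⟨β + γ' ≫ T.mor₁, ?_⟩
    have hγ' : χ - Φ.map β = Φ.map γ' ≫ Φ.map T.mor₁ := hγ
    rw [Φ.map_add, Φ.map_comp, ← hγ']
    abel

/-- five lemma in the first variable -/
lemma FF_ext₁ (M : C) (h₁ : FF Φ T.obj₁ M) (h₃ : FF Φ T.obj₃ M)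
    (h₁' : FF Φ (T.obj₁⟦(1 : ℤ)⟧) M) (h₃' : FF Φ (T.obj₃⟦(-1 : ℤ)⟧) M) :
    FF Φ T.obj₂ M := by
  have hΦT := Φ.map_distinguished T hT
  have hT' := inv_rot_of_distTriang T hT
  refine FF_of_inj0_surj ?_ ?_
  · intro φ hφ
    have e1 : T.mor₁ ≫ φ = 0 := h₁.inj0 (by rw [Φ.map_comp, hφ, comp_zero])
    obtain ⟨ψ, rfl⟩ := Triangle.yoneda_exact₂ T hT φ e1
    have e2 : (Φ.mapTriangle.obj T).mor₂ ≫ Φ.map ψ = 0 := by
      show Φ.map T.mor₂ ≫ Φ.map ψ = 0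
      rw [← Φ.map_comp]; exact hφ
    obtain ⟨χ, hχ⟩ := Triangle.yoneda_exact₃ _ hΦT (Φ.map ψ) e2
    obtain ⟨χ'', hχ''⟩ := h₁'.surj ((Φ.commShiftIso (1 : ℤ)).hom.app T.obj₁ ≫ χ)
    have e3 : ψ = T.mor₃ ≫ χ'' := h₃.inj (by
      rw [Φ.map_comp, hχ'', hχ]
      show (Φ.map T.mor₃ ≫ (Φ.commShiftIso (1 : ℤ)).hom.app T.obj₁) ≫ χ = _
      rw [Category.assoc])
    rw [e3, ← Category.assoc, comp_distTriang_mor_zero₂₃ T hT, zero_comp]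
  · intro χ
    obtain ⟨α, hα⟩ := h₁.surj (Φ.map T.mor₁ ≫ χ)
    obtain ⟨u', hu'⟩ : ∃ u' : T.obj₃⟦(-1 : ℤ)⟧ ⟶ T.obj₁, u' = T.invRotate.mor₁ := ⟨_, rfl⟩
    have e0 : u' ≫ T.mor₁ = 0 := by
      rw [hu']; exact comp_distTriang_mor_zero₁₂ T.invRotate hT'
    have e1 : u' ≫ α = 0 := h₃'.inj0 (by
      rw [Φ.map_comp, hα, ← Category.assoc, ← Φ.map_comp, e0, Φ.map_zero, zero_comp])
    obtain ⟨β, hβ'⟩ : ∃ β : T.obj₂ ⟶ M, α = T.mor₁ ≫ β :=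
      Triangle.yoneda_exact₂ T.invRotate hT' α (by rw [← hu']; exact e1)
    have e2 : (Φ.mapTriangle.obj T).mor₁ ≫ (χ - Φ.map β) = 0 := by
      show Φ.map T.mor₁ ≫ (χ - Φ.map β) = 0
      rw [Preadditive.comp_sub, ← hα, hβ', Φ.map_comp, sub_self]
    obtain ⟨γ, hγ⟩ := Triangle.yoneda_exact₂ _ hΦT (χ - Φ.map β) e2
    obtain ⟨γ', rfl⟩ := h₃.surj γ
    refine ⟨β + T.mor₂ ≫ γ', ?_⟩
    have hγ' : χ - Φ.map β = Φ.map T.mor₂ ≫ Φ.map γ' := hγ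
    rw [Φ.map_add, Φ.map_comp, ← hγ']
    abel

end Five

variable (Φ)

/-- `Φ` is bijective on `Hom(K[m], L[n])` for all `m`, `n`. -/
def PP (K L : C) : Prop := ∀ m n : ℤ, FF Φ (K⟦m⟧) (L⟦n⟧)

variable {Φ}

lemma PP_of_iso₁ {K K' L : C} (e : K ≅ K') (h : PP Φ K L) : PP Φ K' L := fun m n =>
  FF_of_iso₁ ((shiftFunctor C m).mapIso e) (h m n)

lemma PP_of_iso₂ {K L L' : C} (e : L ≅ L') (h : PP Φ K L) : PP Φ K L' := fun m n =>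
  FF_of_iso₂ ((shiftFunctor C n).mapIso e) (h m n)

lemma PP_of_isZero₁ {K L : C} (hK : IsZero K) : PP Φ K L := fun m _ =>
  FF_of_isZero₁ ((shiftFunctor C m).map_isZero hK)

lemma PP_of_isZero₂ {K L : C} (hL : IsZero L) : PP Φ K L := fun _ n =>
  FF_of_isZero₂ ((shiftFunctor C n).map_isZero hL)

lemma PP.FF {K L : C} (h : PP Φ K L) : FF Φ K L :=
  FF_of_iso₁ ((shiftFunctorZero C ℤ).app K) (FF_of_iso₂ ((shiftFunctorZero C ℤ).app L) (h 0 0))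

lemma PP_shift₁ {K L : C} (h : PP Φ K L) (a : ℤ) : PP Φ (K⟦a⟧) L := fun m n =>
  FF_of_iso₁ ((shiftFunctorAdd' C a m (a + m) rfl).app K) (h (a + m) n)

lemma PP_shift₂ {K L : C} (h : PP Φ K L) (a : ℤ) : PP Φ K (L⟦a⟧) := fun m n =>
  FF_of_iso₂ ((shiftFunctorAdd' C a n (a + n) rfl).app L) (h m (a + n))

lemma PP_of_FF_all {K L : C} (h : ∀ n : ℤ, FF Φ K (L⟦n⟧)) : PP Φ K L := fun m n =>
  FF_of_iso₂ ((shiftFunctorAdd' C (n - m) m n (by omega)).app L).symm (FF_shift (h (n - m)) m)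

lemma PP_ext₂ (T : Triangle C) (hT : T ∈ distTriang C) (K : C)
    (h₁ : PP Φ K T.obj₁) (h₃ : PP Φ K T.obj₃) : PP Φ K T.obj₂ := by
  intro m n
  have hTn := Triangle.shift_distinguished T hT n
  exact FF_ext₂ ((CategoryTheory.shiftFunctor (Triangle C) n).obj T) hTn (K⟦m⟧) (h₁ m n) (h₃ m n)
    (PP_shift₂ h₁ n m 1) (PP_shift₂ h₃ n m (-1))

lemma PP_ext₁ (T : Triangle C) (hT : T ∈ distTriang C) (M : C)
    (h₁ : PP Φ T.obj₁ M) (h₃ : PP Φ T.obj₃ M) : PP Φ T.obj₂ M := by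
  intro m n
  have hTm := Triangle.shift_distinguished T hT m
  exact FF_ext₁ ((CategoryTheory.shiftFunctor (Triangle C) m).obj T) hTm (M⟦n⟧) (h₁ m n) (h₃ m n)
    (PP_shift₁ h₁ m 1 n) (PP_shift₁ h₃ m (-1) n)

end Groth.Agent.Lib.Helper5.BddDev
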