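import Mathlib
import Groth.Prelude.Def_WeakSerre
import Groth.Agent.Lib.Helper17.CohIn
import Groth.Agent.Lib.Helper28.DCohRes1
import Groth.Agent.Lib.Helper5.BddDev1

/-!
# Bounded dévissage: an exact functor inducing an equivalence of weak Serre subcategories and
bijections on all Ext groups between their objects induces an equivalence `D^b_{A₁} ≃ D^b_{A₂}`.
-/

set_option autoImplicit false
set_option linter.unusedSectionVars false
set_option linter.style.haveILetI false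

open CategoryTheory CategoryTheory.Limits DerivedCategory CategoryTheory.Pretriangulated

namespace Groth.Agent.Lib.Helper5.BddDev

open WSerre Groth.Agent.Lib.Helper17.CohIn ZeroObject

universe w₁ w₂ v₁ v₂ u₁ u₂

variable {C₁ : Type u₁} [Category.{v₁} C₁] [Abelian C₁] [HasDerivedCategory.{w₁} C₁]
  {C₂ : Type u₂} [Category.{v₂} C₂] [Abelian C₂] [HasDerivedCategory.{w₂} C₂]
  (F : C₁ ⥤ C₂) [F.Additive] [PreservesFiniteLimits F] [PreservesFiniteColimits F]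
  (A₁ : ObjectProperty C₁) (A₂ : ObjectProperty C₂) [IsWeakSerre A₁] [IsWeakSerre A₂]

theorem cohInBdd_map (h1 : ∀ X, A₁ X → A₂ (F.obj X)) (K : DerivedCategory C₁)
    (hK : cohInBdd A₁ K) : cohInBdd A₂ (F.mapDerivedCategory.obj K) := by
  obtain ⟨hc, ⟨a, ha⟩, ⟨b, hb⟩⟩ := hK
  refine ⟨fun i => ?_, ⟨a, ?_⟩, ⟨b, ?_⟩⟩
  · exact A₂.prop_of_iso ((Groth.Agent.Lib.Helper28.DCohRes.mapDHomologyIso F i).app K).symm
      (h1 _ (hc i))
  · have ha' : K.IsGE a := ha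
    show (F.mapDerivedCategory.obj K).IsGE a
    rw [DerivedCategory.isGE_iff] at ha' ⊢
    intro i hi
    exact Groth.Agent.Lib.Helper28.DCohRes.isZero_homology_mapDerivedCategory F K i (ha' i hi)
  · have hb' : K.IsLE b := hb
    show (F.mapDerivedCategory.obj K).IsLE b
    rw [DerivedCategory.isLE_iff] at hb' ⊢
    intro i hi
    exact Groth.Agent.Lib.Helper28.DCohRes.isZero_homology_mapDerivedCategory F K i (hb' i hi)

theorem cohInBdd_shift (K : DerivedCategory C₁) (hK : cohInBdd A₁ K) (a : ℤ) :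
    cohInBdd A₁ (K⟦a⟧) :=
  ⟨cohIn_shift A₁ K a hK.1,
    (TStructure.t : Triangulated.TStructure (DerivedCategory C₁)).bounded.le_shift a K hK.2⟩

theorem cohInBdd_ext₂ (T : Triangle (DerivedCategory C₁)) (hT : T ∈ distTriang _)
    (h₁ : cohInBdd A₁ T.obj₁) (h₃ : cohInBdd A₁ T.obj₃) : cohInBdd A₁ T.obj₂ :=
  ⟨cohIn_ext₂ A₁ T hT h₁.1 h₃.1,
    (TStructure.t : Triangulated.TStructure (DerivedCategory C₁)).bounded.ext_of_isTriangulatedClosed₂
      T hT h₁.2 h₃.2⟩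

theorem cohInBdd_single (X : C₁) (hX : A₁ X) (n : ℤ) :
    cohInBdd A₁ ((singleFunctor C₁ n).obj X) :=
  ⟨cohIn_single A₁ X hX n, ⟨n, inferInstance⟩, ⟨n, inferInstance⟩⟩

theorem cohInBdd_zero : cohInBdd A₁ (0 : DerivedCategory C₁) :=
  ⟨cohIn_of_isZero A₁ _ (isZero_zero _), ⟨0, inferInstance⟩, ⟨0, inferInstance⟩⟩

section FullyFaithful

variable {F A₁}
variable (h2 : ∀ X X', A₁ X → A₁ X' → ∀ n : ℤ,
  FF F.mapDerivedCategory ((singleFunctor C₁ 0).obj X) (((singleFunctor C₁ 0).obj X')⟦n⟧))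
include h2

theorem PP_single_single (X X' : C₁) (hX : A₁ X) (hX' : A₁ X') (a b : ℤ) :
    PP F.mapDerivedCategory ((singleFunctor C₁ a).obj X) ((singleFunctor C₁ b).obj X') := by
  have h0 : PP F.mapDerivedCategory ((singleFunctor C₁ 0).obj X) ((singleFunctor C₁ 0).obj X') :=
    PP_of_FF_all (h2 X X' hX hX')
  have e₁ : ((singleFunctor C₁ 0).obj X)⟦-a⟧ ≅ (singleFunctor C₁ a).obj X :=
    ((singleFunctors C₁).shiftIso (-a) a 0 (by omega)).app X
  have e₂ : ((singleFunctor C₁ 0).obj X')⟦-b⟧ ≅ (singleFunctor C₁ b).obj X' :=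
    ((singleFunctors C₁).shiftIso (-b) b 0 (by omega)).app X'
  exact PP_of_iso₁ e₁ (PP_of_iso₂ e₂ (PP_shift₂ (PP_shift₁ h0 (-a)) (-b)))

theorem PP_single_bdd (X : C₁) (hX : A₁ X) (a : ℤ) (L : DerivedCategory C₁)
    (hL : cohInBdd A₁ L) :
    PP F.mapDerivedCategory ((singleFunctor C₁ a).obj X) L := by
  obtain ⟨hc, ⟨l, hl⟩, ⟨r, hr⟩⟩ := hL
  haveI : L.IsGE l := hl
  haveI : L.IsLE r := hr
  haveI : ObjectProperty.IsClosedUnderIsomorphisms
      (fun L : DerivedCategory C₁ => PP F.mapDerivedCategory ((singleFunctor C₁ a).obj X) L) :=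
    ⟨fun e h => PP_of_iso₂ e h⟩
  exact prop_of_bounded A₁
    (fun L : DerivedCategory C₁ => PP F.mapDerivedCategory ((singleFunctor C₁ a).obj X) L)
    (fun T hT h₁ h₃ => PP_ext₂ T hT _ h₁ h₃)
    (fun X' n hX' => PP_single_single h2 X X' hX hX' a n)
    (fun Z hZ => PP_of_isZero₂ hZ)
    (fun Z hZ => A₁.prop_of_isZero hZ) L l r hc

theorem PP_bdd_bdd (K L : DerivedCategory C₁) (hK : cohInBdd A₁ K) (hL : cohInBdd A₁ L) :
    PP F.mapDerivedCategory K L := by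
  obtain ⟨hc, ⟨l, hl⟩, ⟨r, hr⟩⟩ := hK
  haveI : K.IsGE l := hl
  haveI : K.IsLE r := hr
  haveI : ObjectProperty.IsClosedUnderIsomorphisms
      (fun K : DerivedCategory C₁ => PP F.mapDerivedCategory K L) :=
    ⟨fun e h => PP_of_iso₁ e h⟩
  exact prop_of_bounded A₁
    (fun K : DerivedCategory C₁ => PP F.mapDerivedCategory K L)
    (fun T hT h₁ h₃ => PP_ext₁ T hT _ h₁ h₃)
    (fun X n hX => PP_single_bdd h2 X hX n L hL)
    (fun Z hZ => PP_of_isZero₁ hZ)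
    (fun Z hZ => A₁.prop_of_isZero hZ) K l r hc

theorem FF_bdd (K L : DerivedCategory C₁) (hK : cohInBdd A₁ K) (hL : cohInBdd A₁ L) :
    Function.Bijective (fun φ : K ⟶ L => F.mapDerivedCategory.map φ) :=
  (PP_bdd_bdd h2 K L hK hL).FF

variable {A₂}

theorem essSurj_bdd (hes : ∀ Y, A₂ Y → ∃ X, A₁ X ∧ Nonempty (F.obj X ≅ Y))
    (M : DerivedCategory C₂) (hM : cohInBdd A₂ M) :
    ∃ K : DerivedCategory C₁, cohInBdd A₁ K ∧ Nonempty (F.mapDerivedCategory.obj K ≅ M) := by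
  obtain ⟨hc, ⟨l, hl⟩, ⟨r, hr⟩⟩ := hM
  haveI : M.IsGE l := hl
  haveI : M.IsLE r := hr
  haveI : ObjectProperty.IsClosedUnderIsomorphisms
      (fun M : DerivedCategory C₂ => ∃ K : DerivedCategory C₁, cohInBdd A₁ K ∧
        Nonempty (F.mapDerivedCategory.obj K ≅ M)) :=
    ⟨fun e h => by
      obtain ⟨K, hK, ⟨e'⟩⟩ := h
      exact ⟨K, hK, ⟨e' ≪≫ e⟩⟩⟩
  refine prop_of_bounded A₂
    (fun M : DerivedCategory C₂ => ∃ K : DerivedCategory C₁, cohInBdd A₁ K ∧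
        Nonempty (F.mapDerivedCategory.obj K ≅ M)) ?_ ?_ ?_
    (fun Z hZ => A₂.prop_of_isZero hZ) M l r hc
  · -- extensions
    intro T hT h₁ h₃
    obtain ⟨K₁, hK₁, ⟨e₁⟩⟩ := h₁
    obtain ⟨K₃, hK₃, ⟨e₃⟩⟩ := h₃
    obtain ⟨δ, hδ⟩ := (FF_bdd h2 K₃ (K₁⟦(1 : ℤ)⟧) hK₃ (cohInBdd_shift A₁ K₁ hK₁ 1)).2
      (e₃.hom ≫ T.mor₃ ≫ e₁.inv⟦(1 : ℤ)⟧' ≫
        (F.mapDerivedCategory.commShiftIso (1 : ℤ)).inv.app K₁)
    obtain ⟨K₂, u, v, hT'⟩ := distinguished_cocone_triangle₂ δ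
    have hK₂ : cohInBdd A₁ K₂ := cohInBdd_ext₂ A₁ (Triangle.mk u v δ) hT' hK₁ hK₃
    refine ⟨K₂, hK₂, ?_⟩
    have hΦT' := F.mapDerivedCategory.map_distinguished _ hT'
    have comm : (F.mapDerivedCategory.mapTriangle.obj (Triangle.mk u v δ)).mor₃ ≫
        e₁.hom⟦(1 : ℤ)⟧' = e₃.hom ≫ T.mor₃ := by
      show (F.mapDerivedCategory.map δ ≫
        (F.mapDerivedCategory.commShiftIso (1 : ℤ)).hom.app K₁) ≫ e₁.hom⟦(1 : ℤ)⟧' = _
      have hδ' : F.mapDerivedCategory.map δ = e₃.hom ≫ T.mor₃ ≫ e₁.inv⟦(1 : ℤ)⟧' ≫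
        (F.mapDerivedCategory.commShiftIso (1 : ℤ)).inv.app K₁ := hδ
      rw [hδ']
      simp only [Category.assoc, Iso.inv_hom_id_app_assoc]
      rw [← Functor.map_comp, e₁.inv_hom_id, CategoryTheory.Functor.map_id, Category.comp_id]
    obtain ⟨b, hb₁, hb₂⟩ := complete_distinguished_triangle_morphism₂ _ T hΦT' hT e₁.hom e₃.hom comm
    let φ : F.mapDerivedCategory.mapTriangle.obj (Triangle.mk u v δ) ⟶ T :=
      { hom₁ := e₁.hom
        hom₂ := b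
        hom₃ := e₃.hom
        comm₁ := hb₁
        comm₂ := hb₂
        comm₃ := comm }
    haveI : IsIso φ.hom₁ := by dsimp [φ]; infer_instance
    haveI : IsIso φ.hom₃ := by dsimp [φ]; infer_instance
    have hb : IsIso φ.hom₂ := isIso₂_of_isIso₁₃ φ hΦT' hT inferInstance inferInstance
    exact ⟨@asIso _ _ _ _ φ.hom₂ hb⟩
  · -- singles
    intro Y n hY
    obtain ⟨X, hX, ⟨e⟩⟩ := hes Y hY
    exact ⟨(singleFunctor C₁ n).obj X, cohInBdd_single A₁ X hX n,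
      ⟨(F.mapDerivedCategorySingleFunctor n).app X ≪≫ (singleFunctor C₂ n).mapIso e⟩⟩
  · -- zero
    intro Z hZ
    exact ⟨0, cohInBdd_zero A₁,
      ⟨(F.mapDerivedCategory.map_isZero (isZero_zero _)).iso hZ⟩⟩

end FullyFaithful

end Groth.Agent.Lib.Helper5.BddDev
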