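import Groth.Agent.Lib.Helper5.FDMain

/-!
# Cohomological descent for proper surjective maps

The augmented Čech nerve of a proper (universally closed and fibrewise Hausdorff) surjective map
is of cohomological descent.
-/

set_option autoImplicit false
set_option backward.isDefEq.respectTransparency false
set_option backward.isDefEq.respectTransparency.types false

universe u

open CategoryTheory CategoryTheory.Limits Opposite TopologicalSpace Pseudofunctor
  Pseudofunctor.CoGrothendieck
open FibDesc FibSite

noncomputable section

namespace Groth.Agent.Lib.Helper5.FDCech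

open Groth.Agent.Lib.Helper5.DSite Groth.Agent.Lib.Helper5.DPull
  Groth.Agent.Lib.Helper5.DeltaSite Groth.Agent.Lib.Helper5.LimPush Groth.Agent.Lib.Helper5.FDSite
  Groth.Agent.Lib.Helper5.LimAdj Groth.Agent.Lib.Helper5.CechDiag Groth.Agent.Lib.Helper5.LHTuple
  Groth.Agent.Lib.Helper5.ProperDescent Groth.Agent.Lib.Helper5.DeltaCmp

variable {X S : TopCat.{u}} (f : X ⟶ S)

lemma ofXp_nat {n m : SimplexCategory} (θ : n ⟶ m) (x : Xp f m.len) :
    ofXp f n.len ((Arrow.mk f).cechNerve.map θ.op x) =
      reidx f (fun k => θ.toOrderHom k) (ofXp f m.len x) := by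
  apply Xc_ext
  · exact ConcreteCategory.congr_hom
      (WidePullback.lift_base (fun _ : Fin (n.len + 1) => f) (WidePullback.base _)
        (fun i => WidePullback.π (fun _ : Fin (m.len + 1) => f) (θ.toOrderHom i)) (by simp)) x
  · intro k
    exact ConcreteCategory.congr_hom
      (WidePullback.lift_π (fun _ : Fin (n.len + 1) => f) (WidePullback.base _)
        (fun i => WidePullback.π (fun _ : Fin (m.len + 1) => f) (θ.toOrderHom i)) (by simp) k) x

/-- the comparison of the part of the augmented Čech nerve with the concrete Čech diagram -/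
def cmpCech : Cmp (cechAug f) (DΔ (Df f)) where
  κ := NatIso.ofComponents (fun i =>
      { hom := ofXp f (AsSmall.down.obj i.unop).len
        inv := toXp f (AsSmall.down.obj i.unop).len
        hom_inv_id := ofXp_toXp f _
        inv_hom_id := toXp_ofXp f _ }) (by
    intro i j α
    refine ConcreteCategory.hom_ext _ _ (fun x => ?_)
    exact ofXp_nat f (AsSmall.down.map α.unop) x)
  hκ i w := rfl

variable {f}

/-- **a proper surjective map is of cohomological descent** -/
theorem isCohDescentMap_of_proper (hf : IsProperMap f)
    (hs : ∀ x x' : X, f x = f x' → x ≠ x' →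
      ∃ U V : Set X, IsOpen U ∧ IsOpen V ∧ x ∈ U ∧ x' ∈ V ∧ Disjoint U V)
    (hsurj : Function.Surjective f) : IsCohDescentMap f :=
  FDMain.isCohDescentTop (cmpCech f) (isIso_unit_pull hf hsurj) (isZero_RD_pull hf hs hsurj)

end Groth.Agent.Lib.Helper5.FDCech
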