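import Mathlib.Algebra.Homology.Embedding.ExtendHomology
import Mathlib.CategoryTheory.Abelian.Injective.Extend
import Mathlib.CategoryTheory.Abelian.RightDerived
import Mathlib.Algebra.Homology.Embedding.CochainComplex

set_option autoImplicit false
set_option maxSynthPendingDepth 3

open CategoryTheory Limits

namespace Groth.Agent.Lib.Helper5.Bridge

section Ext

variable {ι ι' : Type*} {c : ComplexShape ι} {c' : ComplexShape ι'}
  {C D : Type*} [Category C] [Category D] [HasZeroObject C] [HasZeroObject D]
  [HasZeroMorphisms C] [HasZeroMorphisms D] (F : C ⥤ D) [F.PreservesZeroMorphisms]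
  (K : HomologicalComplex C c)

/-- Auxiliary: `F (extend.X K o) ≅ extend.X (F K) o`. -/
noncomputable def mapExtendXIso : ∀ (o : Option ι),
    F.obj (HomologicalComplex.extend.X K o) ≅
      HomologicalComplex.extend.X ((F.mapHomologicalComplex c).obj K) o
  | some _ => Iso.refl _
  | none => F.mapZeroObject

lemma mapExtendXIso_d (o o' : Option ι) :
    F.map (HomologicalComplex.extend.d K o o') ≫ (mapExtendXIso F K o').hom =
      (mapExtendXIso F K o).hom ≫
        HomologicalComplex.extend.d ((F.mapHomologicalComplex c).obj K) o o' := by
  match o, o' with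
  | none, _ =>
    rw [HomologicalComplex.extend.d_none_eq_zero _ _ _ rfl,
      HomologicalComplex.extend.d_none_eq_zero _ _ _ rfl, F.map_zero, zero_comp, comp_zero]
  | some i, some j =>
    exact (Category.comp_id _).trans (Category.id_comp _).symm
  | some i, none =>
    rw [HomologicalComplex.extend.d_none_eq_zero' _ _ _ rfl,
      HomologicalComplex.extend.d_none_eq_zero' _ _ _ rfl, F.map_zero, zero_comp, comp_zero]

/-- An additive functor commutes with the extension of complexes along an embedding. -/
noncomputable def mapExtendIso (e : c.Embedding c') :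
    (F.mapHomologicalComplex c').obj (K.extend e) ≅
      ((F.mapHomologicalComplex c).obj K).extend e :=
  HomologicalComplex.Hom.isoOfComponents (fun i' => mapExtendXIso F K (e.r i'))
    (fun i' j' _ => (mapExtendXIso_d F K (e.r i') (e.r j')).symm)

end Ext

section Der

variable {C D : Type*} [Category C] [Category D] [Abelian C] [Abelian D]
  [HasInjectiveResolutions C] (F : C ⥤ D) [F.Additive] {X : C} (R : InjectiveResolution X)

/-- The right derived functors computed with the `ℤ`-indexed version of an injective
resolution. -/
noncomputable def rightDerivedIso (k : ℕ) :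
    ((F.mapHomologicalComplex (ComplexShape.up ℤ)).obj R.cochainComplex).homology (k : ℤ) ≅
      (F.rightDerived k).obj X :=
  (HomologicalComplex.homologyMapIso (mapExtendIso F R.cocomplex ComplexShape.embeddingUpNat)
      (k : ℤ)) ≪≫
    HomologicalComplex.extendHomologyIso _ ComplexShape.embeddingUpNat (j := k) (by simp) ≪≫
    (R.isoRightDerivedObj F k).symm

lemma isZero_homology_of_neg (n : ℤ) (hn : n < 0) :
    IsZero (((F.mapHomologicalComplex (ComplexShape.up ℤ)).obj R.cochainComplex).homology n) := by
  have : CochainComplex.IsStrictlyGE
      ((F.mapHomologicalComplex (ComplexShape.up ℤ)).obj R.cochainComplex) 0 := inferInstance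
  exact (CochainComplex.exactAt_of_isGE
    ((F.mapHomologicalComplex (ComplexShape.up ℤ)).obj R.cochainComplex) 0 n hn).isZero_homology

end Der

end Groth.Agent.Lib.Helper5.Bridge
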