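import Groth.Agent.Lib.Helper5.DescCrit
import Groth.Agent.Lib.Helper5.DerBridge

/-!
# The converse of the criterion for full faithfulness on bounded below derived categories

Let `Φ : 𝒜 ⥤ ℬ` be an exact functor between abelian categories with enough injectives, with a
right adjoint `Ψ`.  If the functor induced by `Φ` on derived categories induces bijections
`Hom(K, L) ≃ Hom(Φ K, Φ L)` for all bounded below `K` and `L`, then the unit `F ⟶ Ψ Φ F` is an
isomorphism and `Φ F` is `Ψ`-acyclic for every object `F`.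
-/

set_option autoImplicit false

open CategoryTheory CategoryTheory.Limits

noncomputable section

namespace Groth.Agent.Lib.Helper5.DescConv

universe w w' v v' u u'

open Groth.Agent.Lib.Helper5.DescCrit DerivedCategory

section adjunction

variable {𝒜 : Type u} [Category.{v} 𝒜] [Abelian 𝒜] {ℬ : Type u'} [Category.{v'} ℬ] [Abelian ℬ]
  {Φ : 𝒜 ⥤ ℬ} {Ψ : ℬ ⥤ 𝒜} (adj : Φ ⊣ Ψ) [Φ.Additive] [Ψ.Additive]

lemma adjMapR_adjMap {K : CochainComplex 𝒜 ℤ} {J : CochainComplex ℬ ℤ}
    (x : K ⟶ (Ψ.mapHomologicalComplex _).obj J) : adjMapR adj (KInjAdj.adjMap adj x) = x := by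
  ext n
  exact Equiv.apply_symm_apply _ _

end adjunction

section main

variable {𝒜 : Type u} [Category.{v} 𝒜] [Abelian 𝒜] [HasDerivedCategory.{w} 𝒜]
  [EnoughInjectives 𝒜]
  {ℬ : Type u'} [Category.{v'} ℬ] [Abelian ℬ] [HasDerivedCategory.{w'} ℬ] [EnoughInjectives ℬ]
  {Φ : 𝒜 ⥤ ℬ} {Ψ : ℬ ⥤ 𝒜} (adj : Φ ⊣ Ψ) [Φ.Additive] [Ψ.Additive]
  [PreservesFiniteLimits Φ] [PreservesFiniteColimits Φ]

variable (Φ) in
/-- the hypothesis of full faithfulness on the bounded below derived category -/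
def FF : Prop :=
  ∀ K L : DerivedCategory.Plus 𝒜,
    Function.Bijective (fun g : K.obj ⟶ L.obj => Φ.mapDerivedCategory.map g)

omit [EnoughInjectives 𝒜] [EnoughInjectives ℬ] in
/-- full faithfulness on the derived categories implies full faithfulness -/
lemma bijective_map_of_FF (h : FF Φ) (A B : 𝒜) :
    Function.Bijective (fun f : A ⟶ B => Φ.map f) := by
  let e := Φ.mapDerivedCategorySingleFunctor 0
  have hb := h ((DerivedCategory.Plus.singleFunctor 𝒜 0).obj A)
    ((DerivedCategory.Plus.singleFunctor 𝒜 0).obj B)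
  have hnat : ∀ f : A ⟶ B, Φ.mapDerivedCategory.map ((singleFunctor 𝒜 0).map f) =
      e.hom.app A ≫ (singleFunctor ℬ 0).map (Φ.map f) ≫ e.inv.app B := by
    intro f
    have h1 := e.hom.naturality f
    have h2 : Φ.mapDerivedCategory.map ((singleFunctor 𝒜 0).map f) ≫ e.hom.app B =
        e.hom.app A ≫ (singleFunctor ℬ 0).map (Φ.map f) := h1
    rw [← Category.assoc, ← h2, Category.assoc, Iso.hom_inv_id_app]
    exact (Category.comp_id _).symm
  constructor
  · intro f g hfg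
    have hfg' : Φ.map f = Φ.map g := hfg
    apply (singleFunctor 𝒜 0).map_injective
    apply hb.1
    change Φ.mapDerivedCategory.map ((singleFunctor 𝒜 0).map f) =
      Φ.mapDerivedCategory.map ((singleFunctor 𝒜 0).map g)
    rw [hnat, hnat, hfg']
  · intro k
    obtain ⟨g, hg⟩ := hb.2 (e.hom.app A ≫ (singleFunctor ℬ 0).map k ≫ e.inv.app B)
    have hg' : Φ.mapDerivedCategory.map g =
        e.hom.app A ≫ (singleFunctor ℬ 0).map k ≫ e.inv.app B := hg
    let g₀ : (singleFunctor 𝒜 0).obj A ⟶ (singleFunctor 𝒜 0).obj B := g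
    obtain ⟨f, hf⟩ := (singleFunctor 𝒜 0).map_surjective g₀
    refine ⟨f, (singleFunctor ℬ 0).map_injective ?_⟩
    change (singleFunctor ℬ 0).map (Φ.map f) = (singleFunctor ℬ 0).map k
    have h3 : e.hom.app A ≫ (singleFunctor ℬ 0).map (Φ.map f) ≫ e.inv.app B =
        e.hom.app A ≫ (singleFunctor ℬ 0).map k ≫ e.inv.app B := by
      rw [← hnat, hf]
      exact hg'
    have h4 := congrArg (fun t => e.inv.app A ≫ t ≫ e.hom.app B) h3
    simpa using h4

include adj in
omit [EnoughInjectives 𝒜] [EnoughInjectives ℬ] in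
/-- **the unit is an isomorphism** -/
theorem isIso_unit_of_FF (h : FF Φ) : IsIso adj.unit := by
  haveI : Φ.Faithful := ⟨fun {A B} f g hfg => (bijective_map_of_FF h A B).1 hfg⟩
  haveI : Φ.Full := ⟨fun {A B} k => (bijective_map_of_FF h A B).2 k⟩
  infer_instance

include adj in
/-- the key quasi-isomorphism `L₀ ⟶ Ψ J` for an injective resolution `Φ L₀ ⟶ J` -/
theorem quasiIso_adjMapR_of_FF (h : FF Φ) (L₀ : CochainComplex 𝒜 ℤ) (n : ℤ)
    [L₀.IsStrictlyGE n] (J : CochainComplex ℬ ℤ) [J.IsStrictlyGE n] [∀ k, Injective (J.X k)]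
    (j : (Φ.mapHomologicalComplex _).obj L₀ ⟶ J) [QuasiIso j] : QuasiIso (adjMapR adj j) := by
  haveI : J.IsKInjective := CochainComplex.isKInjective_of_injective J n
  haveI : Φ.PreservesHomology := inferInstance
  let M : CochainComplex 𝒜 ℤ := (Ψ.mapHomologicalComplex (ComplexShape.up ℤ)).obj J
  haveI : M.IsKInjective := KInjAdj.isKInjective_map adj J
  haveI : M.IsStrictlyGE n := inferInstance
  let η : L₀ ⟶ M := adjMapR adj j
  let ε : (Φ.mapHomologicalComplex (ComplexShape.up ℤ)).obj M ⟶ J := counitC adj J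
  have hεη : (Φ.mapHomologicalComplex (ComplexShape.up ℤ)).map η ≫ ε = j := by
    rw [← adjMap_eq, adjMap_adjMapR]
  let fac := Φ.mapDerivedCategoryFactors
  have hfac : ∀ {A B : CochainComplex 𝒜 ℤ} (f : A ⟶ B),
      Φ.mapDerivedCategory.map (Q.map f) = fac.hom.app A ≫
        Q.map ((Φ.mapHomologicalComplex (ComplexShape.up ℤ)).map f) ≫ fac.inv.app B := by
    intro A B f
    have h := Φ.mapDerivedCategoryFactors_hom_naturality f
    rw [← Category.assoc, ← h, Category.assoc, Iso.hom_inv_id_app]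
    exact (Category.comp_id _).symm
  haveI : IsIso (Q.map j) := (DerivedCategory.isIso_Q_map_iff_quasiIso (C := ℬ) j).2 inferInstance
  have hQ : Q.map ((Φ.mapHomologicalComplex (ComplexShape.up ℤ)).map η) ≫ Q.map ε = Q.map j := by
    rw [← Q.map_comp, hεη]
  let KM : DerivedCategory.Plus 𝒜 := ⟨Q.obj M, n, inferInstance⟩
  let KL : DerivedCategory.Plus 𝒜 := ⟨Q.obj L₀, n, inferInstance⟩
  obtain ⟨g, hg⟩ := (h KM KL).2
    (fac.hom.app M ≫ Q.map ε ≫ inv (Q.map j) ≫ fac.inv.app L₀)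
  have hg' : Φ.mapDerivedCategory.map g =
      fac.hom.app M ≫ Q.map ε ≫ inv (Q.map j) ≫ fac.inv.app L₀ := hg
  let g₀ : Q.obj M ⟶ Q.obj L₀ := g
  have ha : Q.map η ≫ g₀ = 𝟙 (Q.obj L₀) := by
    apply (h KL KL).1
    change Φ.mapDerivedCategory.map (Q.map η ≫ g₀) = Φ.mapDerivedCategory.map (𝟙 (Q.obj L₀))
    rw [CategoryTheory.Functor.map_comp, hfac, hg', CategoryTheory.Functor.map_id]
    simp only [Category.assoc, Iso.inv_hom_id_app_assoc]
    rw [reassoc_of% hQ]
    simp
  obtain ⟨m, hm⟩ := exists_Q_map_eq (g₀ ≫ Q.map η)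
  have hb1 : Q.map ((Φ.mapHomologicalComplex (ComplexShape.up ℤ)).map m ≫ ε) = Q.map ε := by
    have h1 : Q.map ((Φ.mapHomologicalComplex (ComplexShape.up ℤ)).map m) =
        fac.inv.app M ≫ Φ.mapDerivedCategory.map (Q.map m) ≫ fac.hom.app M := by
      rw [hfac]
      simp
    rw [Q.map_comp, h1, hm, CategoryTheory.Functor.map_comp, hg', hfac]
    simp only [Category.assoc, Iso.inv_hom_id_app_assoc]
    rw [hQ]
    simp
  obtain ⟨H⟩ := nonempty_homotopy_of_Q_map_eq _ _ hb1
  have H' : Homotopy (KInjAdj.adjMap adj m) (KInjAdj.adjMap adj (𝟙 M)) := by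
    rw [adjMap_eq, adjMap_eq, CategoryTheory.Functor.map_id, Category.id_comp]
    exact H
  have H'' := adjMapRHomotopy adj H'
  rw [adjMapR_adjMap, adjMapR_adjMap] at H''
  have hb : g₀ ≫ Q.map η = 𝟙 (Q.obj M) := by
    rw [← hm, Q_map_eq_of_homotopy H'', Q.map_id]
  haveI : IsIso (Q.map η) := ⟨g₀, ha, hb⟩
  exact (DerivedCategory.isIso_Q_map_iff_quasiIso (C := 𝒜) η).1 inferInstance

include adj in
/-- **the inverse images are acyclic** -/
theorem isZero_rightDerived_of_FF (h : FF Φ) (F : 𝒜) (q : ℕ) :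
    IsZero ((Ψ.rightDerived (q + 1)).obj (Φ.obj F)) := by
  let R : InjectiveResolution (Φ.obj F) := injectiveResolution (Φ.obj F)
  let L₀ : CochainComplex 𝒜 ℤ := (CochainComplex.singleFunctor 𝒜 0).obj F
  let σ : (Φ.mapHomologicalComplex (ComplexShape.up ℤ)).obj L₀ ≅
      (CochainComplex.singleFunctor ℬ 0).obj (Φ.obj F) :=
    (HomologicalComplex.singleMapHomologicalComplex Φ (ComplexShape.up ℤ) 0).app F
  let j : (Φ.mapHomologicalComplex (ComplexShape.up ℤ)).obj L₀ ⟶ R.cochainComplex :=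
    σ.hom ≫ R.ι'
  haveI : QuasiIso j := inferInstance
  haveI : L₀.IsStrictlyGE 0 := inferInstance
  haveI hη : QuasiIso (adjMapR adj j) :=
    quasiIso_adjMapR_of_FF adj h L₀ 0 R.cochainComplex j
  have e1 := Bridge.rightDerivedIso Ψ R (q + 1)
  have e2 := asIso (HomologicalComplex.homologyMap (adjMapR adj j) (((q + 1 : ℕ) : ℤ)))
  have h0 : IsZero (L₀.homology (((q + 1 : ℕ) : ℤ))) := by
    apply HomologicalComplex.ExactAt.isZero_homology
    apply HomologicalComplex.exactAt_single_obj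
    omega
  exact IsZero.of_iso h0 (e1.symm ≪≫ e2.symm)

end main

end Groth.Agent.Lib.Helper5.DescConv
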