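import Groth.Agent.Lib.Helper5.FDMain
import Groth.Agent.Lib.Helper5.DescConv

/-!
# The converse of the criterion for cohomological descent from a diagram site

If an augmented simplicial space `Y` whose part is isomorphic to a diagram of spaces `D` over the
base is of cohomological descent, then the unit of the adjunction `pullS D ⊣ limPush D` is an
isomorphism and the higher direct images of the inverse images vanish.
-/

set_option autoImplicit false
set_option backward.isDefEq.respectTransparency false
set_option backward.isDefEq.respectTransparency.types false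

universe u

open CategoryTheory CategoryTheory.Limits Opposite TopologicalSpace Pseudofunctor
  Pseudofunctor.CoGrothendieck
open FibDesc FibSite

noncomputable section

namespace Groth.Agent.Lib.Helper5.FDConv

open Groth.Agent.Lib.Lead.FibSite1 Groth.Agent.Lib.Helper5.DSite Groth.Agent.Lib.Helper5.DPull
  Groth.Agent.Lib.Helper5.DeltaSite Groth.Agent.Lib.Helper5.LimPush Groth.Agent.Lib.Helper5.FDSite
  Groth.Agent.Lib.Helper5.FDRan Groth.Agent.Lib.Helper5.LimAdj Groth.Agent.Lib.Helper5.FDMain

attribute [local instance] HasDerivedCategory.standard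

variable {Y : (WithInitial SimplexCategory)ᵒᵖ ⥤ TopCat.{u}} {D : OverS 𝕀.{u} (SB Y)} (c : Cmp Y D)

lemma ff_of_isCohDescentTop [PreservesFiniteLimits (Pull Y)] (h : IsCohDescentTop Y) :
    DescConv.FF (Pull Y) := by
  obtain ⟨_, _, _, _, _, _, hb⟩ := h
  exact hb

include c in
lemma isIso_unit_adjFD (h : IsCohDescentTop Y) : IsIso (adjFD Y).unit := by
  have := preservesFiniteLimits_pull c
  exact DescConv.isIso_unit_of_FF (adjFD Y) (ff_of_isCohDescentTop h)

include c in
/-- the unit of the adjunction of the diagram site is an isomorphism -/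
theorem isIso_unit (h : IsCohDescentTop Y) : IsIso (adjL D).unit := by
  have := isIso_unit_adjFD c h
  exact Adjunction.isIso_unit_of_iso _ ((pullPushIso c).symm ≪≫ (asIso (adjFD Y).unit).symm)

include c in
lemma isZero_RD_push (h : IsCohDescentTop Y) (F : CohTop.Ab (SB Y)) (q : ℕ) :
    IsZero (((Push Y).rightDerived (q + 1)).obj ((Pull Y).obj F)) := by
  have := preservesFiniteLimits_pull c
  exact DescConv.isZero_rightDerived_of_FF (adjFD Y) (ff_of_isCohDescentTop h) F q

include c in
/-- the inverse images to the diagram site are acyclic -/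
theorem isZero_RD (h : IsCohDescentTop Y) (F : CohTop.Ab (SB Y)) (q : ℕ) :
    IsZero (((limPush D).rightDerived (q + 1)).obj ((pullS D).obj F)) := by
  have e1 := (Groth.Agent.Lib.Helper22.DimShift.rightDerivedIsoOfNatIso (pushIso' c) (q + 1)).app
    ((Pull Y).obj F)
  have e2 := (Groth.Agent.Lib.Helper5.PrecompDelta.rightDerivedPrecompIso (shEqv c).functor
    (limPush D) (fun I hI n => by
      haveI : Injective ((shEqv c).functor.obj I) := ((shEqv c).map_injective_iff I).2 hI
      exact Functor.isZero_rightDerived_obj_injective_succ _ n _) (q + 1)).app ((Pull Y).obj F)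
  have e3 : (shEqv c).functor.obj ((Pull Y).obj F) ≅ (pullS D).obj F :=
    (shEqv c).functor.mapIso ((pullIso c).app F) ≪≫ (shEqv c).counitIso.app ((pullS D).obj F)
  exact IsZero.of_iso (isZero_RD_push c h F q)
    (e1 ≪≫ e2 ≪≫ ((limPush D).rightDerived (q + 1)).mapIso e3).symm

end Groth.Agent.Lib.Helper5.FDConv
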