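import Groth.Agent.Lib.Helper5.DSwap
import Groth.Agent.Lib.Helper5.FDConv
import Groth.Agent.Lib.Helper5.FDCech

/-!
# The bisimplicial Čech diagram of two maps to the same base

For `u : X ⟶ S` and `v : Y ⟶ S` the spaces `X^{a+1} ×_S Y^{b+1}` form a diagram indexed by pairs of
simplices.  Its columns are the Čech diagrams of the base changes of `v` to the fibre powers of
`X`, its rows are the Čech diagrams of the base changes of `u` to the fibre powers of `Y`.
Consequently, if `v` is universally of cohomological descent and the base changes of `u` to the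
fibre powers of `Y` are of cohomological descent, then `u` is of cohomological descent.
-/

set_option autoImplicit false
set_option backward.isDefEq.respectTransparency false
set_option backward.isDefEq.respectTransparency.types false

universe u

open CategoryTheory CategoryTheory.Limits Opposite TopologicalSpace Topology
open FibDesc FibSite

noncomputable section

namespace Groth.Agent.Lib.Helper5.BiCech

open Groth.Agent.Lib.Helper5.DSite Groth.Agent.Lib.Helper5.DPull
  Groth.Agent.Lib.Helper5.DeltaSite Groth.Agent.Lib.Helper5.LimPush Groth.Agent.Lib.Helper5.FDSite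
  Groth.Agent.Lib.Helper5.LimAdj Groth.Agent.Lib.Helper5.CechDiag Groth.Agent.Lib.Helper5.LHTuple
  Groth.Agent.Lib.Helper5.ProperDescent Groth.Agent.Lib.Helper5.DeltaCmp
  Groth.Agent.Lib.Helper5.DRestr Groth.Agent.Lib.Helper5.FDCech
  Groth.Agent.Lib.Helper5.DBi Groth.Agent.Lib.Helper5.DBiMain Groth.Agent.Lib.Helper5.DSwap

attribute [local instance] HasDerivedCategory.standard

/-! ### comparison data and cohomological descent of diagrams -/

section cmp

variable {Y : (WithInitial SimplexCategory)ᵒᵖ ⥤ TopCat.{u}} {D D' : OverS 𝕀.{u} (SB Y)}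

/-- transport of comparison data along an isomorphism of diagrams over the base -/
def cmpTrans (c : Cmp Y D) (e : D.Y ≅ D'.Y)
    (he : ∀ (i : 𝕀.{u}) (w : D.Y.obj (op i)), D'.π i (e.hom.app (op i) w) = D.π i w) :
    Cmp Y D' where
  κ := c.κ ≪≫ e
  hκ i w := (he i _).trans (c.hκ i w)

theorem cd_of_cmp (c : Cmp Y D) (h : IsCohDescentTop Y) : CD D := by
  refine ⟨fun F => ?_, fun F q => FDConv.isZero_RD c h F q⟩
  have h1 : IsIso (adjL D).unit := FDConv.isIso_unit c h
  rw [← adjL_unit_app]
  infer_instance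

theorem isCohDescentTop_of_cd (c : Cmp Y D) (h : CD D) : IsCohDescentTop Y := by
  refine FDMain.isCohDescentTop c ?_ h.2
  have h1 : ∀ F, IsIso ((adjL D).unit.app F) := by
    intro F
    rw [adjL_unit_app]
    exact h.1 F
  exact NatIso.isIso_of_isIso_app _

end cmp

/-! ### the part of an augmented simplicial space as a diagram over the base -/

section part

variable (Y : (WithInitial SimplexCategory)ᵒᵖ ⥤ TopCat.{u})

lemma augMap_nat {i j : 𝕀.{u}} (α : i ⟶ j) :
    (Ypart Y).map α.op ≫ augMap Y i = augMap Y j := by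
  change Y.map _ ≫ Y.map _ = Y.map _
  rw [← Y.map_comp]
  congr 1

/-- the part of an augmented simplicial space, as a diagram over the base -/
abbrev Cpart : OverS 𝕀.{u} (SB Y) :=
  { Y := Ypart Y
    π := fun i => augMap Y i
    hπ := fun {i j} α w => ConcreteCategory.congr_hom (augMap_nat Y α) w }

/-- the tautological comparison data -/
def cmpPart : Cmp Y (Cpart Y) where
  κ := Iso.refl _
  hκ _ _ := rfl

end part

/-! ### points of a fibre product -/

section pb

variable {X S T : TopCat.{u}} (u : X ⟶ S) (g : T ⟶ S)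

lemma u_fst (p : ↑(pullback u g)) : u (pullback.fst u g p) = g (pullback.snd u g p) :=
  ConcreteCategory.congr_hom (pullback.condition (f := u) (g := g)) p

lemma pb_ext {p p' : ↑(pullback u g)}
    (h1 : pullback.fst u g p = pullback.fst u g p')
    (h2 : pullback.snd u g p = pullback.snd u g p') : p = p' := by
  have hinj : Function.Injective (TopCat.pullbackIsoProdSubtype u g).hom :=
    (TopCat.homeoOfIso (TopCat.pullbackIsoProdSubtype u g)).injective
  apply hinj
  rw [TopCat.pullbackIsoProdSubtype_hom_apply, TopCat.pullbackIsoProdSubtype_hom_apply]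
  exact Subtype.ext (Prod.ext h1 h2)

/-- a point of the fibre product -/
def pbPt (x : X) (t : T) (h : u x = g t) : ↑(pullback u g) :=
  (TopCat.pullbackIsoProdSubtype u g).inv ⟨(x, t), h⟩

lemma fst_pbPt (x : X) (t : T) (h : u x = g t) : pullback.fst u g (pbPt u g x t h) = x :=
  TopCat.pullbackIsoProdSubtype_inv_fst_apply u g ⟨(x, t), h⟩

lemma snd_pbPt (x : X) (t : T) (h : u x = g t) : pullback.snd u g (pbPt u g x t h) = t :=
  TopCat.pullbackIsoProdSubtype_inv_snd_apply u g ⟨(x, t), h⟩

/-! ### the concrete Čech diagram of a base change -/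

/-- the `n`-fold fibre power of the base change of `X` to `T` -/
abbrev Xg (n : ℕ) : Type u := {w : T × (Fin n → X) // ∀ i, u (w.2 i) = g w.1}

/-- the fibre power as an object of `TopCat` -/
def XgT (n : ℕ) : TopCat.{u} := TopCat.of (Xg u g n)

/-- the structure map to the base -/
def πg (n : ℕ) : XgT u g n ⟶ T :=
  TopCat.ofHom ⟨fun w => w.1.1, continuous_fst.comp continuous_subtype_val⟩

/-- the projections -/
def prg (n : ℕ) (k : Fin n) : XgT u g n ⟶ X :=
  TopCat.ofHom ⟨fun w => w.1.2 k,
    (continuous_apply k).comp (continuous_snd.comp continuous_subtype_val)⟩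

lemma u_prg (n : ℕ) (k : Fin n) (w : XgT u g n) : u (prg u g n k w) = g (πg u g n w) := w.2 k

lemma Xg_ext {n : ℕ} (w w' : XgT u g n) (h0 : πg u g n w = πg u g n w')
    (h : ∀ k, prg u g n k w = prg u g n k w') : w = w' :=
  Subtype.ext (Prod.ext h0 (funext h))

/-- a point of the fibre power -/
def mkXg {n : ℕ} (t : T) (x : Fin n → X) (h : ∀ i, u (x i) = g t) : XgT u g n := ⟨(t, x), h⟩

lemma continuous_reidxg {m n : ℕ} (θ : Fin m → Fin n) :
    Continuous (fun w : Xg u g n =>
      (⟨(w.1.1, fun k => w.1.2 (θ k)), fun k => w.2 (θ k)⟩ : Xg u g m)) := by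
  have h1 : Continuous (fun w : Xg u g n => (w.1.1 : T)) :=
    continuous_fst.comp continuous_subtype_val
  have h2 : ∀ k, Continuous (fun w : Xg u g n => w.1.2 (θ k)) := fun k =>
    (continuous_apply (θ k)).comp (continuous_snd.comp continuous_subtype_val)
  exact (h1.prodMk (continuous_pi h2)).subtype_mk _

/-- reindexing of the factors -/
def reidxg {m n : ℕ} (θ : Fin m → Fin n) : XgT u g n ⟶ XgT u g m :=
  TopCat.ofHom ⟨fun w => ⟨(w.1.1, fun k => w.1.2 (θ k)), fun k => w.2 (θ k)⟩,
    continuous_reidxg u g θ⟩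

/-- the symmetric Čech diagram of the base change -/
def Yg : FinAll.{u}ᵒᵖ ⥤ TopCat.{u} where
  obj a := XgT u g (a.unop.n + 1)
  map θ := reidxg u g θ.unop.down
  map_id _ := rfl
  map_comp _ _ := rfl

/-- the Čech diagram of the base change, over `T` -/
def Dg : OverS FinAll.{u} T where
  Y := Yg u g
  π a := πg u g (a.n + 1)
  hπ _ _ := rfl

/-- from the fibre powers of the fibre product -/
def toXg (n : ℕ) : XcT (pullback.snd u g) n ⟶ XgT u g n :=
  TopCat.ofHom ⟨fun w => ⟨(w.1.1, fun k => pullback.fst u g (w.1.2 k)), fun k => by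
      change u (pullback.fst u g (w.1.2 k)) = g w.1.1
      rw [u_fst]
      exact congrArg (fun z => g z) (w.2 k)⟩,
    Continuous.subtype_mk
      ((continuous_fst.comp continuous_subtype_val).prodMk
        (continuous_pi fun k => (pullback.fst u g).hom.continuous.comp
          ((continuous_apply k).comp (continuous_snd.comp continuous_subtype_val)))) _⟩

/-- to the fibre powers of the fibre product -/
def ofXgFun (n : ℕ) (z : XgT u g n) : XcT (pullback.snd u g) n :=
  ⟨(z.1.1, fun k => pbPt u g (z.1.2 k) z.1.1 (z.2 k)), fun k => snd_pbPt u g _ _ _⟩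

lemma continuous_ofXgFun (n : ℕ) : Continuous (ofXgFun u g n) := by
  have h1 : Continuous (fun z : XgT u g n => (z.1.1 : T)) :=
    continuous_fst.comp continuous_subtype_val
  have h2 : ∀ k, Continuous (fun z : XgT u g n => (z.1.2 k : X)) := fun k =>
    (continuous_apply k).comp (continuous_snd.comp continuous_subtype_val)
  refine Continuous.subtype_mk (h1.prodMk (continuous_pi fun k => ?_)) _
  have h4 : Continuous (fun z : XgT u g n =>
      (⟨(z.1.2 k, z.1.1), z.2 k⟩ : {p : X × T // u p.1 = g p.2})) :=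
    ((h2 k).prodMk h1).subtype_mk _
  exact (TopCat.pullbackIsoProdSubtype u g).inv.hom.continuous.comp h4

/-- to the fibre powers of the fibre product -/
def ofXg (n : ℕ) : XgT u g n ⟶ XcT (pullback.snd u g) n :=
  TopCat.ofHom ⟨ofXgFun u g n, continuous_ofXgFun u g n⟩

lemma toXg_ofXg (n : ℕ) (z : XgT u g n) : toXg u g n (ofXg u g n z) = z := by
  apply Xg_ext
  · rfl
  · intro k
    exact fst_pbPt u g _ _ _

lemma ofXg_toXg (n : ℕ) (w : XcT (pullback.snd u g) n) : ofXg u g n (toXg u g n w) = w := by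
  apply Xc_ext
  · rfl
  · intro k
    apply pb_ext
    · exact fst_pbPt u g _ _ _
    · exact (snd_pbPt u g _ _ _).trans (w.2 k).symm

/-- the Čech diagram of the fibre product is the concrete Čech diagram of the base change -/
def YfgIso : Yf (pullback.snd u g) ≅ Yg u g :=
  NatIso.ofComponents (fun a =>
    { hom := toXg u g (a.unop.n + 1)
      inv := ofXg u g (a.unop.n + 1)
      hom_inv_id := ConcreteCategory.hom_ext _ _ (ofXg_toXg u g _)
      inv_hom_id := ConcreteCategory.hom_ext _ _ (toXg_ofXg u g _) })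
    (by
      intro a b θ
      exact ConcreteCategory.hom_ext _ _ (fun w => rfl))

/-- the comparison of the augmented Čech nerve of the base change with the concrete diagram -/
def cmpDg : Cmp (cechAug (pullback.snd u g)) (DΔ (Dg u g)) :=
  cmpTrans (cmpCech (pullback.snd u g)) (Functor.isoWhiskerLeft jΔ.op (YfgIso u g))
    (fun _ _ => rfl)

end pb

/-! ### the base change along the identity -/

section idbase

variable {Y S : TopCat.{u}} (v : Y ⟶ S)

/-- the fibre powers are the fibre powers of the base change along the identity -/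
def toXgId (n : ℕ) : XcT v n ⟶ XgT v (𝟙 S) n :=
  TopCat.ofHom ⟨fun w => ⟨w.1, fun i => w.2 i⟩, Continuous.subtype_mk continuous_subtype_val _⟩

/-- the fibre powers are the fibre powers of the base change along the identity -/
def ofXgId (n : ℕ) : XgT v (𝟙 S) n ⟶ XcT v n :=
  TopCat.ofHom ⟨fun w => ⟨w.1, fun i => w.2 i⟩, Continuous.subtype_mk continuous_subtype_val _⟩

/-- the Čech diagram is the concrete Čech diagram of the base change along the identity -/
def YfgIdIso : Yf v ≅ Yg v (𝟙 S) :=
  NatIso.ofComponents (fun a =>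
    { hom := toXgId v (a.unop.n + 1)
      inv := ofXgId v (a.unop.n + 1)
      hom_inv_id := rfl
      inv_hom_id := rfl })
    (by
      intro a b θ
      exact ConcreteCategory.hom_ext _ _ (fun w => rfl))

/-- the comparison of the augmented Čech nerve with the concrete diagram of the base change along
the identity -/
def cmpId : Cmp (cechAug v) (DΔ (Dg v (𝟙 S))) :=
  cmpTrans (cmpCech v) (Functor.isoWhiskerLeft jΔ.op (YfgIdIso v)) (fun _ _ => rfl)

theorem isCohDescentMap_of_pullback_id (h : IsCohDescentMap (pullback.snd v (𝟙 S))) :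
    IsCohDescentMap v :=
  isCohDescentTop_of_cd (cmpId v)
    (cd_of_cmp (Y := cechAug (pullback.snd v (𝟙 S))) (cmpDg v (𝟙 S)) h)

end idbase

/-! ### the bisimplicial diagram -/

section bi

variable {X Y S : TopCat.{u}} (u : X ⟶ S) (v : Y ⟶ S)

/-- the fibre product of the `a`-fold fibre power of `X` and the `b`-fold fibre power of `Y` -/
abbrev Zt (a b : ℕ) : TopCat.{u} := XgT v (πc u a) b

lemma Zt_ext {a b : ℕ} (w w' : Zt u v a b)
    (h0 : πc u a (πg v (πc u a) b w) = πc u a (πg v (πc u a) b w'))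
    (h1 : ∀ i, prc u a i (πg v (πc u a) b w) = prc u a i (πg v (πc u a) b w'))
    (h2 : ∀ j, prg v (πc u a) b j w = prg v (πc u a) b j w') : w = w' :=
  Xg_ext v (πc u a) w w' (Xc_ext u _ _ h0 h1) h2

/-- reindexing of both kinds of factors -/
def reidx2Fun {a a' b b' : ℕ} (α : Fin a → Fin a') (β : Fin b → Fin b') (w : Zt u v a' b') :
    Zt u v a b :=
  mkXg v (πc u a) (reidx u α w.1.1) (fun k => w.1.2 (β k)) (fun k => w.2 (β k))

lemma continuous_reidx2Fun {a a' b b' : ℕ} (α : Fin a → Fin a') (β : Fin b → Fin b') :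
    Continuous (reidx2Fun u v α β) := by
  have h1 : Continuous (fun w : Zt u v a' b' => (w.1.1 : XcT u a')) :=
    continuous_fst.comp continuous_subtype_val
  have h2 : ∀ k, Continuous (fun w : Zt u v a' b' => (w.1.2 (β k) : Y)) := fun k =>
    (continuous_apply (β k)).comp (continuous_snd.comp continuous_subtype_val)
  exact Continuous.subtype_mk
    (((reidx u α).hom.continuous.comp h1).prodMk (continuous_pi h2)) _

/-- reindexing of both kinds of factors -/
def reidx2 {a a' b b' : ℕ} (α : Fin a → Fin a') (β : Fin b → Fin b') :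
    Zt u v a' b' ⟶ Zt u v a b :=
  TopCat.ofHom ⟨reidx2Fun u v α β, continuous_reidx2Fun u v α β⟩

lemma reidx2_id_left {a b b' : ℕ} (α : Fin a → Fin a) (hα : ∀ k, α k = k) (β : Fin b → Fin b')
    (w : Zt u v a b') : reidx2 u v α β w = reidxg v (πc u a) β w := by
  have h : α = id := funext hα
  subst h
  rfl

/-- the diagram of the fibre products, indexed by pairs of finite sets -/
def Y2F : (FinAll.{u} × FinAll.{u})ᵒᵖ ⥤ TopCat.{u} where
  obj a := Zt u v (a.unop.1.n + 1) (a.unop.2.n + 1)
  map θ := reidx2 u v θ.unop.1.down θ.unop.2.down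
  map_id _ := rfl
  map_comp _ _ := rfl

/-- the bisimplicial diagram of the fibre products -/
abbrev Y2 : (𝕀.{u} × 𝕀.{u})ᵒᵖ ⥤ TopCat.{u} := (jΔ.{u}.prod jΔ.{u}).op ⋙ Y2F u v

/-- the simplicial Čech diagram of `u` -/
abbrev BB : OverS 𝕀.{u} S := DΔ (Df u)

/-- the projection to the Čech diagram of `u` -/
def κ₁ : Y2 u v ⟶ (CategoryTheory.Prod.fst 𝕀.{u} 𝕀.{u}).op ⋙ (BB u).Y where
  app i := πg v (πc u ((AsSmall.down.obj i.unop.1).len + 1)) ((AsSmall.down.obj i.unop.2).len + 1)
  naturality i j θ := ConcreteCategory.hom_ext _ _ (fun w => rfl)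

lemma jΔ_id_down (m : 𝕀.{u}) (k : Fin ((jΔ.{u}.obj m).n + 1)) :
    (jΔ.{u}.map (𝟙 m)).down k = k :=
  congrArg (fun f : jΔ.{u}.obj m ⟶ jΔ.{u}.obj m => f.down k) (jΔ.{u}.map_id m)

/-- the columns are the Čech diagrams of the base changes of `v` -/
def c_col (m : 𝕀.{u}) :
    Cmp (cechAug (pullback.snd v ((BB u).π m))) (col (BB u) (κ₁ u v) m) :=
  cmpTrans (cmpDg v ((BB u).π m))
    (NatIso.ofComponents (fun _ => Iso.refl _) (by
      intro i j θ
      refine ConcreteCategory.hom_ext _ _ (fun w => ?_)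
      exact (reidx2_id_left u v _ (jΔ_id_down m) _ w).symm))
    (fun _ _ => rfl)

/-! ### the projection to the Čech nerve of `v` -/

/-- the structure map to the base -/
def baseZ (a b : ℕ) : Zt u v a b ⟶ S := πg v (πc u a) b ≫ πc u a

/-- the projection to the fibre power of `Y` -/
def liftZ (a k : ℕ) : Zt u v a (k + 1) ⟶ Xp v k :=
  WidePullback.lift (baseZ u v a (k + 1)) (fun j => prg v (πc u a) (k + 1) j) (fun j => by
    ext w
    exact w.2 j)

lemma pr_liftZ (a k : ℕ) (j : Fin (k + 1)) (w : Zt u v a (k + 1)) :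
    pr v k j (liftZ u v a k w) = prg v (πc u a) (k + 1) j w :=
  ConcreteCategory.congr_hom (WidePullback.lift_π _ _ _ _ _) w

lemma ap_liftZ (a k : ℕ) (w : Zt u v a (k + 1)) :
    ap v k (liftZ u v a k w) = baseZ u v a (k + 1) w :=
  ConcreteCategory.congr_hom (WidePullback.lift_base _ _ _ _) w

lemma liftZ_nat {n m : SimplexCategory} (θ : n ⟶ m) {a a' : ℕ} (φ : Fin a → Fin a')
    (w : Zt u v a' (m.len + 1)) :
    liftZ u v a n.len (reidx2 u v φ (fun k => θ.toOrderHom k) w) =
      (Arrow.mk v).cechNerve.map θ.op (liftZ u v a' m.len w) := by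
  apply Xp_ext
  intro j
  have e1 : pr v n.len j ((Arrow.mk v).cechNerve.map θ.op (liftZ u v a' m.len w)) =
      pr v m.len (θ.toOrderHom j) (liftZ u v a' m.len w) :=
    ConcreteCategory.congr_hom
      (WidePullback.lift_π (fun _ : Fin (n.len + 1) => v) (WidePullback.base _)
        (fun i => WidePullback.π (fun _ : Fin (m.len + 1) => v) (θ.toOrderHom i)) (by simp) j) _
  exact (pr_liftZ u v a n.len j _).trans
    ((pr_liftZ u v a' m.len (θ.toOrderHom j) w).symm.trans e1.symm)

/-- the Čech nerve of `v`, as a diagram over the base -/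
abbrev CC : OverS 𝕀.{u} S := Cpart (cechAug v)

/-- the bisimplicial diagram with the indices exchanged -/
abbrev Y2s : (𝕀.{u} × 𝕀.{u})ᵒᵖ ⥤ TopCat.{u} :=
  (CategoryTheory.Prod.swap 𝕀.{u} 𝕀.{u}).op ⋙ Y2 u v

/-- the projection to the Čech nerve of `v` -/
def κ₂ : Y2s u v ⟶ (CategoryTheory.Prod.fst 𝕀.{u} 𝕀.{u}).op ⋙ (CC v).Y where
  app i := liftZ u v ((AsSmall.down.obj i.unop.2).len + 1) (AsSmall.down.obj i.unop.1).len
  naturality i j θ := by
    refine ConcreteCategory.hom_ext _ _ (fun w => ?_)
    exact liftZ_nat u v (AsSmall.down.map θ.unop.1)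
      (fun k => (AsSmall.down.map θ.unop.2).toOrderHom k) w

/-! ### the rows -/

/-- the fibre powers of the base change of `u` to a fibre power of `Y` -/
def ΨhomFun (a k : ℕ) (z : XgT u (ap v k) a) : Zt u v a (k + 1) :=
  mkXg v (πc u a) (mkXc u (ap v k z.1.1) z.1.2 (fun i => z.2 i)) (fun j => pr v k j z.1.1)
    (fun j => f_pr v k j z.1.1)

lemma continuous_ΨhomFun (a k : ℕ) : Continuous (ΨhomFun u v a k) := by
  have h1 : Continuous (fun z : XgT u (ap v k) a => (z.1.1 : Xp v k)) :=
    continuous_fst.comp continuous_subtype_val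
  have h2 : Continuous (fun z : XgT u (ap v k) a => (z.1.2 : Fin a → X)) :=
    continuous_snd.comp continuous_subtype_val
  have h3 : Continuous (fun z : XgT u (ap v k) a =>
      (mkXc u (ap v k z.1.1) z.1.2 (fun i => z.2 i) : XcT u a)) :=
    Continuous.subtype_mk (((ap v k).hom.continuous.comp h1).prodMk h2) _
  exact Continuous.subtype_mk
    (h3.prodMk (continuous_pi fun j => (pr v k j).hom.continuous.comp h1)) _

/-- the fibre powers of the base change of `u` to a fibre power of `Y` -/
def Ψhom (a k : ℕ) : XgT u (ap v k) a ⟶ Zt u v a (k + 1) :=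
  TopCat.ofHom ⟨ΨhomFun u v a k, continuous_ΨhomFun u v a k⟩

/-- the inverse -/
def Ψinv (a k : ℕ) : Zt u v a (k + 1) ⟶ XgT u (ap v k) a :=
  TopCat.ofHom ⟨fun w => mkXg u (ap v k) (liftZ u v a k w) w.1.1.1.2
      (fun i => (w.1.1.2 i).trans (ap_liftZ u v a k w).symm),
    Continuous.subtype_mk ((liftZ u v a k).hom.continuous.prodMk
      (continuous_snd.comp (continuous_subtype_val.comp
        (continuous_fst.comp continuous_subtype_val)))) _⟩

lemma liftZ_Ψhom (a k : ℕ) (z : XgT u (ap v k) a) :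
    liftZ u v a k (Ψhom u v a k z) = πg u (ap v k) a z := by
  apply Xp_ext
  intro j
  exact pr_liftZ u v a k j _

lemma Ψinv_Ψhom (a k : ℕ) (z : XgT u (ap v k) a) : Ψinv u v a k (Ψhom u v a k z) = z := by
  apply Xg_ext
  · exact liftZ_Ψhom u v a k z
  · intro i
    rfl

lemma Ψhom_Ψinv (a k : ℕ) (w : Zt u v a (k + 1)) : Ψhom u v a k (Ψinv u v a k w) = w := by
  apply Zt_ext
  · exact ap_liftZ u v a k w
  · intro i
    rfl
  · intro j
    exact pr_liftZ u v a k j w

/-- the identification of the spaces of the rows -/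
def ΨIso (a k : ℕ) : XgT u (ap v k) a ≅ Zt u v a (k + 1) where
  hom := Ψhom u v a k
  inv := Ψinv u v a k
  hom_inv_id := ConcreteCategory.hom_ext _ _ (Ψinv_Ψhom u v a k)
  inv_hom_id := ConcreteCategory.hom_ext _ _ (Ψhom_Ψinv u v a k)

lemma Ψhom_nat {a a' k : ℕ} (φ : Fin a → Fin a') (β : Fin (k + 1) → Fin (k + 1))
    (hβ : ∀ j, β j = j) (z : XgT u (ap v k) a') :
    Ψhom u v a k (reidxg u (ap v k) φ z) = reidx2 u v φ β (Ψhom u v a' k z) := by
  have h : β = id := funext hβ
  subst h
  rfl

/-- the rows are the Čech diagrams of the base changes of `u` -/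
def c_row (n : 𝕀.{u}) :
    Cmp (cechAug (pullback.snd u (ap v (AsSmall.down.obj n).len))) (col (CC v) (κ₂ u v) n) :=
  cmpTrans (cmpDg u (ap v (AsSmall.down.obj n).len))
    (NatIso.ofComponents
      (fun a => ΨIso u v ((AsSmall.down.obj a.unop).len + 1) (AsSmall.down.obj n).len) (by
      intro i j θ
      refine ConcreteCategory.hom_ext _ _ (fun z => ?_)
      exact Ψhom_nat u v _ _ (jΔ_id_down n) z))
    (fun a z => liftZ_Ψhom u v _ _ z)

/-! ### the two descriptions of the total diagram -/

lemma overS_ext {I : Type u} [Category.{u} I] {S : TopCat.{u}} {Y : Iᵒᵖ ⥤ TopCat.{u}}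
    (π π' : ∀ i, Sp Y i ⟶ S) (hπ : ∀ {i j : I} (α : i ⟶ j) (w : Sp Y j), π i (tr Y α w) = π j w)
    (hπ' : ∀ {i j : I} (α : i ⟶ j) (w : Sp Y j), π' i (tr Y α w) = π' j w)
    (h : ∀ i, π i = π' i) :
    ({ Y := Y, π := π, hπ := hπ } : OverS I S) = { Y := Y, π := π', hπ := hπ' } := by
  have h' : π = π' := funext h
  subst h'
  rfl

lemma eqZ : ZZ (CC v) (κ₂ u v) = Dsw (ZZ (BB u) (κ₁ u v)) :=
  overS_ext (Y := Y2s u v) _ _ (fun {_ _} α w => (ZZ (CC v) (κ₂ u v)).hπ α w)
    (fun {_ _} α w => (Dsw (ZZ (BB u) (κ₁ u v))).hπ α w)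
    (fun i => ConcreteCategory.hom_ext _ _ (fun w => ap_liftZ u v _ _ w))

/-- **descent along a map universally of cohomological descent** -/
theorem isCohDescentMap_of_baseChange_cech (hv : IsUnivCohDescentMap v)
    (h : ∀ n : ℕ, IsCohDescentMap (pullback.snd u (ap v n))) : IsCohDescentMap u := by
  have hcols : ∀ m : 𝕀.{u}, CD (col (BB u) (κ₁ u v) m) := fun m =>
    cd_of_cmp (c_col u v m) (hv _ _)
  have hrows : ∀ n : 𝕀.{u}, CD (col (CC v) (κ₂ u v) n) := fun n =>
    cd_of_cmp (c_row u v n) (h _)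
  have hv1 : IsCohDescentMap v := isCohDescentMap_of_pullback_id v (hv S (𝟙 S))
  have hC : CD (CC v) := cd_of_cmp (cmpPart (cechAug v)) hv1
  have h1 : CD (ZZ (CC v) (κ₂ u v)) := (cd_iff (CC v) (κ₂ u v) hrows).2 hC
  have h2 : CD (Dsw (ZZ (BB u) (κ₁ u v))) := CD.congr (eqZ u v) h1
  have h3 : CD (ZZ (BB u) (κ₁ u v)) := cd_of_swap _ h2
  have h4 : CD (BB u) := (cd_iff (BB u) (κ₁ u v) hcols).1 h3
  exact isCohDescentTop_of_cd (cmpCech u) h4

end bi

end Groth.Agent.Lib.Helper5.BiCech
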