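import Groth.Agent.Lib.Helper5.RelSerre
import Groth.Agent.Lib.Helper22.Cech.AffineMorphism

/-!
# A bound on the cohomological dimension of a morphism is stable under base change
-/

set_option autoImplicit false
set_option linter.unusedSectionVars false

universe u

open CategoryTheory CategoryTheory.Limits Opposite TopologicalSpace AlgebraicGeometry

namespace Groth.Agent.Lib.Helper5.CdBaseChange

open Groth.Agent.Lib.Helper29 Groth.Agent.Lib.Helper22

/-- an abelian sheaf whose sections vanish on a basis of neighbourhoods of every point is zero -/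
lemma isZero_of_locally_subsingleton {T : TopCat.{u}}
    (R : Sheaf (Opens.grothendieckTopology T) AddCommGrpCat.{u})
    (h : ∀ (y : T) (U : Opens T), y ∈ U →
      ∃ W : Opens T, y ∈ W ∧ W ≤ U ∧ Subsingleton (R.obj.obj (op W))) : IsZero R := by
  have key : ∀ (U : Opens T) (s : R.obj.obj (op U)), s = 0 := by
    intro U s
    choose W hyW hWU hsub using fun y : U => h y.1 U y.2
    refine TopCat.Sheaf.eq_of_locally_eq' (F := (R : TopCat.Sheaf AddCommGrpCat.{u} T)) W U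
      (fun y => homOfLE (hWU y)) ?_ s 0 ?_
    · intro z hz
      exact Opens.mem_iSup.2 ⟨⟨z, hz⟩, hyW ⟨z, hz⟩⟩
    · intro y
      haveI := hsub y
      exact Subsingleton.elim _ _
  rw [IsZero.iff_id_eq_zero]
  apply Sheaf.hom_ext
  apply NatTrans.ext
  funext U
  apply AddCommGrpCat.hom_ext
  ext s
  exact (key U.unop _).trans (key U.unop _).symm

variable {X Y X' Y' : Scheme.{u}} (f : X ⟶ Y)

theorem isZero_RpushAb_baseChange [CompactSpace X] [QuasiSeparatedSpace X] [CompactSpace Y]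
    [QuasiSeparatedSpace Y] (d : ℕ)
    (hvan : ∀ (M : X.Modules) (i : ℕ), Coh.IsQCoh M → d < i →
      IsZero ((Coh.RpushAb f i).obj (Coh.toAb M)))
    (g : Y' ⟶ Y) (f' : X' ⟶ Y') (g' : X' ⟶ X) (sq : IsPullback g' f' f g) (M' : X'.Modules)
    [M'.IsQuasicoherent] (i : ℕ) (hi : d < i) :
    IsZero ((Coh.RpushAb f' i).obj (Coh.toAb M')) := by
  haveI : QuasiCompact f := inferInstance
  haveI : QuasiSeparated f := inferInstance
  haveI : QuasiCompact f' := MorphismProperty.of_isPullback (P := @QuasiCompact) sq inferInstance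
  haveI : QuasiSeparated f' :=
    MorphismProperty.of_isPullback (P := @QuasiSeparated) sq inferInstance
  apply isZero_of_locally_subsingleton
  intro y' U' hy'
  obtain ⟨V, hV, hgV, -⟩ :=
    exists_isAffineOpen_mem_and_subset (x := g y') (U := (⊤ : Y.Opens)) trivial
  have hy'2 : y' ∈ U' ⊓ g ⁻¹ᵁ V := ⟨hy', hgV⟩
  obtain ⟨W, hW, hyW, hWsub⟩ := exists_isAffineOpen_mem_and_subset hy'2
  refine ⟨W, hyW, fun z hz => (hWsub hz).1, ?_⟩
  have hWV : W ≤ g ⁻¹ᵁ V := fun z hz => (hWsub hz).2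
  obtain ⟨e1⟩ := RelSerre.nonempty_HHon_addEquiv_sections f' M' W hW i
  suffices hs : Subsingleton (Coh.HHon X' M' (f' ⁻¹ᵁ W) i) from e1.symm.toEquiv.subsingleton
  have hle : f' ⁻¹ᵁ W ≤ g' ⁻¹ᵁ (f ⁻¹ᵁ V) := by
    rw [← Scheme.Hom.comp_preimage, sq.w, Scheme.Hom.comp_preimage]
    exact f'.preimage_mono hWV
  have hUY : f' ⁻¹ᵁ W = g' ⁻¹ᵁ (f ⁻¹ᵁ V) ⊓ f' ⁻¹ᵁ W :=
    le_antisymm (le_inf hle le_rfl) inf_le_right
  have hpb := Scheme.Hom.isPullback_resLE sq (US := V) (UT := W) (UX := f ⁻¹ᵁ V) hWV le_rfl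
    (UY := f' ⁻¹ᵁ W) hUY
  haveI : IsAffine (W : Scheme.{u}) := hW
  haveI : IsAffine (V : Scheme.{u}) := hV
  haveI : IsAffineHom (g.resLE V W hWV) := isAffineHom_of_isAffine _
  haveI haff : IsAffineHom (g'.resLE (f ⁻¹ᵁ V) (f' ⁻¹ᵁ W) hle) :=
    MorphismProperty.of_isPullback (P := @IsAffineHom) hpb.flip inferInstance
  obtain ⟨e2⟩ := Cech.nonempty_HH_addEquiv_HH_push
    (g'.resLE (f ⁻¹ᵁ V) (f' ⁻¹ᵁ W) hle) (M'.restrict (f' ⁻¹ᵁ W).ι) i
  suffices hs2 : Subsingleton (Coh.HH (f ⁻¹ᵁ V : Scheme.{u})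
      ((Coh.push (g'.resLE (f ⁻¹ᵁ V) (f' ⁻¹ᵁ W) hle)).obj
        (M'.restrict (f' ⁻¹ᵁ W).ι)) i) from e2.toEquiv.subsingleton
  haveI hNq : ((Scheme.Modules.pushforward (g'.resLE (f ⁻¹ᵁ V) (f' ⁻¹ᵁ W) hle)).obj
      (M'.restrict (f' ⁻¹ᵁ W).ι)).IsQuasicoherent :=
    QCoh.isQuasicoherent_pushforward_of_qcqs _ _
  generalize ((Scheme.Modules.pushforward (g'.resLE (f ⁻¹ᵁ V) (f' ⁻¹ᵁ W) hle)).obj
      (M'.restrict (f' ⁻¹ᵁ W).ι)) = N at hNq ⊢
  have hc : IsCompact ((f ⁻¹ᵁ V : X.Opens) : Set X) :=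
    QuasiCompact.isCompact_preimage (f := f) _ V.isOpen hV.isCompact
  haveI : CompactSpace (f ⁻¹ᵁ V : Scheme.{u}) := isCompact_iff_compactSpace.1 hc
  haveI hNbar : ((Scheme.Modules.pushforward (f ⁻¹ᵁ V).ι).obj N).IsQuasicoherent :=
    QCoh.isQuasicoherent_pushforward_of_qcqs _ _
  have hz := hvan ((Scheme.Modules.pushforward (f ⁻¹ᵁ V).ι).obj N) i hNbar hi
  obtain ⟨e3⟩ := RelSerre.nonempty_HHon_addEquiv_sections f
    ((Scheme.Modules.pushforward (f ⁻¹ᵁ V).ι).obj N) V hV i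
  have hs0 : Subsingleton (((Coh.RpushAb f i).obj
      (Coh.toAb ((Scheme.Modules.pushforward (f ⁻¹ᵁ V).ι).obj N))).obj.obj (op V)) := by
    have hz2 : IsZero (((sheafToPresheaf _ _ ⋙ (evaluation _ _).obj (op V)).obj
        ((Coh.RpushAb f i).obj (Coh.toAb ((Scheme.Modules.pushforward (f ⁻¹ᵁ V).ι).obj N))))) :=
      Functor.map_isZero _ hz
    exact AddCommGrpCat.subsingleton_of_isZero hz2
  have hs3 : Subsingleton (Coh.HHon X ((Scheme.Modules.pushforward (f ⁻¹ᵁ V).ι).obj N)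
      (f ⁻¹ᵁ V) i) := e3.toEquiv.subsingleton
  have hciso : IsIso ((Scheme.Modules.restrictAdjunction (f ⁻¹ᵁ V).ι).counit.app N) :=
    inferInstance
  let κ := asIso ((Scheme.Modules.restrictAdjunction (f ⁻¹ᵁ V).ι).counit.app N)
  let e4 := Groth.Agent.Lib.Helper5.HZKoszul.hEquivOfIso
    ((SheafOfModules.toSheaf (f ⁻¹ᵁ V : Scheme.{u}).ringCatSheaf).mapIso κ) i
  exact ⟨fun a b => e4.symm.injective (hs3.elim _ _)⟩

end Groth.Agent.Lib.Helper5.CdBaseChange
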