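import Groth.Agent.Lib.Helper5.CdOneAlg
import Groth.Agent.Lib.Helper5.HZKoszul
import Groth.Agent.Lib.Helper5.ExtCechLC
import Groth.Agent.Lib.Helper5.KoszulSections
import Groth.Agent.Lib.Helper29.QCohIdealMod
import Groth.Agent.Lib.Helper16.LocCohNonvanishCor

/-!
# `cd(A, I) ≤ 1` implies that `Spec A ∖ V(I)` is affine
-/

set_option autoImplicit false
universe u
open CategoryTheory CategoryTheory.Limits TopologicalSpace AlgebraicGeometry Opposite

namespace Groth.Agent.Lib.Helper5.CdOne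

open Groth.Agent.Lib.Helper29.QCoh Groth.Agent.Lib.Helper5.CechClosed
open Groth.Agent.Lib.Helper5.QcqsClosed Groth.Agent.Lib.Helper5.QcqsClosedHom
open Groth.Agent.Lib.Helper5.TildeFlasque Groth.Agent.Lib.Helper5.HZKoszul

variable (A : Type u) [CommRing A] [IsNoetherianRing A]

lemma exists_list_span (I : Ideal A) : ∃ fs : List A, Ideal.span {x | x ∈ fs} = I := by
  obtain ⟨s, hs⟩ := (isNoetherianRing_iff_ideal_fg A).1 inferInstance I
  have hset : {x | x ∈ s.toList} = (s : Set A) := by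
    ext x
    simp
  exact ⟨s.toList, by rw [hset]; exact hs⟩

/-- vanishing of `H^0` and `H^1` of the functions on the punctured open -/
theorem subsingleton_H_sections (fs : List A) (i : ℕ) (hi : i ≤ 1) :
    Subsingleton (LocCoh.H (Ideal.span {x | x ∈ fs}) i
      (secModφ (φ A) (unitM (Spec (CommRingCat.of A)))
        (⊤ ⊓ UL (Spec (CommRingCat.of A)) (fs.map (φ A))))) := by
  have hT : IsCompact ((⊤ : (Spec (CommRingCat.of A)).Opens) : Set (Spec (CommRingCat.of A))) := by
    rw [Opens.coe_top]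
    exact isCompact_univ
  have hcl := closed_sectionsφ (φ A) (unitM (Spec (CommRingCat.of A))) fs ⊤ hT
  obtain ⟨e⟩ := Groth.Agent.Lib.Helper5.ExtCechH0.nonempty_extCechH_iso_localCohomology fs
    (secModφ (φ A) (unitM (Spec (CommRingCat.of A)))
      (⊤ ⊓ UL (Spec (CommRingCat.of A)) (fs.map (φ A)))) i
  have hz : IsZero (DerCA.extCechH fs (secModφ (φ A) (unitM (Spec (CommRingCat.of A)))
      (⊤ ⊓ UL (Spec (CommRingCat.of A)) (fs.map (φ A)))) (i : ℤ)) := by
    interval_cases i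
    · exact hcl.1.of_iso (Groth.Agent.Lib.Helper5.KoszulSections.hqIso fs _ 0 0 Nat.cast_zero)
    · exact hcl.2.of_iso (Groth.Agent.Lib.Helper5.KoszulSections.hqIso fs _ 1 1 Nat.cast_one)
  have : Subsingleton ((localCohomology (Ideal.span {x | x ∈ fs}) i).obj
      (secModφ (φ A) (unitM (Spec (CommRingCat.of A)))
        (⊤ ⊓ UL (Spec (CommRingCat.of A)) (fs.map (φ A))))) :=
    ModuleCat.subsingleton_of_isZero (hz.of_iso e.symm)
  exact this

/-- restriction of functions to the punctured open -/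
noncomputable def ρ (fs : List A) :
    A →+* Γ(Spec (CommRingCat.of A), ⊤ ⊓ UL (Spec (CommRingCat.of A)) (fs.map (φ A))) :=
  ((Spec (CommRingCat.of A)).presheaf.map (homOfLE (le_top :
    ⊤ ⊓ UL (Spec (CommRingCat.of A)) (fs.map (φ A)) ≤ ⊤)).op).hom.comp (φ A)

theorem span_eq_top (fs : List A) (hcd : LocCoh.CdLE A (Ideal.span {x | x ∈ fs}) 1) :
    Ideal.span (ρ A fs '' {x | x ∈ fs}) = ⊤ := by
  have h0 := subsingleton_H_sections A fs 0 zero_le_one
  have h1 := subsingleton_H_sections A fs 1 le_rfl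
  have htop := smul_top_eq_top (Ideal.span {x | x ∈ fs})
    (secModφ (φ A) (unitM (Spec (CommRingCat.of A)))
      (⊤ ⊓ UL (Spec (CommRingCat.of A)) (fs.map (φ A)))) hcd fs rfl h0 h1
  -- the submodule of sections lying in the ideal
  let N : Submodule A (secModφ (φ A) (unitM (Spec (CommRingCat.of A)))
      (⊤ ⊓ UL (Spec (CommRingCat.of A)) (fs.map (φ A)))) :=
    { carrier := {b | fromUnit b ∈ Ideal.span (ρ A fs '' {x | x ∈ fs})}
      zero_mem' := (Ideal.span (ρ A fs '' {x | x ∈ fs})).zero_mem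
      add_mem' := fun {a b} ha hb => (Ideal.span (ρ A fs '' {x | x ∈ fs})).add_mem ha hb
      smul_mem' := fun c b hb =>
        (Ideal.span (ρ A fs '' {x | x ∈ fs})).mul_mem_left (ρ A fs c) hb }
  have hle : (Ideal.span {x | x ∈ fs}) • (⊤ : Submodule A (secModφ (φ A)
      (unitM (Spec (CommRingCat.of A)))
      (⊤ ⊓ UL (Spec (CommRingCat.of A)) (fs.map (φ A))))) ≤ N := by
    refine Submodule.smul_le.2 fun a ha b _ => ?_
    have h1 : ρ A fs a ∈ Ideal.span (ρ A fs '' {x | x ∈ fs}) := by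
      rw [← Ideal.map_span]
      exact Ideal.mem_map_of_mem _ ha
    exact (Ideal.span (ρ A fs '' {x | x ∈ fs})).mul_mem_right (fromUnit b) h1
  rw [htop] at hle
  have h1mem : (toUnit (1 : Γ(Spec (CommRingCat.of A),
      ⊤ ⊓ UL (Spec (CommRingCat.of A)) (fs.map (φ A)))) :
      secModφ (φ A) (unitM (Spec (CommRingCat.of A)))
        (⊤ ⊓ UL (Spec (CommRingCat.of A)) (fs.map (φ A)))) ∈ N := hle Submodule.mem_top
  exact (Ideal.eq_top_iff_one _).2 h1mem

theorem isAffineOpen_of_cdLE_one_list (fs : List A)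
    (hcd : LocCoh.CdLE A (Ideal.span {x | x ∈ fs}) 1) :
    IsAffineOpen (⊤ ⊓ UL (Spec (CommRingCat.of A)) (fs.map (φ A))) := by
  refine isAffineOpen_of_isAffineOpen_basicOpen _ (ρ A fs '' {x | x ∈ fs})
    (span_eq_top A fs hcd) ?_
  rintro _ ⟨f, hf, rfl⟩
  have hb : (Spec (CommRingCat.of A)).basicOpen (ρ A fs f) =
      (Spec (CommRingCat.of A)).basicOpen (φ A f) := by
    change (Spec (CommRingCat.of A)).basicOpen
      (((Spec (CommRingCat.of A)).presheaf.map (homOfLE (le_top :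
        ⊤ ⊓ UL (Spec (CommRingCat.of A)) (fs.map (φ A)) ≤ ⊤)).op).hom (φ A f)) = _
    rw [Scheme.basicOpen_res]
    apply inf_eq_right.mpr
    rw [top_inf_eq]
    exact basicOpen_le_UL (List.mem_map_of_mem hf)
  rw [hb]
  exact (isAffineOpen_top (Spec (CommRingCat.of A))).basicOpen _

/-- `cd(A, I) ≤ 1` implies that the complement of `V(I)` is affine -/
theorem isAffineOpen_of_cdLE_one (I : Ideal A) (hcd : LocCoh.CdLE A I 1) :
    IsAffineOpen (LocCoh.puncturedOpen A I) := by
  obtain ⟨fs, rfl⟩ := exists_list_span A I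
  rw [puncturedOpen_eq_UL A fs, ← top_inf_eq (UL (Spec (CommRingCat.of A)) (fs.map (φ A)))]
  exact isAffineOpen_of_cdLE_one_list A fs hcd

/-- if `V(I)` is everything then `cd(A, I) ≤ 0` -/
theorem cdLE_zero_of_isEmpty (I : Ideal A)
    (hne : IsEmpty (LocCoh.puncturedOpen A I).toScheme) : LocCoh.CdLE A I 0 := by
  have hle : I ≤ (⊥ : Ideal A).radical := by
    rw [Ideal.radical_eq_sInf]
    refine le_sInf ?_
    rintro p ⟨-, hp⟩
    by_contra hIp
    have hmem : (⟨p, hp⟩ : PrimeSpectrum A) ∈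
        (PrimeSpectrum.zeroLocus (R := A) (I : Set A))ᶜ := by
      rw [Set.mem_compl_iff, PrimeSpectrum.mem_zeroLocus]
      exact hIp
    exact hne.false ⟨⟨p, hp⟩, hmem⟩
  have hrad : I.radical = (⊥ : Ideal A).radical := by
    apply le_antisymm
    · calc I.radical ≤ ((⊥ : Ideal A).radical).radical := Ideal.radical_mono hle
        _ = (⊥ : Ideal A).radical := Ideal.radical_idem _
    · exact Ideal.radical_mono bot_le
  intro M _ _ i hi
  have e1 := Groth.Agent.Lib.Helper16.LC.HequivOfRadical hrad i M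
  have hnil : Ideal.span {x : A | x ∈ ([] : List A)} = ⊥ := by
    have : {x : A | x ∈ ([] : List A)} = ∅ := by
      ext x
      simp
    rw [this, Ideal.span_empty]
  obtain ⟨e2⟩ := Groth.Agent.Lib.Helper5.ExtCechH0.nonempty_extCechH_iso_localCohomology
    ([] : List A) (ModuleCat.of A M) i
  rw [hnil] at e2
  have hz : IsZero (Hq ([] : List A) (ModuleCat.of A M) (((i : ℤ) - 1) + 1)) :=
    isZero_Hq_of_tors ([] : List A) (ModuleCat.of A M)
      (fun f hf => (List.not_mem_nil hf).elim) ((i : ℤ) - 1) (by omega)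
  rw [sub_add_cancel] at hz
  have hz2 : IsZero (DerCA.extCechH ([] : List A) (ModuleCat.of A M) (i : ℤ)) :=
    hz.of_iso (Groth.Agent.Lib.Helper5.KoszulSections.hqIso [] _ i (i : ℤ) rfl)
  have hs : Subsingleton (LocCoh.H (⊥ : Ideal A) i M) :=
    ModuleCat.subsingleton_of_isZero (hz2.of_iso e2.symm)
  exact e1.toEquiv.subsingleton_congr.2 hs

end Groth.Agent.Lib.Helper5.CdOne
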