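import Groth.Agent.Lib.Helper16.LocCohCd
import Groth.Agent.Lib.Helper16.LocCohH0

/-!
# Cohomological dimension one: the algebraic core

If `cd(R, I) ≤ 1` and `B` is an `R`-module with `H^0_I(B) = H^1_I(B) = 0`, then `I B = B`.
-/

set_option autoImplicit false
universe u
open CategoryTheory Opposite Limits Pointwise

namespace Groth.Agent.Lib.Helper5.CdOne

open Groth.Agent.Lib.Helper16.LC Groth.Agent.Lib.Helper16.Depth

variable {R : Type u} [CommRing R] (I : Ideal R)

theorem subsingleton_H_X₃ {S : ShortComplex (ModuleCat.{u} R)} (hS : S.ShortExact) (p : ℕ)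
    (h2 : Subsingleton ((localCohomology I p).obj S.X₂))
    (h1 : Subsingleton ((localCohomology I (p + 1)).obj S.X₁)) :
    Subsingleton ((localCohomology I p).obj S.X₃) := by
  refine subsingleton_of_forall_eq 0 fun z => ?_
  obtain ⟨y, rfl⟩ := Hmap_exact₃ I hS p z (Subsingleton.elim _ _)
  rw [Subsingleton.elim y 0, map_zero]

variable (B : Type u) [AddCommGroup B] [Module R B]

/-- `H^p` of a binary product vanishes if it does for both factors -/
theorem subsingleton_H_prod (C : Type u) [AddCommGroup C] [Module R C] (p : ℕ)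
    (hB : Subsingleton (LocCoh.H I p B)) (hC : Subsingleton (LocCoh.H I p C)) :
    Subsingleton (LocCoh.H I p (B × C)) := by
  have hS := shortExact_of_linearMaps (LinearMap.inl R B C) (LinearMap.snd R B C)
    LinearMap.inl_injective LinearMap.snd_surjective (by
      intro x
      constructor
      · intro hx
        exact ⟨x.1, Prod.ext rfl hx.symm⟩
      · rintro ⟨b, rfl⟩
        rfl)
  exact subsingleton_H_X₂ I hS p hB hC

/-- the submodule `(f_1, …, f_k) B` -/
abbrev Jl (l : List R) : Submodule R B := (Ideal.span {x | x ∈ l}) • (⊤ : Submodule R B)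

lemma Jl_cons (f : R) (l : List R) : Jl (R := R) B (f :: l) = f • (⊤ : Submodule R B) ⊔ Jl (R := R) B l := by
  have hset : {x | x ∈ f :: l} = insert f {x | x ∈ l} := by
    ext x
    simp
  unfold Jl
  rw [hset, Ideal.span_insert, Submodule.sup_smul, Submodule.ideal_span_singleton_smul]

include I in
theorem subsingleton_H_one_Jl (hcd : LocCoh.CdLE R I 1) (h1 : Subsingleton (LocCoh.H I 1 B)) :
    ∀ l : List R, Subsingleton (LocCoh.H I 1 (Jl (R := R) B l))
  | [] => by
    have hbot : Jl (R := R) B [] = ⊥ := by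
      unfold Jl
      have : {x : R | x ∈ ([] : List R)} = ∅ := by
        ext x
        simp
      rw [this, Ideal.span_empty, Submodule.bot_smul]
    have : Subsingleton (Jl (R := R) B []) := by
      rw [hbot]
      infer_instance
    exact subsingleton_H_of_subsingleton I 1 (Jl (R := R) B [])
  | f :: l => by
    have ih := subsingleton_H_one_Jl hcd h1 l
    -- the surjection `B × J_l → J_{f :: l}`
    let τ₀ : (B × Jl (R := R) B l) →ₗ[R] B :=
      (LinearMap.lsmul R B f).coprod (Jl (R := R) B l).subtype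
    have hτ₀ : ∀ x, τ₀ x ∈ Jl (R := R) B (f :: l) := by
      rintro ⟨b, x⟩
      rw [Jl_cons]
      refine Submodule.add_mem_sup ?_ x.2
      exact Submodule.smul_mem_pointwise_smul b f ⊤ Submodule.mem_top
    let τ : (B × Jl (R := R) B l) →ₗ[R] Jl (R := R) B (f :: l) := τ₀.codRestrict _ hτ₀
    have hτs : Function.Surjective τ := by
      rintro ⟨y, hy⟩
      rw [Jl_cons, Submodule.mem_sup] at hy
      obtain ⟨y1, hy1, y2, hy2, rfl⟩ := hy
      obtain ⟨b, -, rfl⟩ := (Submodule.mem_smul_pointwise_iff_exists _ _ _).1 hy1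
      exact ⟨(b, ⟨y2, hy2⟩), Subtype.ext rfl⟩
    have hS := shortExact_of_linearMaps (LinearMap.ker τ).subtype τ
      (Submodule.injective_subtype _) hτs (by
        intro x
        constructor
        · intro hx
          exact ⟨⟨x, hx⟩, rfl⟩
        · rintro ⟨k, rfl⟩
          exact k.2)
    have hprod := subsingleton_H_prod I B (Jl (R := R) B l) 1 h1 ih
    have h2 : Subsingleton (LocCoh.H I 2 (LinearMap.ker τ)) := hcd _ 2 (by norm_num)
    exact subsingleton_H_X₃ I hS 1 hprod h2

/-- **The algebraic core**: `cd(R, I) ≤ 1`, `H^0_I(B) = H^1_I(B) = 0` imply `I B = B`. -/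
theorem smul_top_eq_top (hcd : LocCoh.CdLE R I 1) (fs : List R)
    (hI : Ideal.span {x | x ∈ fs} = I)
    (h0 : Subsingleton (LocCoh.H I 0 B)) (h1 : Subsingleton (LocCoh.H I 1 B)) :
    I • (⊤ : Submodule R B) = ⊤ := by
  have hJ1 : Subsingleton (LocCoh.H I 1 (Jl (R := R) B fs)) := subsingleton_H_one_Jl I B hcd h1 fs
  have hS := shortExact_of_linearMaps (Jl (R := R) B fs).subtype (Jl (R := R) B fs).mkQ
    (Submodule.injective_subtype _) (Submodule.mkQ_surjective _)
    (LinearMap.exact_subtype_mkQ _)
  have hQ0 : Subsingleton (LocCoh.H I 0 (B ⧸ Jl (R := R) B fs)) := subsingleton_H_X₃ I hS 0 h0 hJ1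
  have htors : ∀ q : B ⧸ Jl (R := R) B fs, q = 0 := by
    intro q
    have hq : q ∈ DRing.torsionSub I (B ⧸ Jl (R := R) B fs) := by
      refine ⟨1, fun a ha => ?_⟩
      rw [pow_one] at ha
      obtain ⟨b, rfl⟩ := Submodule.Quotient.mk_surjective _ q
      rw [← Submodule.Quotient.mk_smul, Submodule.Quotient.mk_eq_zero]
      unfold Jl
      rw [hI]
      exact Submodule.smul_mem_smul ha Submodule.mem_top
    have h3 : (H0equiv I (ModuleCat.of R (B ⧸ Jl (R := R) B fs))).symm ⟨q, hq⟩ = 0 :=
      Subsingleton.elim _ _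
    have h4 := congrArg (H0equiv I (ModuleCat.of R (B ⧸ Jl (R := R) B fs))) h3
    rw [LinearEquiv.apply_symm_apply, map_zero] at h4
    exact congrArg Subtype.val h4
  rw [eq_top_iff]
  intro b _
  have := htors (Submodule.Quotient.mk b)
  rw [Submodule.Quotient.mk_eq_zero] at this
  unfold Jl at this
  rwa [hI] at this

end Groth.Agent.Lib.Helper5.CdOne
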