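import Groth.Agent.Lib.Helper5.CechVanish
import Groth.Agent.Lib.Helper22.ExtCompare

/-
Helper5: an abelian sheaf whose Čech cohomology with respect to every epimorphism of sheaves of
sets vanishes in positive degrees is totally acyclic (SGA 4 V 4.3, Cartan's criterion for topoi).
-/

set_option autoImplicit false

universe u

open CategoryTheory Limits Simplicial Opposite SimplicialObject AlgebraicTopology Abelian

namespace Groth.Agent.Lib.Helper5.CechRes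

variable {C : Type u} [SmallCategory C] {J : GrothendieckTopology C}

/-- Every Čech cocycle of degree `q + 1` of `F` for `f` is a coboundary. -/
def CB (F : Sheaf J AddCommGrpCat.{u}) {K' K : Sheaf J (Type u)} (f : K' ⟶ K) (q : ℕ) : Prop :=
  ∀ x : (Ks f).X (q + 1) ⟶ F, (Ks f).d (q + 2) (q + 1) ≫ x = 0 →
    ∃ y : (Ks f).X q ⟶ F, (Ks f).d (q + 1) q ≫ y = x

lemma isZero_homology_iff_CB (F : Sheaf J AddCommGrpCat.{u}) {K' K : Sheaf J (Type u)}
    (f : K' ⟶ K) (q : ℕ) :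
    IsZero ((CohCx.cechNerveCx F f).homology (q + 1)) ↔ CB F f q := by
  rw [← HomologicalComplex.exactAt_iff_isZero_homology,
    HomologicalComplex.exactAt_iff' _ q (q + 1) (q + 2) (by simp) (by simp),
    ShortComplex.ab_exact_iff]
  constructor
  · intro h x hx
    obtain ⟨y, hy⟩ := h x ((cechNerveCx_d_apply f F (q + 1) x).trans hx)
    exact ⟨y, (cechNerveCx_d_apply f F q y).symm.trans hy⟩
  · intro h x hx
    obtain ⟨y, hy⟩ := h x ((cechNerveCx_d_apply f F (q + 1) x).symm.trans hx)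
    exact ⟨y, (cechNerveCx_d_apply f F q y).trans hy⟩

/-- Epimorphisms of sheaves of sets are stable under pullback. -/
lemma epi_pullback_fst {K B E : Sheaf J (Type u)} (a : K ⟶ B) (b : E ⟶ B) [Epi b] :
    Epi (pullback.fst a b) := by
  have hb : Sheaf.IsLocallySurjective b := (Sheaf.isLocallySurjective_iff_epi b).2 inferInstance
  rw [← Sheaf.isLocallySurjective_iff_epi]
  refine ⟨fun {U} k => ?_⟩
  refine J.superset_covering ?_ (Presheaf.imageSieve_mem J b.hom (U := op U) (a.hom.app (op U) k))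
  intro V i ⟨e, he⟩
  have hpb := (IsPullback.of_hasPullback a b).map (GU J (op V))
  obtain ⟨p, hp1, -⟩ := Types.exists_of_isPullback hpb (K.obj.map i.op k) e
    ((ConcreteCategory.congr_hom (a.hom.naturality i.op) k).trans he.symm)
  exact ⟨p, hp1⟩

/-- The free abelian sheaf functor on sheaves of sets. -/
noncomputable abbrev Φ (J : GrothendieckTopology C) : Sheaf J (Type u) ⥤ Sheaf J AddCommGrpCat.{u} :=
  Sheaf.composeAndSheafify J AddCommGrpCat.free.{u}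

/-- The underlying sheaf of sets functor. -/
noncomputable abbrev Uf (J : GrothendieckTopology C) : Sheaf J AddCommGrpCat.{u} ⥤ Sheaf J (Type u) :=
  sheafCompose J (forget AddCommGrpCat.{u})

/-- The free/forgetful adjunction on sheaves. -/
noncomputable def adjΦ (J : GrothendieckTopology C) : Φ J ⊣ Uf J :=
  Sheaf.adjunction J AddCommGrpCat.adj.{u}

/-- Local lifting: a map from a free abelian sheaf to the target of an epimorphism lifts after
passing to an epimorphic cover of the sheaf of sets. -/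
lemma exists_local_lift {I Q : Sheaf J AddCommGrpCat.{u}} (g : I ⟶ Q) [Epi g]
    {K : Sheaf J (Type u)} (s : (Φ J).obj K ⟶ Q) :
    ∃ (K' : Sheaf J (Type u)) (f : K' ⟶ K) (_ : Epi f) (t : (Φ J).obj K' ⟶ I),
      t ≫ g = (Φ J).map f ≫ s := by
  haveI : Sheaf.IsLocallySurjective g := (Sheaf.isLocallySurjective_iff_epi' _ g).2 inferInstance
  haveI : Epi ((Uf J).map g) := inferInstance
  let s' : K ⟶ (Uf J).obj Q := (adjΦ J).homEquiv K Q s
  haveI : Epi (pullback.fst s' ((Uf J).map g)) := epi_pullback_fst s' ((Uf J).map g)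
  refine ⟨pullback s' ((Uf J).map g), pullback.fst s' ((Uf J).map g), inferInstance,
    ((adjΦ J).homEquiv _ I).symm (pullback.snd s' ((Uf J).map g)), ?_⟩
  rw [← Adjunction.homEquiv_naturality_right_symm, ← pullback.condition,
    Adjunction.homEquiv_naturality_left_symm, Equiv.symm_apply_apply]

lemma ε₀_eq {K' K : Sheaf J (Type u)} (f : K' ⟶ K) :
    (AlternatingFaceMapComplex.ε.app (Xs f)).f 0 =
      (Φ J).map (WidePullback.base (fun _ : Fin (0 + 1) => (Arrow.mk f).hom)) := by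
  rw [AlternatingFaceMapComplex.ε_app_f_zero]
  exact Category.comp_id _

/-- Abstract descent step for Lemma A. -/
lemma exists_lift_aux {𝒜 : Type*} [Category 𝒜] [Abelian 𝒜] {S : ShortComplex 𝒜} (hS : S.ShortExact)
    {X₂ X₁ X₀ P : 𝒜} (d₂ : X₂ ⟶ X₁) (d₁ : X₁ ⟶ X₀) (ε : X₀ ⟶ P) (hdd : d₂ ≫ d₁ = 0)
    (hdε : d₁ ≫ ε = 0) (h0 : (ShortComplex.mk d₁ ε hdε).Exact) [Epi ε]
    (hCB : ∀ c : X₁ ⟶ S.X₁, d₂ ≫ c = 0 → ∃ w : X₀ ⟶ S.X₁, d₁ ≫ w = c)
    (t₀ : X₀ ⟶ S.X₂) (s : P ⟶ S.X₃) (ht₀ : t₀ ≫ S.g = ε ≫ s) :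
    ∃ t : P ⟶ S.X₂, t ≫ S.g = s := by
  haveI := hS.epi_g
  haveI := hS.mono_f
  have hc0 : (d₁ ≫ t₀) ≫ S.g = 0 := by
    rw [Category.assoc, ht₀, ← Category.assoc, hdε, zero_comp]
  obtain ⟨c, hc⟩ : ∃ c : X₁ ⟶ S.X₁, c ≫ S.f = d₁ ≫ t₀ :=
    ⟨hS.exact.lift _ hc0, hS.exact.lift_f _ hc0⟩
  have hcc : d₂ ≫ c = 0 := by
    rw [← cancel_mono S.f, Category.assoc, hc, ← Category.assoc, hdd, zero_comp, zero_comp]
  obtain ⟨w, hw⟩ := hCB c hcc
  have ht₁ : d₁ ≫ (t₀ - w ≫ S.f) = 0 := by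
    rw [Preadditive.comp_sub, ← Category.assoc, hw, hc, sub_self]
  haveI : Epi (ShortComplex.mk d₁ ε hdε).g := ‹Epi ε›
  refine ⟨h0.desc (t₀ - w ≫ S.f) ht₁, ?_⟩
  rw [← cancel_epi ε]
  have h1 : ε ≫ h0.desc (t₀ - w ≫ S.f) ht₁ = t₀ - w ≫ S.f := h0.g_desc _ ht₁
  rw [← Category.assoc, h1, Preadditive.sub_comp, Category.assoc, S.zero, comp_zero, sub_zero, ht₀]

/-- Lemma A: if the first Čech cohomology of `S.X₁` vanishes for all epimorphisms, then maps from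
free abelian sheaves to `S.X₃` lift to `S.X₂`. -/
lemma exists_lift_of_CB {S : ShortComplex (Sheaf J AddCommGrpCat.{u})} (hS : S.ShortExact)
    (hCB : ∀ (K' K : Sheaf J (Type u)) (f : K' ⟶ K), Epi f → CB S.X₁ f 0)
    {K : Sheaf J (Type u)} (s : (Φ J).obj K ⟶ S.X₃) :
    ∃ t : (Φ J).obj K ⟶ S.X₂, t ≫ S.g = s := by
  haveI := hS.epi_g
  obtain ⟨K', f, hf, t, ht⟩ := exists_local_lift S.g s
  haveI := quasiIso_ε f
  obtain ⟨-, h0, hepi⟩ := AugRes.exact_of_quasiIso_ε (Xs f)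
  have hε₀ : (AlternatingFaceMapComplex.ε.app (Xs f)).f 0 =
      (Φ J).map (WidePullback.π (fun _ : Fin (0 + 1) => (Arrow.mk f).hom) 0) ≫ (Φ J).map f := by
    rw [← Functor.map_comp]
    refine (ε₀_eq f).trans (congrArg _ ?_)
    exact (WidePullback.π_arrow (fun _ : Fin (0 + 1) => (Arrow.mk f).hom) 0).symm
  refine exists_lift_aux hS ((Ks f).d 2 1) ((Ks f).d 1 0)
    ((AlternatingFaceMapComplex.ε.app (Xs f)).f 0) (HomologicalComplex.d_comp_d _ _ _ _)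
    (AugRes.d_comp_ε (Xs f)) h0 (hCB K' K f hf)
    ((Φ J).map (WidePullback.π (fun _ : Fin (0 + 1) => (Arrow.mk f).hom) 0) ≫ t) s ?_
  have key : ∀ {A : Sheaf J AddCommGrpCat.{u}} (p : A ⟶ (Φ J).obj K') (e : A ⟶ (Φ J).obj K),
      e = p ≫ (Φ J).map f → (p ≫ t) ≫ S.g = e ≫ s := by
    intro A p e he
    rw [he, Category.assoc, Category.assoc, ht]
  exact key _ _ hε₀

/-- Abstract diagram chase for Lemma B. -/
lemma CB_aux {𝒜 : Type*} [Category 𝒜] [Abelian 𝒜] {S : ShortComplex 𝒜} (hS : S.ShortExact)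
    {A₃ A₂ A₁ A₀ : 𝒜} (a₃ : A₃ ⟶ A₂) (a₂ : A₂ ⟶ A₁) (a₁ : A₁ ⟶ A₀) (h32 : a₃ ≫ a₂ = 0)
    (hlift : ∀ x : A₁ ⟶ S.X₃, ∃ x' : A₁ ⟶ S.X₂, x' ≫ S.g = x)
    (hCB1 : ∀ z : A₂ ⟶ S.X₁, a₃ ≫ z = 0 → ∃ w : A₁ ⟶ S.X₁, a₂ ≫ w = z)
    (hCB2 : ∀ x : A₁ ⟶ S.X₂, a₂ ≫ x = 0 → ∃ y : A₀ ⟶ S.X₂, a₁ ≫ y = x)
    (x : A₁ ⟶ S.X₃) (hx : a₂ ≫ x = 0) : ∃ y : A₀ ⟶ S.X₃, a₁ ≫ y = x := by
  haveI := hS.mono_f
  obtain ⟨x', hx'⟩ := hlift x
  have hz0 : (a₂ ≫ x') ≫ S.g = 0 := by rw [Category.assoc, hx', hx]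
  obtain ⟨z, hz⟩ : ∃ z : A₂ ⟶ S.X₁, z ≫ S.f = a₂ ≫ x' :=
    ⟨hS.exact.lift _ hz0, hS.exact.lift_f _ hz0⟩
  have hzz : a₃ ≫ z = 0 := by
    rw [← cancel_mono S.f, Category.assoc, hz, ← Category.assoc, h32, zero_comp, zero_comp]
  obtain ⟨w, hw⟩ := hCB1 z hzz
  have hx'' : a₂ ≫ (x' - w ≫ S.f) = 0 := by
    rw [Preadditive.comp_sub, ← Category.assoc, hw, hz, sub_self]
  obtain ⟨y, hy⟩ := hCB2 _ hx''
  refine ⟨y ≫ S.g, ?_⟩
  rw [← Category.assoc, hy, Preadditive.sub_comp, Category.assoc, S.zero, comp_zero, sub_zero, hx']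

/-- Lemma B: vanishing of Čech cohomology passes to the cokernel. -/
lemma CB_X₃ {S : ShortComplex (Sheaf J AddCommGrpCat.{u})} (hS : S.ShortExact)
    (hCB1 : ∀ (K' K : Sheaf J (Type u)) (f : K' ⟶ K), Epi f → ∀ q, CB S.X₁ f q)
    (hCB2 : ∀ (K' K : Sheaf J (Type u)) (f : K' ⟶ K), Epi f → ∀ q, CB S.X₂ f q)
    (K' K : Sheaf J (Type u)) (f : K' ⟶ K) (hf : Epi f) (q : ℕ) : CB S.X₃ f q := by
  intro x hx
  exact CB_aux hS ((Ks f).d (q + 3) (q + 2)) ((Ks f).d (q + 2) (q + 1)) ((Ks f).d (q + 1) q)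
    (HomologicalComplex.d_comp_d _ _ _ _)
    (fun x => exists_lift_of_CB hS (fun K' K f hf => hCB1 K' K f hf 0) x)
    (hCB1 K' K f hf (q + 1)) (hCB2 K' K f hf q) x hx

open Groth.Agent.Lib.Helper22.ExtCompare in
/-- Vanishing of all higher Čech cohomology for all epimorphisms implies vanishing of all higher
`Ext` groups out of free abelian sheaves. -/
lemma ext_eq_zero_of_CB : ∀ (q : ℕ) (F : Sheaf J AddCommGrpCat.{u}),
    (∀ (K' K : Sheaf J (Type u)) (f : K' ⟶ K), Epi f → ∀ q', CB F f q') →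
    ∀ (K : Sheaf J (Type u)) (x : Ext ((Φ J).obj K) F (q + 1)), x = 0 := by
  intro q
  induction q with
  | zero =>
    intro F hF K x
    have hS := injSC_shortExact F
    obtain ⟨s, hs⟩ := Ext.covariant_sequence_exact₁ ((Φ J).obj K) hS x
      (Ext.eq_zero_of_injective _) (zero_add 1)
    obtain ⟨s', rfl⟩ := (Ext.mk₀_bijective _ _).2 s
    obtain ⟨t, ht⟩ := exists_lift_of_CB hS (fun K' K f hf => hF K' K f hf 0) s'
    rw [← hs, ← ht, ← Ext.mk₀_comp_mk₀, Ext.comp_assoc_of_second_deg_zero, hS.comp_extClass,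
      Ext.comp_zero]
  | succ q ih =>
    intro F hF K x
    have hS := injSC_shortExact F
    obtain ⟨s, hs⟩ := Ext.covariant_sequence_exact₁ ((Φ J).obj K) hS x
      (Ext.eq_zero_of_injective _) rfl
    have hI : CohCx.IsTotallyAcyclic (injSC F).X₂ := fun K p =>
      subsingleton_of_forall_eq 0 (fun x => Ext.eq_zero_of_injective x)
    have hQ : ∀ (K' K : Sheaf J (Type u)) (f : K' ⟶ K), Epi f → ∀ q', CB (injSC F).X₃ f q' :=
      CB_X₃ hS hF (fun K' K f hf q' =>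
        (isZero_homology_iff_CB _ f q').1 (isZero_cech_homology f _ hI q'))
    rw [← hs, ih _ hQ K s, Ext.zero_comp]

/-- Cartan's criterion for topoi (SGA 4 V 4.3): vanishing of higher Čech cohomology for all
epimorphisms of sheaves of sets implies total acyclicity. -/
theorem isTotallyAcyclic_of_cech (F : Sheaf J AddCommGrpCat.{u})
    (h : ∀ (K' K : Sheaf J (Type u)) (f : K' ⟶ K), Epi f →
      ∀ q : ℕ, IsZero ((CohCx.cechNerveCx F f).homology (q + 1))) :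
    CohCx.IsTotallyAcyclic F := fun K p =>
  subsingleton_of_forall_eq 0 (fun x => ext_eq_zero_of_CB p F
    (fun K' K f hf q => (isZero_homology_iff_CB F f q).1 (h K' K f hf q)) K x)

end Groth.Agent.Lib.Helper5.CechRes
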