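import Groth.Agent.Lib.Helper5.GrothAcyc
import Groth.Agent.Lib.Helper5.KInjAdj

/-!
# A criterion for full faithfulness on bounded below derived categories

Let `Φ : 𝒜 ⥤ ℬ` be an exact functor between abelian categories with enough injectives, with a
right adjoint `Ψ`.  If the unit `F ⟶ Ψ Φ F` is an isomorphism and `Φ F` is `Ψ`-acyclic for every
object `F`, then the functor induced by `Φ` on derived categories induces bijections
`Hom(K, L) ≃ Hom(Φ K, Φ L)` for all `K` and all bounded below `L`.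
-/

set_option autoImplicit false

open CategoryTheory CategoryTheory.Limits

noncomputable section

namespace Groth.Agent.Lib.Helper5.DescCrit

universe w w' v v' u u'

/-! ### generalities -/

section gen

variable {C D : Type*} [Category C] [Category D] (F : C ⥤ D)

lemma bijective_map_of_iso {K K' L L' : C} (e₁ : K ≅ K') (e₂ : L ≅ L')
    (h : Function.Bijective (fun g : K' ⟶ L' => F.map g)) :
    Function.Bijective (fun g : K ⟶ L => F.map g) := by
  constructor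
  · intro g₁ g₂ hg
    have hg' : F.map g₁ = F.map g₂ := hg
    have h1 : F.map (e₁.inv ≫ g₁ ≫ e₂.hom) = F.map (e₁.inv ≫ g₂ ≫ e₂.hom) := by
      simp only [F.map_comp, hg']
    have h2 : e₁.inv ≫ g₁ ≫ e₂.hom = e₁.inv ≫ g₂ ≫ e₂.hom := h.1 h1
    have h3 : e₁.hom ≫ (e₁.inv ≫ g₁ ≫ e₂.hom) ≫ e₂.inv =
        e₁.hom ≫ (e₁.inv ≫ g₂ ≫ e₂.hom) ≫ e₂.inv := by rw [h2]
    simpa using h3
  · intro k
    obtain ⟨g', hg'⟩ := h.2 ((F.mapIso e₁).inv ≫ k ≫ (F.mapIso e₂).hom)
    refine ⟨e₁.hom ≫ g' ≫ e₂.inv, ?_⟩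
    have hg'' : F.map g' = (F.mapIso e₁).inv ≫ k ≫ (F.mapIso e₂).hom := hg'
    change F.map (e₁.hom ≫ g' ≫ e₂.inv) = k
    have e : F.map (e₁.hom ≫ g' ≫ e₂.inv) =
        (F.mapIso e₁).hom ≫ F.map g' ≫ (F.mapIso e₂).inv := by
      rw [F.map_comp, F.map_comp]
      rfl
    rw [e, hg'']
    simp

end gen

section adjunction

variable {𝒜 : Type u} [Category.{v} 𝒜] [Abelian 𝒜] {ℬ : Type u'} [Category.{v'} ℬ] [Abelian ℬ]
  {Φ : 𝒜 ⥤ ℬ} {Ψ : ℬ ⥤ 𝒜} (adj : Φ ⊣ Ψ) [Φ.Additive] [Ψ.Additive]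

/-- the adjoint of a morphism of complexes `Φ K ⟶ J` -/
def adjMapR {K : CochainComplex 𝒜 ℤ} {J : CochainComplex ℬ ℤ}
    (f : (Φ.mapHomologicalComplex _).obj K ⟶ J) : K ⟶ (Ψ.mapHomologicalComplex _).obj J where
  f n := adj.homEquiv _ _ (f.f n)
  comm' i j _ := by
    have h : f.f i ≫ J.d i j = Φ.map (K.d i j) ≫ f.f j := f.comm i j
    change adj.homEquiv (K.X i) (J.X i) (f.f i) ≫ Ψ.map (J.d i j) =
      K.d i j ≫ adj.homEquiv (K.X j) (J.X j) (f.f j)
    rw [← Adjunction.homEquiv_naturality_right, ← Adjunction.homEquiv_naturality_left]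
    exact congrArg _ h

/-- the unit on complexes -/
def unitC (K : CochainComplex 𝒜 ℤ) :
    K ⟶ (Ψ.mapHomologicalComplex _).obj ((Φ.mapHomologicalComplex _).obj K) where
  f n := adj.unit.app (K.X n)
  comm' i j _ := (adj.unit.naturality (K.d i j)).symm

/-- the counit on complexes -/
def counitC (J : CochainComplex ℬ ℤ) :
    (Φ.mapHomologicalComplex _).obj ((Ψ.mapHomologicalComplex _).obj J) ⟶ J where
  f n := adj.counit.app (J.X n)
  comm' i j _ := (adj.counit.naturality (J.d i j)).symm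

lemma adjMapR_eq {K : CochainComplex 𝒜 ℤ} {J : CochainComplex ℬ ℤ}
    (f : (Φ.mapHomologicalComplex _).obj K ⟶ J) :
    adjMapR adj f = unitC adj K ≫ (Ψ.mapHomologicalComplex _).map f := by
  ext n
  exact adj.homEquiv_unit _ _ _

lemma adjMap_eq {K : CochainComplex 𝒜 ℤ} {J : CochainComplex ℬ ℤ}
    (x : K ⟶ (Ψ.mapHomologicalComplex _).obj J) :
    KInjAdj.adjMap adj x = (Φ.mapHomologicalComplex _).map x ≫ counitC adj J := by
  ext n
  exact adj.homEquiv_counit _ _ _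

lemma adjMap_adjMapR {K : CochainComplex 𝒜 ℤ} {J : CochainComplex ℬ ℤ}
    (f : (Φ.mapHomologicalComplex _).obj K ⟶ J) : KInjAdj.adjMap adj (adjMapR adj f) = f := by
  ext n
  exact Equiv.symm_apply_apply _ _

lemma adjMapR_comp {K K' : CochainComplex 𝒜 ℤ} {J : CochainComplex ℬ ℤ} (g : K' ⟶ K)
    (f : (Φ.mapHomologicalComplex _).obj K ⟶ J) :
    adjMapR adj ((Φ.mapHomologicalComplex _).map g ≫ f) = g ≫ adjMapR adj f := by
  ext n
  exact adj.homEquiv_naturality_left _ _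

lemma adjMap_comp {K K' : CochainComplex 𝒜 ℤ} {J : CochainComplex ℬ ℤ} (g : K' ⟶ K)
    (x : K ⟶ (Ψ.mapHomologicalComplex _).obj J) :
    KInjAdj.adjMap adj (g ≫ x) = (Φ.mapHomologicalComplex _).map g ≫ KInjAdj.adjMap adj x := by
  ext n
  exact adj.homEquiv_naturality_left_symm _ _

/-- adjoints of homotopic maps are homotopic -/
def adjMapRHomotopy {K : CochainComplex 𝒜 ℤ} {J : CochainComplex ℬ ℤ}
    {a b : (Φ.mapHomologicalComplex _).obj K ⟶ J} (h : Homotopy a b) :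
    Homotopy (adjMapR adj a) (adjMapR adj b) :=
  (Homotopy.ofEq (adjMapR_eq adj a)).trans
    (((Ψ.mapHomotopy h).compLeft (unitC adj K)).trans (Homotopy.ofEq (adjMapR_eq adj b).symm))

/-- adjoints of homotopic maps are homotopic -/
def adjMapHomotopy {K : CochainComplex 𝒜 ℤ} {J : CochainComplex ℬ ℤ}
    {x y : K ⟶ (Ψ.mapHomologicalComplex _).obj J} (h : Homotopy x y) :
    Homotopy (KInjAdj.adjMap adj x) (KInjAdj.adjMap adj y) :=
  (Homotopy.ofEq (adjMap_eq adj x)).trans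
    (((Φ.mapHomotopy h).compRight (counitC adj J)).trans (Homotopy.ofEq (adjMap_eq adj y).symm))

end adjunction

/-! ### morphisms to K-injective complexes in the derived category -/

section kinj

variable {𝒜 : Type u} [Category.{v} 𝒜] [Abelian 𝒜] [HasDerivedCategory.{w} 𝒜]

open DerivedCategory

lemma Q_map_eq_conj {K L : CochainComplex 𝒜 ℤ} (f : K ⟶ L) :
    Q.map f = (quotientCompQhIso 𝒜).inv.app K ≫
      Qh.map ((HomotopyCategory.quotient 𝒜 (ComplexShape.up ℤ)).map f) ≫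
        (quotientCompQhIso 𝒜).hom.app L := by
  have h := (quotientCompQhIso 𝒜).hom.naturality f
  have h' : Qh.map ((HomotopyCategory.quotient 𝒜 (ComplexShape.up ℤ)).map f) ≫
      (quotientCompQhIso 𝒜).hom.app L = (quotientCompQhIso 𝒜).hom.app K ≫ Q.map f := h
  rw [h', Iso.inv_hom_id_app_assoc]

lemma exists_Q_map_eq {K L : CochainComplex 𝒜 ℤ} [L.IsKInjective] (g : Q.obj K ⟶ Q.obj L) :
    ∃ f : K ⟶ L, Q.map f = g := by
  obtain ⟨φ, hφ⟩ := (CochainComplex.IsKInjective.Qh_map_bijective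
    ((HomotopyCategory.quotient 𝒜 (ComplexShape.up ℤ)).obj K) L).2
    ((quotientCompQhIso 𝒜).hom.app K ≫ g ≫ (quotientCompQhIso 𝒜).inv.app L)
  obtain ⟨f, rfl⟩ := (HomotopyCategory.quotient 𝒜 (ComplexShape.up ℤ)).map_surjective φ
  refine ⟨f, ?_⟩
  rw [Q_map_eq_conj, hφ]
  simp

lemma Q_map_eq_of_homotopy {K L : CochainComplex 𝒜 ℤ} {f₁ f₂ : K ⟶ L} (h : Homotopy f₁ f₂) :
    Q.map f₁ = Q.map f₂ := by
  rw [Q_map_eq_conj, Q_map_eq_conj, HomotopyCategory.eq_of_homotopy _ _ h]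

lemma nonempty_homotopy_of_Q_map_eq {K L : CochainComplex 𝒜 ℤ} [L.IsKInjective] (f₁ f₂ : K ⟶ L)
    (h : Q.map f₁ = Q.map f₂) : Nonempty (Homotopy f₁ f₂) := by
  rw [Q_map_eq_conj, Q_map_eq_conj] at h
  have h1 : Qh.map ((HomotopyCategory.quotient 𝒜 (ComplexShape.up ℤ)).map f₁) =
      Qh.map ((HomotopyCategory.quotient 𝒜 (ComplexShape.up ℤ)).map f₂) := by
    have h2 := congrArg (fun k => (quotientCompQhIso 𝒜).hom.app K ≫ k ≫
      (quotientCompQhIso 𝒜).inv.app L) h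
    simpa using h2
  exact ⟨HomotopyCategory.homotopyOfEq _ _ ((CochainComplex.IsKInjective.Qh_map_bijective
    ((HomotopyCategory.quotient 𝒜 (ComplexShape.up ℤ)).obj K) L).1 h1)⟩

end kinj

/-! ### the criterion -/

section main

variable {𝒜 : Type u} [Category.{v} 𝒜] [Abelian 𝒜] [HasDerivedCategory.{w} 𝒜]
  [EnoughInjectives 𝒜]
  {ℬ : Type u'} [Category.{v'} ℬ] [Abelian ℬ] [HasDerivedCategory.{w'} ℬ] [EnoughInjectives ℬ]
  {Φ : 𝒜 ⥤ ℬ} {Ψ : ℬ ⥤ 𝒜} (adj : Φ ⊣ Ψ) [Φ.Additive] [Ψ.Additive]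
  [PreservesFiniteLimits Φ] [PreservesFiniteColimits Φ]

open DerivedCategory GrothSS

include adj in
/-- the key quasi-isomorphism `I ⟶ Ψ J` for an injective resolution `Φ I ⟶ J` -/
lemma quasiIso_adjMapR [PreservesFiniteLimits Ψ]
    (hunit : ∀ F : 𝒜, IsIso (adj.unit.app F))
    (hacyc : ∀ (F : 𝒜) (q : ℕ), IsZero ((Ψ.rightDerived (q + 1)).obj (Φ.obj F)))
    (I : CochainComplex 𝒜 ℤ) (n : ℤ) [I.IsStrictlyGE n] (J : CochainComplex ℬ ℤ)
    [J.IsStrictlyGE n] [∀ k, Injective (J.X k)]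
    (j : (Φ.mapHomologicalComplex _).obj I ⟶ J) [QuasiIso j] : QuasiIso (adjMapR adj j) := by
  rw [adjMapR_eq]
  haveI : ∀ k, IsIso ((unitC adj I).f k) := fun k => hunit (I.X k)
  haveI : IsIso (unitC adj I) := HomologicalComplex.Hom.isIso_of_components _
  haveI : QuasiIso ((Ψ.mapHomologicalComplex (ComplexShape.up ℤ)).map j) :=
    (isAdapted_acyc Ψ).quasiIso_map n (fun k q => hacyc (I.X k) q) j
  infer_instance

include adj in
theorem bijective_map_Q [PreservesFiniteLimits Ψ]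
    (hunit : ∀ F : 𝒜, IsIso (adj.unit.app F))
    (hacyc : ∀ (F : 𝒜) (q : ℕ), IsZero ((Ψ.rightDerived (q + 1)).obj (Φ.obj F)))
    (K I : CochainComplex 𝒜 ℤ) (n : ℤ) [I.IsStrictlyGE n] [∀ k, Injective (I.X k)] :
    Function.Bijective (fun g : Q.obj K ⟶ Q.obj I => Φ.mapDerivedCategory.map g) := by
  haveI : I.IsKInjective := CochainComplex.isKInjective_of_injective I n
  obtain ⟨J, j, _, _, _⟩ := CochainComplex.Plus.modelCategoryQuillen.exists_quasiIso_injective
    ((Φ.mapHomologicalComplex (ComplexShape.up ℤ)).obj I) n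
  haveI : J.IsKInjective := CochainComplex.isKInjective_of_injective J n
  haveI : QuasiIso (adjMapR adj j) := quasiIso_adjMapR adj hunit hacyc I n J j
  haveI : Φ.PreservesHomology := inferInstance
  haveI : CochainComplex.IsKInjective ((Ψ.mapHomologicalComplex (ComplexShape.up ℤ)).obj J) :=
    KInjAdj.isKInjective_map adj J
  let fac := Φ.mapDerivedCategoryFactors
  have hfac : ∀ {A B : CochainComplex 𝒜 ℤ} (f : A ⟶ B),
      Φ.mapDerivedCategory.map (Q.map f) = fac.hom.app A ≫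
        Q.map ((Φ.mapHomologicalComplex (ComplexShape.up ℤ)).map f) ≫ fac.inv.app B := by
    intro A B f
    have h := Φ.mapDerivedCategoryFactors_hom_naturality f
    rw [← Category.assoc, ← h, Category.assoc, Iso.hom_inv_id_app]
    exact (Category.comp_id _).symm
  constructor
  · intro g₁ g₂ hg
    have hg' : Φ.mapDerivedCategory.map g₁ = Φ.mapDerivedCategory.map g₂ := hg
    obtain ⟨f₁, rfl⟩ := exists_Q_map_eq g₁
    obtain ⟨f₂, rfl⟩ := exists_Q_map_eq g₂
    rw [hfac, hfac] at hg'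
    have h1 : Q.map ((Φ.mapHomologicalComplex (ComplexShape.up ℤ)).map f₁) =
        Q.map ((Φ.mapHomologicalComplex (ComplexShape.up ℤ)).map f₂) := by
      have h2 := congrArg (fun k => fac.inv.app K ≫ k ≫ fac.hom.app I) hg'
      simpa using h2
    have h3 : Q.map ((Φ.mapHomologicalComplex (ComplexShape.up ℤ)).map f₁ ≫ j) =
        Q.map ((Φ.mapHomologicalComplex (ComplexShape.up ℤ)).map f₂ ≫ j) := by
      rw [Q.map_comp, Q.map_comp, h1]
    obtain ⟨H⟩ := nonempty_homotopy_of_Q_map_eq _ _ h3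
    have H' := adjMapRHomotopy adj H
    rw [adjMapR_comp, adjMapR_comp] at H'
    have h4 := Q_map_eq_of_homotopy H'
    rw [Q.map_comp, Q.map_comp] at h4
    exact (cancel_mono (Q.map (adjMapR adj j))).1 h4
  · intro h
    obtain ⟨φ, hφ⟩ := exists_Q_map_eq (fac.inv.app K ≫ h ≫ fac.hom.app I ≫ Q.map j)
    obtain ⟨f, hf⟩ := exists_Q_map_eq (Q.map (adjMapR adj φ) ≫ inv (Q.map (adjMapR adj j)))
    refine ⟨Q.map f, ?_⟩
    have h1 : Q.map (f ≫ adjMapR adj j) = Q.map (adjMapR adj φ) := by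
      rw [Q.map_comp, hf, Category.assoc, IsIso.inv_hom_id, Category.comp_id]
    obtain ⟨H⟩ := nonempty_homotopy_of_Q_map_eq _ _ h1
    have H' := adjMapHomotopy adj H
    rw [adjMap_comp, adjMap_adjMapR, adjMap_adjMapR] at H'
    have h2 := Q_map_eq_of_homotopy H'
    rw [Q.map_comp, hφ] at h2
    have h3 : Q.map ((Φ.mapHomologicalComplex (ComplexShape.up ℤ)).map f) =
        fac.inv.app K ≫ h ≫ fac.hom.app I := by
      have h4 : Q.map ((Φ.mapHomologicalComplex (ComplexShape.up ℤ)).map f) ≫ Q.map j =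
          (fac.inv.app K ≫ h ≫ fac.hom.app I) ≫ Q.map j := by
        rw [h2]
        simp only [Category.assoc]
      exact (cancel_mono (Q.map j)).1 h4
    change Φ.mapDerivedCategory.map (Q.map f) = h
    rw [hfac, h3]
    simp

include adj in
/-- **the criterion** -/
theorem bijective_map [PreservesFiniteLimits Ψ]
    (hunit : ∀ F : 𝒜, IsIso (adj.unit.app F))
    (hacyc : ∀ (F : 𝒜) (q : ℕ), IsZero ((Ψ.rightDerived (q + 1)).obj (Φ.obj F)))
    (K : DerivedCategory 𝒜) (L : DerivedCategory.Plus 𝒜) :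
    Function.Bijective (fun g : K ⟶ L.obj => Φ.mapDerivedCategory.map g) := by
  obtain ⟨n, hn⟩ := L.property
  haveI : L.obj.IsGE n := hn
  obtain ⟨L₁, _, ⟨e₁⟩⟩ := DerivedCategory.exists_iso_Q_obj_of_isGE L.obj n
  obtain ⟨I, i, _, _, _⟩ :=
    CochainComplex.Plus.modelCategoryQuillen.exists_quasiIso_injective L₁ n
  exact bijective_map_of_iso Φ.mapDerivedCategory (Q.objObjPreimageIso K).symm
    (e₁ ≪≫ asIso (Q.map i)) (bijective_map_Q adj hunit hacyc (Q.objPreimage K) I n)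

end main

end Groth.Agent.Lib.Helper5.DescCrit
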