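import Groth.Agent.Lib.Helper5.DMor
import Groth.Agent.Lib.Helper5.DescCrit
import Groth.Agent.Lib.Helper5.DescConv

/-!
# Cohomological descent passes to retracts of diagrams

* `FFR.ff_of_retract`: if `Φ ⋙ R ≅ Φ'` and `R ⋙ I ≅ 𝟭` for exact functors and `Φ'` is fully
  faithful on the bounded below derived categories, then so is `Φ`;
* `ff_of_cd`, `cd_of_ff`: the condition `CD D` is the full faithfulness of `pullS D` on the bounded
  below derived category;
* `cd_of_retract`: if `Z` is a retract of `Z.comp r` (over the base) and `Z.comp r` is of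
  cohomological descent, so is `Z`.
-/

set_option autoImplicit false

universe w₁ w₂ w₃ v₁ v₂ v₃ u₁ u₂ u₃ u

open CategoryTheory CategoryTheory.Limits Opposite TopologicalSpace

noncomputable section

namespace Groth.Agent.Lib.Helper5.DRetract

/-! ### the abstract statement -/

namespace FFR

variable {𝒜 : Type u₁} [Category.{v₁} 𝒜] [Abelian 𝒜] [HasDerivedCategory.{w₁} 𝒜]
  {ℬ : Type u₂} [Category.{v₂} ℬ] [Abelian ℬ] [HasDerivedCategory.{w₂} ℬ]
  {𝒞 : Type u₃} [Category.{v₃} 𝒞] [Abelian 𝒞] [HasDerivedCategory.{w₃} 𝒞]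
  (Φ : 𝒜 ⥤ ℬ) (Φ' : 𝒜 ⥤ 𝒞) (R : ℬ ⥤ 𝒞) (I : 𝒞 ⥤ ℬ)
  [Φ.Additive] [PreservesFiniteLimits Φ] [PreservesFiniteColimits Φ]
  [Φ'.Additive] [PreservesFiniteLimits Φ'] [PreservesFiniteColimits Φ']
  [R.Additive] [PreservesFiniteLimits R] [PreservesFiniteColimits R]
  [I.Additive] [PreservesFiniteLimits I] [PreservesFiniteColimits I]

open DerivedCategory

/-- the functor induced by a composite on the derived categories -/
def compIso (e₁ : Φ ⋙ R ≅ Φ') :
    Φ.mapDerivedCategory ⋙ R.mapDerivedCategory ≅ Φ'.mapDerivedCategory :=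
  Localization.liftNatIso Q (HomologicalComplex.quasiIso 𝒜 (ComplexShape.up ℤ))
    ((Φ.mapHomologicalComplex (ComplexShape.up ℤ) ⋙ Q) ⋙ R.mapDerivedCategory)
    (Φ'.mapHomologicalComplex (ComplexShape.up ℤ) ⋙ Q) _ _
    (Functor.associator _ _ _ ≪≫
      Functor.isoWhiskerLeft (Φ.mapHomologicalComplex (ComplexShape.up ℤ))
        R.mapDerivedCategoryFactors ≪≫
      (Functor.associator _ _ _).symm ≪≫
      Functor.isoWhiskerRight (Functor.mapHomologicalComplexCompIso e₁ (ComplexShape.up ℤ)) Q)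

/-- the functor induced by a composite isomorphic to the identity on the derived categories -/
def idIso (e₃ : R ⋙ I ≅ 𝟭 ℬ) :
    R.mapDerivedCategory ⋙ I.mapDerivedCategory ≅ 𝟭 (DerivedCategory ℬ) :=
  Localization.liftNatIso Q (HomologicalComplex.quasiIso ℬ (ComplexShape.up ℤ))
    ((R.mapHomologicalComplex (ComplexShape.up ℤ) ⋙ Q) ⋙ I.mapDerivedCategory)
    Q _ _
    (Functor.associator _ _ _ ≪≫
      Functor.isoWhiskerLeft (R.mapHomologicalComplex (ComplexShape.up ℤ))
        I.mapDerivedCategoryFactors ≪≫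
      (Functor.associator _ _ _).symm ≪≫
      Functor.isoWhiskerRight
        (Functor.mapHomologicalComplexCompIso e₃ (ComplexShape.up ℤ) ≪≫
          Functor.mapHomologicalComplexIdIso ℬ (ComplexShape.up ℤ)) Q ≪≫
      Functor.leftUnitor Q)

theorem ff_of_retract (e₁ : Φ ⋙ R ≅ Φ') (e₃ : R ⋙ I ≅ 𝟭 ℬ) (h : DescConv.FF Φ') :
    DescConv.FF Φ := by
  intro K L
  let ε₁ := compIso Φ Φ' R e₁
  let ε₃ := idIso R I e₃
  have key : ∀ g : K.obj ⟶ L.obj, Φ'.mapDerivedCategory.map g =
      ε₁.inv.app K.obj ≫ R.mapDerivedCategory.map (Φ.mapDerivedCategory.map g) ≫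
        ε₁.hom.app L.obj := by
    intro g
    have n : R.mapDerivedCategory.map (Φ.mapDerivedCategory.map g) ≫ ε₁.hom.app L.obj =
        ε₁.hom.app K.obj ≫ Φ'.mapDerivedCategory.map g := ε₁.hom.naturality g
    rw [n, Iso.inv_hom_id_app_assoc]
  have key3 : ∀ {A B : DerivedCategory ℬ} (x : A ⟶ B), x =
      ε₃.inv.app A ≫ I.mapDerivedCategory.map (R.mapDerivedCategory.map x) ≫ ε₃.hom.app B := by
    intro A B x
    have n := ε₃.hom.naturality x
    have n' : (R.mapDerivedCategory ⋙ I.mapDerivedCategory).map x ≫ ε₃.hom.app B =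
        ε₃.hom.app A ≫ x := n
    change x = ε₃.inv.app A ≫ (R.mapDerivedCategory ⋙ I.mapDerivedCategory).map x ≫ ε₃.hom.app B
    rw [n', Iso.inv_hom_id_app_assoc]
  constructor
  · intro g g' hg
    have hg' : Φ.mapDerivedCategory.map g = Φ.mapDerivedCategory.map g' := hg
    apply (h K L).1
    change Φ'.mapDerivedCategory.map g = Φ'.mapDerivedCategory.map g'
    rw [key g, key g', hg']
  · intro k
    obtain ⟨g, hg⟩ := (h K L).2
      (ε₁.inv.app K.obj ≫ R.mapDerivedCategory.map k ≫ ε₁.hom.app L.obj)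
    refine ⟨g, ?_⟩
    have hg' : Φ'.mapDerivedCategory.map g =
        ε₁.inv.app K.obj ≫ R.mapDerivedCategory.map k ≫ ε₁.hom.app L.obj := hg
    rw [key g] at hg'
    have h1 : R.mapDerivedCategory.map (Φ.mapDerivedCategory.map g) =
        R.mapDerivedCategory.map k := by
      have h2 := congrArg (fun t => ε₁.hom.app K.obj ≫ t ≫ ε₁.inv.app L.obj) hg'
      simpa using h2
    change Φ.mapDerivedCategory.map g = k
    rw [key3 (Φ.mapDerivedCategory.map g), key3 k, h1]

end FFR

/-! ### diagrams of spaces -/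

open Groth.Agent.Lib.Helper5.DSite Groth.Agent.Lib.Helper5.DPull Groth.Agent.Lib.Helper5.GermFam
  Groth.Agent.Lib.Helper5.LimPush Groth.Agent.Lib.Helper5.LimAdj Groth.Agent.Lib.Helper5.DCmp
  Groth.Agent.Lib.Helper5.DMor Groth.Agent.Lib.Helper5.DBiMain

attribute [local instance] HasDerivedCategory.standard

variable {I : Type u} [Category.{u} I] {S : TopCat.{u}}

theorem ff_of_cd (D : OverS I S) (h : CD D) : DescConv.FF (pullS D) := by
  have := DBi.pfl_limPush D
  have : (limPush D).Additive := DBiAcyc.additive_limPush' D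
  intro K L
  exact DescCrit.bijective_map (adjL D)
    (fun F => by
      rw [adjL_unit_app]
      exact h.1 F) h.2 K.obj L

theorem cd_of_ff (D : OverS I S) (h : DescConv.FF (pullS D)) : CD D := by
  have := DBi.pfl_limPush D
  have : (limPush D).Additive := DBiAcyc.additive_limPush' D
  refine ⟨fun F => ?_, fun F q => DescConv.isZero_rightDerived_of_FF (adjL D) h F q⟩
  have h1 : IsIso (adjL D).unit := DescConv.isIso_unit_of_FF (adjL D) h
  rw [← adjL_unit_app]
  infer_instance

lemma overS_ext {Y : Iᵒᵖ ⥤ TopCat.{u}}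
    (π π' : ∀ i, Sp Y i ⟶ S) (hπ : ∀ {i j : I} (α : i ⟶ j) (w : Sp Y j), π i (tr Y α w) = π j w)
    (hπ' : ∀ {i j : I} (α : i ⟶ j) (w : Sp Y j), π' i (tr Y α w) = π' j w)
    (h : ∀ i, π i = π' i) :
    ({ Y := Y, π := π, hπ := hπ } : OverS I S) = { Y := Y, π := π', hπ := hπ' } := by
  have h' : π = π' := funext h
  subst h'
  rfl

section retract

variable (Z : OverS I S) {VY : Iᵒᵖ ⥤ TopCat.{u}} (r : VY ⟶ Z.Y)

/-- the direct image to the base of the direct image along a morphism of diagrams -/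
def pushLimIso : pushK r ⋙ limPush Z ≅ limPush (Z.comp r) :=
  NatIso.ofComponents (fun G => Iso.refl _) (by
    intro G G' θ
    apply CategoryTheory.Sheaf.hom_ext
    ext V x
    rfl)

/-- the inverse image from the base of the composite -/
def pullCompIso : pullS Z ⋙ pullK r ≅ pullS (Z.comp r) :=
  ((adjL Z).comp (adjK r)).leftAdjointUniq
    ((adjL (Z.comp r)).ofNatIsoRight (pushLimIso Z r).symm)

variable (i : Z.Y ⟶ VY) (hir : i ≫ r = 𝟙 Z.Y)

include hir in
lemma r_i_apply (k : I) (w : Sp Z.Y k) : κa r k (κa i k w) = w := by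
  have h := congrArg (fun t : Z.Y ⟶ Z.Y => t.app (op k)) hir
  exact ConcreteCategory.congr_hom h w

/-- the composite of the functors between the sites is isomorphic to the identity -/
def TκIso : Tκ r ⋙ Tκ i ≅ 𝟭 (Obj Z.Y) :=
  NatIso.ofComponents (fun A =>
    { hom := mkHom (A := (Tκ r ⋙ Tκ i).obj A) (B := A) (𝟙 A.i) (fun w hw => by
        have h := tr_id_apply Z.Y A.i w
        have hw' : κa r A.i (κa i A.i w) ∈ A.U := hw
        rw [r_i_apply Z r i hir] at hw'
        change tr Z.Y (𝟙 A.i) w ∈ A.U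
        rw [h]
        exact hw')
      inv := mkHom (A := A) (B := (Tκ r ⋙ Tκ i).obj A) (𝟙 A.i) (fun w hw => by
        have h := tr_id_apply Z.Y A.i w
        change κa r A.i (κa i A.i (tr Z.Y (𝟙 A.i) w)) ∈ A.U
        rw [h, r_i_apply Z r i hir]
        exact hw)
      hom_inv_id := DSite.hom_ext (Category.comp_id _)
      inv_hom_id := DSite.hom_ext (Category.comp_id _) })
    (by
      intro A B m
      exact DSite.hom_ext ((Category.id_comp _).trans (Category.comp_id _).symm))

/-- the composite of the direct images is isomorphic to the identity -/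
def pushPushIso : pushK i ⋙ pushK r ≅ 𝟭 (Sh Z.Y) :=
  NatIso.ofComponents (fun G =>
    (fullyFaithfulSheafToPresheaf _ _).preimageIso
      (NatIso.ofComponents
        (fun A => (G.obj.mapIso ((TκIso Z r i hir).app A.unop).op).symm) (by
          intro A B m
          change G.obj.map ((Tκ r ⋙ Tκ i).map m.unop).op ≫
              G.obj.map ((TκIso Z r i hir).inv.app B.unop).op =
            G.obj.map ((TκIso Z r i hir).inv.app A.unop).op ≫ G.obj.map m
          rw [← G.obj.map_comp, ← G.obj.map_comp]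
          congr 1
          have h := (TκIso Z r i hir).inv.naturality m.unop
          exact congrArg Quiver.Hom.op h.symm)))
    (by
      intro G G' θ
      apply CategoryTheory.Sheaf.hom_ext
      ext A s
      exact (NatTrans.naturality_apply θ.hom ((TκIso Z r i hir).inv.app A.unop).op s).symm)

/-- the composite of the inverse images is isomorphic to the identity -/
def pullPullIso : pullK r ⋙ pullK i ≅ 𝟭 (Sh Z.Y) :=
  ((adjK r).comp (adjK i)).leftAdjointUniq
    (Adjunction.id.ofNatIsoRight (pushPushIso Z r i hir).symm)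

include hir in
/-- **cohomological descent passes to retracts** -/
theorem cd_of_retract (h : CD (Z.comp r)) : CD Z :=
  cd_of_ff Z (FFR.ff_of_retract (pullS Z) (pullS (Z.comp r)) (pullK r) (pullK i)
    (pullCompIso Z r) (pullPullIso Z r i hir) (ff_of_cd _ h))

end retract

/-- cohomological descent is invariant under isomorphisms of diagrams over the base -/
theorem cd_of_iso (Z V : OverS I S) (e : Z.Y ≅ V.Y)
    (he : ∀ (k : I) (w : Sp Z.Y k), V.π k (e.hom.app (op k) w) = Z.π k w) (h : CD V) : CD Z := by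
  have hV : V = Z.comp e.inv := by
    obtain ⟨VY, Vπ, Vhπ⟩ := V
    refine overS_ext (Y := VY) Vπ (Z.comp e.inv).π Vhπ (fun {_ _} α w => (Z.comp e.inv).hπ α w)
      (fun k => ?_)
    refine ConcreteCategory.hom_ext _ _ (fun w => ?_)
    have h1 := he k (e.inv.app (op k) w)
    have h2 : e.hom.app (op k) (e.inv.app (op k) w) = w :=
      ConcreteCategory.congr_hom (e.inv_hom_id_app (op k)) w
    rw [h2] at h1
    exact h1
  exact cd_of_retract Z e.inv e.hom e.hom_inv_id (CD.congr hV h)

end Groth.Agent.Lib.Helper5.DRetract
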