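import Groth.Prelude.Def_DeltaF
import Mathlib.Algebra.Homology.HomologySequenceLemmas

/-!
# The δ-functor attached to an exact functor into `ℕ`-indexed cochain complexes

If `Φ : A ⥤ CochainComplex B ℕ` is additive and sends short exact sequences to short exact
sequences of complexes, then `n ↦ H^n ∘ Φ` is a cohomological δ-functor, and `H^0 ∘ Φ` preserves
monomorphisms of short exact sequences (`ZeroMono`).
-/

set_option autoImplicit false

universe v u v' u'

open CategoryTheory CategoryTheory.Limits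

noncomputable section

namespace Groth.Agent.Lib.Helper5.CxDeltaNat

section Mono

variable {B : Type u'} [Category.{v'} B] [Abelian B]

/-- a degreewise monomorphism of `ℕ`-indexed cochain complexes induces a monomorphism on `H^0` -/
lemma mono_homologyMap_zero {K L : CochainComplex B ℕ} (φ : K ⟶ L) [Mono (φ.f 0)] :
    Mono (HomologicalComplex.homologyMap φ 0) := by
  have hK : IsIso (K.homologyπ 0) :=
    K.isIso_homologyπ 0 0 (by simp) (K.shape _ _ (by simp))
  have hL : IsIso (L.homologyπ 0) :=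
    L.isIso_homologyπ 0 0 (by simp) (L.shape _ _ (by simp))
  have : Mono (HomologicalComplex.cyclesMap φ 0) := by
    have h : HomologicalComplex.cyclesMap φ 0 ≫ L.iCycles 0 = K.iCycles 0 ≫ φ.f 0 :=
      HomologicalComplex.cyclesMap_i φ 0
    have : Mono (HomologicalComplex.cyclesMap φ 0 ≫ L.iCycles 0) := by
      rw [h]
      infer_instance
    exact mono_of_mono _ (L.iCycles 0)
  have h2 : HomologicalComplex.homologyMap φ 0 =
      inv (K.homologyπ 0) ≫ HomologicalComplex.cyclesMap φ 0 ≫ L.homologyπ 0 := by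
    rw [IsIso.eq_inv_comp]
    exact HomologicalComplex.homologyπ_naturality φ 0
  rw [h2]
  infer_instance

/-- exactness from a contracting homotopy in one degree -/
lemma exact_of_contraction (S : ShortComplex B) (r : S.X₂ ⟶ S.X₁) (s : S.X₃ ⟶ S.X₂)
    (h : r ≫ S.f + S.g ≫ s = 𝟙 S.X₂) : S.Exact := by
  rw [S.exact_iff_kernel_ι_comp_cokernel_π_zero]
  have h1 : kernel.ι S.g ≫ cokernel.π S.f =
      kernel.ι S.g ≫ (r ≫ S.f + S.g ≫ s) ≫ cokernel.π S.f := by
    rw [h, Category.id_comp]
  rw [h1, Preadditive.add_comp, Preadditive.comp_add, Category.assoc, cokernel.condition,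
    comp_zero, comp_zero, zero_add, Category.assoc, kernel.condition_assoc, zero_comp]

/-- vanishing of the cohomology of a cochain complex from a contracting homotopy in one degree -/
lemma isZero_homology_of_contraction (K : CochainComplex B ℕ) (n : ℕ)
    (r : K.X (n + 1) ⟶ K.X n) (s : K.X (n + 2) ⟶ K.X (n + 1))
    (h : r ≫ K.d n (n + 1) + K.d (n + 1) (n + 2) ≫ s = 𝟙 (K.X (n + 1))) :
    IsZero (K.homology (n + 1)) := by
  rw [← HomologicalComplex.exactAt_iff_isZero_homology,
    HomologicalComplex.exactAt_iff' K n (n + 1) (n + 2) (by simp) (by simp)]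
  exact exact_of_contraction (K.sc' n (n + 1) (n + 2)) r s h

end Mono

variable {A : Type u} [Category.{v} A] [Abelian A] {B : Type u'} [Category.{v'} B] [Abelian B]
  (Φ : A ⥤ CochainComplex B ℕ) [Φ.Additive]
  (hΦ : ∀ S : ShortComplex A, S.ShortExact → (S.map Φ).ShortExact)

/-- The δ-functor `n ↦ H^n ∘ Φ`. -/
def cxDelta : DeltaF.CohDeltaFunctor A B ℕ where
  F n := Φ ⋙ HomologicalComplex.homologyFunctor B (ComplexShape.up ℕ) n
  additive n := inferInstance
  δ S hS n₀ n₁ h := (hΦ S hS).δ n₀ n₁ h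
  δ_natural {S S'} hS hS' φ n₀ n₁ h :=
    (HomologicalComplex.HomologySequence.δ_naturality (Φ.mapShortComplex.map φ) (hΦ S hS)
      (hΦ S' hS') n₀ n₁ h).symm
  exact₂ S hS n := (hΦ S hS).homology_exact₂ n
  comp_δ S hS n₀ n₁ h := (hΦ S hS).comp_δ n₀ n₁ h
  exact₃ S hS n₀ n₁ h := (hΦ S hS).homology_exact₃ n₀ n₁ h
  δ_comp S hS n₀ n₁ h := (hΦ S hS).δ_comp n₀ n₁ h
  exact₁ S hS n₀ n₁ h := (hΦ S hS).homology_exact₁ n₀ n₁ h

lemma cxDelta_F (n : ℕ) : (cxDelta Φ hΦ).F n =
    Φ ⋙ HomologicalComplex.homologyFunctor B (ComplexShape.up ℕ) n := rfl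

lemma zeroMono : (cxDelta Φ hΦ).ZeroMono := by
  intro S hS
  have h1 : (S.map Φ).ShortExact := hΦ S hS
  have : Mono (Φ.map S.f) := h1.mono_f
  have : Mono ((Φ.map S.f).f 0) := inferInstance
  exact mono_homologyMap_zero (Φ.map S.f)

end Groth.Agent.Lib.Helper5.CxDeltaNat
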