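import Groth.Agent.Lib.Helper5.GrothSS
import Groth.Agent.Lib.Helper5.AcyclicRes

/-
Helper5: naturality of the isomorphisms `Φⁿ(Q K) ≅ Hⁿ(S L)`, the natural isomorphism
`S ≅ H⁰(S(-[0]))`, the long exact sequence of `Φ` for a short exact sequence of objects,
`S`-acyclic objects form a class adapted to a left exact `S` (`isAdapted_acyc`), and
Leray's acyclicity lemma `Φⁿ(Q K) ≅ Hⁿ(S K)` (`nonempty_PhiIsoOfAcyc`).
-/

set_option autoImplicit false
set_option maxSynthPendingDepth 3

open CategoryTheory Limits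

namespace Groth.Agent.Lib.Helper5.GrothSS

open Groth.Agent.Lib.Helper8.RDPlus

universe w v v' u u'

variable {B : Type u} [Category.{v} B] [Abelian B] [HasDerivedCategory.{w} B] [EnoughInjectives B]
  {E : Type u'} [Category.{v'} E] [Abelian E]
  (S : B ⥤ E) [S.Additive]

section Nat

omit [Abelian B] [HasDerivedCategory B] [EnoughInjectives B] [Abelian E] [S.Additive] in
lemma nat_aux {C D : Type*} [Category C] [Category D] (G : C ⥤ D) {X X' Y Y' : C} {Z Z' : D}
    (a : X ⟶ X') (u' : X' ⟶ Y') (u : X ⟶ Y) (q : Y ⟶ Y') (F' : G.obj Y' ⟶ Z') (F : G.obj Y ⟶ Z)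
    (m : Z ⟶ Z') (h1 : a ≫ u' = u ≫ q) (h2 : G.map q ≫ F' = F ≫ m) :
    G.map a ≫ (G.map u' ≫ F') = (G.map u ≫ F) ≫ m := by
  rw [← Category.assoc, ← G.map_comp, h1, G.map_comp, Category.assoc, h2, Category.assoc]

omit [Abelian B] [HasDerivedCategory B] [EnoughInjectives B] [Abelian E] [S.Additive] in
lemma nat_aux2 {D : Type*} [Category D] {X X' Y Y' Z Z' : D} (s : X ⟶ X') (a' : X' ⟶ Y')
    (a : X ⟶ Y) (h : Y ⟶ Y') (i' : Y' ⟶ Z') (i : Y ⟶ Z) (m : Z ⟶ Z') (n1 : s ≫ a' = a ≫ h)
    (n2 : h ≫ i' = i ≫ m) : s ≫ (a' ≫ i') = (a ≫ i) ≫ m := by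
  rw [← Category.assoc, n1, Category.assoc, n2, Category.assoc]

lemma PhiRhoIso_naturality {L L' : CochainComplex.Plus (InjectiveObject B)} (ψ : L ⟶ L') (n : ℤ) :
    ((Phi S).shift n).map ((rho B).map ((HomotopyCategory.Plus.quotient _).map ψ)) ≫
      (PhiRhoIso S L' n).hom =
    (PhiRhoIso S L n).hom ≫ HomologicalComplex.homologyMap
      (((InjectiveObject.ι B ⋙ S).mapHomologicalComplex (ComplexShape.up ℤ)).map ψ.hom) n := by
  let G := gam S ⋙ HomotopyCategory.homologyFunctor E (ComplexShape.up ℤ) n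
  let q := (HomotopyCategory.Plus.quotient (InjectiveObject B)).map ψ
  let FF := HomotopyCategory.homologyFunctorFactors E (ComplexShape.up ℤ) n
  have h1 : (eqv (B := B)).inverse.map ((eqv (B := B)).functor.map q) ≫
      (eqv (B := B)).unitIso.inv.app _ = (eqv (B := B)).unitIso.inv.app _ ≫ q :=
    (eqv (B := B)).unitIso.inv.naturality q
  have h2 : G.map q ≫ FF.hom.app (SL S L') = FF.hom.app (SL S L) ≫
      HomologicalComplex.homologyMap
        (((InjectiveObject.ι B ⋙ S).mapHomologicalComplex (ComplexShape.up ℤ)).map ψ.hom) n :=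
    FF.hom.naturality
      (((InjectiveObject.ι B ⋙ S).mapHomologicalComplex (ComplexShape.up ℤ)).map ψ.hom)
  exact nat_aux G _ _ _ _ _ _ _ h1 h2

lemma PhiIso_naturality {L L' : CochainComplex.Plus (InjectiveObject B)}
    {Y Y' : DerivedCategory.Plus B} (e : rhoQ L ≅ Y) (e' : rhoQ L' ≅ Y') (ψ : L ⟶ L') (f : Y ⟶ Y')
    (h : e.hom ≫ f = (rho B).map ((HomotopyCategory.Plus.quotient _).map ψ) ≫ e'.hom) (n : ℤ) :
    ((Phi S).shift n).map f ≫ (PhiIso S L' e' n).hom =
      (PhiIso S L e n).hom ≫ HomologicalComplex.homologyMap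
        (((InjectiveObject.ι B ⋙ S).mapHomologicalComplex (ComplexShape.up ℤ)).map ψ.hom) n := by
  have h' : f ≫ e'.inv = e.inv ≫ (rho B).map ((HomotopyCategory.Plus.quotient _).map ψ) := by
    rw [← cancel_mono e'.hom, Category.assoc, Category.assoc, Iso.inv_hom_id, Category.comp_id,
      ← h, Iso.inv_hom_id_assoc]
  exact nat_aux ((Phi S).shift n) f e'.inv e.inv _ _ _ _ h' (PhiRhoIso_naturality S ψ n)

/-- A morphism between bounded below complexes with injective terms, as a morphism in
`Ch⁺(Inj B)`. -/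
noncomputable def liftInjMap {L L' : CochainComplex B ℤ} (a a' : ℤ) [L.IsStrictlyGE a]
    [L'.IsStrictlyGE a'] [∀ n, Injective (L.X n)] [∀ n, Injective (L'.X n)] (ψ : L ⟶ L') :
    liftInj L a ⟶ liftInj L' a' :=
  ObjectProperty.homMk
    { f := fun n => ObjectProperty.homMk (ψ.f n)
      comm' := fun i j _ => by
        apply ObjectProperty.hom_ext
        exact ψ.comm i j }

lemma PhiIsoOfQuasiIso_naturality {K K' : CochainComplex.Plus B} (g : K ⟶ K')
    {L L' : CochainComplex B ℤ} (a a' : ℤ) [L.IsStrictlyGE a] [L'.IsStrictlyGE a']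
    [∀ n, Injective (L.X n)] [∀ n, Injective (L'.X n)]
    (φ : K.obj ⟶ L) (φ' : K'.obj ⟶ L') [QuasiIso φ] [QuasiIso φ'] (ψ : L ⟶ L')
    (h : φ ≫ ψ = g.hom ≫ φ') (n : ℤ) :
    ((Phi S).shift n).map (DerivedCategory.Plus.Q.map g) ≫
        (PhiIsoOfQuasiIso S K' L' a' φ' n).hom =
      (PhiIsoOfQuasiIso S K L a φ n).hom ≫ HomologicalComplex.homologyMap
        ((S.mapHomologicalComplex (ComplexShape.up ℤ)).map ψ) n := by
  refine PhiIso_naturality S (rhoQIsoOfQuasiIso K L a φ) (rhoQIsoOfQuasiIso K' L' a' φ')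
    (liftInjMap a a' ψ) (DerivedCategory.Plus.Q.map g) ?_ n
  apply DerivedCategory.Plus.ι.map_injective
  have : IsIso (DerivedCategory.Q.map φ) :=
    (DerivedCategory.isIso_Q_map_iff_quasiIso (C := B) φ).2 inferInstance
  have : IsIso (DerivedCategory.Q.map φ') :=
    (DerivedCategory.isIso_Q_map_iff_quasiIso (C := B) φ').2 inferInstance
  have h3 : inv (DerivedCategory.Q.map φ) ≫ DerivedCategory.Q.map g.hom =
      DerivedCategory.Q.map ψ ≫ inv (DerivedCategory.Q.map φ') := by
    rw [IsIso.inv_comp_eq, ← Category.assoc, IsIso.eq_comp_inv, ← Functor.map_comp,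
      ← Functor.map_comp, h]
  have e1 : DerivedCategory.Plus.ι.map (rhoQIsoOfQuasiIso K L a φ).hom =
      inv (DerivedCategory.Q.map φ) := Functor.map_preimage _ _
  have e2 : DerivedCategory.Plus.ι.map (rhoQIsoOfQuasiIso K' L' a' φ').hom =
      inv (DerivedCategory.Q.map φ') := Functor.map_preimage _ _
  rw [Functor.map_comp, Functor.map_comp, e1, e2]
  exact h3

end Nat

section LeftExact

omit [HasDerivedCategory B] [EnoughInjectives B] in
/-- `S ≅ H⁰(S(-[0]))`. -/
noncomputable def singleH0NatIso :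
    S ≅ CochainComplex.singleFunctor B 0 ⋙ S.mapHomologicalComplex (ComplexShape.up ℤ) ⋙
      HomologicalComplex.homologyFunctor E (ComplexShape.up ℤ) 0 :=
  S.rightUnitor.symm ≪≫
    Functor.isoWhiskerLeft S
      (HomologicalComplex.homologyFunctorSingleIso E (ComplexShape.up ℤ) 0).symm ≪≫
    (Functor.associator _ _ _).symm ≪≫
    Functor.isoWhiskerRight (S.mapCochainComplexSingleFunctor 0).symm _ ≪≫
    Functor.associator _ _ _

variable [PreservesFiniteLimits S]

omit [HasDerivedCategory B] [EnoughInjectives B] in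
lemma isIso_homologyMap_map_ι' {M : B} (R : InjectiveResolution M) :
    IsIso (HomologicalComplex.homologyMap
      ((S.mapHomologicalComplex (ComplexShape.up ℤ)).map R.ι') 0) :=
  LeftExactH0.isIso_homologyMap_zero S R.ι'
    (by rw [← quasiIsoAt_iff_isIso_homologyMap]; infer_instance)

omit [HasDerivedCategory B] [EnoughInjectives B] in
/-- `S(M) ≅ H⁰(S R)` for an injective resolution `R` of `M`. -/
noncomputable def resH0Iso {M : B} (R : InjectiveResolution M) :
    S.obj M ≅ ((S.mapHomologicalComplex (ComplexShape.up ℤ)).obj R.cochainComplex).homology 0 :=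
  (singleH0NatIso S).app M ≪≫ @asIso _ _ _ _ (HomologicalComplex.homologyMap
      ((S.mapHomologicalComplex (ComplexShape.up ℤ)).map R.ι') 0) (isIso_homologyMap_map_ι' S R)

omit [HasDerivedCategory B] [EnoughInjectives B] in
lemma resH0Iso_naturality {M M' : B} {g : M ⟶ M'} {R : InjectiveResolution M}
    {R' : InjectiveResolution M'} (φ : InjectiveResolution.Hom R R' g) :
    S.map g ≫ (resH0Iso S R').hom = (resH0Iso S R).hom ≫ HomologicalComplex.homologyMap
      ((S.mapHomologicalComplex (ComplexShape.up ℤ)).map φ.hom') 0 := by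
  have n1 : S.map g ≫ (singleH0NatIso S).hom.app M' = (singleH0NatIso S).hom.app M ≫
      HomologicalComplex.homologyMap ((S.mapHomologicalComplex (ComplexShape.up ℤ)).map
        ((CochainComplex.singleFunctor B 0).map g)) 0 := (singleH0NatIso S).hom.naturality g
  have n2 : HomologicalComplex.homologyMap ((S.mapHomologicalComplex (ComplexShape.up ℤ)).map
        ((CochainComplex.singleFunctor B 0).map g)) 0 ≫
      HomologicalComplex.homologyMap ((S.mapHomologicalComplex (ComplexShape.up ℤ)).map R'.ι') 0 =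
      HomologicalComplex.homologyMap ((S.mapHomologicalComplex (ComplexShape.up ℤ)).map R.ι') 0 ≫
      HomologicalComplex.homologyMap ((S.mapHomologicalComplex (ComplexShape.up ℤ)).map φ.hom') 0 := by
    rw [← HomologicalComplex.homologyMap_comp, ← HomologicalComplex.homologyMap_comp,
      ← Functor.map_comp, ← Functor.map_comp, InjectiveResolution.Hom.ι'_comp_hom']
  exact nat_aux2 _ _ _ _ _ _ _ n1 n2

end LeftExact

section SES

open Pretriangulated

/-- The morphism `M[0] ⟶ M'[0]` of bounded below complexes. -/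
noncomputable def singlePlusMap {M M' : B} (g : M ⟶ M') : singlePlus M ⟶ singlePlus M' :=
  ObjectProperty.homMk ((CochainComplex.singleFunctor B 0).map g)

variable (X : ShortComplex B) (hX : X.ShortExact)

omit [HasDerivedCategory B] [EnoughInjectives B] in
lemma singlePlusMap_zero : (singlePlusMap X.f).hom ≫ (singlePlusMap X.g).hom = 0 := by
  show (CochainComplex.singleFunctor B 0).map X.f ≫ (CochainComplex.singleFunctor B 0).map X.g = 0
  rw [← Functor.map_comp, X.zero, Functor.map_zero]

include hX in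
omit [HasDerivedCategory B] [EnoughInjectives B] in
lemma singlePlus_shortExact :
    (ShortComplex.mk (singlePlusMap X.f).hom (singlePlusMap X.g).hom
      (singlePlusMap_zero X)).ShortExact :=
  hX.map_of_exact (HomologicalComplex.single B (ComplexShape.up ℤ) 0)

/-- The distinguished triangle `M'[0] ⟶ M[0] ⟶ M''[0] ⟶` in `D⁺(B)` attached to a short exact
sequence. -/
noncomputable def singleTriangle : Triangle (DerivedCategory.Plus B) :=
  plusTriangleOfSES (singlePlusMap X.f) (singlePlusMap X.g) (singlePlusMap_zero X)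
    (singlePlus_shortExact X hX)

lemma singleTriangle_distinguished :
    singleTriangle X hX ∈ distTriang (DerivedCategory.Plus B) :=
  plusTriangleOfSES_distinguished _ _ _ _

omit [EnoughInjectives B] in
lemma singleTriangle_mor₂ : (singleTriangle X hX).mor₂ =
    (DerivedCategory.Plus.singleFunctor B 0).map X.g := rfl

end SES

section Acyc

variable [HasInjectiveResolutions B]

/-- `S`-acyclic objects: `RᵏS(M) = 0` for all `k > 0`. -/
def Acyc (M : B) : Prop := ∀ k : ℕ, IsZero ((S.rightDerived (k + 1)).obj M)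

lemma acyc_iff (M : B) : Acyc S M ↔ ∀ n : ℤ, 0 < n →
    IsZero (((Phi S).shift n).obj ((DerivedCategory.Plus.singleFunctor B 0).obj M)) := by
  constructor
  · intro h n hn
    obtain ⟨k, rfl⟩ : ∃ k : ℕ, n = ((k + 1 : ℕ) : ℤ) := ⟨(n - 1).toNat, by lia⟩
    exact (h k).of_iso (PhiSingleIsoRightDerived S M (k + 1))
  · intro h k
    exact (h ((k + 1 : ℕ) : ℤ) (by lia)).of_iso (PhiSingleIsoRightDerived S M (k + 1)).symm

omit [HasInjectiveResolutions B] in
lemma epi_iff_of_sq {D : Type*} [Category D] {X Y X' Y' : D} (a : X ⟶ Y) (m : X' ⟶ Y')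
    (e : X ≅ X') (e' : Y ≅ Y') (h : a ≫ e'.hom = e.hom ≫ m) : Epi a ↔ Epi m := by
  constructor
  · intro _
    have : m = e.inv ≫ a ≫ e'.hom := by rw [h, Iso.inv_hom_id_assoc]
    rw [this]; infer_instance
  · intro _
    have : a = e.hom ≫ m ≫ e'.inv := by rw [← Category.assoc, ← h, Category.assoc,
      Iso.hom_inv_id, Category.comp_id]
    rw [this]; infer_instance

variable (X : ShortComplex B) (hX : X.ShortExact)

include hX in
lemma acyc_coker (h1 : Acyc S X.X₁) (h2 : Acyc S X.X₂) : Acyc S X.X₃ := by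
  rw [acyc_iff] at h1 h2 ⊢
  intro n hn
  exact ((Phi S).homologySequence_exact₃ _ (singleTriangle_distinguished X hX) n (n + 1)
    rfl).isZero_of_both_zeros ((h2 n hn).eq_of_src _ _) ((h1 (n + 1) (by lia)).eq_of_tgt _ _)

include hX in
lemma epi_map_of_acyc [PreservesFiniteLimits S] (h1 : Acyc S X.X₁) : Epi (S.map X.g) := by
  rw [acyc_iff] at h1
  have hδ : (Phi S).homologySequenceδ (singleTriangle X hX) 0 1 rfl = 0 :=
    (h1 1 (by lia)).eq_of_tgt _ _
  have hepi : Epi (((Phi S).shift (0 : ℤ)).map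
      ((DerivedCategory.Plus.singleFunctor B 0).map X.g)) :=
    ((Phi S).homologySequence_epi_shift_map_mor₂_iff _ (singleTriangle_distinguished X hX) 0 1
      rfl).2 hδ
  let R := Classical.choice (HasInjectiveResolution.out (Z := X.X₂))
  let R' := Classical.choice (HasInjectiveResolution.out (Z := X.X₃))
  let φ : InjectiveResolution.Hom R R' X.g :=
    ⟨InjectiveResolution.desc X.g R' R, by
      simpa using InjectiveResolution.desc_commutes_zero X.g R' R⟩
  have n1 := PhiIsoOfQuasiIso_naturality S (singlePlusMap X.g) 0 0 R.ι' R'.ι' φ.hom'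
    (InjectiveResolution.Hom.ι'_comp_hom' φ) 0
  have n2 := resH0Iso_naturality S φ
  exact (epi_iff_of_sq _ _ _ _ n2).2 ((epi_iff_of_sq _ _ _ _ n1).1 hepi)

instance (n : ℤ) : ((Phi S).shift n).IsHomological := by
  rw [Phi_shift]; infer_instance

lemma isAdapted_acyc [PreservesFiniteLimits S] : AcyclicRes.IsAdapted S (Acyc S) where
  of_isZero M hM := by
    rw [acyc_iff]
    intro n _
    exact Functor.map_isZero _ (Functor.map_isZero _ hM)
  of_iso e h k := (h k).of_iso ((S.rightDerived (k + 1)).mapIso e.symm)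
  biprod M N hM hN := by
    rw [acyc_iff] at hM hN ⊢
    intro n hn
    have := preservesBinaryBiproducts_of_preservesBiproducts
      (DerivedCategory.Plus.singleFunctor B 0 ⋙ (Phi S).shift n)
    refine IsZero.of_iso ?_
      ((DerivedCategory.Plus.singleFunctor B 0 ⋙ (Phi S).shift n).mapBiprod M N)
    exact (biprod_isZero_iff _ _).2 ⟨hM n hn, hN n hn⟩
  of_injective M _ k := Functor.isZero_rightDerived_obj_injective_succ S k M
  epi_map X hX h := epi_map_of_acyc S X hX h
  coker X hX h1 h2 := acyc_coker S X hX h1 h2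

/-- Leray's acyclicity lemma: `Φⁿ(Q K) ≅ Hⁿ(S K)` for a bounded below complex `K` with
`S`-acyclic terms. -/
lemma nonempty_PhiIsoOfAcyc [PreservesFiniteLimits S] (K : CochainComplex B ℤ) (a : ℤ)
    [K.IsStrictlyGE a] (hK : ∀ n, Acyc S (K.X n)) (n : ℤ) :
    Nonempty (((Phi S).shift n).obj (DerivedCategory.Plus.Q.obj ⟨K, a, inferInstance⟩) ≅
      ((S.mapHomologicalComplex (ComplexShape.up ℤ)).obj K).homology n) := by
  obtain ⟨L, j, _, _, _⟩ := CochainComplex.Plus.modelCategoryQuillen.exists_quasiIso_injective K a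
  have : QuasiIso ((S.mapHomologicalComplex (ComplexShape.up ℤ)).map j) :=
    (isAdapted_acyc S).quasiIso_map a hK j
  exact ⟨PhiIsoOfQuasiIso S ⟨K, a, inferInstance⟩ L a j n ≪≫
    (asIso (HomologicalComplex.homologyMap
      ((S.mapHomologicalComplex (ComplexShape.up ℤ)).map j) n)).symm⟩

end Acyc

end Groth.Agent.Lib.Helper5.GrothSS
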