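import Mathlib.CategoryTheory.Triangulated.TStructure.TruncLTGE
import Mathlib.CategoryTheory.Triangulated.HomologicalFunctor

set_option autoImplicit false
set_option maxSynthPendingDepth 3

open CategoryTheory Limits Pretriangulated

namespace Groth.Agent.Lib.Helper5.TruncHom

variable {C : Type*} [Category C] [Preadditive C] [HasZeroObject C] [HasShift C ℤ]
  [∀ (n : ℤ), (shiftFunctor C n).Additive] [Pretriangulated C]
  {A : Type*} [Category A] [Abelian A]
  (t : Triangulated.TStructure C) (F : C ⥤ A) [F.IsHomological] [F.ShiftSequence ℤ]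
  (vGE : ∀ (X : C) (n i : ℤ), t.IsGE X n → i < n → IsZero ((F.shift i).obj X))
  (vLE : ∀ (X : C) (n i : ℤ), t.IsLE X n → n < i → IsZero ((F.shift i).obj X))

include vGE in
lemma isIso_map_truncLTι (K : C) (q n : ℤ) (hq : q < n) :
    IsIso ((F.shift q).map ((t.truncLTι n).app K)) := by
  have hT := t.triangleLTGE_distinguished n K
  have h3 : ∀ i, i < n → IsZero ((F.shift i).obj ((t.truncGE n).obj K)) :=
    fun i hi => vGE _ n i inferInstance hi
  have : Mono ((F.shift q).map ((t.truncLTι n).app K)) :=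
    (F.homologySequence_mono_shift_map_mor₁_iff _ hT (q - 1) q (by lia)).2
      ((h3 (q - 1) (by lia)).eq_of_src _ _)
  have : Epi ((F.shift q).map ((t.truncLTι n).app K)) :=
    (F.homologySequence_epi_shift_map_mor₁_iff _ hT q).2 ((h3 q hq).eq_of_tgt _ _)
  exact isIso_of_mono_of_epi _

include vLE in
lemma isIso_map_truncGEπ (K : C) (q n : ℤ) (hq : n ≤ q) :
    IsIso ((F.shift q).map ((t.truncGEπ n).app K)) := by
  have hT := t.triangleLTGE_distinguished n K
  have h1 : ∀ i, n ≤ i → IsZero ((F.shift i).obj ((t.truncLT n).obj K)) :=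
    fun i hi => vLE _ (n - 1) i inferInstance (by lia)
  have : Mono ((F.shift q).map ((t.truncGEπ n).app K)) :=
    (F.homologySequence_mono_shift_map_mor₂_iff _ hT q).2 ((h1 q hq).eq_of_src _ _)
  have : Epi ((F.shift q).map ((t.truncGEπ n).app K)) :=
    (F.homologySequence_epi_shift_map_mor₂_iff _ hT q (q + 1) rfl).2
      ((h1 (q + 1) (by lia)).eq_of_tgt _ _)
  exact isIso_of_mono_of_epi _

include vGE vLE in
/-- `Fᵠ(K) ≅ Fᵠ(τ_{≥ q} τ_{< q+1} K)`. -/
noncomputable def truncIso (K : C) (q : ℤ) :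
    (F.shift q).obj K ≅ (F.shift q).obj ((t.truncGE q).obj ((t.truncLT (q + 1)).obj K)) :=
  haveI := isIso_map_truncLTι t F vGE K q (q + 1) (by lia)
  haveI := isIso_map_truncGEπ t F vLE ((t.truncLT (q + 1)).obj K) q q le_rfl
  (asIso ((F.shift q).map ((t.truncLTι (q + 1)).app K))).symm ≪≫
    asIso ((F.shift q).map ((t.truncGEπ q).app ((t.truncLT (q + 1)).obj K)))

end Groth.Agent.Lib.Helper5.TruncHom
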