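import Groth.Agent.Lib.Helper8.RDPlusComp
import Mathlib.CategoryTheory.Triangulated.Adjunction
import Mathlib.Algebra.Homology.HomotopyCategory.HomologicalFunctor
import Mathlib.CategoryTheory.Triangulated.TStructure.SpectralObject
import Mathlib.Algebra.Homology.SpectralObject.HasSpectralSequence
import Groth.Agent.Lib.Helper5.SpObjHom
import Groth.Agent.Lib.Helper5.DerBridge
import Groth.Agent.Lib.Helper5.TruncHom
import Mathlib.Algebra.Homology.DerivedCategory.FullyFaithful

/-
Helper5: the homological functor `Φ = H⁰ ∘ RS : D⁺(B) ⥤ E` attached to an additive functor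
`S : B ⥤ E` (via the equivalence `K⁺(Inj B) ≌ D⁺(B)` of `Helper8.RDPlus`), the first quadrant
spectral object `(i ≤ j) ↦ Φⁿ(τ_{≥ i} τ_{< j} K)` for `K ∈ D^{≥ 0}(B)`, and the identification
of its `E₂`-terms with `RᵖS(Hᵠ K)`.
-/

set_option autoImplicit false
set_option maxSynthPendingDepth 3

open CategoryTheory Limits

namespace Groth.Agent.Lib.Helper5.GrothSS

open Groth.Agent.Lib.Helper8.RDPlus

universe w v v' u u'

variable {B : Type u} [Category.{v} B] [Abelian B] [HasDerivedCategory.{w} B] [EnoughInjectives B]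
  {E : Type u'} [Category.{v'} E] [Abelian E]
  (S : B ⥤ E) [S.Additive]

/-- The equivalence `K⁺(Inj B) ≌ D⁺(B)`. -/
noncomputable def eqv : HomotopyCategory.Plus (InjectiveObject B) ≌ DerivedCategory.Plus B :=
  (rho B).asEquivalence

noncomputable instance : (eqv (B := B)).functor.CommShift ℤ :=
  inferInstanceAs ((rho B).CommShift ℤ)

noncomputable instance : (eqv (B := B)).inverse.CommShift ℤ := (eqv (B := B)).commShiftInverse ℤ

instance : (eqv (B := B)).CommShift ℤ := (eqv (B := B)).commShift_of_functor ℤ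

instance : (eqv (B := B)).functor.IsTriangulated :=
  inferInstanceAs (rho B).IsTriangulated

instance : (eqv (B := B)).IsTriangulated := Equivalence.IsTriangulated.mk' _ inferInstance

/-- `K⁺(Inj B) ⥤ K(E)`, `J ↦ S(J)`. -/
noncomputable def gam :
    HomotopyCategory.Plus (InjectiveObject B) ⥤ HomotopyCategory E (ComplexShape.up ℤ) :=
  HomotopyCategory.Plus.ι (InjectiveObject B) ⋙
    (InjectiveObject.ι B ⋙ S).mapHomotopyCategory (ComplexShape.up ℤ)

noncomputable instance : (gam S).CommShift ℤ := by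
  dsimp only [gam]; infer_instance

instance : (gam S).IsTriangulated := by
  dsimp only [gam]; infer_instance

/-- The homological functor `Φ : D⁺(B) ⥤ E`, `Y ↦ H⁰(S(J))` for `J` an injective resolution
of `Y`. -/
noncomputable def Phi : DerivedCategory.Plus B ⥤ E :=
  (eqv (B := B)).inverse ⋙ gam S ⋙ HomotopyCategory.homologyFunctor E (ComplexShape.up ℤ) 0

instance : (Phi S).IsHomological := by
  dsimp only [Phi]; infer_instance

noncomputable instance : (Phi S).ShiftSequence ℤ := by
  dsimp only [Phi]; infer_instance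

lemma Phi_shift (n : ℤ) : (Phi S).shift n =
    (eqv (B := B)).inverse ⋙ gam S ⋙ HomotopyCategory.homologyFunctor E (ComplexShape.up ℤ) n :=
  rfl

/-- The complex `S(L)` for a bounded below complex of injectives `L`. -/
noncomputable abbrev SL (L : CochainComplex.Plus (InjectiveObject B)) : CochainComplex E ℤ :=
  ((InjectiveObject.ι B ⋙ S).mapHomologicalComplex (ComplexShape.up ℤ)).obj L.obj

/-- The image in `D⁺(B)` of a bounded below complex of injectives. -/
noncomputable abbrev rhoQ (L : CochainComplex.Plus (InjectiveObject B)) : DerivedCategory.Plus B :=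
  (rho B).obj ((HomotopyCategory.Plus.quotient (InjectiveObject B)).obj L)

/-- `Φⁿ(ρ L) ≅ Hⁿ(S L)`. -/
noncomputable def PhiRhoIso (L : CochainComplex.Plus (InjectiveObject B)) (n : ℤ) :
    ((Phi S).shift n).obj (rhoQ L) ≅ (SL S L).homology n :=
  (gam S ⋙ HomotopyCategory.homologyFunctor E (ComplexShape.up ℤ) n).mapIso
      ((eqv (B := B)).unitIso.app ((HomotopyCategory.Plus.quotient (InjectiveObject B)).obj L)).symm ≪≫
    (HomotopyCategory.homologyFunctorFactors E (ComplexShape.up ℤ) n).app (SL S L)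

/-- `Φⁿ(Y) ≅ Hⁿ(S L)` if `L` is an injective resolution of `Y`. -/
noncomputable def PhiIso (L : CochainComplex.Plus (InjectiveObject B)) {Y : DerivedCategory.Plus B}
    (e : rhoQ L ≅ Y) (n : ℤ) : ((Phi S).shift n).obj Y ≅ (SL S L).homology n :=
  ((Phi S).shift n).mapIso e.symm ≪≫ PhiRhoIso S L n

/-- The two descriptions of the image of `L` in `D⁺(B)`. -/
noncomputable def rhoQIso (L : CochainComplex.Plus (InjectiveObject B)) :
    rhoQ L ≅ DerivedCategory.Plus.Q.obj ((InjectiveObject.ι B).mapCochainComplexPlus.obj L) :=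
  Iso.refl _

omit [HasDerivedCategory B] [EnoughInjectives B] in
lemma isZero_homology_SL (L : CochainComplex.Plus (InjectiveObject B)) (m n : ℤ)
    [L.obj.IsStrictlyGE m] (h : n < m) : IsZero ((SL S L).homology n) := by
  have : (SL S L).IsStrictlyGE m := inferInstance
  exact (SL S L).exactAt_of_isGE m n h |>.isZero_homology

lemma isZero_Phi_shift_of_isGE (Y : DerivedCategory.Plus B) (m n : ℤ) [Y.IsGE m] (h : n < m) :
    IsZero (((Phi S).shift n).obj Y) := by
  obtain ⟨L, hL, ⟨e⟩⟩ := DerivedCategory.Plus.exists_injective_nonempty_iso Y m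
  exact IsZero.of_iso (isZero_homology_SL S L m n h) (PhiIso S L (rhoQIso L ≪≫ e) n)

section Resol

/-- A bounded below complex with injective terms, as an object of `Ch⁺(Inj B)`. -/
noncomputable def liftInj (K : CochainComplex B ℤ) (a : ℤ) [K.IsStrictlyGE a]
    [∀ n, Injective (K.X n)] : CochainComplex.Plus (InjectiveObject B) :=
  ⟨HomologicalComplex.liftObjectProperty _ K (fun _ => inferInstance), a, by
    rw [← CochainComplex.isStrictlyGE_mapHomologicalComplex_obj_iff _ (InjectiveObject.ι B)]
    assumption⟩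

omit [HasDerivedCategory B] [EnoughInjectives B] in
lemma liftInj_map (K : CochainComplex B ℤ) (a : ℤ) [K.IsStrictlyGE a]
    [∀ n, Injective (K.X n)] :
    ((InjectiveObject.ι B).mapHomologicalComplex (ComplexShape.up ℤ)).obj (liftInj K a).obj = K :=
  rfl

/-- If `φ : K ⟶ L` is a quasi-isomorphism to a bounded below complex with injective terms, then
`ρ(L) ≅ Q(K)` in `D⁺(B)`. -/
noncomputable def rhoQIsoOfQuasiIso (K : CochainComplex.Plus B) (L : CochainComplex B ℤ) (a : ℤ)
    [L.IsStrictlyGE a] [∀ n, Injective (L.X n)] (φ : K.obj ⟶ L) [QuasiIso φ] :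
    rhoQ (liftInj L a) ≅ DerivedCategory.Plus.Q.obj K :=
  haveI : IsIso (DerivedCategory.Q.map φ) :=
    (DerivedCategory.isIso_Q_map_iff_quasiIso (C := B) φ).2 inferInstance
  let e : DerivedCategory.Q.obj K.obj ≅ DerivedCategory.Q.obj L := asIso (DerivedCategory.Q.map φ)
  (DerivedCategory.Plus.ι.preimageIso (X := DerivedCategory.Plus.Q.obj K)
    (Y := rhoQ (liftInj L a)) e).symm

/-- `Φⁿ(Q K) ≅ Hⁿ(S L)` if `K ⟶ L` is a quasi-isomorphism to a bounded below complex of
injectives. -/
noncomputable def PhiIsoOfQuasiIso (K : CochainComplex.Plus B) (L : CochainComplex B ℤ) (a : ℤ)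
    [L.IsStrictlyGE a] [∀ n, Injective (L.X n)] (φ : K.obj ⟶ L) [QuasiIso φ] (n : ℤ) :
    ((Phi S).shift n).obj (DerivedCategory.Plus.Q.obj K) ≅
      ((S.mapHomologicalComplex (ComplexShape.up ℤ)).obj L).homology n :=
  PhiIso S (liftInj L a) (rhoQIsoOfQuasiIso K L a φ) n

/-- The complex with `M` in degree `0`, as a bounded below complex. -/
noncomputable abbrev singlePlus (M : B) : CochainComplex.Plus B :=
  ⟨(CochainComplex.singleFunctor B 0).obj M, 0, inferInstance⟩

/-- `Φⁿ(M[0]) ≅ Hⁿ(S R)` for an injective resolution `R` of `M`. -/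
noncomputable def PhiSingleIso {M : B} (R : InjectiveResolution M) (n : ℤ) :
    ((Phi S).shift n).obj ((DerivedCategory.Plus.singleFunctor B 0).obj M) ≅
      ((S.mapHomologicalComplex (ComplexShape.up ℤ)).obj R.cochainComplex).homology n :=
  PhiIsoOfQuasiIso S (singlePlus M) R.cochainComplex 0 R.ι' n

/-- `Φᵏ(M[0]) ≅ RᵏS(M)`. -/
noncomputable def PhiSingleIsoRightDerived [HasInjectiveResolutions B] (M : B) (k : ℕ) :
    ((Phi S).shift (k : ℤ)).obj ((DerivedCategory.Plus.singleFunctor B 0).obj M) ≅
      (S.rightDerived k).obj M :=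
  PhiSingleIso S (Classical.choice (HasInjectiveResolution.out (Z := M))) k ≪≫
    Bridge.rightDerivedIso S _ k

end Resol

section SpecObj

open ComposableArrows Triangulated

variable (K : DerivedCategory.Plus B)

/-- The spectral object `(i ≤ j) ↦ Φⁿ(τ_{≥ i} τ_{< j} K)`. -/
noncomputable def specObj : Abelian.SpectralObject E EInt :=
  SpObjHom.mapHomological (DerivedCategory.Plus.TStructure.t.spectralObject K) (Phi S)

lemma specObj_H_obj (n : ℤ) (i j : EInt) (hij : i ≤ j) :
    ((specObj S K).H n).obj (mk₁ (homOfLE hij)) =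
      ((Phi S).shift n).obj ((DerivedCategory.Plus.TStructure.t.eTruncGE.obj i).obj
        ((DerivedCategory.Plus.TStructure.t.eTruncLT.obj j).obj K)) := rfl

instance [K.IsGE 0] : (specObj S K).IsFirstQuadrant where
  isZero₁ i j hij hj n := by
    rw [specObj_H_obj]
    apply Functor.map_isZero
    apply Functor.map_isZero
    exact DerivedCategory.Plus.TStructure.t.isZero_eTruncLT_obj_obj K 0 j hj
  isZero₂ i j hij n hi := by
    rw [specObj_H_obj]
    have : (n + 1 : ℤ) ≤ i := by
      induction i using WithBotTop.rec with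
      | bot => simp at hi
      | coe a => 
        rw [WithBotTop.coe_lt_coe] at hi
        exact WithBotTop.coe_le_coe.2 (by lia)
      | top => exact le_top
    have := DerivedCategory.Plus.TStructure.t.isGE_eTruncGE_obj_obj (n + 1) i this
      ((DerivedCategory.Plus.TStructure.t.eTruncLT.obj j).obj K)
    exact isZero_Phi_shift_of_isGE S _ (n + 1) n (by lia)

/-- `Hᵠ(K) ≅ Hᵠ(τ_{≥ q} τ_{< q+1} K)` in `D⁺(B)`. -/
noncomputable def homologyTruncIso (q : ℤ) :
    (DerivedCategory.Plus.homologyFunctor B q).obj K ≅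
      (DerivedCategory.Plus.homologyFunctor B q).obj
        ((DerivedCategory.Plus.TStructure.t.truncGE q).obj
          ((DerivedCategory.Plus.TStructure.t.truncLT (q + 1)).obj K)) :=
  TruncHom.truncIso DerivedCategory.Plus.TStructure.t (DerivedCategory.Plus.homologyFunctor B 0)
    (fun X n i hX hi => by
      have : X.IsGE n := hX
      exact DerivedCategory.Plus.isZero_homology_of_isGE X n i hi)
    (fun X n i hX hi => by
      have : X.IsLE n := hX
      exact DerivedCategory.Plus.isZero_homology_of_isLE X n i hi) K q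

omit [EnoughInjectives B] in
lemma exists_single_iso (Y : DerivedCategory.Plus B) (q : ℤ) [Y.IsGE q] [Y.IsLE q] :
    ∃ (M : B), Nonempty (Y ≅ (DerivedCategory.Plus.singleFunctor B q).obj M) := by
  obtain ⟨M, ⟨e⟩⟩ := DerivedCategory.exists_iso_singleFunctor_obj_of_isGE_of_isLE
    (DerivedCategory.Plus.ι.obj Y) q
  exact ⟨M, ⟨DerivedCategory.Plus.ι.preimageIso
    (e ≪≫ ((DerivedCategory.Plus.singleFunctorιIso B q).app M).symm)⟩⟩

/-- `Φ^{p+q}(M[-q]) ≅ Φ^p(M[0])`. -/
noncomputable def PhiSingleShiftIso (M : B) (q p : ℤ) :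
    ((Phi S).shift (p + q)).obj ((DerivedCategory.Plus.singleFunctor B q).obj M) ≅
      ((Phi S).shift p).obj ((DerivedCategory.Plus.singleFunctor B 0).obj M) :=
  (((Phi S).shiftIso q p (p + q) (by lia)).app _).symm ≪≫
    ((Phi S).shift p).mapIso
      (((DerivedCategory.Plus.singleFunctors B).shiftIso q 0 q (by simp)).app M)

omit [EnoughInjectives B] in
/-- `Hᵠ(M[-q]) ≅ M`. -/
noncomputable def homologySingleIso (M : B) (q : ℤ) :
    (DerivedCategory.Plus.homologyFunctor B q).obj
      ((DerivedCategory.Plus.singleFunctor B q).obj M) ≅ M :=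
  (DerivedCategory.singleFunctorCompHomologyFunctorIso B q).app M

theorem nonempty_E2Iso [HasInjectiveResolutions B] (q : ℤ) (p : ℕ) :
    Nonempty (((specObj S K).H (p + q)).obj (mk₁ (homOfLE
        (WithBotTop.coe_le_coe.2 (by lia) : (q : EInt) ≤ ((q + 1 : ℤ) : EInt)))) ≅
      (S.rightDerived p).obj ((DerivedCategory.Plus.homologyFunctor B q).obj K)) := by
  let Y := (DerivedCategory.Plus.TStructure.t.truncGE q).obj
    ((DerivedCategory.Plus.TStructure.t.truncLT (q + 1)).obj K)
  have : Y.IsGE q := inferInstanceAs (DerivedCategory.Plus.TStructure.t.IsGE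
    ((DerivedCategory.Plus.TStructure.t.truncGE q).obj _) q)
  have : Y.IsLE q := inferInstanceAs (DerivedCategory.Plus.TStructure.t.IsLE
    ((DerivedCategory.Plus.TStructure.t.eTruncGE.obj (q : EInt)).obj
      ((DerivedCategory.Plus.TStructure.t.truncLT (q + 1)).obj K)) q)
  obtain ⟨M, ⟨e⟩⟩ := exists_single_iso Y q
  let eM : (DerivedCategory.Plus.homologyFunctor B q).obj K ≅ M :=
    homologyTruncIso K q ≪≫ (DerivedCategory.Plus.homologyFunctor B q).mapIso e ≪≫
      homologySingleIso M q
  exact ⟨((Phi S).shift (p + q)).mapIso e ≪≫ PhiSingleShiftIso S M q p ≪≫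
    PhiSingleIsoRightDerived S M p ≪≫ (S.rightDerived p).mapIso eM.symm⟩

end SpecObj

end Groth.Agent.Lib.Helper5.GrothSS
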