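import Groth.Agent.Lib.Helper5.SpSeqAbut
import Groth.Agent.Lib.Helper5.GrothSS
import Groth.Agent.Lib.Helper5.GrothAcyc

/-
Helper5: the Grothendieck spectral sequence `RᵖS(RᵠT(A)) ⇒ Rᵖ⁺ᵠ(T ⋙ S)(A)` (existence form, in the
`SpSeq.Abutment` format of the prelude): `GrothSSMain.main`.
-/

set_option autoImplicit false
set_option maxSynthPendingDepth 3

universe v u
open CategoryTheory CategoryTheory.Limits
open scoped ZeroObject

namespace Groth.Agent.Lib.Helper5.GrothSSMain

open Groth.Agent.Lib.Helper5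

lemma enoughInjectives_of_hasInjectiveResolutions {C : Type u} [Category.{v} C] [Abelian C]
    [HasInjectiveResolutions C] : EnoughInjectives C :=
  ⟨fun X => ⟨{ J := (Classical.choice (HasInjectiveResolution.out (Z := X))).cocomplex.X 0
               f := (Classical.choice (HasInjectiveResolution.out (Z := X))).ι.f 0
               mono := inferInstanceAs
                (Mono ((Classical.choice (HasInjectiveResolution.out (Z := X))).ι.f 0)) }⟩⟩

section

variable {C C' C'' : Type u} [Category.{v} C] [Category.{v} C'] [Category.{v} C'']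
    [Abelian C] [Abelian C'] [Abelian C''] [HasInjectiveResolutions C] [HasInjectiveResolutions C']
    (T : C ⥤ C') [T.Additive] (S : C' ⥤ C'') [S.Additive] [PreservesFiniteLimits S]
    (hT : ∀ Q : C, Injective Q → ∀ q : ℕ, 0 < q → IsZero ((S.rightDerived q).obj (T.obj Q)))
    {A : C} (I : InjectiveResolution A)

/-- The complex `T(I)`. -/
noncomputable abbrev K₀ : CochainComplex C' ℤ :=
  (T.mapHomologicalComplex (ComplexShape.up ℤ)).obj I.cochainComplex

instance : (K₀ T I).IsStrictlyGE 0 := inferInstance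

variable [HasDerivedCategory.{max u v} C']

/-- The image of `T(I)` in `D⁺(C')`. -/
noncomputable abbrev KK : DerivedCategory.Plus C' :=
  DerivedCategory.Plus.Q.obj ⟨K₀ T I, 0, inferInstance⟩

instance : (KK T I).IsGE 0 := by
  rw [← DerivedCategory.Plus.isGE_ι_obj_iff]
  exact inferInstanceAs ((DerivedCategory.Q.obj (K₀ T I)).IsGE 0)

end

section

variable {B : Type u} [Category.{v} B] [Abelian B] [HasDerivedCategory.{max u v} B]
  [EnoughInjectives B] {E : Type u} [Category.{v} E] [Abelian E] (S : B ⥤ E) [S.Additive]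
  (K : DerivedCategory.Plus B)

/-- The abutment of the spectral object is `Φⁿ(K)`. -/
noncomputable def habIso (n : ℤ) :
    SpSeqAbut.Hab (GrothSS.specObj S K) n ≅ ((GrothSS.Phi S).shift n).obj K :=
  Iso.refl _

end

section

variable {C C' C'' : Type u} [Category.{v} C] [Category.{v} C'] [Category.{v} C'']
    [Abelian C] [Abelian C'] [Abelian C''] [HasInjectiveResolutions C] [HasInjectiveResolutions C']
    (T : C ⥤ C') [T.Additive] (S : C' ⥤ C'') [S.Additive] [PreservesFiniteLimits S]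
    (hT : ∀ Q : C, Injective Q → ∀ q : ℕ, 0 < q → IsZero ((S.rightDerived q).obj (T.obj Q)))
    {A : C} (I : InjectiveResolution A)
    [HasDerivedCategory.{max u v} C'] [EnoughInjectives C']

include hT in
lemma acyc_K₀ (n : ℤ) : GrothSS.Acyc S ((K₀ T I).X n) := fun k =>
  hT (I.cochainComplex.X n) inferInstance (k + 1) (by lia)

include hT in
/-- `Φⁿ(T(I)) ≅ Rⁿ(T ⋙ S)(A)`. -/
lemma nonempty_abutIso (k : ℕ) :
    Nonempty (((GrothSS.Phi S).shift (k : ℤ)).obj (KK T I) ≅ ((T ⋙ S).rightDerived k).obj A) := by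
  obtain ⟨e⟩ := GrothSS.nonempty_PhiIsoOfAcyc S (K₀ T I) 0 (acyc_K₀ T S hT I) k
  exact ⟨e ≪≫ Bridge.rightDerivedIso (T ⋙ S) I k⟩

/-- `Hᵠ(T(I)) ≅ RᵠT(A)`. -/
noncomputable def homologyKKIso (k : ℕ) :
    (DerivedCategory.Plus.homologyFunctor C' (k : ℤ)).obj (KK T I) ≅ (T.rightDerived k).obj A :=
  (DerivedCategory.homologyFunctorFactors C' (k : ℤ)).app (K₀ T I) ≪≫ Bridge.rightDerivedIso T I k

include hT I in
theorem main_aux :
    ∃ (E : E₂CohomologicalSpectralSequence C'')
      (a : SpSeq.Abutment E (fun n : ℤ => if 0 ≤ n then ((T ⋙ S).rightDerived n.toNat).obj A else 0)),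
      (∀ n, a.IsFinite n) ∧ SpSeq.IsBounded E ∧
      ∀ p q : ℤ, Nonempty ((E.page 2 le_rfl).X (p, q) ≅
        (if 0 ≤ p ∧ 0 ≤ q then (S.rightDerived p.toNat).obj ((T.rightDerived q.toNat).obj A) else 0)) := by
  let X := GrothSS.specObj S (KK T I)
  have e : ∀ n : ℤ, SpSeqAbut.Hab X n ≅
      (if 0 ≤ n then ((T ⋙ S).rightDerived n.toNat).obj A else 0) := fun n =>
    if h : 0 ≤ n then
      habIso S (KK T I) n ≪≫ eqToIso (by rw [Int.toNat_of_nonneg h]) ≪≫
        Classical.choice (nonempty_abutIso T S hT I n.toNat) ≪≫ eqToIso (if_pos h).symm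
    else
      (GrothSS.isZero_Phi_shift_of_isGE S (KK T I) 0 n (by lia)).iso (isZero_zero _) ≪≫
        eqToIso (if_neg h).symm
  refine ⟨X.E₂SpectralSequence, SpSeqAbut.transport (SpSeqAbut.abutment X) e,
    fun n => SpSeqAbut.transport_isFinite _ _ n (SpSeqAbut.abutment_isFinite X n),
    SpSeqAbut.isBounded X, fun p q => ?_⟩
  by_cases h : 0 ≤ p ∧ 0 ≤ q
  · rw [if_pos h]
    obtain ⟨p', rfl⟩ := Int.eq_ofNat_of_zero_le h.1
    obtain ⟨q', rfl⟩ := Int.eq_ofNat_of_zero_le h.2
    obtain ⟨e2⟩ := GrothSS.nonempty_E2Iso S (KK T I) (q' : ℤ) p'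
    simp only [Int.toNat_natCast]
    exact ⟨SpSeqAbut.pageTwoIso X ((p' : ℤ), (q' : ℤ)) ≪≫ e2 ≪≫
      (S.rightDerived p').mapIso (homologyKKIso T I q')⟩
  · rw [if_neg h]
    refine ⟨IsZero.iso ?_ (isZero_zero _)⟩
    by_cases hp : 0 ≤ p
    · exact SpSeqAbut.isZero_page_of_snd_neg X 2 le_rfl (p, q) (by simp only; lia)
    · exact SpSeqAbut.isZero_page_of_fst_neg X 2 le_rfl (p, q) (by simp only; lia)

end

/-- The Grothendieck spectral sequence `RᵖS(RᵠT(A)) ⇒ Rᵖ⁺ᵠ(T ⋙ S)(A)`. -/
theorem main {C C' C'' : Type u} [Category.{v} C] [Category.{v} C'] [Category.{v} C'']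
    [Abelian C] [Abelian C'] [Abelian C''] [HasInjectiveResolutions C] [HasInjectiveResolutions C']
    (T : C ⥤ C') [T.Additive] (S : C' ⥤ C'') [S.Additive] [PreservesFiniteLimits S]
    (hT : ∀ Q : C, Injective Q → ∀ q : ℕ, 0 < q → IsZero ((S.rightDerived q).obj (T.obj Q))) (A : C) :
    ∃ (E : E₂CohomologicalSpectralSequence C'')
      (a : SpSeq.Abutment E (fun n : ℤ => if 0 ≤ n then ((T ⋙ S).rightDerived n.toNat).obj A else 0)),
      (∀ n, a.IsFinite n) ∧ SpSeq.IsBounded E ∧
      ∀ p q : ℤ, Nonempty ((E.page 2 le_rfl).X (p, q) ≅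
        (if 0 ≤ p ∧ 0 ≤ q then (S.rightDerived p.toNat).obj ((T.rightDerived q.toNat).obj A) else 0)) := by
  let _ : HasDerivedCategory.{max u v} C' := HasDerivedCategory.standard C'
  have : EnoughInjectives C' := enoughInjectives_of_hasInjectiveResolutions
  exact main_aux T S hT (Classical.choice (HasInjectiveResolution.out (Z := A)))

end Groth.Agent.Lib.Helper5.GrothSSMain
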