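import Groth.Agent.Lib.Helper5.SSPrepend
import Groth.Agent.Lib.Helper5.GrothSSMain
import Groth.Agent.Lib.Helper5.CxDeltaNat
import Groth.Agent.Lib.Helper5.RDPost
import Groth.Agent.Lib.Helper22.DeltaMV

/-!
# The descent spectral sequence attached to a functor into cochain complexes

Let `T : 𝒜 ⥤ CochainComplex D ℕ` be an additive functor such that `T Q` is exact in positive
degrees for every injective `Q`.  Then for every object `A` there is an `E₁` spectral sequence
`E₁^{p,q} = R^q(T^p)(A) ⇒ R^{p+q}(H^0 ∘ T)(A)`, obtained from the Grothendieck spectral sequence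
of the composition `H^0 ∘ T` by prepending the complexes `R^q T(A)` as first page.
-/

set_option autoImplicit false

universe u

open CategoryTheory CategoryTheory.Limits
open scoped ZeroObject

noncomputable section

namespace Groth.Agent.Lib.Helper5.DescentSSGen

open Groth.Agent.Lib.Helper22

section Cone

variable {D : Type (u + 1)} [Category.{u} D] [Abelian D]

/-- the δ-functor of cohomology of `ℕ`-indexed cochain complexes -/
def homologyDelta : DeltaF.CohDeltaFunctor (CochainComplex D ℕ) D ℕ where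
  F n := HomologicalComplex.homologyFunctor D (ComplexShape.up ℕ) n
  additive n := inferInstance
  δ S hS n₀ n₁ h := hS.δ n₀ n₁ h
  δ_natural {S S'} hS hS' φ n₀ n₁ h :=
    (HomologicalComplex.HomologySequence.δ_naturality φ hS hS' n₀ n₁ h).symm
  exact₂ S hS n := hS.homology_exact₂ n
  comp_δ S hS n₀ n₁ h := hS.comp_δ n₀ n₁ h
  exact₃ S hS n₀ n₁ h := hS.homology_exact₃ n₀ n₁ h
  δ_comp S hS n₀ n₁ h := hS.δ_comp n₀ n₁ h
  exact₁ S hS n₀ n₁ h := hS.homology_exact₁ n₀ n₁ h

lemma homologyDelta_F (n : ℕ) : (homologyDelta (D := D)).F n =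
    HomologicalComplex.homologyFunctor D (ComplexShape.up ℕ) n := rfl

lemma homologyDelta_zeroMono : (homologyDelta (D := D)).ZeroMono := by
  intro S hS
  have : Mono S.f := hS.mono_f
  have : Mono (S.f.f 0) := inferInstance
  exact CxDeltaNat.mono_homologyMap_zero S.f

variable (K : CochainComplex D ℕ)

/-- vanishing of the cohomology of a cochain complex from a contracting homotopy in one degree -/
lemma isZero_homology_of_contraction' (L : CochainComplex D ℕ) (n : ℕ)
    (r : L.X (n + 1) ⟶ L.X n) (s : L.X (n + 1 + 1) ⟶ L.X (n + 1))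
    (h : r ≫ L.d n (n + 1) + L.d (n + 1) (n + 1 + 1) ≫ s = 𝟙 (L.X (n + 1))) :
    IsZero (L.homology (n + 1)) :=
  CxDeltaNat.isZero_homology_of_contraction L n r s h

/-- the differential of the cone of the identity -/
def coneD (m : ℕ) : K.X m ⊞ K.X (m + 1) ⟶ K.X (m + 1) ⊞ K.X (m + 1 + 1) :=
  biprod.desc (biprod.lift (K.d m (m + 1)) 0) (biprod.lift (𝟙 _) (-K.d (m + 1) (m + 1 + 1)))

lemma coneD_comp (m : ℕ) : coneD K m ≫ coneD K (m + 1) = 0 := by
  apply biprod.hom_ext'
  · apply biprod.hom_ext <;>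
      simp [coneD, biprod.lift_desc]
  · apply biprod.hom_ext <;>
      simp [coneD, biprod.lift_desc]

/-- the cone of the identity of `K` (shifted): `K^m ⊕ K^{m+1}` in degree `m` -/
def coneId : CochainComplex D ℕ :=
  CochainComplex.of (fun m => K.X m ⊞ K.X (m + 1)) (coneD K) (coneD_comp K)

lemma coneId_d (m : ℕ) : (coneId K).d m (m + 1) = coneD K m :=
  CochainComplex.of_d (fun m => K.X m ⊞ K.X (m + 1)) (coneD K) m

/-- the inclusion of `K` into the cone of its identity -/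
def toConeId : K ⟶ coneId K where
  f m := (biprod.inl : K.X m ⟶ K.X m ⊞ K.X (m + 1))
  comm' := by
    rintro i j rfl
    rw [coneId_d]
    show (biprod.inl : K.X i ⟶ K.X i ⊞ K.X (i + 1)) ≫ coneD K i =
      K.d i (i + 1) ≫ (biprod.inl : K.X (i + 1) ⟶ K.X (i + 1) ⊞ K.X (i + 1 + 1))
    apply biprod.hom_ext <;> simp [coneD]

instance (m : ℕ) : Mono ((toConeId K).f m) :=
  inferInstanceAs (Mono (biprod.inl : K.X m ⟶ K.X m ⊞ K.X (m + 1)))

instance : Mono (toConeId K) := HomologicalComplex.mono_of_mono_f _ inferInstance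

lemma coneD_contraction (n : ℕ) :
    ((biprod.fst : K.X (n + 1) ⊞ K.X (n + 1 + 1) ⟶ K.X (n + 1)) ≫
      (biprod.inr : K.X (n + 1) ⟶ K.X n ⊞ K.X (n + 1))) ≫ coneD K n + coneD K (n + 1) ≫
    ((biprod.fst : K.X (n + 1 + 1) ⊞ K.X (n + 1 + 1 + 1) ⟶ K.X (n + 1 + 1)) ≫
      (biprod.inr : K.X (n + 1 + 1) ⟶ K.X (n + 1) ⊞ K.X (n + 1 + 1))) =
    𝟙 (K.X (n + 1) ⊞ K.X (n + 1 + 1)) := by
  apply biprod.hom_ext'
  · apply biprod.hom_ext <;>
      simp [coneD, Preadditive.comp_add, Preadditive.add_comp]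
  · apply biprod.hom_ext <;>
      simp [coneD, Preadditive.comp_add, Preadditive.add_comp]

lemma isZero_homology_coneId (n : ℕ) : IsZero ((coneId K).homology (n + 1)) := by
  refine isZero_homology_of_contraction' _ n
    ((biprod.fst : K.X (n + 1) ⊞ K.X (n + 1 + 1) ⟶ K.X (n + 1)) ≫
      (biprod.inr : K.X (n + 1) ⟶ K.X n ⊞ K.X (n + 1)))
    ((biprod.fst : K.X (n + 1 + 1) ⊞ K.X (n + 1 + 1 + 1) ⟶ K.X (n + 1 + 1)) ≫
      (biprod.inr : K.X (n + 1 + 1) ⟶ K.X (n + 1) ⊞ K.X (n + 1 + 1))) ?_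
  rw [coneId_d, coneId_d]
  exact coneD_contraction K n

lemma homologyDelta_isEffaceable : (homologyDelta (D := D)).IsEffaceable := by
  intro n K
  exact ⟨coneId K, toConeId K, inferInstance, (isZero_homology_coneId K n).eq_of_tgt _ _⟩

end Cone

section Main

variable {𝒜 : Type (u + 1)} [Category.{u} 𝒜] [Abelian 𝒜] [HasInjectiveResolutions 𝒜]
  {D : Type (u + 1)} [Category.{u} D] [Abelian D]
  [EnoughInjectives (CochainComplex D ℕ)]
  (T : 𝒜 ⥤ CochainComplex D ℕ) [T.Additive]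

variable (D) in
/-- the functor `H^0` on `ℕ`-indexed cochain complexes -/
abbrev H0 : CochainComplex D ℕ ⥤ D :=
  HomologicalComplex.homologyFunctor D (ComplexShape.up ℕ) 0

instance : PreservesFiniteLimits (H0 D) :=
  DeltaMV.preservesFiniteLimits_F0 homologyDelta homologyDelta_zeroMono

/-- `R^p H^0 ≅ H^p` on cochain complexes -/
def rightDerivedH0Iso (p : ℕ) (K : CochainComplex D ℕ) :
    ((H0 D).rightDerived p).obj K ≅ K.homology p :=
  DeltaMV.θiso homologyDelta homologyDelta_isEffaceable homologyDelta_zeroMono p K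

/-- the descent spectral sequence of `T` -/
theorem exists_spectralSequence
    (hT : ∀ Q : 𝒜, Injective Q → ∀ k : ℕ, IsZero ((T.obj Q).homology (k + 1)))
    (A : 𝒜) (Z : D) (hZ : IsZero Z) :
    ∃ (E : CohomologicalSpectralSequence D 1)
      (a : SpSeq.Abutment E (fun n : ℤ =>
        if 0 ≤ n then ((T ⋙ H0 D).rightDerived n.toNat).obj A else Z)),
      (∀ n, a.IsFinite n) ∧ SpSeq.IsBounded E ∧
      ∀ p q : ℤ, Nonempty ((E.page 1 le_rfl).X (p, q) ≅
        (if 0 ≤ p ∧ 0 ≤ q then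
          ((T ⋙ HomologicalComplex.eval D (ComplexShape.up ℕ) p.toNat).rightDerived q.toNat).obj A
         else Z)) := by
  have hT' : ∀ Q : 𝒜, Injective Q → ∀ q : ℕ, 0 < q →
      IsZero (((H0 D).rightDerived q).obj (T.obj Q)) := by
    intro Q hQ q hq
    obtain ⟨k, rfl⟩ : ∃ k, q = k + 1 := ⟨q - 1, by omega⟩
    exact (hT Q hQ k).of_iso (rightDerivedH0Iso (k + 1) (T.obj Q))
  obtain ⟨E2, a, hfin, -, hE⟩ := GrothSSMain.main T (H0 D) hT' A
  let eH : ∀ n : ℤ, (if 0 ≤ n then ((T ⋙ H0 D).rightDerived n.toNat).obj A else 0) ≅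
      (if 0 ≤ n then ((T ⋙ H0 D).rightDerived n.toNat).obj A else Z) := fun n =>
    if h : 0 ≤ n then eqToIso (by rw [if_pos h, if_pos h])
    else eqToIso (if_neg h) ≪≫ (isZero_zero D).iso hZ ≪≫ eqToIso (if_neg h).symm
  let a1 := SpSeqAbut.transport a eH
  have hfin1 : ∀ n, a1.IsFinite n := fun n => SpSeqAbut.transport_isFinite a eH n (hfin n)
  have hE2 : ∀ p q : ℤ, Nonempty ((E2.page 2 le_rfl).X (p, q) ≅
      (if 0 ≤ p ∧ 0 ≤ q then ((T.rightDerived q.toNat).obj A).homology p.toNat else Z)) := by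
    intro p q
    obtain ⟨e⟩ := hE p q
    by_cases h : 0 ≤ p ∧ 0 ≤ q
    · rw [if_pos h] at e ⊢
      exact ⟨e ≪≫ rightDerivedH0Iso p.toNat _⟩
    · rw [if_neg h] at e ⊢
      exact ⟨e ≪≫ (isZero_zero D).iso hZ⟩
  obtain ⟨E, a', hfin', hb', hE'⟩ := SSPrepend.exists_prepend E2 a1 hfin1
    (fun q => (T.rightDerived q).obj A) Z hZ hE2
  refine ⟨E, a', hfin', hb', fun p q => ?_⟩
  obtain ⟨e⟩ := hE' p q
  by_cases h : 0 ≤ p ∧ 0 ≤ q
  · rw [if_pos h] at e ⊢
    exact ⟨e ≪≫ (RDPost.postIsoApp T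
      (HomologicalComplex.eval D (ComplexShape.up ℕ) p.toNat) q.toNat A).symm⟩
  · rw [if_neg h] at e ⊢
    exact ⟨e⟩

end Main

end Groth.Agent.Lib.Helper5.DescentSSGen
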