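import Groth.Agent.Lib.Helper5.DSite
import Groth.Agent.Lib.Helper5.DescentSSGen

/-!
# Free abelian presheaves on representable presheaves and their powers

* `yIso`: `Hom(ℤ[h_B], P) ≃ P(B)`;
* `Pow`: a family of objects `B n` which are the `(n+1)`-fold powers of `B 0`; then
  `Hom(ℤ[h_{B 0}^{n+1}], P) ≃ P(B n)` and the differential of the complex `Hom(K •, P)` is the
  alternating sum of the maps induced by the faces;
* levels of injective sheaves on a diagram site are flasque.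
-/

set_option autoImplicit false

universe u

open CategoryTheory CategoryTheory.Limits Opposite TopologicalSpace

noncomputable section

namespace Groth.Agent.Lib.Helper5.DYoneda

open Groth.Agent.Lib.Helper5.FreePsh

variable {C : Type u} [Category.{u} C]

/-- the representable presheaf of sets -/
abbrev y (B : C) : Cᵒᵖ ⥤ Type u := yoneda.obj B

lemma y_map {B : C} {V W : Cᵒᵖ} (h : V ⟶ W) (s : (y B).obj V) : (y B).map h s = h.unop ≫ s := rfl

section yoneda

variable (B : C) (P : Cᵒᵖ ⥤ AddCommGrpCat.{u})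

lemma ofSec_aux (x : P.obj (op B)) {V W : Cᵒᵖ} (h : V ⟶ W) (s : (y B).obj V) :
    (P.map (Quiver.Hom.op (((y B).map h s : (y B).obj W) : W.unop ⟶ B))).hom x =
      (P.map h).hom ((P.map (Quiver.Hom.op (s : V.unop ⟶ B))).hom x) := by
  change (P.map (Quiver.Hom.op (h.unop ≫ (s : V.unop ⟶ B)))).hom x = _
  rw [op_comp, P.map_comp]
  rfl

/-- the morphism `ℤ[h_B] ⟶ P` attached to a section over `B` -/
def ofSec (x : P.obj (op B)) : Z (y B) ⟶ P :=
  ofFam (A := y B) (fun V s => (P.map (Quiver.Hom.op (s : V.unop ⟶ B))).hom x)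
    (fun {_ _} h s => ofSec_aux B P x h s)

lemma fam_ofSec (x : P.obj (op B)) (V : Cᵒᵖ) (s : V.unop ⟶ B) :
    fam (ofSec B P x) V s = (P.map s.op).hom x :=
  fam_ofFam (A := y B) (fun V s => (P.map (Quiver.Hom.op (s : V.unop ⟶ B))).hom x)
    (fun {_ _} h s => ofSec_aux B P x h s) V s

/-- Yoneda: `Hom(ℤ[h_B], P) ≃ P(B)` -/
def yIso : (Z (y B) ⟶ P) ≃+ P.obj (op B) where
  toFun φ := fam φ (op B) (𝟙 B)
  invFun x := ofSec B P x
  left_inv φ := by
    apply hom_ext_fam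
    intro V s
    rw [fam_ofSec]
    have h := fam_map φ (Quiver.Hom.op (s : V.unop ⟶ B)) (𝟙 B)
    rw [← h]
    change fam φ V ((s : V.unop ⟶ B) ≫ 𝟙 B) = _
    rw [Category.comp_id]
  right_inv x := by
    change fam (ofSec B P x) (op B) (𝟙 B) = x
    rw [fam_ofSec, op_id, P.map_id]
    rfl
  map_add' φ ψ := fam_add φ ψ (op B) (𝟙 B)

lemma yIso_apply (φ : Z (y B) ⟶ P) : yIso B P φ = fam φ (op B) (𝟙 B) := rfl

end yoneda

/-- for an injective presheaf, restriction along a monomorphism is surjective -/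
lemma map_surjective_of_injective (P : Cᵒᵖ ⥤ AddCommGrpCat.{u}) [Injective P] {B' B : C}
    (m : B' ⟶ B) (hm : ∀ (V : C) (g g' : V ⟶ B'), g ≫ m = g' ≫ m → g = g') :
    Function.Surjective (P.map m.op).hom := by
  intro x'
  let α : y B' ⟶ y B := yoneda.map m
  haveI : ∀ V, Mono (α.app V) := fun V => by
    rw [mono_iff_injective]
    intro g g' h
    exact hm _ g g' h
  let φ' : Z (y B') ⟶ P := ofSec B' P x'
  let φ : Z (y B) ⟶ P := Injective.factorThru φ' (Zmap α)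
  have hφ : Zmap α ≫ φ = φ' := Injective.comp_factorThru φ' (Zmap α)
  refine ⟨fam φ (op B) (𝟙 B), ?_⟩
  have h1 := fam_map φ m.op (𝟙 B)
  rw [← h1]
  have h2 := fam_Zmap_comp α φ (op B') (𝟙 B')
  rw [hφ] at h2
  have h3 : fam φ' (op B') (𝟙 B') = x' := (yIso B' P).right_inv x'
  rw [← h3, h2]
  change fam φ (op B') (m ≫ 𝟙 B) = fam φ (op B') (𝟙 B' ≫ m)
  rw [Category.comp_id, Category.id_comp]

/-! ### powers -/

/-- a family of objects `B n` which are the `(n+1)`-fold powers of `B₀` -/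
structure Pow (B₀ : C) where
  /-- the powers -/
  B : ℕ → C
  /-- the projections -/
  pr : ∀ n, Fin (n + 1) → (B n ⟶ B₀)
  /-- the universal morphism -/
  lift : ∀ n {V : C}, (Fin (n + 1) → (V ⟶ B₀)) → (V ⟶ B n)
  lift_pr : ∀ n {V : C} (s : Fin (n + 1) → (V ⟶ B₀)) (k : Fin (n + 1)), lift n s ≫ pr n k = s k
  hom_ext : ∀ n {V : C} (g g' : V ⟶ B n), (∀ k, g ≫ pr n k = g' ≫ pr n k) → g = g'

namespace Pow

variable {B₀ : C} (pw : Pow B₀) (P : Cᵒᵖ ⥤ AddCommGrpCat.{u})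

lemma comp_lift (n : ℕ) {V W : C} (h : W ⟶ V) (s : Fin (n + 1) → (V ⟶ B₀)) :
    h ≫ pw.lift n s = pw.lift n (fun k => h ≫ s k) := by
  apply pw.hom_ext
  intro k
  rw [Category.assoc, pw.lift_pr, pw.lift_pr]

lemma lift_pr_self (n : ℕ) : pw.lift n (pw.pr n) = 𝟙 _ := by
  apply pw.hom_ext
  intro k
  rw [pw.lift_pr, Category.id_comp]

/-- the faces -/
def face (n : ℕ) (k : Fin (n + 2)) : pw.B (n + 1) ⟶ pw.B n :=
  pw.lift n (fun l => pw.pr (n + 1) (k.succAbove l))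

lemma face_pr (n : ℕ) (k : Fin (n + 2)) (l : Fin (n + 1)) :
    pw.face n k ≫ pw.pr n l = pw.pr (n + 1) (k.succAbove l) := pw.lift_pr n _ l

lemma ofSec_aux (n : ℕ) (x : P.obj (op (pw.B n))) {V W : Cᵒᵖ} (h : V ⟶ W)
    (s : (TupP (y B₀) n).obj V) :
    (P.map (Quiver.Hom.op (pw.lift n
      (((TupP (y B₀) n).map h s : (TupP (y B₀) n).obj W) : Fin (n + 1) → (W.unop ⟶ B₀))))).hom x =
      (P.map h).hom
        ((P.map (Quiver.Hom.op (pw.lift n (s : Fin (n + 1) → (V.unop ⟶ B₀))))).hom x) := by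
  change (P.map (Quiver.Hom.op (pw.lift n
    (fun k => h.unop ≫ (s : Fin (n + 1) → (V.unop ⟶ B₀)) k)))).hom x = _
  rw [← pw.comp_lift, op_comp, P.map_comp]
  rfl

/-- the morphism `ℤ[h^{n+1}] ⟶ P` attached to a section over `B n` -/
def ofSec (n : ℕ) (x : P.obj (op (pw.B n))) : K (y B₀) n ⟶ P :=
  ofFam (A := TupP (y B₀) n)
    (fun V s => (P.map (Quiver.Hom.op (pw.lift n (s : Fin (n + 1) → (V.unop ⟶ B₀))))).hom x)
    (fun {_ _} h s => pw.ofSec_aux P n x h s)

lemma fam_ofSec (n : ℕ) (x : P.obj (op (pw.B n))) (V : Cᵒᵖ) (s : Fin (n + 1) → (V.unop ⟶ B₀)) :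
    fam (pw.ofSec P n x) V s = (P.map (pw.lift n s).op).hom x :=
  fam_ofFam (A := TupP (y B₀) n)
    (fun V s => (P.map (Quiver.Hom.op (pw.lift n (s : Fin (n + 1) → (V.unop ⟶ B₀))))).hom x)
    (fun {_ _} h s => pw.ofSec_aux P n x h s) V s

/-- `Hom(ℤ[h^{n+1}], P) ≃ P(B n)` -/
def iso (n : ℕ) : (K (y B₀) n ⟶ P) ≃+ P.obj (op (pw.B n)) where
  toFun φ := fam φ (op (pw.B n)) (pw.pr n)
  invFun x := pw.ofSec P n x
  left_inv φ := by
    apply hom_ext_fam
    intro V s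
    rw [fam_ofSec]
    have h := fam_map φ (Quiver.Hom.op (pw.lift n (s : Fin (n + 1) → (V.unop ⟶ B₀)))) (pw.pr n)
    rw [← h]
    congr 1
    funext k
    exact pw.lift_pr n _ k
  right_inv x := by
    change fam (pw.ofSec P n x) (op (pw.B n)) (pw.pr n) = x
    rw [fam_ofSec, lift_pr_self, op_id, P.map_id]
    rfl
  map_add' φ ψ := fam_add φ ψ (op (pw.B n)) (pw.pr n)

lemma iso_apply (n : ℕ) (φ : K (y B₀) n ⟶ P) : pw.iso P n φ = fam φ (op (pw.B n)) (pw.pr n) := rfl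

lemma iso_comp {P Q : Cᵒᵖ ⥤ AddCommGrpCat.{u}} (g : P ⟶ Q) (n : ℕ) (φ : K (y B₀) n ⟶ P) :
    pw.iso Q n (φ ≫ g) = (g.app (op (pw.B n))).hom (pw.iso P n φ) := rfl

/-- the differential in terms of sections -/
def dP (n : ℕ) : P.obj (op (pw.B n)) →+ P.obj (op (pw.B (n + 1))) :=
  ∑ k : Fin (n + 2), (-1 : ℤ) ^ (k : ℕ) • (P.map (pw.face n k).op).hom

lemma dP_apply (n : ℕ) (x : P.obj (op (pw.B n))) :
    pw.dP P n x = ∑ k : Fin (n + 2), (-1 : ℤ) ^ (k : ℕ) • (P.map (pw.face n k).op).hom x := by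
  unfold dP
  rw [AddMonoidHom.finset_sum_apply]
  rfl

lemma iso_bdry (n : ℕ) (φ : K (y B₀) n ⟶ P) :
    pw.iso P (n + 1) (bdry (y B₀) n ≫ φ) = pw.dP P n (pw.iso P n φ) := by
  rw [iso_apply, fam_bdry_comp, dP_apply]
  refine Finset.sum_congr rfl fun k _ => ?_
  congr 1
  have h := fam_map φ (pw.face n k).op (pw.pr n)
  rw [iso_apply, ← h]
  congr 1
  funext l
  exact (pw.face_pr n k l).symm

lemma dP_natural {P Q : Cᵒᵖ ⥤ AddCommGrpCat.{u}} (g : P ⟶ Q) (n : ℕ) (x : P.obj (op (pw.B n))) :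
    pw.dP Q n ((g.app _).hom x) = (g.app _).hom (pw.dP P n x) := by
  rw [dP_apply, dP_apply, map_sum]
  refine Finset.sum_congr rfl fun k _ => ?_
  rw [map_zsmul]
  congr 1
  exact (NatTrans.naturality_apply g (pw.face n k).op x).symm

/-- exactness of `Hom(K •, P)` in terms of sections -/
lemma isZero_homology_succ_iff (n : ℕ) :
    IsZero (((TT (y B₀)).obj P).homology (n + 1)) ↔
      ∀ x : P.obj (op (pw.B (n + 1))), pw.dP P (n + 1) x = 0 →
        ∃ z : P.obj (op (pw.B n)), pw.dP P n z = x := by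
  rw [FreePsh.isZero_homology_succ_iff]
  constructor
  · intro h x hx
    obtain ⟨ψ, hψ⟩ := h ((pw.iso P (n + 1)).symm x) (by
      rw [TT_d]
      change bdry (y B₀) (n + 1) ≫ ((pw.iso P (n + 1)).symm x : K (y B₀) (n + 1) ⟶ P) = 0
      apply (pw.iso P (n + 1 + 1)).injective
      rw [iso_bdry, AddEquiv.apply_symm_apply, hx, map_zero])
    refine ⟨pw.iso P n ψ, ?_⟩
    rw [TT_d] at hψ
    have hψ' : bdry (y B₀) n ≫ (ψ : K (y B₀) n ⟶ P) = (pw.iso P (n + 1)).symm x := hψ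
    rw [← iso_bdry, hψ', AddEquiv.apply_symm_apply]
  · intro h φ hφ
    rw [TT_d] at hφ
    have hφ' : bdry (y B₀) (n + 1) ≫ (φ : K (y B₀) (n + 1) ⟶ P) = 0 := hφ
    obtain ⟨z, hz⟩ := h (pw.iso P (n + 1) φ) (by rw [← iso_bdry, hφ', map_zero])
    refine ⟨(pw.iso P n).symm z, ?_⟩
    rw [TT_d]
    change bdry (y B₀) n ≫ ((pw.iso P n).symm z : K (y B₀) n ⟶ P) = φ
    apply (pw.iso P (n + 1)).injective
    rw [iso_bdry, AddEquiv.apply_symm_apply, hz]

end Pow

/-! ### the complex on sheaves -/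

section sheaves

variable {J : GrothendieckTopology C} (B₀ : C)

/-- the functor `G ↦ Hom(ℤ[h_{B₀}^{•+1}], G)` on sheaves -/
abbrev TB : Sheaf J AddCommGrpCat.{u} ⥤ CochainComplex AddCommGrpCat.{u} ℕ :=
  sheafToPresheaf J AddCommGrpCat.{u} ⋙ TT (y B₀)

instance : (TB (J := J) B₀).Additive := inferInstance

lemma hTB (Q : Sheaf J AddCommGrpCat.{u}) (hQ : Injective Q) (k : ℕ) :
    IsZero (((TB (J := J) B₀).obj Q).homology (k + 1)) := by
  have hinj : Injective (C := Cᵒᵖ ⥤ AddCommGrpCat.{u}) Q.obj :=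
    Injective.injective_of_adjoint (sheafificationAdjunction J AddCommGrpCat.{u}) Q
  exact isZero_homology_succ_of_injective (y B₀) Q.obj k

/-- the terms of the complex are the sections over the powers -/
def evalIso (pw : Pow B₀) (n : ℕ) :
    TB (J := J) B₀ ⋙ HomologicalComplex.eval AddCommGrpCat.{u} (ComplexShape.up ℕ) n ≅
      sheafToPresheaf J AddCommGrpCat.{u} ⋙
        (evaluation Cᵒᵖ AddCommGrpCat.{u}).obj (op (pw.B n)) :=
  NatIso.ofComponents (fun G => (pw.iso G.obj n).toAddCommGrpIso) (by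
    intro G G' g
    ext φ
    exact pw.iso_comp g.hom n (φ : K (y B₀) n ⟶ G.obj))

end sheaves

/-! ### levels of injective sheaves are flasque -/

section flasque

open Groth.Agent.Lib.Helper5.DSite

variable {I : Type u} [Category.{u} I] (Y : Iᵒᵖ ⥤ TopCat.{u})

instance isFlasque_ev (Q : Sh Y) [Injective Q] (i : I) :
    TopCat.Sheaf.IsFlasque ((ev Y i).obj Q) where
  epi {V W} h := by
    haveI := injective_obj Y Q
    rw [AddCommGrpCat.epi_iff_surjective]
    refine map_surjective_of_injective Q.obj ((ι Y i).map h.unop) ?_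
    intro B g g' e
    apply DSite.hom_ext
    have e' := congrArg DSite.Hom.α e
    change 𝟙 i ≫ g.α = 𝟙 i ≫ g'.α at e'
    rwa [Category.id_comp, Category.id_comp] at e'

end flasque

end Groth.Agent.Lib.Helper5.DYoneda
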