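import Groth.Agent.Lib.Helper5.DeltaSite
import Groth.Agent.Lib.Helper5.DYoneda
import Groth.Agent.Lib.Helper5.PrecompDelta
import Groth.Agent.Lib.Helper22.CohTop.Pushforward

/-!
# Acyclicity for the direct image of a simplicial diagram of spaces over a base

* the décalage of a sheaf on the site of a simplicial diagram; for an injective sheaf `Q` the
  alternating coface map complex of the direct images of the levels of `Q` is exact in positive
  degrees;
* a sheaf with flasque levels whose complex is exact in positive degrees is acyclic for the direct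
  image `limPush`.
-/

set_option autoImplicit false

universe u

open CategoryTheory CategoryTheory.Limits Opposite TopologicalSpace Simplicial

noncomputable section

namespace Groth.Agent.Lib.Helper5.DeltaAcyc

open Groth.Agent.Lib.Helper5.DSite Groth.Agent.Lib.Helper5.DPull Groth.Agent.Lib.Helper5.GermFam
  Groth.Agent.Lib.Helper5.LimPush Groth.Agent.Lib.Helper5.DeltaSite
  Groth.Agent.Lib.Helper5.DYoneda Groth.Agent.Lib.Helper22

/-! ### the décalage on a diagram site -/

section dec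

variable {I : Type u} [Category.{u} I] {S : TopCat.{u}} (D : OverS I S) (σ : I ⥤ I)
  (ι : 𝟭 I ⟶ σ)

lemma mem_of_tr_id {i : I} (U : Opens (Sp D.Y i)) (w : Sp D.Y i) (h : w ∈ U) :
    tr D.Y (𝟙 i) w ∈ U := by
  rw [tr_id_apply]
  exact h

lemma tr_comp_eq_of_eq_id {i j : I} (a : i ⟶ j) (b : j ⟶ i) (h : a ≫ b = 𝟙 i) (w : Sp D.Y i) :
    tr D.Y a (tr D.Y b w) = w := by
  rw [← tr_comp_apply, h, tr_id_apply]

/-- the shift of the objects of the site -/
def decO : Obj D.Y ⥤ Obj D.Y where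
  obj A := ⟨σ.obj A.i, (Opens.map (tr D.Y (ι.app A.i))).obj A.U⟩
  map {A B} m := mkHom (A := ⟨σ.obj A.i, (Opens.map (tr D.Y (ι.app A.i))).obj A.U⟩)
    (B := ⟨σ.obj B.i, (Opens.map (tr D.Y (ι.app B.i))).obj B.U⟩) (σ.map m.α) (fun w hw => by
      change tr D.Y (ι.app B.i) (tr D.Y (σ.map m.α) w) ∈ B.U
      rw [← tr_comp_apply]
      have e : ι.app B.i ≫ σ.map m.α = m.α ≫ ι.app A.i := (ι.naturality m.α).symm
      rw [e, tr_comp_apply]
      exact m.mem _ hw)
  map_id A := DSite.hom_ext (σ.map_id _)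
  map_comp f g := DSite.hom_ext (σ.map_comp _ _)

@[simp] lemma decO_map_α {A B : Obj D.Y} (m : A ⟶ B) : ((decO D σ ι).map m).α = σ.map m.α := rfl

/-- the morphism from the shifted object -/
def decN (A : Obj D.Y) : (decO D σ ι).obj A ⟶ A :=
  mkHom (A := (decO D σ ι).obj A) (B := A) (ι.app A.i) (fun _ hw => hw)

@[simp] lemma decN_α (A : Obj D.Y) : (decN D σ ι A).α = ι.app A.i := rfl

lemma decN_naturality {A B : Obj D.Y} (m : A ⟶ B) :
    (decO D σ ι).map m ≫ decN D σ ι B = decN D σ ι A ≫ m :=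
  DSite.hom_ext (ι.naturality m.α).symm

/-- the levels of the décalage are direct images of the levels -/
def decLevIso (P : (Obj D.Y)ᵒᵖ ⥤ AddCommGrpCat.{u}) (i : I) :
    lev D.Y ((decO D σ ι).op ⋙ P) i ≅
      (Opens.map (tr D.Y (ι.app i))).op ⋙ lev D.Y P (σ.obj i) :=
  NatIso.ofComponents (fun U => Iso.refl _) (by
    intro U U' h
    have key : (lev D.Y ((decO D σ ι).op ⋙ P) i).map h =
        ((Opens.map (tr D.Y (ι.app i))).op ⋙ lev D.Y P (σ.obj i)).map h := by
      have e : (decO D σ ι).map ((DSite.ι D.Y i).map h.unop) =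
          (DSite.ι D.Y (σ.obj i)).map ((Opens.map (tr D.Y (ι.app i))).map h.unop) :=
        DSite.hom_ext (σ.map_id i)
      exact congrArg (fun m => P.map (Quiver.Hom.op m)) e
    exact (Category.comp_id _).trans (key.trans (Category.id_comp _).symm))

lemma isSheaf_dec (G : Sh D.Y) : Presheaf.IsSheaf (J D.Y) ((decO D σ ι).op ⋙ G.obj) :=
  isSheaf_of_levelwise D.Y _ (fun i =>
    TopCat.Presheaf.isSheaf_of_iso (decLevIso D σ ι G.obj i).symm
      ((CohTop.push (tr D.Y (ι.app i))).obj ((ev D.Y (σ.obj i)).obj G)).property)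

/-- the décalage of a sheaf -/
def DecObj (G : Sh D.Y) : Sh D.Y := ⟨(decO D σ ι).op ⋙ G.obj, isSheaf_dec D σ ι G⟩

/-- the canonical morphism to the décalage -/
def toDec (G : Sh D.Y) : G ⟶ DecObj D σ ι G :=
  ⟨{ app := fun A => G.obj.map (decN D σ ι A.unop).op
     naturality := by
       intro A B m
       refine AddCommGrpCat.hom_ext (AddMonoidHom.ext fun x => ?_)
       change (G.obj.map (decN D σ ι B.unop).op).hom ((G.obj.map m.unop.op).hom x) =
         (G.obj.map ((decO D σ ι).map m.unop).op).hom ((G.obj.map (decN D σ ι A.unop).op).hom x)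
       rw [map_comp_apply, map_comp_apply]
       exact map_congr G.obj (decN_naturality D σ ι m.unop).symm x }⟩

lemma toDec_app_apply (G : Sh D.Y) (A : Obj D.Y) (x : G.obj.obj (op A)) :
    ((toDec D σ ι G).hom.app (op A)).hom x = (G.obj.map (decN D σ ι A).op).hom x := rfl

variable (ρ : ∀ i : I, σ.obj i ⟶ i) (hρ : ∀ i : I, ι.app i ≫ ρ i = 𝟙 i)

include hρ in
lemma mono_toDec (G : Sh D.Y) : Mono (toDec D σ ι G) := by
  have h1 : ∀ A : (Obj D.Y)ᵒᵖ, Mono ((toDec D σ ι G).hom.app A) := by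
    intro A
    rw [AddCommGrpCat.mono_iff_injective]
    let sA : A.unop ⟶ (decO D σ ι).obj A.unop :=
      mkHom (A := A.unop) (B := (decO D σ ι).obj A.unop) (ρ A.unop.i) (fun w hw => by
        change tr D.Y (ι.app A.unop.i) (tr D.Y (ρ A.unop.i) w) ∈ A.unop.U
        have e : tr D.Y (ι.app A.unop.i) (tr D.Y (ρ A.unop.i) w) = w :=
          tr_comp_eq_of_eq_id D (ι.app A.unop.i) (ρ A.unop.i) (hρ A.unop.i) w
        rw [e]
        exact hw)
    have hs : sA ≫ decN D σ ι A.unop = 𝟙 A.unop := DSite.hom_ext (hρ A.unop.i)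
    intro x y hxy
    have hxy' : (G.obj.map (decN D σ ι A.unop).op).hom x =
        (G.obj.map (decN D σ ι A.unop).op).hom y := hxy
    have h2 := congrArg (fun z => (G.obj.map sA.op).hom z) hxy'
    simp only [map_comp_apply] at h2
    rw [map_congr G.obj hs, map_congr G.obj hs] at h2
    have h3 : ∀ z : G.obj.obj A, (G.obj.map (𝟙 A.unop : A.unop ⟶ A.unop).op).hom z = z :=
      fun z => map_id_apply G.obj _ rfl z
    rw [h3, h3] at h2
    exact h2
  have h2 : Mono (toDec D σ ι G).hom := NatTrans.mono_of_mono_app _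
  exact (sheafToPresheaf (J D.Y) AddCommGrpCat.{u}).mono_of_mono_map h2

/-- the objects over an open subset of the base and the shift -/
def decBVhom (V : Opens S) (i : I) : (decO D σ ι).obj (BVg D V i) ⟶ BVg D V (σ.obj i) :=
  mkHom (A := (decO D σ ι).obj (BVg D V i)) (B := BVg D V (σ.obj i)) (𝟙 (σ.obj i))
    (fun w hw => by
      refine mem_of_tr_id D (BVg D V (σ.obj i)).U w ?_
      change D.π (σ.obj i) w ∈ V
      have e : D.π i (tr D.Y (ι.app i) w) = D.π (σ.obj i) w := D.hπ (ι.app i) w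
      rw [← e]
      exact hw)

/-- the objects over an open subset of the base and the shift -/
def decBVinv (V : Opens S) (i : I) : BVg D V (σ.obj i) ⟶ (decO D σ ι).obj (BVg D V i) :=
  mkHom (A := BVg D V (σ.obj i)) (B := (decO D σ ι).obj (BVg D V i)) (𝟙 (σ.obj i))
    (fun w hw => by
      refine mem_of_tr_id D ((decO D σ ι).obj (BVg D V i)).U w ?_
      change D.π i (tr D.Y (ι.app i) w) ∈ V
      have e : D.π i (tr D.Y (ι.app i) w) = D.π (σ.obj i) w := D.hπ (ι.app i) w
      rw [e]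
      exact hw)

/-- the direct images of the levels of the décalage -/
def decPcIso (G : Sh D.Y) (i : I) : PcObj D G (σ.obj i) ≅ PcObj D (DecObj D σ ι G) i where
  hom := ⟨{ app := fun V => G.obj.map (decBVhom D σ ι V.unop i).op
            naturality := by
              intro V V' h
              refine AddCommGrpCat.hom_ext (AddMonoidHom.ext fun x => ?_)
              change (G.obj.map (decBVhom D σ ι V'.unop i).op).hom
                  ((G.obj.map (homBVg D (𝟙 (σ.obj i)) (leOfHom h.unop)).op).hom x) =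
                (G.obj.map ((decO D σ ι).map (homBVg D (𝟙 i) (leOfHom h.unop))).op).hom
                  ((G.obj.map (decBVhom D σ ι V.unop i).op).hom x)
              rw [map_comp_apply, map_comp_apply]
              refine map_congr G.obj (DSite.hom_ext ?_) x
              change 𝟙 (σ.obj i) ≫ 𝟙 (σ.obj i) = 𝟙 (σ.obj i) ≫ σ.map (𝟙 i)
              rw [σ.map_id] }⟩
  inv := ⟨{ app := fun V => G.obj.map (decBVinv D σ ι V.unop i).op
            naturality := by
              intro V V' h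
              refine AddCommGrpCat.hom_ext (AddMonoidHom.ext fun x => ?_)
              change (G.obj.map (decBVinv D σ ι V'.unop i).op).hom
                  ((G.obj.map ((decO D σ ι).map (homBVg D (𝟙 i) (leOfHom h.unop))).op).hom x) =
                (G.obj.map (homBVg D (𝟙 (σ.obj i)) (leOfHom h.unop)).op).hom
                  ((G.obj.map (decBVinv D σ ι V.unop i).op).hom x)
              rw [map_comp_apply, map_comp_apply]
              refine map_congr G.obj (DSite.hom_ext ?_) x
              change σ.map (𝟙 i) ≫ 𝟙 (σ.obj i) = 𝟙 (σ.obj i) ≫ 𝟙 (σ.obj i)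
              rw [σ.map_id] }⟩
  hom_inv_id := by
    apply CategoryTheory.Sheaf.hom_ext
    ext V x
    change (G.obj.map (decBVinv D σ ι V.unop i).op).hom
      ((G.obj.map (decBVhom D σ ι V.unop i).op).hom x) = x
    rw [map_comp_apply]
    exact map_id_apply G.obj _ (Category.comp_id _) x
  inv_hom_id := by
    apply CategoryTheory.Sheaf.hom_ext
    ext V x
    change (G.obj.map (decBVhom D σ ι V.unop i).op).hom
      ((G.obj.map (decBVinv D σ ι V.unop i).op).hom x) = x
    rw [map_comp_apply]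
    exact map_id_apply G.obj _ (Category.comp_id _) x

lemma decPcIso_naturality (G : Sh D.Y) {i j : I} (α : i ⟶ j) :
    PcMap D G (σ.map α) ≫ (decPcIso D σ ι G j).hom =
      (decPcIso D σ ι G i).hom ≫ PcMap D (DecObj D σ ι G) α := by
  apply CategoryTheory.Sheaf.hom_ext
  ext V x
  change (G.obj.map (decBVhom D σ ι V.unop j).op).hom
      ((G.obj.map (homBVg D (σ.map α) (le_refl V.unop)).op).hom x) =
    (G.obj.map ((decO D σ ι).map (homBVg D α (le_refl V.unop))).op).hom
      ((G.obj.map (decBVhom D σ ι V.unop i).op).hom x)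
  rw [map_comp_apply, map_comp_apply]
  refine map_congr G.obj (DSite.hom_ext ?_) x
  change σ.map α ≫ 𝟙 (σ.obj j) = 𝟙 (σ.obj i) ≫ σ.map α
  rw [Category.comp_id, Category.id_comp]

end dec

/-! ### the simplicial case -/

/-- the shift of the small simplex category -/
def σΔ : 𝕀.{u} ⥤ 𝕀.{u} := AsSmall.down ⋙ CosimpLim.Sh ⋙ AsSmall.up

/-- the natural transformation to the shift -/
def ιΔ : 𝟭 𝕀.{u} ⟶ σΔ.{u} where
  app i := AsSmall.up.map (CosimpLim.shι.app (AsSmall.down.obj i))
  naturality i j α := by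
    have h := CosimpLim.shι.naturality (AsSmall.down.map α)
    exact congrArg (fun z => AsSmall.up.map z) h

/-- the retraction of the shift on each object -/
def ρΔ (i : 𝕀.{u}) : σΔ.{u}.obj i ⟶ i :=
  AsSmall.up.map (SimplexCategory.σ (0 : Fin ((AsSmall.down.obj i).len + 1)) :
    ⦋(AsSmall.down.obj i).len + 1⦌ ⟶ ⦋(AsSmall.down.obj i).len⦌)

lemma hρΔ (i : 𝕀.{u}) : ιΔ.{u}.app i ≫ ρΔ i = 𝟙 i := by
  have h2 : (SimplexCategory.δ (0 : Fin ((AsSmall.down.obj i).len + 2)) :
      ⦋(AsSmall.down.obj i).len⦌ ⟶ ⦋(AsSmall.down.obj i).len + 1⦌) ≫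
      SimplexCategory.σ (0 : Fin ((AsSmall.down.obj i).len + 1)) = 𝟙 _ :=
    SimplexCategory.δ_comp_σ_self' (by simp)
  exact congrArg (fun z => AsSmall.up.map z) h2

variable {S : TopCat.{u}} (D : OverS 𝕀.{u} S)

/-- the cosimplicial sheaf of the décalage is the décalage of the cosimplicial sheaf -/
def decIso (G : Sh D.Y) :
    CosimpLim.dec ((PcΔ D).obj G) ≅ (PcΔ D).obj (DecObj D σΔ ιΔ G) :=
  NatIso.ofComponents (fun n => decPcIso D σΔ ιΔ G (up n)) (by
    intro n m θ
    exact decPcIso_naturality D σΔ ιΔ G (AsSmall.up.map θ))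

/-- **the complex of an injective sheaf is exact in positive degrees** -/
theorem isZero_homology_TΔ_of_injective (Q : Sh D.Y) [Injective Q] (k : ℕ) :
    IsZero (((TΔ D).obj Q).homology (k + 1)) := by
  haveI : Mono (toDec D σΔ ιΔ Q) := mono_toDec D σΔ ιΔ ρΔ hρΔ Q
  let r : DecObj D σΔ ιΔ Q ⟶ Q := Injective.factorThru (𝟙 Q) (toDec D σΔ ιΔ Q)
  have hr : toDec D σΔ ιΔ Q ≫ r = 𝟙 Q := Injective.comp_factorThru (𝟙 Q) (toDec D σΔ ιΔ Q)
  have e : (CosimpLim.Φ (CohTop.Ab S)).obj (CosimpLim.dec ((PcΔ D).obj Q)) ≅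
      (TΔ D).obj (DecObj D σΔ ιΔ Q) := (CosimpLim.Φ (CohTop.Ab S)).mapIso (decIso D Q)
  have hz : IsZero (((TΔ D).obj (DecObj D σΔ ιΔ Q)).homology (k + 1)) :=
    IsZero.of_iso (CosimpLim.isZero_homology_dec ((PcΔ D).obj Q) k)
      ((HomologicalComplex.homologyFunctor (CohTop.Ab S) (ComplexShape.up ℕ) (k + 1)).mapIso
        e.symm)
  rw [IsZero.iff_id_eq_zero]
  have h1 : HomologicalComplex.homologyMap ((TΔ D).map (toDec D σΔ ιΔ Q)) (k + 1) ≫
      HomologicalComplex.homologyMap ((TΔ D).map r) (k + 1) =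
      𝟙 (((TΔ D).obj Q).homology (k + 1)) := by
    rw [← HomologicalComplex.homologyMap_comp, ← (TΔ D).map_comp, hr,
      CategoryTheory.Functor.map_id, HomologicalComplex.homologyMap_id]
  rw [← h1, hz.eq_of_tgt (HomologicalComplex.homologyMap ((TΔ D).map (toDec D σΔ ιΔ Q)) (k + 1)) 0,
    zero_comp]

/-! ### the acyclicity criterion -/

lemma hacyc_ev (p : ℕ) (Q : Sh D.Y) (hQ : Injective Q) (n : ℕ) :
    IsZero (((CohTop.push (D.π (up ⦋p⦌))).rightDerived (n + 1)).obj
      ((ev D.Y (up ⦋p⦌)).obj Q)) := by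
  haveI := isFlasque_ev D.Y Q (up ⦋p⦌)
  exact Groth.Agent.Lib.Helper22.CohTop.isZero_Rpush_succ_of_flasque (D.π (up ⦋p⦌)) n _

lemma isZero_lev (G : Sh D.Y)
    (hG : ∀ p : ℕ, TopCat.Sheaf.IsFlasque ((ev D.Y (up ⦋p⦌)).obj G)) (p q : ℕ) :
    IsZero (((TΔ D ⋙ HomologicalComplex.eval (CohTop.Ab S) (ComplexShape.up ℕ) p).rightDerived
      (q + 1)).obj G) := by
  have e1 := (DimShift.rightDerivedIsoOfNatIso (TΔevalIso D p) (q + 1)).app G
  have e2 := (PrecompDelta.rightDerivedPrecompIso (ev D.Y (up ⦋p⦌))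
    (CohTop.push (D.π (up ⦋p⦌))) (hacyc_ev D p) (q + 1)).app G
  haveI := hG p
  have h0 : IsZero (((CohTop.push (D.π (up ⦋p⦌))).rightDerived (q + 1)).obj
      ((ev D.Y (up ⦋p⦌)).obj G)) :=
    Groth.Agent.Lib.Helper22.CohTop.isZero_Rpush_succ_of_flasque (D.π (up ⦋p⦌)) q _
  exact IsZero.of_iso h0 (e1 ≪≫ e2)

/-- **acyclicity criterion** for the direct image of a simplicial diagram -/
theorem isZero_RD_limPush (G : Sh D.Y)
    (hG : ∀ p : ℕ, TopCat.Sheaf.IsFlasque ((ev D.Y (up ⦋p⦌)).obj G))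
    (hex : ∀ k : ℕ, IsZero (((TΔ D).obj G).homology (k + 1))) (n : ℕ) :
    IsZero (((limPush D).rightDerived (n + 1)).obj G) := by
  have h1 : IsZero (((TΔ D ⋙ DescentSSGen.H0 (CohTop.Ab S)).rightDerived (n + 1)).obj G) :=
    DegGroth.isZero_rightDerived_succ (TΔ D)
      (fun Q hQ k => by
        haveI := hQ
        exact isZero_homology_TΔ_of_injective D Q k) G (isZero_lev D G hG) hex n
  exact IsZero.of_iso h1 ((DimShift.rightDerivedIsoOfNatIso (limPushIsoH0 D) (n + 1)).app G)

end Groth.Agent.Lib.Helper5.DeltaAcyc
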