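import Groth.Agent.Lib.Helper5.DSwap
import Groth.Agent.Lib.Helper5.DeltaAcyc

/-!
# The diagonal of a bisimplicial diagram of spaces

For a diagram `W` of spaces over `S` indexed by pairs of simplices, the diagonal `W.restr dg` is
of cohomological descent as soon as `W` is: the direct image of `W` is the direct image of the
diagonal of the restriction, and the restriction of an injective sheaf to the diagonal is acyclic
(décalage in both directions).
-/

set_option autoImplicit false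

universe u

open CategoryTheory CategoryTheory.Limits Opposite TopologicalSpace Simplicial

noncomputable section

namespace Groth.Agent.Lib.Helper5.DiagEZ

open Groth.Agent.Lib.Helper5.DSite Groth.Agent.Lib.Helper5.DPull Groth.Agent.Lib.Helper5.GermFam
  Groth.Agent.Lib.Helper5.LimPush Groth.Agent.Lib.Helper5.LimAdj Groth.Agent.Lib.Helper5.DRestr
  Groth.Agent.Lib.Helper5.DBiMain Groth.Agent.Lib.Helper5.DeltaSite
  Groth.Agent.Lib.Helper5.DeltaAcyc Groth.Agent.Lib.Helper22

/-- the diagonal functor of the small simplex category -/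
abbrev dg : 𝕀.{u} ⥤ 𝕀.{u} × 𝕀.{u} := Functor.diag 𝕀.{u}

/-- the object of vertices -/
abbrev o : 𝕀.{u} := up ⦋0⦌

/-- the object of edges -/
abbrev o1 : 𝕀.{u} := up ⦋1⦌

/-- the vertices of a simplex -/
def vtx (p : 𝕀.{u}) (a : Fin ((AsSmall.down.obj p).len + 1)) : o.{u} ⟶ p :=
  AsSmall.up.map (SimplexCategory.const ⦋0⦌ (AsSmall.down.obj p) a)

lemma eq_vtx (p : 𝕀.{u}) (h : o.{u} ⟶ p) :
    h = vtx p ((AsSmall.down.map h).toOrderHom 0) := by
  have h1 : h = AsSmall.up.map (AsSmall.down.map h) := rfl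
  rw [h1]
  exact congrArg (fun z => AsSmall.up.map z) (SimplexCategory.eq_const_of_zero _)

/-- the edges of a simplex -/
def edg (p : 𝕀.{u}) (a a' : Fin ((AsSmall.down.obj p).len + 1)) (h : a ≤ a') : o1.{u} ⟶ p :=
  AsSmall.up.map (SimplexCategory.mkOfLe a a' h)

/-- the two vertices of the edge -/
def dd (k : Fin 2) : o.{u} ⟶ o1.{u} := AsSmall.up.map (SimplexCategory.δ k)

lemma dd_one_edg (p : 𝕀.{u}) (a a' : Fin ((AsSmall.down.obj p).len + 1)) (h : a ≤ a') :
    dd 1 ≫ edg p a a' h = vtx p a := by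
  have h1 : SimplexCategory.δ (1 : Fin 2) ≫ SimplexCategory.mkOfLe a a' h =
      SimplexCategory.const ⦋0⦌ (AsSmall.down.obj p) a := by
    rw [SimplexCategory.eq_const_of_zero (SimplexCategory.δ (1 : Fin 2) ≫ _)]
    rfl
  exact congrArg (fun z => AsSmall.up.map z) h1

lemma dd_zero_edg (p : 𝕀.{u}) (a a' : Fin ((AsSmall.down.obj p).len + 1)) (h : a ≤ a') :
    dd 0 ≫ edg p a a' h = vtx p a' := by
  have h1 : SimplexCategory.δ (0 : Fin 2) ≫ SimplexCategory.mkOfLe a a' h =
      SimplexCategory.const ⦋0⦌ (AsSmall.down.obj p) a' := by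
    rw [SimplexCategory.eq_const_of_zero (SimplexCategory.δ (0 : Fin 2) ≫ _)]
    rfl
  exact congrArg (fun z => AsSmall.up.map z) h1

variable {S : TopCat.{u}} (W : OverS (𝕀.{u} × 𝕀.{u}) S)

/-- the diagonal diagram -/
abbrev Wd : OverS 𝕀.{u} S := W.restr dg

/-! ### compatible families -/

section sections

variable (G : (Obj W.Y)ᵒᵖ ⥤ AddCommGrpCat.{u}) (V : Opens S)

/-- restriction of compatible families to the diagonal -/
def restrD : LPobj W G V →+ LPobj (Wd W) (resP dg W G) V where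
  toFun x := ⟨fun p => x.1 (p, p), fun p q α => x.2 (p, p) (q, q) (CategoryTheory.Prod.mkHom α α)⟩
  map_zero' := rfl
  map_add' _ _ := rfl

lemma restrD_val (x : LPobj W G V) (p : 𝕀.{u}) : (restrD W G V x).1 p = x.1 (p, p) := rfl

variable {W G V}

/-- the value at a pair of simplices deduced from the value at the vertices -/
def val (y0 : G.obj (op (BVg W V (o.{u}, o.{u})))) {p q : 𝕀.{u}}
    (f : ((o.{u}, o.{u}) : 𝕀.{u} × 𝕀.{u}) ⟶ (p, q)) : G.obj (op (BVg W V (p, q))) :=
  (G.map (homBVg W f (le_refl V)).op).hom y0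

lemma val_comp (y0 : G.obj (op (BVg W V (o.{u}, o.{u})))) {p q p' q' : 𝕀.{u}}
    (f : ((o.{u}, o.{u}) : 𝕀.{u} × 𝕀.{u}) ⟶ (p, q)) (g : ((p, q) : 𝕀.{u} × 𝕀.{u}) ⟶ (p', q')) :
    (G.map (homBVg W g (le_refl V)).op).hom (val y0 f) = val y0 (f ≫ g) := by
  unfold val
  rw [map_comp_apply]
  exact map_congr G (DSite.hom_ext rfl) y0

variable (y : LPobj (Wd W) (resP dg W G) V)

/-- the value at the vertices -/
def y0 : G.obj (op (BVg W V (o.{u}, o.{u}))) := y.1 o

/-- the value at the edges -/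
def y1 : G.obj (op (BVg W V (o1.{u}, o1.{u}))) := y.1 o1

lemma y1_eq (k : Fin 2) :
    (G.map (homBVg W (CategoryTheory.Prod.mkHom (dd k) (dd k) :
      ((o.{u}, o.{u}) : 𝕀.{u} × 𝕀.{u}) ⟶ (o1, o1)) (le_refl V)).op).hom (y0 y) = y1 y :=
  y.2 o o1 (dd k)

lemma val_edge {p q : 𝕀.{u}} (e : o1.{u} ⟶ p) (e' : o1.{u} ⟶ q) (k : Fin 2) :
    (G.map (homBVg W (CategoryTheory.Prod.mkHom e e' :
      ((o1.{u}, o1.{u}) : 𝕀.{u} × 𝕀.{u}) ⟶ (p, q)) (le_refl V)).op).hom (y1 y) =
      val (y0 y) (CategoryTheory.Prod.mkHom (dd k ≫ e) (dd k ≫ e')) := by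
  rw [← y1_eq y k]
  exact val_comp (y0 y) _ _

lemma val_step1 {p q : 𝕀.{u}} (a a' : Fin ((AsSmall.down.obj p).len + 1))
    (b : Fin ((AsSmall.down.obj q).len + 1)) :
    val (y0 y) (CategoryTheory.Prod.mkHom (vtx p a) (vtx q b)) =
      val (y0 y) (CategoryTheory.Prod.mkHom (vtx p a') (vtx q b)) := by
  have key : ∀ (c c' : Fin ((AsSmall.down.obj p).len + 1)), c ≤ c' →
      val (y0 y) (CategoryTheory.Prod.mkHom (vtx p c) (vtx q b)) =
        val (y0 y) (CategoryTheory.Prod.mkHom (vtx p c') (vtx q b)) := by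
    intro c c' h
    have h1 := val_edge y (edg p c c' h) (edg q b b le_rfl) 1
    have h0 := val_edge y (edg p c c' h) (edg q b b le_rfl) 0
    rw [dd_one_edg, dd_one_edg] at h1
    rw [dd_zero_edg, dd_zero_edg] at h0
    exact h1.symm.trans h0
  rcases le_total a a' with h | h
  · exact key a a' h
  · exact (key a' a h).symm

lemma val_step2 {p q : 𝕀.{u}} (a : Fin ((AsSmall.down.obj p).len + 1))
    (b b' : Fin ((AsSmall.down.obj q).len + 1)) :
    val (y0 y) (CategoryTheory.Prod.mkHom (vtx p a) (vtx q b)) =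
      val (y0 y) (CategoryTheory.Prod.mkHom (vtx p a) (vtx q b')) := by
  have key : ∀ (c c' : Fin ((AsSmall.down.obj q).len + 1)), c ≤ c' →
      val (y0 y) (CategoryTheory.Prod.mkHom (vtx p a) (vtx q c)) =
        val (y0 y) (CategoryTheory.Prod.mkHom (vtx p a) (vtx q c')) := by
    intro c c' h
    have h1 := val_edge y (edg p a a le_rfl) (edg q c c' h) 1
    have h0 := val_edge y (edg p a a le_rfl) (edg q c c' h) 0
    rw [dd_one_edg, dd_one_edg] at h1
    rw [dd_zero_edg, dd_zero_edg] at h0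
    exact h1.symm.trans h0
  rcases le_total b b' with h | h
  · exact key b b' h
  · exact (key b' b h).symm

lemma val_eq {p q : 𝕀.{u}} (f g : ((o.{u}, o.{u}) : 𝕀.{u} × 𝕀.{u}) ⟶ (p, q)) :
    val (y0 y) f = val (y0 y) g := by
  have hf : f = CategoryTheory.Prod.mkHom (vtx p ((AsSmall.down.map f.1).toOrderHom 0))
      (vtx q ((AsSmall.down.map f.2).toOrderHom 0)) :=
    Prod.ext (eq_vtx p f.1) (eq_vtx q f.2)
  have hg : g = CategoryTheory.Prod.mkHom (vtx p ((AsSmall.down.map g.1).toOrderHom 0))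
      (vtx q ((AsSmall.down.map g.2).toOrderHom 0)) :=
    Prod.ext (eq_vtx p g.1) (eq_vtx q g.2)
  rw [hf, hg]
  exact (val_step1 y _ _ _).trans (val_step2 y _ _ _)

/-- the canonical morphism from the vertices -/
def cc (i : 𝕀.{u} × 𝕀.{u}) : ((o.{u}, o.{u}) : 𝕀.{u} × 𝕀.{u}) ⟶ i :=
  CategoryTheory.Prod.mkHom (vtx i.1 0) (vtx i.2 0)

/-- the extension of a compatible family on the diagonal -/
def ext : LPobj W G V :=
  ⟨fun i => val (y0 y) (cc i), fun i j f => by
    change (G.map (homBVg W f (le_refl V)).op).hom (val (y0 y) (cc i)) = val (y0 y) (cc j)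
    rw [val_comp]
    exact val_eq y _ _⟩

lemma restrD_ext : restrD W G V (ext y) = y := by
  refine LPobj_ext (Wd W) (resP dg W G) _ _ (fun p => ?_)
  have h := y.2 o p (vtx p 0)
  exact h

variable (W G V) in
lemma restrD_bijective : Function.Bijective (restrD W G V) := by
  constructor
  · intro x x' h
    refine LPobj_ext W G _ _ (fun i => ?_)
    have h0 : x.1 (o, o) = x'.1 (o, o) :=
      congrArg (fun z : LPobj (Wd W) (resP dg W G) V => z.1 o) h
    have e1 := x.2 (o, o) i (cc i)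
    have e2 := x'.2 (o, o) i (cc i)
    rw [← e1, ← e2, h0]
  · intro y
    exact ⟨ext y, restrD_ext y⟩

end sections

/-! ### the direct images -/

/-- the direct image of the restriction to the diagonal, for one sheaf -/
def lpObj (G : Sh W.Y) : (limPush W).obj G ≅ (limPush (Wd W)).obj ((resSh dg W).obj G) :=
  (fullyFaithfulSheafToPresheaf _ _).preimageIso
    (NatIso.ofComponents
      (fun V => (AddEquiv.ofBijective (restrD W G.obj V.unop)
        (restrD_bijective W G.obj V.unop)).toAddCommGrpIso) (by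
      intro V V' h
      refine AddCommGrpCat.hom_ext (AddMonoidHom.ext fun y => Subtype.ext (funext fun i => ?_))
      exact map_congr G.obj (DSite.hom_ext rfl) _))

/-- the direct image is the direct image of the restriction to the diagonal -/
def lpR : limPush W ≅ resSh dg W ⋙ limPush (Wd W) :=
  NatIso.ofComponents (fun G => lpObj W G) (by
    intro G G' θ
    apply CategoryTheory.Sheaf.hom_ext
    ext V y
    rfl)

/-- the inverse image to the diagonal -/
def pullIso : pullS (Wd W) ≅ pullS W ⋙ resSh dg W :=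
  NatIso.ofComponents (fun F => pullSRestrIso dg W F) (by
    intro F F' φ
    apply CategoryTheory.Sheaf.hom_ext
    ext A s
    rfl)

lemma unit_diag (F : CohTop.Ab S) :
    unitL W F ≫ (lpObj W ((pullS W).obj F)).hom ≫
      (limPush (Wd W)).map ((pullIso W).inv.app F) = unitL (Wd W) F := by
  apply CategoryTheory.Sheaf.hom_ext
  ext V t
  refine Subtype.ext (funext fun i => ?_)
  refine sec_ext ((Wd W).π i) F.obj _ _ (fun q => ?_)
  rfl

/-! ### acyclicity of the restriction of an injective sheaf -/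

/-- the shift in both directions -/
abbrev σ₂ : 𝕀.{u} × 𝕀.{u} ⥤ 𝕀.{u} × 𝕀.{u} := σΔ.{u}.prod σΔ.{u}

/-- the natural transformation to the shift -/
def ι₂ : 𝟭 (𝕀.{u} × 𝕀.{u}) ⟶ σ₂.{u} where
  app i := CategoryTheory.Prod.mkHom (ιΔ.{u}.app i.1) (ιΔ.{u}.app i.2)
  naturality i j α := Prod.ext (ιΔ.{u}.naturality α.1) (ιΔ.{u}.naturality α.2)

/-- the retraction of the shift -/
def ρ₂ (i : 𝕀.{u} × 𝕀.{u}) : σ₂.{u}.obj i ⟶ i :=
  CategoryTheory.Prod.mkHom (ρΔ i.1) (ρΔ i.2)

lemma hρ₂ (i : 𝕀.{u} × 𝕀.{u}) : ι₂.{u}.app i ≫ ρ₂ i = 𝟙 i :=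
  Prod.ext (hρΔ i.1) (hρΔ i.2)

/-- the restriction to the diagonal of the décalage is the décalage of the restriction -/
def resDecIso (Q : Sh W.Y) :
    (resSh dg W).obj (DecObj W σ₂ ι₂ Q) ≅ DecObj (Wd W) σΔ ιΔ ((resSh dg W).obj Q) :=
  (fullyFaithfulSheafToPresheaf _ _).preimageIso
    (NatIso.ofComponents (fun A => Iso.refl _) (by
      intro A B m
      have key : ((resSh dg W).obj (DecObj W σ₂ ι₂ Q)).obj.map m =
          (DecObj (Wd W) σΔ ιΔ ((resSh dg W).obj Q)).obj.map m := by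
        change Q.obj.map ((decO W σ₂ ι₂).map ((φs dg W).map m.unop)).op =
          Q.obj.map ((φs dg W).map ((decO (Wd W) σΔ ιΔ).map m.unop)).op
        exact congrArg (fun z => Q.obj.map (Quiver.Hom.op z)) (DSite.hom_ext rfl)
      exact (Category.comp_id _).trans (key.trans (Category.id_comp _).symm)))

theorem isZero_homology_TΔ_res (Q : Sh W.Y) [Injective Q] (k : ℕ) :
    IsZero (((TΔ (Wd W)).obj ((resSh dg W).obj Q)).homology (k + 1)) := by
  haveI : Mono (toDec W σ₂ ι₂ Q) := mono_toDec W σ₂ ι₂ ρ₂ hρ₂ Q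
  let r : DecObj W σ₂ ι₂ Q ⟶ Q := Injective.factorThru (𝟙 Q) (toDec W σ₂ ι₂ Q)
  have hr : toDec W σ₂ ι₂ Q ≫ r = 𝟙 Q := Injective.comp_factorThru (𝟙 Q) (toDec W σ₂ ι₂ Q)
  let Q' := (resSh dg W).obj Q
  let a : Q' ⟶ DecObj (Wd W) σΔ ιΔ Q' :=
    (resSh dg W).map (toDec W σ₂ ι₂ Q) ≫ (resDecIso W Q).hom
  let b : DecObj (Wd W) σΔ ιΔ Q' ⟶ Q' := (resDecIso W Q).inv ≫ (resSh dg W).map r
  have hab : a ≫ b = 𝟙 Q' := by
    change ((resSh dg W).map (toDec W σ₂ ι₂ Q) ≫ (resDecIso W Q).hom) ≫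
      (resDecIso W Q).inv ≫ (resSh dg W).map r = 𝟙 _
    rw [Category.assoc, Iso.hom_inv_id_assoc, ← Functor.map_comp, hr,
      CategoryTheory.Functor.map_id]
  have e : (CosimpLim.Φ (CohTop.Ab S)).obj (CosimpLim.dec ((PcΔ (Wd W)).obj Q')) ≅
      (TΔ (Wd W)).obj (DecObj (Wd W) σΔ ιΔ Q') :=
    (CosimpLim.Φ (CohTop.Ab S)).mapIso (decIso (Wd W) Q')
  have hz : IsZero (((TΔ (Wd W)).obj (DecObj (Wd W) σΔ ιΔ Q')).homology (k + 1)) :=
    IsZero.of_iso (CosimpLim.isZero_homology_dec ((PcΔ (Wd W)).obj Q') k)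
      ((HomologicalComplex.homologyFunctor (CohTop.Ab S) (ComplexShape.up ℕ) (k + 1)).mapIso
        e.symm)
  rw [IsZero.iff_id_eq_zero]
  have h1 : HomologicalComplex.homologyMap ((TΔ (Wd W)).map a) (k + 1) ≫
      HomologicalComplex.homologyMap ((TΔ (Wd W)).map b) (k + 1) =
      𝟙 (((TΔ (Wd W)).obj Q').homology (k + 1)) := by
    rw [← HomologicalComplex.homologyMap_comp, ← (TΔ (Wd W)).map_comp, hab,
      CategoryTheory.Functor.map_id, HomologicalComplex.homologyMap_id]
  rw [← h1, hz.eq_of_tgt (HomologicalComplex.homologyMap ((TΔ (Wd W)).map a) (k + 1)) 0,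
    zero_comp]

instance isFlasque_ev_res (Q : Sh W.Y) [Injective Q] (i : 𝕀.{u}) :
    TopCat.Sheaf.IsFlasque ((ev (Wd W).Y i).obj ((resSh dg W).obj Q)) where
  epi {V V'} h := by
    haveI := injective_obj W.Y Q
    rw [AddCommGrpCat.epi_iff_surjective]
    refine DYoneda.map_surjective_of_injective Q.obj
      ((φs dg W).map ((DSite.ι (Wd W).Y i).map h.unop)) ?_
    intro B g g' e
    apply DSite.hom_ext
    have e' := congrArg DSite.Hom.α e
    change dg.map (𝟙 i) ≫ g.α = dg.map (𝟙 i) ≫ g'.α at e'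
    rwa [dg.map_id, Category.id_comp, Category.id_comp] at e'

/-- the restriction of an injective sheaf to the diagonal is acyclic for the direct image -/
theorem isZero_RD_res (Q : Sh W.Y) (hQ : Injective Q) (n : ℕ) :
    IsZero (((limPush (Wd W)).rightDerived (n + 1)).obj ((resSh dg W).obj Q)) :=
  isZero_RD_limPush (Wd W) ((resSh dg W).obj Q) (fun p => isFlasque_ev_res W Q (up ⦋p⦌))
    (fun k => isZero_homology_TΔ_res W Q k) n

/-- **the diagonal of a diagram of cohomological descent is of cohomological descent** -/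
theorem cd_diag (h : CD W) : CD (Wd W) := by
  obtain ⟨h1, h2⟩ := h
  refine ⟨fun F => ?_, fun F q => ?_⟩
  · have := h1 F
    rw [← unit_diag W F]
    infer_instance
  · have := DBi.pfl_limPush (Wd W)
    have : (limPush (Wd W)).Additive := DBiAcyc.additive_limPush' _
    have : (limPush W).Additive := DBiAcyc.additive_limPush' _
    have e1 := (DimShift.rightDerivedIsoOfNatIso (lpR W) (q + 1)).app ((pullS W).obj F)
    have e2 := (Groth.Agent.Lib.Helper5.PrecompDelta.rightDerivedPrecompIso (resSh dg W)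
      (limPush (Wd W)) (fun Q hQ n => isZero_RD_res W Q hQ n) (q + 1)).app ((pullS W).obj F)
    have e3 := ((limPush (Wd W)).rightDerived (q + 1)).mapIso ((pullIso W).app F)
    exact IsZero.of_iso (h2 F q) (e3 ≪≫ e2.symm ≪≫ e1.symm)

end Groth.Agent.Lib.Helper5.DiagEZ
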