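import Groth.Agent.Lib.Helper5.BiCech
import Groth.Agent.Lib.Helper5.DiagEZ
import Groth.Agent.Lib.Helper5.DRetract

/-!
# The bisimplicial Čech diagram of a morphism of simplicial diagrams

For a morphism `u : Z ⟶ B` of simplicial diagrams of spaces over `S` all of whose components are
of cohomological descent, the fibre powers of the components form a bisimplicial diagram over `B`
whose columns are of cohomological descent.  If the diagonal of this bisimplicial diagram retracts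
onto `Z`, cohomological descent of `B` implies cohomological descent of `Z`.
-/

set_option autoImplicit false
set_option backward.isDefEq.respectTransparency false
set_option backward.isDefEq.respectTransparency.types false

universe u

open CategoryTheory CategoryTheory.Limits Opposite TopologicalSpace Topology
open FibDesc FibSite

noncomputable section

namespace Groth.Agent.Lib.Helper5.CechBi

open Groth.Agent.Lib.Helper5.DSite Groth.Agent.Lib.Helper5.DPull
  Groth.Agent.Lib.Helper5.DeltaSite Groth.Agent.Lib.Helper5.LimPush Groth.Agent.Lib.Helper5.FDSite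
  Groth.Agent.Lib.Helper5.LimAdj Groth.Agent.Lib.Helper5.CechDiag
  Groth.Agent.Lib.Helper5.ProperDescent Groth.Agent.Lib.Helper5.DeltaCmp
  Groth.Agent.Lib.Helper5.DRestr Groth.Agent.Lib.Helper5.FDCech
  Groth.Agent.Lib.Helper5.DBi Groth.Agent.Lib.Helper5.DBiMain Groth.Agent.Lib.Helper5.BiCech
  Groth.Agent.Lib.Helper5.DCmp Groth.Agent.Lib.Helper5.DiagEZ Groth.Agent.Lib.Helper5.DRetract

variable {S : TopCat.{u}} {B Z : OverS 𝕀.{u} S} (uu : Z.Y ⟶ B.Y)

/-- the components of the morphism -/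
abbrev ul (i : 𝕀.{u}) : Sp Z.Y i ⟶ Sp B.Y i := uu.app (op i)

/-- the number of factors attached to an index -/
abbrev nf (j : 𝕀.{u}) : ℕ := (AsSmall.down.obj j).len + 1

/-- the map of factors attached to a morphism of indices -/
abbrev fm {j' j : 𝕀.{u}} (β : j' ⟶ j) (k : Fin (nf j')) : Fin (nf j) :=
  (AsSmall.down.map β).toOrderHom k

/-- the fibre powers of the components -/
abbrev Wt (i j : 𝕀.{u}) : TopCat.{u} := XcT (ul uu i) (nf j)

lemma ul_nat {i' i : 𝕀.{u}} (α : i' ⟶ i) (z : Sp Z.Y i) :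
    ul uu i' (tr Z.Y α z) = tr B.Y α (ul uu i z) :=
  κ_nat uu α z

/-- the transition maps of the bisimplicial diagram -/
def WmapFun {i' i j' j : 𝕀.{u}} (α : i' ⟶ i) (β : j' ⟶ j) (w : Wt uu i j) : Wt uu i' j' :=
  mkXc (ul uu i') (tr B.Y α w.1.1) (fun k => tr Z.Y α (w.1.2 (fm β k)))
    (fun k => (ul_nat uu α _).trans (congrArg (fun t => tr B.Y α t) (w.2 (fm β k))))

lemma continuous_WmapFun {i' i j' j : 𝕀.{u}} (α : i' ⟶ i) (β : j' ⟶ j) :
    Continuous (WmapFun uu α β) := by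
  have h1 : Continuous (fun w : Wt uu i j => (w.1.1 : Sp B.Y i)) :=
    continuous_fst.comp continuous_subtype_val
  have h2 : ∀ k, Continuous (fun w : Wt uu i j => (w.1.2 (fm β k) : Sp Z.Y i)) := fun k =>
    (continuous_apply (fm β k)).comp (continuous_snd.comp continuous_subtype_val)
  exact Continuous.subtype_mk
    (((tr B.Y α).hom.continuous.comp h1).prodMk
      (continuous_pi fun k => (tr Z.Y α).hom.continuous.comp (h2 k))) _

/-- the transition maps of the bisimplicial diagram -/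
def Wmap {i' i j' j : 𝕀.{u}} (α : i' ⟶ i) (β : j' ⟶ j) : Wt uu i j ⟶ Wt uu i' j' :=
  TopCat.ofHom ⟨WmapFun uu α β, continuous_WmapFun uu α β⟩

lemma πc_Wmap {i' i j' j : 𝕀.{u}} (α : i' ⟶ i) (β : j' ⟶ j) (w : Wt uu i j) :
    πc (ul uu i') (nf j') (Wmap uu α β w) = tr B.Y α (πc (ul uu i) (nf j) w) := rfl

lemma prc_Wmap {i' i j' j : 𝕀.{u}} (α : i' ⟶ i) (β : j' ⟶ j) (k : Fin (nf j'))
    (w : Wt uu i j) :
    prc (ul uu i') (nf j') k (Wmap uu α β w) =
      tr Z.Y α (prc (ul uu i) (nf j) (fm β k) w) := rfl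

lemma fm_id (j : 𝕀.{u}) (k : Fin (nf j)) : fm (𝟙 j) k = k := by
  change (AsSmall.down.map (𝟙 j)).toOrderHom k = k
  rw [CategoryTheory.Functor.map_id]
  rfl

lemma fm_comp {j'' j' j : 𝕀.{u}} (β' : j'' ⟶ j') (β : j' ⟶ j) (k : Fin (nf j'')) :
    fm (β' ≫ β) k = fm β (fm β' k) := by
  change (AsSmall.down.map (β' ≫ β)).toOrderHom k = _
  rw [CategoryTheory.Functor.map_comp]
  rfl

/-- the bisimplicial diagram of the fibre powers -/
def Wf : (𝕀.{u} × 𝕀.{u})ᵒᵖ ⥤ TopCat.{u} where
  obj a := Wt uu a.unop.1 a.unop.2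
  map θ := Wmap uu θ.unop.1 θ.unop.2
  map_id a := by
    refine ConcreteCategory.hom_ext _ _ (fun w => ?_)
    apply Xc_ext
    · exact tr_id_apply B.Y a.unop.1 _
    · intro k
      refine (tr_id_apply Z.Y a.unop.1 _).trans ?_
      exact congrArg (fun t => w.1.2 t) (fm_id a.unop.2 k)
  map_comp θ θ' := by
    refine ConcreteCategory.hom_ext _ _ (fun w => ?_)
    apply Xc_ext
    · exact ConcreteCategory.congr_hom (B.Y.map_comp θ.unop.1.op θ'.unop.1.op) _
    · intro k
      refine (ConcreteCategory.congr_hom (Z.Y.map_comp θ.unop.1.op θ'.unop.1.op) _).trans ?_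
      exact congrArg (fun t => tr Z.Y θ'.unop.1 (tr Z.Y θ.unop.1 (w.1.2 t)))
        (fm_comp θ'.unop.2 θ.unop.2 k)

/-- the projection to the base diagram -/
def κW : Wf uu ⟶ (CategoryTheory.Prod.fst 𝕀.{u} 𝕀.{u}).op ⋙ B.Y where
  app a := πc (ul uu a.unop.1) (nf a.unop.2)
  naturality a b θ := ConcreteCategory.hom_ext _ _ (fun w => rfl)

/-- the columns are the Čech diagrams of the components -/
def cCol (p : 𝕀.{u}) : Cmp (cechAug (ul uu p)) (col B (κW uu) p) :=
  cmpTrans (cmpCech (ul uu p))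
    (NatIso.ofComponents (fun _ => Iso.refl _) (by
      intro i j θ
      refine ConcreteCategory.hom_ext _ _ (fun w => ?_)
      symm
      apply Xc_ext
      · exact tr_id_apply B.Y p _
      · intro k
        exact tr_id_apply Z.Y p _))
    (fun _ _ => rfl)

/-- the diagonal embedding -/
def δFun (i : 𝕀.{u}) (z : Sp Z.Y i) : Wt uu i i :=
  mkXc (ul uu i) (ul uu i z) (fun _ => z) (fun _ => rfl)

/-- the diagonal embedding -/
def δW : Z.Y ⟶ (dg.{u}).op ⋙ Wf uu where
  app a := TopCat.ofHom ⟨δFun uu a.unop, Continuous.subtype_mk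
    ((ul uu a.unop).hom.continuous.prodMk (continuous_pi fun _ => continuous_id)) _⟩
  naturality a b θ := by
    refine ConcreteCategory.hom_ext _ _ (fun z => ?_)
    apply Xc_ext
    · exact ul_nat uu θ.unop z
    · intro k
      rfl

variable (hu : ∀ (i : 𝕀.{u}) (w : Sp Z.Y i), B.π i (ul uu i w) = Z.π i w)
  (ρ : ∀ i : 𝕀.{u}, Wt uu i i ⟶ Sp Z.Y i)
  (hρ_nat : ∀ {i j : 𝕀.{u}} (α : i ⟶ j) (w : Wt uu j j),
    ρ i (Wmap uu α α w) = tr Z.Y α (ρ j w))
  (hρ_δ : ∀ (i : 𝕀.{u}) (z : Sp Z.Y i), ρ i (δFun uu i z) = z)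
  (hρ_π : ∀ (i : 𝕀.{u}) (w : Wt uu i i), Z.π i (ρ i w) = B.π i w.1.1)

/-- the retraction, as a morphism of diagrams -/
def ρW : (dg.{u}).op ⋙ Wf uu ⟶ Z.Y where
  app a := ρ a.unop
  naturality a b θ := ConcreteCategory.hom_ext _ _ (fun w => hρ_nat θ.unop w)

include hρ_nat hρ_δ hρ_π in
/-- **descent along a morphism of simplicial diagrams with components of cohomological descent
whose diagonal Čech diagram retracts onto the source** -/
theorem cd_step (hcd : ∀ i : 𝕀.{u}, IsCohDescentMap (ul uu i)) (hB : CD B) : CD Z := by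
  have hcols : ∀ p : 𝕀.{u}, CD (col B (κW uu) p) := fun p =>
    cd_of_cmp (cCol uu p) (hcd p)
  have h1 : CD (ZZ B (κW uu)) := (cd_iff B (κW uu) hcols).2 hB
  have h2 : CD (Wd (ZZ B (κW uu))) := cd_diag _ h1
  have h3 : Wd (ZZ B (κW uu)) = Z.comp (ρW uu ρ hρ_nat) :=
    DRetract.overS_ext (Y := (dg.{u}).op ⋙ Wf uu) _ _
      (fun {_ _} α w => (Wd (ZZ B (κW uu))).hπ α w)
      (fun {_ _} α w => (Z.comp (ρW uu ρ hρ_nat)).hπ α w)
      (fun i => ConcreteCategory.hom_ext _ _ (fun w => (hρ_π i w).symm))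
  refine cd_of_retract Z (ρW uu ρ hρ_nat) (δW uu) ?_ (CD.congr h3 h2)
  ext a z
  exact hρ_δ a.unop z

end Groth.Agent.Lib.Helper5.CechBi
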