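import Groth.Agent.Lib.Helper5.ExtCechLC

/-!
# Modules closed for the extended Čech complex

`Closed fs N` says that `H^0` and `H^1` of the extended Čech complex of `N` vanish.  For a linear
map `r : M ⟶ N` with `fs`-torsion kernel and cokernel and `N` closed, `H^0(Č M) ≅ ker r` and
`H^1(Č M) ≅ coker r` (`thmA`); `closed_cons_of` is the inductive criterion for closedness.
-/

set_option autoImplicit false

universe u

open CategoryTheory CategoryTheory.Limits CochainComplex DerCA
open Groth.Agent.Lib.Helper28.ExtCech Groth.Agent.Lib.Helper5.ExtCechFunctor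
open Groth.Agent.Lib.Helper5.ExtCechH0

attribute [local instance] HasDerivedCategory.standard

noncomputable section

namespace Groth.Agent.Lib.Helper5.CechClosed

variable {R : Type u} [CommRing R]

/-- cohomology of the extended Čech complex (functorial model) -/
abbrev Hq (fs : List R) (N : ModuleCat.{u} R) (q : ℤ) : ModuleCat.{u} R :=
  ((cechF fs).obj N).homology q

/-- power torsion for every element of the list -/
def Tors (fs : List R) (T : ModuleCat.{u} R) : Prop := ∀ f ∈ fs, PowTors f T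

/-- `H^0` and `H^1` of the extended Čech complex vanish -/
def Closed (fs : List R) (N : ModuleCat.{u} R) : Prop := IsZero (Hq fs N 0) ∧ IsZero (Hq fs N 1)

/-! ### The cocone -/

section LES

variable {K L : DRing.Cx R} (φ : K ⟶ L)

lemma isZero_cocone_of_surj_inj (n₀ n₁ : ℤ) (h : n₀ + 1 = n₁)
    (hs : Function.Surjective (HomologicalComplex.homologyMap φ n₀).hom)
    (hi : Function.Injective (HomologicalComplex.homologyMap φ n₁).hom) :
    IsZero ((mappingCocone φ).homology n₁) := by
  have hex := CochainComplex.homologyMap_exact₁_of_distTriang (mappingCocone.triangle φ)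
    (DerivedCategory.mappingCocone_triangle_distinguished φ) n₀ n₁ h
  have hz := CochainComplex.homologyMap_homologyδOfTriangle (mappingCocone.triangle φ)
    (DerivedCategory.mappingCocone_triangle_distinguished φ) n₀ n₁ h
  haveI : Epi (HomologicalComplex.homologyMap φ n₀) := (ModuleCat.epi_iff_surjective _).2 hs
  have hδ : CochainComplex.homologyδOfTriangle (mappingCocone.triangle φ) n₀ n₁ h = 0 :=
    (cancel_epi (HomologicalComplex.homologyMap φ n₀)).1 (hz.trans comp_zero.symm)
  have hfst : HomologicalComplex.homologyMap (mappingCocone.fst φ) n₁ = 0 := by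
    apply ModuleCat.hom_ext
    apply LinearMap.ext
    intro y
    exact hi ((map_fst_eq_zero φ n₁ y).trans (map_zero _).symm)
  exact hex.isZero_X₂ hδ hfst

end LES

/-! ### Localisation at an element acting injectively / surjectively -/

lemma pow_smul_eq_zero {f : R} {H : ModuleCat.{u} R} (h : ∀ x : H, f • x = 0 → x = 0) :
    ∀ (k : ℕ) (x : H), f ^ k • x = 0 → x = 0
  | 0, x, hx => by
    rw [pow_zero, one_smul] at hx
    exact hx
  | k + 1, x, hx => by
    rw [pow_succ, mul_smul] at hx
    exact h x (pow_smul_eq_zero h k _ hx)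

lemma pow_smul_surj {f : R} {H : ModuleCat.{u} R} (h : ∀ x : H, ∃ y, f • y = x) :
    ∀ (k : ℕ) (x : H), ∃ y, f ^ k • y = x
  | 0, x => ⟨x, by rw [pow_zero, one_smul]⟩
  | k + 1, x => by
    obtain ⟨y, hy⟩ := pow_smul_surj h k x
    obtain ⟨z, hz⟩ := h y
    exact ⟨z, by rw [pow_succ, mul_smul, hz, hy]⟩

lemma mk_injective_of (f : R) (H : ModuleCat.{u} R) (h : ∀ x : H, f • x = 0 → x = 0) :
    Function.Injective (LocalizedModule.mkLinearMap (Submonoid.powers f) H) := by
  rw [injective_iff_map_eq_zero]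
  intro x hx
  obtain ⟨⟨_, k, rfl⟩, hc⟩ := (IsLocalizedModule.eq_zero_iff (Submonoid.powers f)
    (LocalizedModule.mkLinearMap (Submonoid.powers f) H)).1 hx
  exact pow_smul_eq_zero h k x hc

lemma mk_surjective_of (f : R) (H : ModuleCat.{u} R) (h : ∀ x : H, ∃ y, f • y = x) :
    Function.Surjective (LocalizedModule.mkLinearMap (Submonoid.powers f) H) := by
  intro z
  induction z using LocalizedModule.induction_on with
  | h m s =>
    obtain ⟨_, k, rfl⟩ := s
    obtain ⟨y, hy⟩ := pow_smul_surj h k m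
    refine ⟨y, ?_⟩
    rw [LocalizedModule.mkLinearMap_apply, LocalizedModule.mk_eq]
    refine ⟨1, ?_⟩
    rw [one_smul, one_smul, one_smul]
    exact hy

lemma homologyMap_loc_injective (f : R) (K : DRing.Cx R) (n : ℤ)
    (h : ∀ x : K.homology n, f • x = 0 → x = 0) :
    Function.Injective
      (HomologicalComplex.homologyMap (locCxUnit (Submonoid.powers f) K) n).hom := by
  intro a b hab
  have e := homologyMap_locCxUnit (Submonoid.powers f) K n
  have h1 := congrArg (fun t => (homologyLocCxIso (Submonoid.powers f) K n).hom.hom t) hab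
  have ha := app_eq e a
  have hb := app_eq e b
  exact mk_injective_of f _ h (ha.symm.trans (h1.trans hb))

lemma homologyMap_loc_surjective (f : R) (K : DRing.Cx R) (n : ℤ)
    (h : ∀ x : K.homology n, ∃ y, f • y = x) :
    Function.Surjective
      (HomologicalComplex.homologyMap (locCxUnit (Submonoid.powers f) K) n).hom := by
  intro z
  obtain ⟨y, hy⟩ := mk_surjective_of f _ h
    ((homologyLocCxIso (Submonoid.powers f) K n).hom.hom z)
  refine ⟨y, ?_⟩
  have e := app_eq (homologyMap_locCxUnit (Submonoid.powers f) K n) y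
  have hinj : Function.Injective (homologyLocCxIso (Submonoid.powers f) K n).hom.hom :=
    ((ConcreteCategory.isIso_iff_bijective
      (homologyLocCxIso (Submonoid.powers f) K n).hom).1 inferInstance).1
  exact hinj (e.trans hy)

lemma isZero_loc_of_powTors (f : R) (H : ModuleCat.{u} R) (h : PowTors f H) :
    IsZero ((locFunctor (Submonoid.powers f)).obj H) := by
  haveI : Subsingleton (LocalizedModule (Submonoid.powers f) H) := by
    rw [LocalizedModule.subsingleton_iff]
    intro m
    obtain ⟨n, hn⟩ := h m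
    exact ⟨f ^ n, ⟨n, rfl⟩, hn⟩
  exact ModuleCat.isZero_of_subsingleton (ModuleCat.of R (LocalizedModule (Submonoid.powers f) H))

/-! ### Torsion modules -/

lemma powTors_H0 (fs : List R) (T : ModuleCat.{u} R) (f : R) (h : PowTors f T) :
    PowTors f (Hq fs T 0) := by
  intro x
  obtain ⟨n, hn⟩ := h ((ρ fs T).hom x)
  refine ⟨n, (ρ_spec fs T).1 ?_⟩
  rw [map_smul, hn, map_zero]

theorem isZero_Hq_of_tors : ∀ (fs : List R) (T : ModuleCat.{u} R), Tors fs T →
    ∀ n₀ : ℤ, 0 ≤ n₀ → IsZero (Hq fs T (n₀ + 1))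
  | [], T, _, n₀, hn => by
    change IsZero (((HomologicalComplex.single (ModuleCat.{u} R) (ComplexShape.up ℤ) 0).obj
      T).homology (n₀ + 1))
    exact isZero_homology_of_isZero_X _ _
      (HomologicalComplex.isZero_single_obj_X (ComplexShape.up ℤ) 0 T (n₀ + 1) (by omega))
  | f :: fs, T, hT, n₀, hn => by
    have hT' : Tors fs T := fun g hg => hT g (List.mem_cons_of_mem _ hg)
    change IsZero ((mappingCocone (locCxUnit (Submonoid.powers f)
      ((cechF fs).obj T))).homology (n₀ + 1))
    refine isZero_cocone_of_isZero _ n₀ (n₀ + 1) rfl ?_ (isZero_Hq_of_tors fs T hT' n₀ hn)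
    refine IsZero.of_iso ?_ (homologyLocCxIso (Submonoid.powers f) _ n₀)
    by_cases h0 : n₀ = 0
    · subst h0
      exact isZero_loc_of_powTors f _ (powTors_H0 fs T f (hT f List.mem_cons_self))
    · obtain ⟨k, rfl⟩ : ∃ k, n₀ = k + 1 := ⟨n₀ - 1, by omega⟩
      exact (locFunctor (Submonoid.powers f)).map_isZero
        (isZero_Hq_of_tors fs T hT' k (by omega))

/-! ### Closedness for `f :: fs` -/

theorem closed_cons (f : R) (fs : List R) (N : ModuleCat.{u} R)
    (h0 : ∀ x : Hq fs N 0, f • x = 0 → x = 0) (h0s : ∀ x : Hq fs N 0, ∃ y, f • y = x)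
    (h1 : ∀ x : Hq fs N 1, f • x = 0 → x = 0) : Closed (f :: fs) N := by
  constructor
  · change IsZero ((mappingCocone (locCxUnit (Submonoid.powers f)
      ((cechF fs).obj N))).homology 0)
    refine isZero_cocone_of_surj_inj _ (-1) 0 (by norm_num) ?_
      (homologyMap_loc_injective f _ 0 h0)
    have hz : IsZero (((locCx (Submonoid.powers f)).obj ((cechF fs).obj N)).homology (-1)) := by
      refine isZero_homology_of_isZero_X _ _ ?_
      exact (locFunctor (Submonoid.powers f)).map_isZero (isZero_X_neg N fs (-1) (by norm_num))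
    haveI := ModuleCat.subsingleton_of_isZero hz
    intro z
    exact ⟨0, Subsingleton.elim _ _⟩
  · change IsZero ((mappingCocone (locCxUnit (Submonoid.powers f)
      ((cechF fs).obj N))).homology 1)
    exact isZero_cocone_of_surj_inj _ 0 1 (by norm_num) (homologyMap_loc_surjective f _ 0 h0s)
      (homologyMap_loc_injective f _ 1 h1)

/-! ### Kernel and cokernel -/

lemma shortExact_of {S : ShortComplex (ModuleCat.{u} R)} (hf : Function.Injective S.f.hom)
    (hg : Function.Surjective S.g.hom)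
    (hex : ∀ x, S.g.hom x = 0 → ∃ y, S.f.hom y = x) : S.ShortExact := by
  refine ShortComplex.ShortExact.mk' ?_ ((ModuleCat.mono_iff_injective _).2 hf)
    ((ModuleCat.epi_iff_surjective _).2 hg)
  rw [ShortComplex.moduleCat_exact_iff]
  exact hex

section ThmA

variable {M N : ModuleCat.{u} R} (r : M ⟶ N)

/-- `0 → ker r → M → im r → 0` -/
def ses1 : ShortComplex (ModuleCat.{u} R) :=
  ShortComplex.mk (ModuleCat.ofHom (LinearMap.ker r.hom).subtype)
    (ModuleCat.ofHom r.hom.rangeRestrict) (by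
      apply ModuleCat.hom_ext
      apply LinearMap.ext
      intro x
      exact Subtype.ext x.2)

/-- `0 → im r → N → coker r → 0` -/
def ses2 : ShortComplex (ModuleCat.{u} R) :=
  ShortComplex.mk (ModuleCat.ofHom (LinearMap.range r.hom).subtype)
    (ModuleCat.ofHom (LinearMap.range r.hom).mkQ) (by
      apply ModuleCat.hom_ext
      apply LinearMap.ext
      intro x
      exact (Submodule.Quotient.mk_eq_zero _).2 x.2)

lemma ses1_shortExact : (ses1 r).ShortExact := by
  refine shortExact_of (S := ses1 r) Subtype.val_injective ?_ ?_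
  · rintro ⟨y, x, rfl⟩
    exact ⟨x, rfl⟩
  · intro x hx
    exact ⟨⟨x, congrArg Subtype.val hx⟩, rfl⟩

lemma ses2_shortExact : (ses2 r).ShortExact := by
  refine shortExact_of (S := ses2 r) Subtype.val_injective (Submodule.mkQ_surjective _) ?_
  intro x hx
  exact ⟨⟨x, (Submodule.Quotient.mk_eq_zero _).1 hx⟩, rfl⟩

variable (fs : List R)

theorem thmA
    (hK : ∀ m : M, r.hom m = 0 → ∀ f ∈ fs, ∃ n : ℕ, f ^ n • m = 0)
    (hC : ∀ y : N, ∀ f ∈ fs, ∃ (n : ℕ) (m : M), r.hom m = f ^ n • y)
    (hN : Closed fs N) :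
    Nonempty (Hq fs M 0 ≅ ModuleCat.of R (LinearMap.ker r.hom)) ∧
    Nonempty (Hq fs M 1 ≅ ModuleCat.of R (N ⧸ LinearMap.range r.hom)) := by
  constructor
  · -- `H^0`
    have hmem : ∀ x : Hq fs M 0, (ρ fs M).hom x ∈ LinearMap.ker r.hom := by
      intro x
      have ht : ∀ f ∈ fs, ∃ k : ℕ, f ^ k • r.hom ((ρ fs M).hom x) = 0 := by
        intro f hf
        obtain ⟨k, hk⟩ := ((ρ_spec fs M).2 ((ρ fs M).hom x)).1 ⟨x, rfl⟩ f hf
        exact ⟨k, by rw [← map_smul, hk, map_zero]⟩
      obtain ⟨y, hy⟩ := ((ρ_spec fs N).2 _).2 ht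
      haveI := ModuleCat.subsingleton_of_isZero hN.1
      rw [LinearMap.mem_ker, ← hy, Subsingleton.elim y 0, map_zero]
    let φ : Hq fs M 0 →ₗ[R] LinearMap.ker r.hom :=
      LinearMap.codRestrict (LinearMap.ker r.hom) (ρ fs M).hom hmem
    have hφ : Function.Bijective φ := by
      constructor
      · intro a b hab
        exact (ρ_spec fs M).1 (congrArg Subtype.val hab)
      · rintro ⟨m, hm⟩
        obtain ⟨x, hx⟩ := ((ρ_spec fs M).2 m).2 (hK m hm)
        exact ⟨x, Subtype.ext hx⟩
    exact ⟨(LinearEquiv.ofBijective φ hφ).toModuleIso⟩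
  · -- `H^1`
    have hS1 := cechF_shortExact fs (ses1 r) (ses1_shortExact r)
    have hS2 := cechF_shortExact fs (ses2 r) (ses2_shortExact r)
    have tK : Tors fs (ModuleCat.of R (LinearMap.ker r.hom)) := by
      intro f hf x
      obtain ⟨n, hn⟩ := hK x.1 x.2 f hf
      exact ⟨n, Subtype.ext hn⟩
    have tC : Tors fs (ModuleCat.of R (N ⧸ LinearMap.range r.hom)) := by
      intro f hf y
      obtain ⟨y', rfl⟩ := Submodule.mkQ_surjective _ y
      obtain ⟨n, m, hm⟩ := hC y' f hf
      refine ⟨n, ?_⟩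
      rw [← map_smul, ← hm]
      exact (Submodule.Quotient.mk_eq_zero _).2 ⟨m, rfl⟩
    -- `H^1(M) ≅ H^1(im r)`
    have z1 : IsZero (Hq fs (ModuleCat.of R (LinearMap.ker r.hom)) 1) :=
      isZero_Hq_of_tors fs _ tK 0 le_rfl
    have z2 : IsZero (Hq fs (ModuleCat.of R (LinearMap.ker r.hom)) 2) :=
      isZero_Hq_of_tors fs _ tK 1 zero_le_one
    haveI m1 : Mono (HomologicalComplex.homologyMap ((ses1 r).map (cechF fs)).g 1) :=
      (hS1.homology_exact₂ 1).mono_g (z1.eq_of_src _ _)
    haveI e1 : Epi (HomologicalComplex.homologyMap ((ses1 r).map (cechF fs)).g 1) :=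
      (hS1.homology_exact₃ 1 2 (by simp)).epi_f (z2.eq_of_tgt _ _)
    have hiso : IsIso (HomologicalComplex.homologyMap ((ses1 r).map (cechF fs)).g 1) :=
      isIso_of_mono_of_epi _
    let a : Hq fs M 1 ≅ Hq fs (ModuleCat.of R (LinearMap.range r.hom)) 1 :=
      @asIso _ _ _ _ (HomologicalComplex.homologyMap ((ses1 r).map (cechF fs)).g 1) hiso
    -- `H^0(coker r) ≅ H^1(im r)`
    let b : Hq fs (ModuleCat.of R (N ⧸ LinearMap.range r.hom)) 0 ≅
        Hq fs (ModuleCat.of R (LinearMap.range r.hom)) 1 :=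
      hS2.δIso 0 1 (by simp) hN.1 hN.2
    -- `H^0(coker r) ≅ coker r`
    haveI : IsIso (ρ fs (ModuleCat.of R (N ⧸ LinearMap.range r.hom))) := by
      rw [ConcreteCategory.isIso_iff_bijective]
      refine ⟨(ρ_spec fs _).1, fun y => ?_⟩
      exact ((ρ_spec fs _).2 y).2 (fun f hf => tC f hf y)
    let c : Hq fs (ModuleCat.of R (N ⧸ LinearMap.range r.hom)) 0 ≅
        ModuleCat.of R (N ⧸ LinearMap.range r.hom) :=
      asIso (ρ fs (ModuleCat.of R (N ⧸ LinearMap.range r.hom)))
    exact ⟨a ≪≫ b.symm ≪≫ c⟩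

/-- the inductive criterion -/
theorem closed_cons_of (f : R)
    (hK : ∀ m : M, r.hom m = 0 → ∀ g ∈ fs, ∃ n : ℕ, g ^ n • m = 0)
    (hC : ∀ y : N, ∀ g ∈ fs, ∃ (n : ℕ) (m : M), r.hom m = g ^ n • y)
    (hN : Closed fs N)
    (a1 : ∀ x : M, r.hom x = 0 → f • x = 0 → x = 0)
    (a2 : ∀ x : M, r.hom x = 0 → ∃ y : M, r.hom y = 0 ∧ f • y = x)
    (b : ∀ s : N, (∃ t, r.hom t = f • s) → ∃ t', r.hom t' = s) : Closed (f :: fs) M := by
  obtain ⟨⟨e0⟩, ⟨e1⟩⟩ := thmA r fs hK hC hN
  have i0 : Function.Injective e0.hom.hom :=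
    ((ConcreteCategory.isIso_iff_bijective e0.hom).1 inferInstance).1
  have i1 : Function.Injective e1.hom.hom :=
    ((ConcreteCategory.isIso_iff_bijective e1.hom).1 inferInstance).1
  have s0 : Function.Surjective e0.hom.hom :=
    ((ConcreteCategory.isIso_iff_bijective e0.hom).1 inferInstance).2
  refine closed_cons f fs M ?_ ?_ ?_
  · intro x hx
    apply i0
    rw [map_zero]
    have h2 : f • e0.hom.hom x = 0 := by rw [← map_smul, hx, map_zero]
    exact Subtype.ext (a1 _ (e0.hom.hom x).2 (congrArg Subtype.val h2))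
  · intro x
    obtain ⟨y, hy, hfy⟩ := a2 _ (e0.hom.hom x).2
    obtain ⟨y', hy'⟩ := s0 ⟨y, hy⟩
    refine ⟨y', i0 ?_⟩
    rw [map_smul, hy']
    exact Subtype.ext hfy
  · intro x hx
    apply i1
    rw [map_zero]
    have h2 : f • e1.hom.hom x = 0 := by rw [← map_smul, hx, map_zero]
    obtain ⟨s, hs⟩ := Submodule.mkQ_surjective _ (e1.hom.hom x)
    rw [← hs] at h2 ⊢
    rw [← map_smul] at h2
    obtain ⟨t, ht⟩ := (Submodule.Quotient.mk_eq_zero _).1 h2
    obtain ⟨t', ht'⟩ := b s ⟨t, ht⟩
    exact (Submodule.Quotient.mk_eq_zero _).2 ⟨t', ht'⟩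

end ThmA

end Groth.Agent.Lib.Helper5.CechClosed
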