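import Groth.Agent.Lib.Helper22.Cech.Top

/-!
# Čech vanishing from surjective restrictions, via a coarser topology

For a family of opens `U i` of a space `X`, we equip the underlying set of `X` with the topology
generated by the `U i`.  An abelian sheaf `F` on `X` gives an abelian sheaf `G` on this coarse space
`Y` with `G(W) = F(W ∩ ⋃ U i)`; its Čech complex for the family `U i` (viewed in `Y`) is identified
with the Čech complex of `F`; and `G` is flasque as soon as `F(⋃ U i) → F(U')` is surjective for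
every union `U'` of finite intersections of the `U i`.
-/

set_option autoImplicit false

universe u

open CategoryTheory CategoryTheory.Limits Opposite TopologicalSpace

namespace Groth.Agent.Lib.Helper5.CechCoarse

open Groth.Agent.Lib.Helper22.Cech

section transfer

variable {C : Type u} [Category.{u} C] [HasFiniteProducts C]
  {C' : Type u} [Category.{u} C'] [HasFiniteProducts C'] {ι : Type u}
  (U : ι → C) (U' : ι → C') (P : Cᵒᵖ ⥤ AddCommGrpCat.{u}) (P' : C'ᵒᵖ ⥤ AddCommGrpCat.{u})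

/-- A family of maps between the components of two Čech complexes, compatible with faces. -/
structure Compat where
  /-- the maps on components -/
  θ : ∀ (n : ℕ) (σ : Fin (n + 1) → ι), P.obj (op (Uσ U σ)) ⟶ P'.obj (op (Uσ U' σ))
  face : ∀ (n : ℕ) (σ : Fin (n + 2) → ι) (k : Fin (n + 2))
    (x : P.obj (op (Uσ U (σ ∘ k.succAbove)))),
    θ (n + 1) σ (P.map (face U σ k).op x) = P'.map (face U' σ k).op (θ n (σ ∘ k.succAbove) x)

variable {U U' P P'}

/-- The induced map on cochains. -/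
noncomputable def Compat.map (T : Compat U U' P P') (n : ℕ) (a : (CK U P).X n) : (CK U' P').X n :=
  Groth.Agent.Lib.Helper22.Cech.mk U' P' fun σ => T.θ n σ (proj U P n σ a)

lemma Compat.proj_map (T : Compat U U' P P') (n : ℕ) (a : (CK U P).X n) (σ : Fin (n + 1) → ι) :
    proj U' P' n σ (T.map n a) = T.θ n σ (proj U P n σ a) := by
  unfold Compat.map
  rw [proj_mk]

lemma Compat.map_zero (T : Compat U U' P P') (n : ℕ) : T.map n 0 = 0 := by
  apply ext_proj
  intro σ
  rw [T.proj_map, _root_.map_zero, _root_.map_zero, _root_.map_zero]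

lemma Compat.map_d (T : Compat U U' P P') (n : ℕ) (a : (CK U P).X n) :
    (CK U' P').d n (n + 1) (T.map n a) = T.map (n + 1) ((CK U P).d n (n + 1) a) := by
  apply ext_proj
  intro σ
  rw [proj_d, T.proj_map, proj_d, map_sum]
  refine Finset.sum_congr rfl fun k _ => ?_
  rw [map_zsmul, T.face, T.proj_map]

lemma acyc_transfer (T : Compat U U' P P') (T' : Compat U' U P' P)
    (hinv : ∀ (n : ℕ) (σ : Fin (n + 1) → ι) (x : P'.obj (op (Uσ U' σ))),
      T.θ n σ (T'.θ n σ x) = x) (n : ℕ) (hA : Acyc U P n) : Acyc U' P' n := by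
  intro x hx
  have h1 : (CK U P).d (n + 1) (n + 2) (T'.map (n + 1) x) = 0 := by
    rw [T'.map_d, hx, T'.map_zero]
  obtain ⟨y, hy⟩ := hA _ h1
  refine ⟨T.map n y, ?_⟩
  rw [T.map_d, hy]
  apply ext_proj
  intro σ
  rw [T.proj_map, T'.proj_map, hinv]

end transfer

variable {X : TopCat.{u}} {ι : Type u} (U : ι → Opens X)

/-- The underlying set of `X`, to be equipped with the topology generated by the `U i`. -/
def Coarse (_ : ι → Opens X) : Type u := ↑X

instance : TopologicalSpace (Coarse U) :=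
  TopologicalSpace.generateFrom (Set.range fun i => ((U i : Opens X) : Set X))

/-- The coarse space. -/
abbrev Y : TopCat.{u} := TopCat.of (Coarse U)

lemma isOpen_coarse_basic (i : ι) : IsOpen (X := Coarse U) ((U i : Opens X) : Set X) :=
  TopologicalSpace.GenerateOpen.basic _ ⟨i, rfl⟩

/-- The members of the family, as opens of the coarse space. -/
def V (i : ι) : Opens (Y U) := ⟨((U i : Opens X) : Set X), isOpen_coarse_basic U i⟩

/-- A point of `X`, viewed in the coarse space. -/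
def toC (x : X) : Y U := x

lemma mem_V (i : ι) (x : X) : toC U x ∈ V U i ↔ x ∈ U i := Iff.rfl

/-- The identity on points, from the open subspace `⋃ U i` of `X` to the coarse space. -/
noncomputable def π : TopCat.of ↥(iSup U) ⟶ Y U :=
  TopCat.ofHom ⟨fun x => (x.1 : Coarse U), by
    apply continuous_generateFrom_iff.2
    rintro s ⟨i, rfl⟩
    exact (U i).2.preimage continuous_subtype_val⟩

/-- The sheaf on the coarse space. -/
noncomputable def G (F : CohTop.Ab X) : CohTop.Ab (Y U) :=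
  (CohTop.push (π U)).obj (CohTop.restr F (iSup U))

/-- The open `W ∩ ⋃ U i` of `X` attached to an open `W` of the coarse space. -/
noncomputable def c (W : Opens (Y U)) : Opens X :=
  ((iSup U).isOpenEmbedding.isOpenMap.functor).obj ((Opens.map (π U)).obj W)

lemma mem_c (W : Opens (Y U)) (x : X) : x ∈ c U W ↔ x ∈ iSup U ∧ toC U x ∈ W := by
  constructor
  · rintro ⟨y, hy, rfl⟩
    exact ⟨y.2, hy⟩
  · rintro ⟨h1, h2⟩
    exact ⟨⟨x, h1⟩, h2, rfl⟩

lemma c_mono {W W' : Opens (Y U)} (h : W' ≤ W) : c U W' ≤ c U W := by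
  intro x hx
  rw [mem_c] at hx ⊢
  exact ⟨hx.1, h hx.2⟩

lemma c_le_iSup (W : Opens (Y U)) : c U W ≤ iSup U := by
  intro x hx
  rw [mem_c] at hx
  exact hx.1

lemma G_rsp (F : CohTop.Ab X) {W W' : Opens (Y U)} (h : W' ≤ W)
    (s : F.obj.obj (op (c U W))) :
    (rsp (G U F).obj h s : F.obj.obj (op (c U W'))) = rsp F.obj (c_mono U h) s := rfl

lemma mem_Uσ_iff {Z : TopCat.{u}} (O : ι → Opens Z) {n : ℕ} (σ : Fin (n + 1) → ι) (x : Z) :
    x ∈ Uσ O σ ↔ ∀ j, x ∈ O (σ j) := by
  rw [Uσ_eq_iInf, ← SetLike.mem_coe, Opens.coe_iInf]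
  simp

lemma c_Uσ_le {n : ℕ} (σ : Fin (n + 1) → ι) : c U (Uσ (V U) σ) ≤ Uσ U σ := by
  intro x hx
  rw [mem_c, mem_Uσ_iff] at hx
  rw [mem_Uσ_iff]
  exact fun j => (mem_V U (σ j) x).1 (hx.2 j)

lemma Uσ_le_c {n : ℕ} (σ : Fin (n + 1) → ι) : Uσ U σ ≤ c U (Uσ (V U) σ) := by
  intro x hx
  rw [mem_Uσ_iff] at hx
  rw [mem_c, mem_Uσ_iff]
  exact ⟨Opens.mem_iSup.2 ⟨σ 0, hx 0⟩, fun j => (mem_V U (σ j) x).2 (hx j)⟩

/-- Around every point of `W ∩ ⋃ U i` there is a finite intersection of members inside `W`. -/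
lemma exists_tuple {W : Set (Y U)} (hW : IsOpen W) :
    ∀ x : X, toC U x ∈ W → x ∈ iSup U →
      ∃ (n : ℕ) (σ : Fin n → ι), 0 < n ∧ (∀ j, x ∈ U (σ j)) ∧
        ∀ y : X, (∀ j, y ∈ U (σ j)) → toC U y ∈ W := by
  have hW' : TopologicalSpace.GenerateOpen
      (Set.range fun i => ((U i : Opens X) : Set X)) W := hW
  induction hW' with
  | basic s hs =>
    obtain ⟨i, rfl⟩ := hs
    intro x hx _
    exact ⟨1, fun _ => i, Nat.one_pos, fun _ => hx, fun y hy => hy 0⟩
  | univ =>
    intro x _ hxU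
    obtain ⟨i, hi⟩ := Opens.mem_iSup.1 hxU
    exact ⟨1, fun _ => i, Nat.one_pos, fun _ => hi, fun y _ => Set.mem_univ _⟩
  | inter s t hs ht ihs iht =>
    intro x hx hxU
    obtain ⟨n₁, σ₁, hn₁, h1, h1'⟩ := ihs hs x hx.1 hxU
    obtain ⟨n₂, σ₂, _, h2, h2'⟩ := iht ht x hx.2 hxU
    refine ⟨n₁ + n₂, Fin.append σ₁ σ₂, by omega, ?_, ?_⟩
    · intro j
      refine Fin.addCases (fun i => ?_) (fun i => ?_) j
      · rw [Fin.append_left]
        exact h1 i
      · rw [Fin.append_right]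
        exact h2 i
    · intro y hy
      refine ⟨h1' y fun j => ?_, h2' y fun j => ?_⟩
      · have := hy (Fin.castAdd n₂ j)
        rwa [Fin.append_left] at this
      · have := hy (Fin.natAdd n₁ j)
        rwa [Fin.append_right] at this
  | sUnion S hS ih =>
    intro x hx hxU
    obtain ⟨s, hsS, hxs⟩ := hx
    obtain ⟨n, σ, hn, h1, h1'⟩ := ih s hsS (hS s hsS) x hxs hxU
    exact ⟨n, σ, hn, h1, fun y hy => ⟨s, hsS, h1' y hy⟩⟩

lemma exists_tuple' (W : Opens (Y U)) (x : X) (hx : x ∈ c U W) :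
    ∃ (p : ℕ) (σ : Fin (p + 1) → ι), x ∈ (⨅ j, U (σ j)) ∧ (⨅ j, U (σ j)) ≤ c U W := by
  rw [mem_c] at hx
  obtain ⟨n, σ, hn, h1, h2⟩ := exists_tuple U W.2 x hx.2 hx.1
  obtain ⟨p, rfl⟩ : ∃ p, n = p + 1 := ⟨n - 1, by omega⟩
  refine ⟨p, σ, ?_, ?_⟩
  · rw [← SetLike.mem_coe, Opens.coe_iInf]
    simpa using h1
  · intro y hy
    rw [← SetLike.mem_coe, Opens.coe_iInf] at hy
    have hy' : ∀ j, y ∈ U (σ j) := by simpa using hy
    rw [mem_c]
    exact ⟨Opens.mem_iSup.2 ⟨σ 0, hy' 0⟩, h2 y hy'⟩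

/-- Every `c W` is a union of finite intersections of members of the family. -/
lemma c_eq_iSup (W : Opens (Y U)) :
    ∃ (κ : Type u) (a : κ → Σ p : ℕ, Fin (p + 1) → ι), c U W = ⨆ k, ⨅ j, U ((a k).2 j) := by
  refine ⟨{s : Σ p : ℕ, Fin (p + 1) → ι // (⨅ j, U (s.2 j)) ≤ c U W}, Subtype.val, ?_⟩
  apply le_antisymm
  · intro x hx
    obtain ⟨p, σ, h1, h2⟩ := exists_tuple' U W x hx
    rw [Opens.mem_iSup]
    exact ⟨⟨⟨p, σ⟩, h2⟩, h1⟩
  · exact iSup_le fun k => k.2

variable (F : CohTop.Ab X)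

/-- The hypothesis of the vanishing statement. -/
def SurjHyp : Prop :=
  ∀ (κ : Type u) (a : κ → Σ p : ℕ, Fin (p + 1) → ι),
      Function.Surjective (F.obj.map (homOfLE
        (iSup_le fun k => (iInf_le _ ⟨0, Nat.succ_pos _⟩).trans (le_iSup U ((a k).2 ⟨0, Nat.succ_pos _⟩)) :
          (⨆ k, ⨅ j, U ((a k).2 j)) ≤ iSup U)).op)

variable {U F}

lemma surj_of_hyp (h : SurjHyp U F) (O : Opens X)
    (hO : ∃ (κ : Type u) (a : κ → Σ p : ℕ, Fin (p + 1) → ι), O = ⨆ k, ⨅ j, U ((a k).2 j))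
    (hle : O ≤ iSup U) : Function.Surjective (rsp F.obj hle) := by
  obtain ⟨κ, a, rfl⟩ := hO
  exact h κ a

lemma isFlasque (h : SurjHyp U F) : TopCat.Sheaf.IsFlasque (G U F) where
  epi {W W'} i := by
    rw [AddCommGrpCat.epi_iff_surjective]
    intro t
    obtain ⟨s, hs⟩ := surj_of_hyp h (c U W'.unop) (c_eq_iSup U W'.unop) (c_le_iSup U W'.unop) t
    refine ⟨rsp F.obj (c_le_iSup U W.unop) s, ?_⟩
    have h2 : rsp F.obj (c_mono U (leOfHom i.unop)) (rsp F.obj (c_le_iSup U W.unop) s) =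
        rsp F.obj (c_le_iSup U W'.unop) s := rsp_rsp F.obj _ _ s
    exact h2.trans hs

variable (U F)

/-- The comparison from the Čech complex on the coarse space to the Čech complex on `X`. -/
noncomputable def compatYX : Compat (V U) U (G U F).obj F.obj where
  θ n σ := rsp F.obj (Uσ_le_c U σ)
  face n σ k x := by
    have hle : Uσ U σ ≤ c U (Uσ (V U) (σ ∘ k.succAbove)) :=
      (Uσ_le_c U σ).trans (c_mono U (leOfHom (face (V U) σ k)))
    have e1 : ∀ x' : F.obj.obj (op (c U (Uσ (V U) (σ ∘ k.succAbove)))),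
        rsp F.obj (Uσ_le_c U σ) (rsp F.obj (c_mono U (leOfHom (face (V U) σ k))) x') =
          rsp F.obj hle x' := fun x' => rsp_rsp F.obj _ _ x'
    have e2 : ∀ x' : F.obj.obj (op (c U (Uσ (V U) (σ ∘ k.succAbove)))),
        F.obj.map (face U σ k).op (rsp F.obj (Uσ_le_c U (σ ∘ k.succAbove)) x') =
          rsp F.obj hle x' := fun x' => by rw [map_eq_rsp, rsp_rsp]
    exact (e1 x).trans (e2 x).symm

/-- The comparison from the Čech complex on `X` to the Čech complex on the coarse space. -/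
noncomputable def compatXY : Compat U (V U) F.obj (G U F).obj where
  θ n σ := rsp F.obj (c_Uσ_le U σ)
  face n σ k x := by
    have hle : c U (Uσ (V U) σ) ≤ Uσ U (σ ∘ k.succAbove) :=
      (c_Uσ_le U σ).trans (leOfHom (face U σ k))
    have e1 : rsp F.obj (c_Uσ_le U σ) (F.obj.map (face U σ k).op x) = rsp F.obj hle x := by
      rw [map_eq_rsp, rsp_rsp]
    have e2 : rsp F.obj (c_mono U (leOfHom (face (V U) σ k)))
        (rsp F.obj (c_Uσ_le U (σ ∘ k.succAbove)) x) = rsp F.obj hle x := rsp_rsp F.obj _ _ x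
    exact e1.trans e2.symm

/-- **Čech vanishing from surjectivity of restrictions to unions of finite intersections.** -/
theorem isZero_cechH_succ (h : SurjHyp U F) (p : ℕ) :
    IsZero (CohTop.cechH F.obj U (p + 1)) := by
  have hfl : TopCat.Sheaf.IsFlasque (G U F) := isFlasque h
  have h1 := isZero_cechH_succ_of_flasque (V U) (G U F) p
  have h2 := (isZero_homology_succ_iff_acyc (V U) (G U F).obj p).1 h1
  refine (isZero_homology_succ_iff_acyc U F.obj p).2
    (acyc_transfer (compatYX U F) (compatXY U F) ?_ p h2)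
  intro n σ x
  change rsp F.obj (Uσ_le_c U σ) (rsp F.obj (c_Uσ_le U σ) x) = x
  rw [rsp_rsp, rsp_self]

end Groth.Agent.Lib.Helper5.CechCoarse
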