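import Groth.Agent.Lib.Helper5.AcyclicEmb
import Groth.Agent.Lib.Helper29.QCohFinite
import Groth.Agent.Lib.Helper22.ExtCompare

/-!
# Sheaf cohomology as cohomology of the extended Čech complex

For a quasi-compact separated scheme `Y`, a ring map `φ : R → Γ(Y, ⊤)` and a nonempty list `fs` of
elements of `R` such that the `Y_{φ f}` are affine and cover `Y`, the cohomology `H^q(Y, G)` of a
quasi-coherent module, `q ≥ 1`, is `H^{q+1}` of the extended Čech complex of `Γ(Y, G)`.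
-/

set_option autoImplicit false

universe u

open CategoryTheory CategoryTheory.Limits AlgebraicGeometry Opposite TopologicalSpace
open Groth.Agent.Lib.Helper29.QCoh Groth.Agent.Lib.Helper5.CechClosed
open Groth.Agent.Lib.Helper5.QcqsClosed Groth.Agent.Lib.Helper5.QcqsClosedHom
open Groth.Agent.Lib.Helper5.AcyclicEmb

noncomputable section

namespace Groth.Agent.Lib.Helper5.CechDerived

variable {Y : Scheme.{u}} {R : Type u} [CommRing R] (φ : R →+* Γ(Y, ⊤))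

lemma isCompact_top [CompactSpace Y] : IsCompact ((⊤ : Y.Opens) : Set Y) := by
  rw [Opens.coe_top]
  exact isCompact_univ

/-- sections of the quotient lift to sections of the middle term after multiplying by a power of
`f`, when `Y_f` is affine -/
lemma lift_tors [CompactSpace Y] [QuasiSeparatedSpace Y] (S : ShortComplex Y.Modules)
    (hS : S.ShortExact) [S.X₁.IsQuasicoherent] [S.X₂.IsQuasicoherent] [S.X₃.IsQuasicoherent]
    (f : R) (hf : IsAffineOpen (Y.basicOpen (φ f))) (y : (Nf φ).obj S.X₃) :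
    ∃ (n : ℕ) (m : (Nf φ).obj S.X₂), ((Nf φ).map S.g).hom m = f ^ n • y := by
  have hTc : IsCompact ((⊤ : Y.Opens) : Set Y) := isCompact_top
  have hqs : IsQuasiSeparated ((⊤ : Y.Opens) : Set Y) := IsQuasiSeparated.of_quasiSeparatedSpace _
  have hVc : IsCompact ((Y.basicOpen (φ f) : Y.Opens) : Set Y) := hf.isCompact
  have hV : Y.basicOpen (φ f) ≤ ⊤ := le_top
  have hg : (⊤ : Y.Opens) ⊓ Y.basicOpen (φ f) ≤ Y.basicOpen (φ f) := inf_le_right
  obtain ⟨m', hm'⟩ := app_surjective_of_shortExact S hS hf (res S.X₃ hV (show Γ(S.X₃, ⊤) from y))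
  obtain ⟨n₁, m₁, hm₁⟩ := coker_tors S.X₂ hTc hqs hVc hV (φ f) hg m'
  have hd : res S.X₃ hV (S.g.app ⊤ m₁ -
      rsmul S.X₃ le_top (φ f ^ n₁) (show Γ(S.X₃, ⊤) from y)) = 0 := by
    rw [map_sub, ← app_res, hm₁, app_rsmul, hm', rsmul_res, sub_self]
  obtain ⟨n₂, hn₂⟩ := ker_tors S.X₃ hTc hV (φ f) hg _ hd
  rw [rsmul_sub, sub_eq_zero, ← app_rsmul, ← rsmul_pow_add] at hn₂
  refine ⟨n₂ + n₁, (show (Nf φ).obj S.X₂ from rsmul S.X₂ le_top (φ f ^ n₂) m₁), ?_⟩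
  change S.g.app ⊤ (rsmul S.X₂ le_top (φ f ^ n₂) m₁) =
    rsmul S.X₃ le_top (φ (f ^ (n₂ + n₁))) (show Γ(S.X₃, ⊤) from y)
  rw [map_pow]
  exact hn₂

variable [Y.IsSeparated] [CompactSpace Y]

/-- one step of dimension shifting, on both sides -/
theorem key (f₀ : R) (l : List R)
    (haff : ∀ f ∈ f₀ :: l, IsAffineOpen (Y.basicOpen (φ f)))
    (hcov : ∀ x : Y, ∃ f ∈ f₀ :: l, x ∈ Y.basicOpen (φ f))
    (G : Y.Modules) [G.IsQuasicoherent] :
    ∃ (Q : Y.Modules) (_ : Q.IsQuasicoherent),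
      Nonempty (Coh.HH Y G 1 ≃+ Hq (f₀ :: l) ((Nf φ).obj G) 2) ∧
      ∀ n : ℕ, Nonempty (Coh.HH Y Q (n + 1) ≃+ Coh.HH Y G (n + 2)) ∧
        Nonempty (Hq (f₀ :: l) ((Nf φ).obj G) ((n : ℤ) + 3) ≅
          Hq (f₀ :: l) ((Nf φ).obj Q) ((n : ℤ) + 2)) := by
  haveI hmono : Mono (Amap φ G f₀ l) := mono_Amap φ G f₀ l hcov
  haveI hA : (Aobj φ G f₀ l).IsQuasicoherent := isQuasicoherent_Aobj φ G f₀ l haff
  haveI hQ : (cokernel (Amap φ G f₀ l)).IsQuasicoherent := inferInstance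
  obtain ⟨S, hS1, hS2, hS3, hSf⟩ : ∃ S : ShortComplex Y.Modules, S.X₁ = G ∧
      S.X₂ = Aobj φ G f₀ l ∧ S.X₃ = cokernel (Amap φ G f₀ l) ∧ S.ShortExact :=
    ⟨ShortComplex.mk (Amap φ G f₀ l) (cokernel.π (Amap φ G f₀ l)) (cokernel.condition _),
      rfl, rfl, rfl, { exact := ShortComplex.exact_cokernel _ }⟩
  subst hS1
  haveI : S.X₂.IsQuasicoherent := hS2 ▸ hA
  haveI : S.X₃.IsQuasicoherent := hS3 ▸ hQ
  haveI := hSf.mono_f
  refine ⟨S.X₃, inferInstance, ?_⟩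
  -- module side
  have hab : ∀ x, ((Nf φ).map S.g).hom (((Nf φ).map S.f).hom x) = 0 := fun x =>
    app_zero_of_comp_eq_zero S.f S.g S.zero ⊤ x
  have ha : Function.Injective ((Nf φ).map S.f).hom :=
    (mono_iff_app_injective S.f).1 inferInstance ⊤
  have hex : ∀ y, ((Nf φ).map S.g).hom y = 0 → ∃ x, ((Nf φ).map S.f).hom x = y := fun y hy =>
    (app_exact_of_exact_of_mono S hSf.exact ⊤ y).1 hy
  have hAz : ∀ p : ℤ, IsZero (Hq (f₀ :: l) ((Nf φ).obj S.X₂) p) := fun p => by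
    rw [hS2]
    exact isZero_Hq_Aobj φ (f₀ :: l) S.X₁ p f₀ l (fun f' h => h)
  have hUL : (⊤ : Y.Opens) ⊓ UL Y ((f₀ :: l).map φ) = ⊤ := by
    rw [top_inf_eq, eq_top_iff]
    intro x _
    obtain ⟨f, hf, hx⟩ := hcov x
    exact (mem_UL _ x).2 ⟨φ f, List.mem_map_of_mem hf, hx⟩
  have hQc : Closed (f₀ :: l) ((Nf φ).obj S.X₃) := by
    have h := closed_sectionsφ φ S.X₃ (f₀ :: l) ⊤ isCompact_top
    rw [hUL] at h
    exact h
  have hT : ∀ y : (Nf φ).obj S.X₃, ∀ f ∈ f₀ :: l, ∃ (n : ℕ) (m : (Nf φ).obj S.X₂),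
      ((Nf φ).map S.g).hom m = f ^ n • y := fun y f hf => lift_tors φ S hSf f (haff f hf) y
  obtain ⟨⟨d1⟩, d2⟩ := dimShift ((Nf φ).map S.f) ((Nf φ).map S.g) (f₀ :: l) hab ha hex hAz hQc hT
  -- sheaf side
  have hS' : (S.map (TA Y)).ShortExact := hSf.map_of_exact (TA Y)
  have hz : ∀ q : ℕ, ∀ x : Abelian.Ext ((constantSheaf (Opens.grothendieckTopology Y)
      AddCommGrpCat.{u}).obj (AddCommGrpCat.of (ULift ℤ))) (S.map (TA Y)).X₂ (q + 1), x = 0 := by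
    intro q x
    have h := subsingleton_HH_Aobj φ S.X₁ q f₀ l haff
    rw [← hS2] at h
    exact h.elim x 0
  constructor
  · -- degree one
    have e1 := Groth.Agent.Lib.Helper22.ExtCompare.oneEquiv hS'
      ((constantSheaf (Opens.grothendieckTopology Y) AddCommGrpCat.{u}).obj
        (AddCommGrpCat.of (ULift ℤ))) (hz 0)
    let eQ : Abelian.Ext ((constantSheaf (Opens.grothendieckTopology Y)
        AddCommGrpCat.{u}).obj (AddCommGrpCat.of (ULift ℤ))) (S.map (TA Y)).X₃ 0 ≃+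
          ((Nf φ).obj S.X₃) := Sheaf.H.equiv₀ ((TA Y).obj S.X₃) Limits.isTerminalTop
    let eA : Abelian.Ext ((constantSheaf (Opens.grothendieckTopology Y)
        AddCommGrpCat.{u}).obj (AddCommGrpCat.of (ULift ℤ))) (S.map (TA Y)).X₂ 0 ≃+
          ((Nf φ).obj S.X₂) := Sheaf.H.equiv₀ ((TA Y).obj S.X₂) Limits.isTerminalTop
    have hnat : ∀ z, eQ (Sheaf.H.map ((TA Y).map S.g) 0 z) = ((Nf φ).map S.g).hom (eA z) :=
      fun z => (Sheaf.H.equiv₀_naturality Limits.isTerminalTop ((TA Y).map S.g) z).symm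
    have he : (Groth.Agent.Lib.Helper22.ExtCompare.rangeG (S := S.map (TA Y))
        ((constantSheaf (Opens.grothendieckTopology Y) AddCommGrpCat.{u}).obj
          (AddCommGrpCat.of (ULift ℤ)))).map eQ.toAddMonoidHom =
        (LinearMap.range ((Nf φ).map S.g).hom).toAddSubgroup := by
      ext y
      constructor
      · rintro ⟨_, ⟨z, rfl⟩, rfl⟩
        exact ⟨eA z, (hnat z).symm⟩
      · rintro ⟨m, rfl⟩
        refine ⟨_, ⟨eA.symm m, rfl⟩, ?_⟩
        refine (hnat (eA.symm m)).trans ?_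
        rw [AddEquiv.apply_symm_apply]
    have e2 := QuotientAddGroup.congr _ _ eQ he
    have e3 : ((Nf φ).obj S.X₃ ⧸ (LinearMap.range ((Nf φ).map S.g).hom).toAddSubgroup) ≃+
        ((Nf φ).obj S.X₃ ⧸ LinearMap.range ((Nf φ).map S.g).hom) := AddEquiv.refl _
    exact ⟨e1.symm.trans (e2.trans (e3.trans d1.symm.toLinearEquiv.toAddEquiv))⟩
  · intro n
    exact ⟨⟨Groth.Agent.Lib.Helper22.ExtCompare.shiftEquiv hS' _ n (hz n) (hz (n + 1))⟩,
      d2 n (Int.natCast_nonneg n)⟩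

/-- **Cohomology of a quasi-coherent module via the extended Čech complex of its sections.** -/
theorem main (f₀ : R) (l : List R)
    (haff : ∀ f ∈ f₀ :: l, IsAffineOpen (Y.basicOpen (φ f)))
    (hcov : ∀ x : Y, ∃ f ∈ f₀ :: l, x ∈ Y.basicOpen (φ f)) :
    ∀ (n : ℕ) (G : Y.Modules) [G.IsQuasicoherent],
      Nonempty (Coh.HH Y G (n + 1) ≃+ Hq (f₀ :: l) ((Nf φ).obj G) ((n : ℤ) + 2)) := by
  intro n
  induction n with
  | zero =>
    intro G _
    obtain ⟨Q, hQ, ⟨e⟩, _⟩ := key φ f₀ l haff hcov G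
    rw [Nat.cast_zero, zero_add]
    exact ⟨e⟩
  | succ n ih =>
    intro G _
    obtain ⟨Q, hQ, _, h⟩ := key φ f₀ l haff hcov G
    obtain ⟨⟨e1⟩, ⟨e2⟩⟩ := h n
    obtain ⟨e3⟩ := @ih Q hQ
    have e : ((n + 1 : ℕ) : ℤ) + 2 = (n : ℤ) + 3 := by push_cast; ring
    rw [e]
    exact ⟨e1.symm.trans (e3.trans e2.symm.toLinearEquiv.toAddEquiv)⟩

end Groth.Agent.Lib.Helper5.CechDerived
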