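import Groth.Agent.Lib.Helper5.Soft

/-!
# Inverse images of flasque sheaves on compact subsets with separated points are soft
-/

set_option autoImplicit false
set_option linter.unusedSectionVars false
set_option linter.style.haveILetI false

universe u

open CategoryTheory CategoryTheory.Limits TopologicalSpace Opposite TopCat Abelian

namespace Groth.Agent.Lib.Helper5.CptAcyclic

open Groth.Agent.Lib.Helper5.PullStalk Groth.Agent.Lib.Helper5.SubspaceSect
  Groth.Agent.Lib.Helper5.CptSep Groth.Agent.Lib.Helper5.CptSect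
  Groth.Agent.Lib.Helper5.SoftSheaf

variable {X : TopCat.{u}} (K : Set X)

/-- the inverse image of a flasque sheaf on a compact subset with separated points is soft -/
theorem soft_Gs (hK : IsCompact K) (hrel : RelT2 K) (F : CohTop.Ab X)
    [TopCat.Sheaf.IsFlasque F] : Soft (Gs K F) := by
  intro A hA W hAW t
  haveI : CompactSpace (TopCat.of K) := isCompact_iff_compactSpace.1 hK
  have hAc : IsCompact (Subtype.val '' A : Set X) :=
    hA.isCompact.image continuous_subtype_val
  have hAK : (Subtype.val '' A : Set X) ⊆ K := by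
    rintro _ ⟨a, _, rfl⟩
    exact a.2
  obtain ⟨U, s, W', h1, h2, hAU, hpts, e⟩ := rep_of_isCompact (F := F) hAc (hrel.mono hAK) hAK W
    (fun a ha haA => by
      obtain ⟨a', ha', rfl⟩ := haA
      exact hAW ha') t
  have hepi : Epi (F.obj.map (homOfLE (le_top : U ≤ ⊤)).op) :=
    TopCat.Presheaf.IsFlasque.epi (F := F.obj) _
  obtain ⟨st, hst⟩ := (AddCommGrpCat.epi_iff_surjective _).1 hepi s
  have hst' : rs F (le_top : U ≤ ⊤) st = s := hst
  have htop : (⊤ : Opens (TopCat.of K)) ≤ pre K ⊤ := fun _ _ => trivial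
  refine ⟨cmp K F htop st, W', h1, ?_, ?_⟩
  · intro a ha
    exact hpts a.1 a.2 ⟨a, ha, rfl⟩
  · refine (rs_cmp K F htop (le_top : W' ≤ ⊤) st).trans ?_
    refine Eq.trans ?_ e.symm
    refine Eq.trans ?_ (congrArg (fun z => cmp K F h2 z) hst')
    exact (cmp_rs' K F (le_top : U ≤ ⊤) h2 st).symm

/-- **The inverse image of a flasque sheaf is acyclic.** -/
theorem subsingleton_H_succ (hK : IsCompact K) (hrel : RelT2 K) (F : CohTop.Ab X)
    [TopCat.Sheaf.IsFlasque F] (p : ℕ) : Subsingleton (CohTop.H (Gs K F) (p + 1)) := by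
  haveI : CompactSpace (TopCat.of K) := isCompact_iff_compactSpace.1 hK
  haveI : T2Space (TopCat.of K) := t2Space_of_relT2 hrel
  exact SoftSheaf.subsingleton_H_succ _ (soft_Gs K hK hrel F) p

end Groth.Agent.Lib.Helper5.CptAcyclic
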