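import Groth.Agent.Lib.Helper5.SubspaceCoh
import Groth.Agent.Lib.Helper22.CohTop.RpushSheafify
import Mathlib.Topology.Sheaves.Sheafify

/-!
# Stalks of higher direct images along a spectral map

For a spectral map `f : X → Y` of spectral spaces, a point `y` of `Y` and an abelian sheaf `F`
on `X`, the stalk `(R^p f_* F)_y` is the cohomology of the inverse image of `F` on the subspace
of the points whose image specializes to `y`.
-/

set_option autoImplicit false
set_option linter.unusedSectionVars false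

universe u

open CategoryTheory CategoryTheory.Limits TopologicalSpace Opposite TopCat Abelian

namespace Groth.Agent.Lib.Helper5.RpushStalkSpec

open Groth.Agent.Lib.Helper5.PullStalk Groth.Agent.Lib.Helper5.SubspaceSect
  Groth.Agent.Lib.Helper5.SubspaceCoh

open Groth.Agent.Lib.Helper22.CohTop (ZU freeSheafFunctor)

variable {X Y : TopCat.{u}} (f : X ⟶ Y) (y : Y)

/-- the set of the points whose image specializes to `y` -/
abbrev Zy : Set X := {x : X | y ∈ closure {f x}}

lemma Zy_sub (V : Opens Y) (hy : y ∈ V) : Zy f y ⊆ ((Opens.map f).obj V : Set X) := by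
  intro x hx
  obtain ⟨z, hz1, hz2⟩ := mem_closure_iff.1 hx V V.2 hy
  have e : z = f x := hz2
  rw [e] at hz1
  exact hz1

variable (F : CohTop.Ab X) (p : ℕ)

/-- the presheaf `V ↦ H^p(f⁻¹ V, F)` -/
noncomputable abbrev Pp : (Opens Y)ᵒᵖ ⥤ AddCommGrpCat.{u} :=
  (Opens.map f).op ⋙ Sheaf.cohomologyPresheaf.{u} F p

/-- the stalk of the higher direct image is the stalk of the presheaf `V ↦ H^p(f⁻¹ V, F)` -/
theorem nonempty_stalk_iso :
    Nonempty (CohTop.stalk ((CohTop.Rpush f p).obj F) y ≅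
      TopCat.Presheaf.stalk (C := AddCommGrpCat.{u}) (Pp f F p) y) := by
  obtain ⟨e⟩ := Groth.Agent.Lib.Helper22.CohTop.nonempty_Rpush_iso_sheafify f F p
  have h := TopCat.Presheaf.stalkFunctor_map_unit_toSheafify_isIso y AddCommGrpCat.{u} (Pp f F p)
  let e1 : CohTop.stalk ((CohTop.Rpush f p).obj F) y ≅
      CohTop.stalk ((presheafToSheaf (Opens.grothendieckTopology Y) AddCommGrpCat.{u}).obj
        (Pp f F p)) y :=
    (TopCat.Presheaf.stalkFunctor AddCommGrpCat.{u} y).mapIso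
      ((sheafToPresheaf (Opens.grothendieckTopology Y) AddCommGrpCat.{u}).mapIso e)
  exact ⟨e1 ≪≫ (asIso ((TopCat.Presheaf.stalkFunctor AddCommGrpCat.{u} y).map
    (toSheafify (Opens.grothendieckTopology Y) (Pp f F p)))).symm⟩

/-- the cocone of the maps `rho` on the open neighbourhoods of `y` -/
noncomputable def stalkCocone : Cocone ((OpenNhds.inclusion y).op ⋙ Pp f F p) where
  pt := AddCommGrpCat.of (Sheaf.H ((CohPull.inv (incl (Zy f y))).obj F) p)
  ι :=
    { app := fun V => AddCommGrpCat.ofHom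
        (rho (Zy f y) ((Opens.map f).obj V.unop.1) (Zy_sub f y V.unop.1 V.unop.2) F p)
      naturality := fun V W g => by
        ext x
        exact rho_rsM (Zy f y) ((Opens.map f).map ((OpenNhds.inclusion y).map g.unop))
          (Zy_sub f y W.unop.1 W.unop.2) (Zy_sub f y V.unop.1 V.unop.2) F p x }

/-- the map from the stalk -/
noncomputable def stalkMap : TopCat.Presheaf.stalk (C := AddCommGrpCat.{u}) (Pp f F p) y ⟶
    AddCommGrpCat.of (Sheaf.H ((CohPull.inv (incl (Zy f y))).obj F) p) :=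
  colimit.desc _ (stalkCocone f y F p)

lemma stalkMap_germ (V : Opens Y) (hy : y ∈ V) (x : Ext (ZU ((Opens.map f).obj V)) F p) :
    (stalkMap f y F p).hom (TopCat.Presheaf.germ (C := AddCommGrpCat.{u}) (Pp f F p) V y hy x) =
      rho (Zy f y) ((Opens.map f).obj V) (Zy_sub f y V hy) F p x := by
  have h := colimit.ι_desc (stalkCocone f y F p) (op ⟨V, hy⟩)
  have h2 := ConcreteCategory.congr_hom h x
  refine Eq.trans ?_ h2
  rfl

section main

variable [SpectralSpace X] [SpectralSpace Y] (hf : IsSpectralMap f)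

/-- the system of the preimages of the quasi-compact open neighbourhoods of `y` -/
noncomputable def sysY : Sys X where
  𝒩 := {U | ∃ V : Opens Y, IsCompact (V : Set Y) ∧ y ∈ V ∧ U = (Opens.map f).obj V}
  compact := by
    rintro _ ⟨V, hVc, _, rfl⟩
    exact hf.isCompact_preimage_of_isOpen V.2 hVc
  inf_mem := by
    rintro _ ⟨V₁, h₁c, h₁y, rfl⟩ _ ⟨V₂, h₂c, h₂y, rfl⟩
    exact ⟨V₁ ⊓ V₂, QuasiSeparatedSpace.inter_isCompact _ _ V₁.2 h₁c V₂.2 h₂c, ⟨h₁y, h₂y⟩, rfl⟩
  top_mem := ⟨⊤, isCompact_univ, trivial, rfl⟩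
  Z := Zy f y
  mem_Z := fun x => by
    constructor
    · rintro hx _ ⟨V, _, hy, rfl⟩
      exact Zy_sub f y V hy hx
    · intro h
      change y ∈ closure {f x}
      rw [mem_closure_iff]
      intro o ho hyo
      obtain ⟨v, ⟨hvo, hvc⟩, hyv, hvo'⟩ :=
        PrespectralSpace.isTopologicalBasis.exists_subset_of_mem_open hyo ho
      have hx : x ∈ (Opens.map f).obj ⟨v, hvo⟩ := h _ ⟨⟨v, hvo⟩, hvc, hyv, rfl⟩
      exact ⟨f x, hvo' hx, rfl⟩

include hf in
lemma surjective_stalkMap : Function.Surjective (stalkMap f y F p).hom := by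
  intro z
  obtain ⟨U, ⟨V, hVc, hy, rfl⟩, x, hx⟩ := (rep_and_zero (sysY f y hf) p).1 F z
  exact ⟨TopCat.Presheaf.germ (C := AddCommGrpCat.{u}) (Pp f F p) V y hy x,
    (stalkMap_germ f y F p V hy x).trans hx⟩

include hf in
lemma injective_stalkMap : Function.Injective (stalkMap f y F p).hom := by
  rw [injective_iff_map_eq_zero]
  intro t ht
  obtain ⟨V, hy, x₀, rfl⟩ := TopCat.Presheaf.exists_germ_eq (C := AddCommGrpCat.{u}) (Pp f F p) t
  -- shrink to a quasi-compact open
  obtain ⟨v, ⟨hvo, hvc⟩, hyv, hvV⟩ :=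
    PrespectralSpace.isTopologicalBasis.exists_subset_of_mem_open hy V.2
  let V' : Opens Y := ⟨v, hvo⟩
  have hV'V : V' ≤ V := hvV
  let x₁ : Ext (ZU ((Opens.map f).obj V')) F p := ((Pp f F p).map (homOfLE hV'V).op).hom x₀
  have hg1 : TopCat.Presheaf.germ (C := AddCommGrpCat.{u}) (Pp f F p) V' y hyv x₁ =
      TopCat.Presheaf.germ (C := AddCommGrpCat.{u}) (Pp f F p) V y hy x₀ :=
    TopCat.Presheaf.germ_res_apply (C := AddCommGrpCat.{u}) (Pp f F p) (homOfLE hV'V) y hyv x₀
  rw [← hg1] at ht ⊢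
  rw [stalkMap_germ] at ht
  have hU₁ : (Opens.map f).obj V' ∈ (sysY f y hf).𝒩 := ⟨V', hvc, hyv, rfl⟩
  obtain ⟨U', ⟨V'', hV''c, hyV'', rfl⟩, hle, hz⟩ :=
    (rep_and_zero (sysY f y hf) p).2 F _ hU₁ x₁ ht
  let V₃ : Opens Y := V'' ⊓ V'
  have hyV₃ : y ∈ V₃ := ⟨hyV'', hyv⟩
  have hV₃ : V₃ ≤ V' := inf_le_right
  have hle3 : (Opens.map f).obj V₃ ≤ (Opens.map f).obj V'' := (Opens.map f).monotone inf_le_left
  have hg2 := TopCat.Presheaf.germ_res_apply (C := AddCommGrpCat.{u}) (Pp f F p) (homOfLE hV₃) y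
    hyV₃ x₁
  rw [← hg2]
  have e : ((Pp f F p).map (homOfLE hV₃).op).hom x₁ = 0 := by
    have e1 : ((Pp f F p).map (homOfLE hV₃).op).hom x₁ =
        rsM F p (homOfLE hle3) (rsM F p (homOfLE hle) x₁) :=
      (rsM_rsM F p (homOfLE hle) (homOfLE hle3) ((Opens.map f).map (homOfLE hV₃)) x₁).symm
    exact e1.trans ((congrArg (fun z => rsM F p (homOfLE hle3) z) hz).trans (map_zero _))
  exact (congrArg (fun z => TopCat.Presheaf.germ (C := AddCommGrpCat.{u}) (Pp f F p) V₃ y hyV₃ z)
    e).trans (map_zero _)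

include hf in
/-- **Stalks of higher direct images along a spectral map.** -/
theorem nonempty_addEquiv :
    Nonempty (CohTop.stalk ((CohTop.Rpush f p).obj F) y ≃+
      CohTop.H ((CohTop.pull (incl (Zy f y))).obj F) p) := by
  obtain ⟨e⟩ := nonempty_stalk_iso f y F p
  exact ⟨e.addCommGroupIsoToAddEquiv.trans
    (AddEquiv.ofBijective (stalkMap f y F p).hom
      ⟨injective_stalkMap f y F p hf, surjective_stalkMap f y F p hf⟩)⟩

end main

end Groth.Agent.Lib.Helper5.RpushStalkSpec
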