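import Groth.Agent.Lib.Helper5.SubspaceCohGen
import Groth.Agent.Lib.Helper5.CptAcyclic
import Groth.Agent.Lib.Helper5.RpushStalkSpec

/-!
# Cohomology of a compact subset with separated points as a colimit, and stalks of higher
direct images along proper maps with separated fibres
-/

set_option autoImplicit false
set_option linter.unusedSectionVars false
set_option linter.style.haveILetI false

universe u

open CategoryTheory CategoryTheory.Limits TopologicalSpace Opposite TopCat Abelian

namespace Groth.Agent.Lib.Helper5.CptColim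

open Groth.Agent.Lib.Helper5.PullStalk Groth.Agent.Lib.Helper5.SubspaceSect
  Groth.Agent.Lib.Helper5.SubspaceCoh Groth.Agent.Lib.Helper5.SubspaceCohGen
  Groth.Agent.Lib.Helper5.CptSep

open Groth.Agent.Lib.Helper22.CohTop (ZU freeSheafFunctor)

variable {X : TopCat.{u}}

/-- the system of all open neighbourhoods of a compact subset with separated points -/
noncomputable def nsysK (K : Set X) (hK : IsCompact K) (hrel : RelT2 K) : NSys X where
  𝒩 := {U | K ⊆ (U : Set X)}
  inf_mem := fun _ h₁ _ h₂ => Set.subset_inter h₁ h₂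
  top_mem := Set.subset_univ _
  Z := K
  Z_le := fun _ hU => hU
  rep0 := fun F t => by
    obtain ⟨U, hU, s, hs⟩ := CptSect.exists_cmp_eq_top K F hK hrel t
    exact ⟨U, hU, s, hs⟩
  zero0 := fun F U hU s h0 => by
    obtain ⟨N, hN, hKN, hs⟩ := CptSect.exists_rs_eq_zero_top K F U hU s h0
    exact ⟨N, hKN, hN, hs⟩
  acyc := fun F _ p => CptAcyclic.subsingleton_H_succ K hK hrel F p

/-- **Cohomology of a compact subset with separated points is the colimit of the cohomology of
its open neighbourhoods.** -/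
theorem nonempty_addEquiv (K : Set X) (hK : IsCompact K) (hrel : RelT2 K) (F : CohTop.Ab X)
    (p : ℕ) :
    Nonempty ((colimit (ObjectProperty.ι (fun U : (Opens X)ᵒᵖ => K ⊆ (U.unop : Set X)) ⋙
        (Sheaf.cohomologyPresheafFunctor (Opens.grothendieckTopology X) p).obj F) :
          AddCommGrpCat.{u}) ≃+
      CohTop.H ((CohTop.pull (incl K)).obj F) p) :=
  SubspaceCohGen.nonempty_addEquiv (nsysK K hK hrel)
    (fun U : (Opens X)ᵒᵖ => K ⊆ (U.unop : Set X)) (fun _ => Iff.rfl) F p

section stalk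

open Groth.Agent.Lib.Helper5.RpushStalkSpec (Pp nonempty_stalk_iso)

variable {Y : TopCat.{u}} (f : X ⟶ Y) (y : Y) (F : CohTop.Ab X) (p : ℕ)

/-- the fibre -/
abbrev Fy : Set X := f ⁻¹' {y}

lemma Fy_sub (V : Opens Y) (hy : y ∈ V) : Fy f y ⊆ ((Opens.map f).obj V : Set X) := by
  intro x hx
  have e : f x = y := hx
  change f x ∈ V
  rw [e]
  exact hy

/-- the cocone of the maps `rho` on the open neighbourhoods of `y` -/
noncomputable def stalkCocone : Cocone ((OpenNhds.inclusion y).op ⋙ Pp f F p) where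
  pt := AddCommGrpCat.of (Sheaf.H ((CohPull.inv (incl (Fy f y))).obj F) p)
  ι :=
    { app := fun V => AddCommGrpCat.ofHom
        (rho (Fy f y) ((Opens.map f).obj V.unop.1) (Fy_sub f y V.unop.1 V.unop.2) F p)
      naturality := fun V W g => by
        ext x
        exact rho_rsM (Fy f y) ((Opens.map f).map ((OpenNhds.inclusion y).map g.unop))
          (Fy_sub f y W.unop.1 W.unop.2) (Fy_sub f y V.unop.1 V.unop.2) F p x }

/-- the map from the stalk -/
noncomputable def stalkMap : TopCat.Presheaf.stalk (C := AddCommGrpCat.{u}) (Pp f F p) y ⟶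
    AddCommGrpCat.of (Sheaf.H ((CohPull.inv (incl (Fy f y))).obj F) p) :=
  colimit.desc _ (stalkCocone f y F p)

lemma stalkMap_germ (V : Opens Y) (hy : y ∈ V) (x : Ext (ZU ((Opens.map f).obj V)) F p) :
    (stalkMap f y F p).hom (TopCat.Presheaf.germ (C := AddCommGrpCat.{u}) (Pp f F p) V y hy x) =
      rho (Fy f y) ((Opens.map f).obj V) (Fy_sub f y V hy) F p x := by
  have h := colimit.ι_desc (stalkCocone f y F p) (op ⟨V, hy⟩)
  have h2 := ConcreteCategory.congr_hom h x
  refine Eq.trans ?_ h2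
  rfl

variable (hf : IsProperMap f)
  (hs : ∀ x x' : X, f x = f x' → x ≠ x' →
    ∃ U V : Set X, IsOpen U ∧ IsOpen V ∧ x ∈ U ∧ x' ∈ V ∧ Disjoint U V)

include hs in
lemma relT2_Fy : RelT2 (Fy f y) := fun x hx x' hx' hne =>
  hs x x' ((hx : f x = y).trans (hx' : f x' = y).symm) hne

include hf in
lemma isCompact_Fy : IsCompact (Fy f y) := hf.isCompact_preimage isCompact_singleton

include hf in
/-- every open neighbourhood of the fibre contains the preimage of an open neighbourhood of the
point -/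
lemma exists_preimage_le (U : Opens X) (hU : Fy f y ⊆ (U : Set X)) :
    ∃ V : Opens Y, y ∈ V ∧ (Opens.map f).obj V ≤ U := by
  have hcl : IsClosed (f '' (U : Set X)ᶜ) := hf.isClosedMap _ U.2.isClosed_compl
  refine ⟨⟨(f '' (U : Set X)ᶜ)ᶜ, hcl.isOpen_compl⟩, ?_, ?_⟩
  · rintro ⟨x, hxU, hxy⟩
    exact hxU (hU hxy)
  · intro x hx
    by_contra hxU
    exact hx ⟨x, hxU, rfl⟩

include hf hs in
lemma surjective_stalkMap : Function.Surjective (stalkMap f y F p).hom := by
  intro z
  obtain ⟨U, hU, x, hx⟩ :=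
    (rep_and_zero (nsysK (Fy f y) (isCompact_Fy f y hf) (relT2_Fy f y hs)) p).1 F z
  obtain ⟨V, hyV, hVU⟩ := exists_preimage_le f y hf U hU
  refine ⟨TopCat.Presheaf.germ (C := AddCommGrpCat.{u}) (Pp f F p) V y hyV
    (rsM F p (homOfLE hVU) x), ?_⟩
  refine (stalkMap_germ f y F p V hyV _).trans ?_
  exact (rho_rsM (Fy f y) (homOfLE hVU) (Fy_sub f y V hyV) hU F p x).trans hx

include hf hs in
lemma injective_stalkMap : Function.Injective (stalkMap f y F p).hom := by
  rw [injective_iff_map_eq_zero]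
  intro t ht
  obtain ⟨V, hy, x₀, rfl⟩ := TopCat.Presheaf.exists_germ_eq (C := AddCommGrpCat.{u}) (Pp f F p) t
  have ht' : rho (Fy f y) ((Opens.map f).obj V) (Fy_sub f y V hy) F p x₀ = 0 :=
    (stalkMap_germ f y F p V hy x₀).symm.trans ht
  obtain ⟨U', hU', hle, hz⟩ :=
    (rep_and_zero (nsysK (Fy f y) (isCompact_Fy f y hf) (relT2_Fy f y hs)) p).2 F _
      (Fy_sub f y V hy) x₀ ht'
  obtain ⟨V'', hyV'', hV''U⟩ := exists_preimage_le f y hf U' hU'
  let V₃ : Opens Y := V'' ⊓ V
  have hyV₃ : y ∈ V₃ := ⟨hyV'', hy⟩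
  have hV₃ : V₃ ≤ V := inf_le_right
  have hle3 : (Opens.map f).obj V₃ ≤ U' :=
    ((Opens.map f).monotone (inf_le_left : V₃ ≤ V'')).trans hV''U
  have hg2 := TopCat.Presheaf.germ_res_apply (C := AddCommGrpCat.{u}) (Pp f F p) (homOfLE hV₃) y
    hyV₃ x₀
  rw [← hg2]
  have e : ((Pp f F p).map (homOfLE hV₃).op).hom x₀ = 0 := by
    have e1 : ((Pp f F p).map (homOfLE hV₃).op).hom x₀ =
        rsM F p (homOfLE hle3) (rsM F p (homOfLE hle) x₀) :=
      (rsM_rsM F p (homOfLE hle) (homOfLE hle3) ((Opens.map f).map (homOfLE hV₃)) x₀).symm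
    exact e1.trans ((congrArg (fun z => rsM F p (homOfLE hle3) z) hz).trans (map_zero _))
  exact (congrArg (fun z => TopCat.Presheaf.germ (C := AddCommGrpCat.{u}) (Pp f F p) V₃ y hyV₃ z)
    e).trans (map_zero _)

include hf hs in
/-- **Stalks of higher direct images along a proper map with separated fibres.** -/
theorem nonempty_stalk_addEquiv :
    Nonempty (CohTop.stalk ((CohTop.Rpush f p).obj F) y ≃+
      CohTop.H ((CohTop.pull (incl (Fy f y))).obj F) p) := by
  obtain ⟨e⟩ := nonempty_stalk_iso f y F p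
  exact ⟨e.addCommGroupIsoToAddEquiv.trans
    (AddEquiv.ofBijective (stalkMap f y F p).hom
      ⟨injective_stalkMap f y F p hf hs, surjective_stalkMap f y F p hf hs⟩)⟩

end stalk

end Groth.Agent.Lib.Helper5.CptColim
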