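import Groth.Agent.Lib.Helper5.LHPull

/-!
# Sections of the iterated fibre products of a local homeomorphism

For `f : X ⟶ S` and the `(p+1)`-fold fibre product `a_p : X_p ⟶ S`, continuous sections of `a_p`
over an open `W` are `(p+1)`-tuples of sections of `f`; if `f` is a local homeomorphism, so is
`a_p`.
-/

set_option autoImplicit false

universe u

open CategoryTheory CategoryTheory.Limits Opposite TopologicalSpace

noncomputable section

namespace Groth.Agent.Lib.Helper5.LHTuple

open Groth.Agent.Lib.Helper5.FreePsh Groth.Agent.Lib.Helper5.LHSheaf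

variable {X S : TopCat.{u}} (f : X ⟶ S) (p : ℕ)

/-- the `(p+1)`-fold fibre product -/
abbrev Xp : TopCat.{u} := widePullback S (fun _ : Fin (p + 1) => X) (fun _ => f)

/-- the structure map of the fibre product -/
abbrev ap : Xp f p ⟶ S := WidePullback.base (fun _ : Fin (p + 1) => f)

/-- the projections of the fibre product -/
abbrev pr (i : Fin (p + 1)) : Xp f p ⟶ X := WidePullback.π (fun _ : Fin (p + 1) => f) i

lemma f_pr (i : Fin (p + 1)) (y : Xp f p) : f (pr f p i y) = ap f p y :=
  ConcreteCategory.congr_hom (WidePullback.π_arrow (fun _ : Fin (p + 1) => f) i) y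

lemma Xp_ext (y y' : Xp f p) (h : ∀ i, pr f p i y = pr f p i y') : y = y' :=
  Concrete.widePullback_ext' (fun _ : Fin (p + 1) => f) y y' h

variable {f p}

/-- the tuple of sections of `f` attached to a section of `a_p` -/
def toTup {W : Opens S} (σ : Sec (ap f p) ⊤ W) (i : Fin (p + 1)) : Sec f ⊤ W where
  g := (pr f p i).hom.comp σ.g
  sec w := (f_pr f p i (σ.g w)).trans (σ.sec w)
  mem _ := trivial

lemma toTup_g_apply {W : Opens S} (σ : Sec (ap f p) ⊤ W) (i : Fin (p + 1)) (w : W) :
    (toTup σ i).g w = pr f p i (σ.g w) := rfl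

/-- the morphism to the fibre product attached to a tuple of sections -/
def tupLift {W : Opens S} (s : Fin (p + 1) → Sec f ⊤ W) : (Opens.toTopCat S).obj W ⟶ Xp f p :=
  WidePullback.lift (W.inclusion') (fun i => TopCat.ofHom (s i).g) (fun i => by
    ext w
    exact (s i).sec w)

lemma tupLift_pr {W : Opens S} (s : Fin (p + 1) → Sec f ⊤ W) (i : Fin (p + 1)) (w : W) :
    pr f p i (tupLift s w) = (s i).g w :=
  ConcreteCategory.congr_hom (WidePullback.lift_π (fun _ : Fin (p + 1) => f) (W.inclusion')
    (fun i => TopCat.ofHom (s i).g) (fun i => by ext w; exact (s i).sec w) i) w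

lemma tupLift_ap {W : Opens S} (s : Fin (p + 1) → Sec f ⊤ W) (w : W) :
    ap f p (tupLift s w) = w.1 :=
  ConcreteCategory.congr_hom (WidePullback.lift_base (fun _ : Fin (p + 1) => f) (W.inclusion')
    (fun i => TopCat.ofHom (s i).g) (fun i => by ext w; exact (s i).sec w)) w

/-- the section of `a_p` attached to a tuple of sections of `f` -/
def ofTup {W : Opens S} (s : Fin (p + 1) → Sec f ⊤ W) : Sec (ap f p) ⊤ W where
  g := (tupLift s).hom
  sec w := tupLift_ap s w
  mem _ := trivial

lemma ofTup_g_apply {W : Opens S} (s : Fin (p + 1) → Sec f ⊤ W) (w : W) :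
    (ofTup s).g w = tupLift s w := rfl

lemma toTup_ofTup {W : Opens S} (s : Fin (p + 1) → Sec f ⊤ W) : toTup (ofTup s) = s := by
  funext i
  apply Sec.ext'
  intro w
  exact tupLift_pr s i w

lemma ofTup_toTup {W : Opens S} (σ : Sec (ap f p) ⊤ W) : ofTup (toTup σ) = σ := by
  apply Sec.ext'
  intro w
  apply Xp_ext
  intro i
  exact tupLift_pr (toTup σ) i w

variable (f p)

/-- sections of `a_p` are tuples of sections of `f` -/
def secTupIso : SecP (ap f p) ⊤ ≅ TupP (SecP f ⊤) p :=
  NatIso.ofComponents
    (fun W => Equiv.toIso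
      { toFun := fun σ => (toTup (σ : Sec (ap f p) ⊤ W.unop) : Fin (p + 1) → Sec f ⊤ W.unop)
        invFun := fun s => ofTup (s : Fin (p + 1) → Sec f ⊤ W.unop)
        left_inv := fun σ => ofTup_toTup _
        right_inv := fun s => toTup_ofTup _ })
    (by
      intro W W' h
      rfl)

/-! ### the structure map of the fibre product is a local homeomorphism -/

variable {f}

theorem isLocalHomeomorph_ap (hf : IsLocalHomeomorph f) : IsLocalHomeomorph (ap f p) := by
  classical
  apply IsLocalHomeomorph.mk
  intro y₀
  choose e he hfe using fun i : Fin (p + 1) => hf (pr f p i y₀)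
  have hfe' : ∀ (i : Fin (p + 1)) (z : X), f z = e i z := fun i z => congrFun (hfe i) z
  let W : Opens S := ⟨⋂ i, (e i).target, isOpen_iInter_of_finite fun i => (e i).open_target⟩
  have hW : ∀ w : S, w ∈ W ↔ ∀ i, w ∈ (e i).target := fun w => Set.mem_iInter
  let N : Set (Xp f p) := ⋂ i, (pr f p i) ⁻¹' (e i).source
  have hN : ∀ y : Xp f p, y ∈ N ↔ ∀ i, pr f p i y ∈ (e i).source := fun y => Set.mem_iInter
  have hNopen : IsOpen N :=
    isOpen_iInter_of_finite fun i => (e i).open_source.preimage (pr f p i).hom.continuous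
  let s : Fin (p + 1) → Sec f ⊤ W := fun i =>
    { g := ⟨fun w => (e i).symm w.1, by
        have h1 : ContinuousOn (e i).symm (W : Set S) :=
          (e i).continuousOn_symm.mono (fun w hw => (hW w).1 hw i)
        exact continuousOn_iff_continuous_domRestrict.1 h1⟩
      sec := fun w => by
        change f ((e i).symm w.1) = w.1
        rw [hfe']
        exact (e i).right_inv ((hW w.1).1 w.2 i)
      mem := fun _ => trivial }
  have hs : ∀ (i : Fin (p + 1)) (w : W), (s i).g w = (e i).symm w.1 := fun i w => rfl
  let τ : Sec (ap f p) ⊤ W := ofTup s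
  have hτ : ∀ (i : Fin (p + 1)) (w : W), pr f p i (τ.g w) = (e i).symm w.1 := fun i w =>
    tupLift_pr s i w
  have hmapN : ∀ y, y ∈ N → ap f p y ∈ W := by
    intro y hy
    rw [hW]
    intro i
    rw [← f_pr f p i y, hfe']
    exact (e i).map_source ((hN y).1 hy i)
  refine ⟨{ toFun := ap f p
            invFun := fun w => if h : w ∈ W then τ.g ⟨w, h⟩ else y₀
            source := N
            target := W
            map_source' := hmapN
            map_target' := ?_
            left_inv' := ?_
            right_inv' := ?_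
            continuousOn_toFun := (ap f p).hom.continuous.continuousOn
            continuousOn_invFun := ?_
            open_source := hNopen
            open_target := W.2 }, ?_, ?_⟩
  · intro w hw
    have hw' : w ∈ W := hw
    rw [dif_pos hw', hN]
    intro i
    rw [hτ]
    exact (e i).map_target ((hW w).1 hw' i)
  · intro y hy
    have hw' : ap f p y ∈ W := hmapN y hy
    rw [dif_pos hw']
    apply Xp_ext
    intro i
    rw [hτ]
    change (e i).symm (ap f p y) = _
    rw [← f_pr f p i y, hfe']
    exact (e i).left_inv ((hN y).1 hy i)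
  · intro w hw
    have hw' : w ∈ W := hw
    rw [dif_pos hw']
    exact τ.sec ⟨w, hw'⟩
  · rw [continuousOn_iff_continuous_domRestrict]
    have h1 : (W : Set S).domRestrict (fun w => if h : w ∈ W then τ.g ⟨w, h⟩ else y₀) =
        fun w : W => τ.g w := by
      funext w
      change (if h : w.1 ∈ W then τ.g ⟨w.1, h⟩ else y₀) = τ.g w
      have hw : w.1 ∈ W := w.2
      rw [dif_pos hw]
      rfl
    rw [h1]
    exact τ.g.continuous
  · exact (hN y₀).2 he
  · intro y _
    rfl

end Groth.Agent.Lib.Helper5.LHTuple
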