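import Groth.Agent.Lib.Helper5.DSite
import Groth.Agent.Lib.Helper5.CptColim
import Groth.Agent.Lib.Helper5.LHTuple

/-!
# The Čech diagram of a continuous map and its fibres

For `f : X ⟶ S` we consider the concrete fibre powers `Xc f n ⊆ S × Xⁿ`, the diagram
`n ↦ Xc f (n+1)` indexed by all maps between the finite sets `Fin (n+1)` (the symmetric Čech
nerve), its fibre over a point `z` of `S`, and the split augmentation of the fibre obtained from a
point of the fibre of `f` over `z`.
-/

set_option autoImplicit false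

universe u

open CategoryTheory CategoryTheory.Limits Opposite TopologicalSpace Filter Topology

noncomputable section

namespace Groth.Agent.Lib.Helper5.CechDiag

open Groth.Agent.Lib.Helper5.DSite Groth.Agent.Lib.Helper5.CptColim
  Groth.Agent.Lib.Helper5.SubspaceSect Groth.Agent.Lib.Helper5.CptSep

variable {X S : TopCat.{u}} (f : X ⟶ S)

/-! ### the concrete fibre powers -/

/-- the `n`-fold fibre power of `X` over `S`, with its base point -/
abbrev Xc (n : ℕ) : Type u := {w : S × (Fin n → X) // ∀ i, f (w.2 i) = w.1}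

/-- the fibre power as an object of `TopCat` -/
def XcT (n : ℕ) : TopCat.{u} := TopCat.of (Xc f n)

/-- the structure map to the base -/
def πc (n : ℕ) : XcT f n ⟶ S :=
  TopCat.ofHom ⟨fun w => w.1.1, continuous_fst.comp continuous_subtype_val⟩

/-- the projections -/
def prc (n : ℕ) (k : Fin n) : XcT f n ⟶ X :=
  TopCat.ofHom ⟨fun w => w.1.2 k,
    (continuous_apply k).comp (continuous_snd.comp continuous_subtype_val)⟩

lemma πc_apply (n : ℕ) (w : XcT f n) : πc f n w = w.1.1 := rfl

lemma prc_apply (n : ℕ) (k : Fin n) (w : XcT f n) : prc f n k w = w.1.2 k := rfl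

lemma f_prc (n : ℕ) (k : Fin n) (w : XcT f n) : f (prc f n k w) = πc f n w := w.2 k

lemma Xc_ext {n : ℕ} (w w' : XcT f n) (h0 : πc f n w = πc f n w')
    (h : ∀ k, prc f n k w = prc f n k w') : w = w' :=
  Subtype.ext (Prod.ext h0 (funext h))

/-- a point of the fibre power -/
def mkXc {n : ℕ} (s : S) (x : Fin n → X) (h : ∀ i, f (x i) = s) : XcT f n := ⟨(s, x), h⟩

lemma continuous_reidx {m n : ℕ} (θ : Fin m → Fin n) :
    Continuous (fun w : Xc f n => (⟨(w.1.1, fun k => w.1.2 (θ k)), fun k => w.2 (θ k)⟩ : Xc f m)) := by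
  have h1 : Continuous (fun w : Xc f n => (w.1.1 : S)) :=
    continuous_fst.comp continuous_subtype_val
  have h2 : ∀ k, Continuous (fun w : Xc f n => w.1.2 (θ k)) := fun k =>
    (continuous_apply (θ k)).comp (continuous_snd.comp continuous_subtype_val)
  exact (h1.prodMk (continuous_pi h2)).subtype_mk _

/-- reindexing of the factors -/
def reidx {m n : ℕ} (θ : Fin m → Fin n) : XcT f n ⟶ XcT f m :=
  TopCat.ofHom ⟨fun w => ⟨(w.1.1, fun k => w.1.2 (θ k)), fun k => w.2 (θ k)⟩, continuous_reidx f θ⟩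

lemma πc_reidx {m n : ℕ} (θ : Fin m → Fin n) (w : XcT f n) :
    πc f m (reidx f θ w) = πc f n w := rfl

lemma prc_reidx {m n : ℕ} (θ : Fin m → Fin n) (k : Fin m) (w : XcT f n) :
    prc f m k (reidx f θ w) = prc f n (θ k) w := rfl

/-! ### properness and separation of the structure maps -/

variable {f}

theorem isProperMap_πc (hf : IsProperMap f) (n : ℕ) : IsProperMap (πc f n) := by
  rw [isProperMap_iff_ultrafilter]
  refine ⟨(πc f n).hom.continuous, ?_⟩
  intro 𝒰 z h𝒰
  have hk : ∀ k : Fin n, ∃ x : X, f x = z ∧ ((𝒰.map (prc f n k) : Ultrafilter X) : Filter X) ≤ 𝓝 x := by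
    intro k
    have hf' := (isProperMap_iff_ultrafilter.1 hf).2
    apply hf'
    have h1 : Tendsto (fun w : XcT f n => f (prc f n k w)) 𝒰 (𝓝 z) := by
      have e : (fun w : XcT f n => f (prc f n k w)) = fun w => πc f n w := by
        funext w
        exact f_prc f n k w
      rw [e]
      exact h𝒰
    exact h1
  choose x hx hxn using hk
  refine ⟨mkXc f z x hx, rfl, ?_⟩
  have h2 : Tendsto (fun w : XcT f n => (w.1 : S × (Fin n → X))) 𝒰 (𝓝 (z, x)) := by
    have ha : Tendsto (fun w : XcT f n => (w.1.1 : S)) 𝒰 (𝓝 z) := h𝒰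
    have hb : Tendsto (fun w : XcT f n => (w.1.2 : Fin n → X)) 𝒰 (𝓝 x) := by
      rw [tendsto_pi_nhds]
      intro k
      exact hxn k
    exact ha.prodMk_nhds hb
  have h3 : 𝓝 (mkXc f z x hx) = comap (fun w : XcT f n => (w.1 : S × (Fin n → X))) (𝓝 (z, x)) :=
    nhds_subtype _ _
  rw [h3, ← Filter.map_le_iff_le_comap]
  exact h2

theorem sep_πc
    (hs : ∀ x x' : X, f x = f x' → x ≠ x' →
      ∃ U V : Set X, IsOpen U ∧ IsOpen V ∧ x ∈ U ∧ x' ∈ V ∧ Disjoint U V) (n : ℕ) :
    ∀ w w' : XcT f n, πc f n w = πc f n w' → w ≠ w' →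
      ∃ U V : Set (XcT f n), IsOpen U ∧ IsOpen V ∧ w ∈ U ∧ w' ∈ V ∧ Disjoint U V := by
  intro w w' hπ hne
  have hex : ∃ k, prc f n k w ≠ prc f n k w' := by
    by_contra hcon
    push Not at hcon
    exact hne (Xc_ext f w w' hπ hcon)
  obtain ⟨k, hk⟩ := hex
  obtain ⟨U, V, hU, hV, hwU, hwV, hd⟩ := hs _ _
    ((f_prc f n k w).trans (hπ.trans (f_prc f n k w').symm)) hk
  refine ⟨(prc f n k) ⁻¹' U, (prc f n k) ⁻¹' V, hU.preimage (prc f n k).hom.continuous,
    hV.preimage (prc f n k).hom.continuous, hwU, hwV, hd.preimage _⟩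

variable (f)

/-! ### the index categories -/

/-- the category of the finite sets `Fin (n+1)` and all maps -/
structure FinAll : Type u where
  /-- the object `Fin (n+1)` -/
  n : ℕ

instance : Category.{u} FinAll.{u} where
  Hom a b := ULift.{u} (Fin (a.n + 1) → Fin (b.n + 1))
  id _ := ⟨id⟩
  comp g h := ⟨h.down ∘ g.down⟩

/-- the category of the finite sets `Fin n` and partially defined maps -/
structure FinPt : Type u where
  /-- the object `Fin n` -/
  n : ℕ

instance : Category.{u} FinPt.{u} where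
  Hom a b := ULift.{u} (Fin a.n → Option (Fin b.n))
  id _ := ⟨some⟩
  comp g h := ⟨fun k => (g.down k).bind h.down⟩
  id_comp _ := rfl
  comp_id g := ULift.ext _ _ (funext fun k => by
    change (g.down k).bind some = g.down k
    cases g.down k <;> rfl)
  assoc g h l := ULift.ext _ _ (funext fun k => Option.bind_assoc _ _ _)

/-- adding a base point -/
def jF : FinAll.{u} ⥤ FinPt.{u} where
  obj a := ⟨a.n + 1⟩
  map g := ⟨fun k => some (g.down k)⟩
  map_id _ := rfl
  map_comp _ _ := rfl

/-- the morphism of `FinAll` attached to a map -/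
def FinAll.homMk {a b : FinAll.{u}} (θ : Fin (a.n + 1) → Fin (b.n + 1)) : a ⟶ b := ⟨θ⟩

/-- the morphism of `FinPt` attached to a partial map -/
def FinPt.homMk {a b : FinPt.{u}} (θ : Fin a.n → Option (Fin b.n)) : a ⟶ b := ⟨θ⟩

/-! ### the Čech diagram -/

/-- the symmetric Čech nerve of `f` -/
def Yf : FinAll.{u}ᵒᵖ ⥤ TopCat.{u} where
  obj a := XcT f (a.unop.n + 1)
  map θ := reidx f θ.unop.down
  map_id _ := rfl
  map_comp _ _ := rfl

lemma Yf_obj (a : FinAll.{u}) : (Yf f).obj (op a) = XcT f (a.n + 1) := rfl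

lemma tr_Yf {a b : FinAll.{u}} (α : a ⟶ b) : tr (Yf f) α = reidx f α.down := rfl

/-! ### the fibres -/

variable (z : S)

/-- the fibre of the `n`-fold fibre power -/
abbrev Kz (n : ℕ) : Set (XcT f n) := Fy (πc f n) z

/-- a point of the fibre of `f` over `z` -/
structure FibPt where
  /-- the point -/
  x₀ : X
  hx₀ : f x₀ = z

variable {f z}

/-- the projections of the fibres, extended by the base point -/
def optPr (b : FibPt f z) {n : ℕ} (o : Option (Fin n)) : C(↥(Kz f z n), X) :=
  match o with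
  | none => ContinuousMap.const _ b.x₀
  | some l => ⟨fun w => w.1.1.2 l,
      (continuous_apply l).comp (continuous_snd.comp
        (continuous_subtype_val.comp continuous_subtype_val))⟩

lemma optPr_some (b : FibPt f z) {n : ℕ} (l : Fin n) (w : ↥(Kz f z n)) :
    optPr b (some l) w = w.1.1.2 l := rfl

lemma optPr_none (b : FibPt f z) {n : ℕ} (w : ↥(Kz f z n)) :
    optPr b (none : Option (Fin n)) w = b.x₀ := rfl

lemma f_optPr (b : FibPt f z) {n : ℕ} (o : Option (Fin n)) (w : ↥(Kz f z n)) :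
    f (optPr b o w) = z := by
  cases o with
  | none => exact b.hx₀
  | some l => exact (w.1.2 l).trans w.2

/-- reindexing of the fibres along partial maps -/
def reidxPt (b : FibPt f z) {m n : ℕ} (θ : Fin m → Option (Fin n)) :
    TopCat.of ↥(Kz f z n) ⟶ TopCat.of ↥(Kz f z m) :=
  TopCat.ofHom ⟨fun w => ⟨⟨(z, fun k => optPr b (θ k) w), fun k => f_optPr b (θ k) w⟩, rfl⟩,
    Continuous.subtype_mk (Continuous.subtype_mk
      (continuous_const.prodMk (continuous_pi fun k => (optPr b (θ k)).continuous)) _) _⟩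

lemma reidxPt_pr (b : FibPt f z) {m n : ℕ} (θ : Fin m → Option (Fin n)) (w : ↥(Kz f z n))
    (k : Fin m) : (reidxPt b θ w).1.1.2 k = optPr b (θ k) w := rfl

lemma Kz_ext {n : ℕ} (w w' : ↥(Kz f z n)) (h : ∀ k, w.1.1.2 k = w'.1.1.2 k) : w = w' :=
  Subtype.ext (Xc_ext f w.1 w'.1 ((w.2 : πc f n w.1 = z).trans (w'.2 : πc f n w'.1 = z).symm) h)

variable (f z)

/-- the split augmented fibre diagram -/
def Ypt (b : FibPt f z) : FinPt.{u}ᵒᵖ ⥤ TopCat.{u} where
  obj a := TopCat.of ↥(Kz f z a.unop.n)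
  map θ := reidxPt b θ.unop.down
  map_id a := by
    refine ConcreteCategory.hom_ext _ _ (fun w => ?_)
    apply Kz_ext
    intro k
    rfl
  map_comp θ θ' := by
    refine ConcreteCategory.hom_ext _ _ (fun w => ?_)
    apply Kz_ext
    intro k
    change optPr b ((θ'.unop.down k).bind θ.unop.down) w = optPr b (θ'.unop.down k) (reidxPt b θ.unop.down w)
    cases θ'.unop.down k with
    | none => rfl
    | some l => rfl

/-- the fibre diagram -/
def Yz (b : FibPt f z) : FinAll.{u}ᵒᵖ ⥤ TopCat.{u} := (jF.{u}).op ⋙ Ypt f z b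

lemma Yz_obj (b : FibPt f z) (a : FinAll.{u}) :
    (Yz f z b).obj (op a) = TopCat.of ↥(Kz f z (a.n + 1)) := rfl

/-- the inclusion of the fibre diagram -/
def κz (b : FibPt f z) : Yz f z b ⟶ Yf f where
  app a := incl (Kz f z (a.unop.n + 1))
  naturality a a' θ := by
    refine ConcreteCategory.hom_ext _ _ (fun w => ?_)
    apply Xc_ext
    · exact (w.2 : πc f _ w.1 = z).symm
    · intro k
      rfl

lemma κz_app_apply (b : FibPt f z) (a : FinAll.{u}) (w : ↥(Kz f z (a.n + 1))) :
    (κz f z b).app (op a) w = w.1 := rfl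

/-! ### comparison with the wide pullback -/

open Groth.Agent.Lib.Helper5.LHTuple

/-- the map from the concrete fibre power to the wide pullback -/
def toXp (p : ℕ) : XcT f (p + 1) ⟶ Xp f p :=
  WidePullback.lift (πc f (p + 1)) (fun k => prc f (p + 1) k) (fun k => by
    ext w
    exact f_prc f (p + 1) k w)

lemma toXp_ap (p : ℕ) : toXp f p ≫ ap f p = πc f (p + 1) :=
  WidePullback.lift_base _ _ _ _

lemma toXp_pr (p : ℕ) (k : Fin (p + 1)) : toXp f p ≫ pr f p k = prc f (p + 1) k :=
  WidePullback.lift_π _ _ _ _ _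

/-- the map from the wide pullback to the concrete fibre power -/
def ofXp (p : ℕ) : Xp f p ⟶ XcT f (p + 1) :=
  TopCat.ofHom ⟨fun x => ⟨(ap f p x, fun k => pr f p k x), fun k => f_pr f p k x⟩,
    Continuous.subtype_mk ((ap f p).hom.continuous.prodMk
      (continuous_pi fun k => (pr f p k).hom.continuous)) _⟩

lemma toXp_ofXp (p : ℕ) : toXp f p ≫ ofXp f p = 𝟙 _ := by
  refine ConcreteCategory.hom_ext _ _ (fun w => ?_)
  apply Xc_ext
  · exact ConcreteCategory.congr_hom (toXp_ap f p) w
  · intro k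
    exact ConcreteCategory.congr_hom (toXp_pr f p k) w

lemma ofXp_toXp (p : ℕ) : ofXp f p ≫ toXp f p = 𝟙 _ := by
  refine ConcreteCategory.hom_ext _ _ (fun x => ?_)
  apply Xp_ext
  intro k
  exact ConcreteCategory.congr_hom (toXp_pr f p k) (ofXp f p x)

end Groth.Agent.Lib.Helper5.CechDiag
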