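import Groth.Agent.Lib.Helper22.CechEdge.CechDelta
import Groth.Agent.Lib.Helper22.CechEdge.ShDelta

/-!
# Čech cohomology of a family as `Ext` out of the free abelian presheaf on the generated sieve
-/

set_option autoImplicit false
set_option linter.unusedSectionVars false

universe w v u v' u'

open CategoryTheory CategoryTheory.Limits Opposite Abelian

namespace Groth.Agent.Lib.Helper5.CechExt

section Univ

variable {A : Type u} [Category.{v} A] [Abelian A] {B : Type u'} [Category.{v'} B] [Abelian B]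

/-- Universal δ-functors which agree in degree `0` agree in all degrees. -/
lemma nonempty_iso_of_isUniversal (T T' : DeltaF.CohDeltaFunctor A B ℕ)
    (hT : T.IsUniversal) (hT' : T'.IsUniversal) (e : T.F 0 ≅ T'.F 0) (n : ℕ) :
    Nonempty (T.F n ≅ T'.F n) := by
  obtain ⟨τ, hτ, -⟩ := hT T' e.hom
  obtain ⟨τ', hτ', -⟩ := hT' T e.inv
  have h1 : τ ≫ τ' = 𝟙 T := by
    obtain ⟨σ, -, huniq⟩ := hT T (𝟙 _)
    rw [huniq (τ ≫ τ') (by
        change (τ ≫ τ').app 0 = 𝟙 _
        rw [DeltaF.CohDeltaFunctor.comp_app, hτ, hτ', Iso.hom_inv_id]),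
      huniq (𝟙 T) rfl]
  have h2 : τ' ≫ τ = 𝟙 T' := by
    obtain ⟨σ, -, huniq⟩ := hT' T' (𝟙 _)
    rw [huniq (τ' ≫ τ) (by
        change (τ' ≫ τ).app 0 = 𝟙 _
        rw [DeltaF.CohDeltaFunctor.comp_app, hτ, hτ', Iso.inv_hom_id]),
      huniq (𝟙 T') rfl]
  exact ⟨⟨τ.app n, τ'.app n,
    by rw [← DeltaF.CohDeltaFunctor.comp_app, h1, DeltaF.CohDeltaFunctor.id_app],
    by rw [← DeltaF.CohDeltaFunctor.comp_app, h2, DeltaF.CohDeltaFunctor.id_app]⟩⟩

end Univ

section ExtDelta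

variable {𝒜 : Type u} [Category.{v} 𝒜] [Abelian 𝒜] {𝒮 : Type u'} [Category.{v'} 𝒮] [Abelian 𝒮]
  [HasExt.{w} 𝒮] (Sg : 𝒜 ⥤ 𝒮) [Sg.Additive] [PreservesFiniteLimits Sg] [PreservesFiniteColimits Sg]
  (B : 𝒮)

open Groth.Agent.Lib.Helper22.CechEdge in
/-- `P ↦ Ext^•(B, Sg P)` as a cohomological δ-functor, for an exact functor `Sg`. -/
noncomputable def extDelta : DeltaF.CohDeltaFunctor 𝒜 AddCommGrpCat.{w} ℕ where
  F n := Sg ⋙ extFunctorObj B n
  additive n := inferInstance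
  δ S hS n₀ n₁ h :=
    AddCommGrpCat.ofHom ((hS.map_of_exact Sg).extClass.postcomp B h)
  δ_natural {S S'} hS hS' φ n₀ n₁ h := by
    ext x
    exact nat_aux (hS.map_of_exact Sg) (hS'.map_of_exact Sg) (Sg.mapShortComplex.map φ) h x
  exact₂ S hS n := Ext.covariant_sequence_exact₂' B (hS.map_of_exact Sg) n
  comp_δ S hS n₀ n₁ h := by
    ext x
    exact comp_δ_aux (hS.map_of_exact Sg) h x
  exact₃ S hS n₀ n₁ h := Ext.covariant_sequence_exact₃' B (hS.map_of_exact Sg) n₀ n₁ h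
  δ_comp S hS n₀ n₁ h := by
    ext x
    exact δ_comp_aux (hS.map_of_exact Sg) h x
  exact₁ S hS n₀ n₁ h := Ext.covariant_sequence_exact₁' B (hS.map_of_exact Sg) n₀ n₁ h

lemma extDelta_isEffaceable [EnoughInjectives 𝒜]
    (hinj : ∀ I : 𝒜, Injective I → Injective (Sg.obj I)) : (extDelta Sg B).IsEffaceable := by
  intro n P
  refine ⟨Injective.under P, Injective.ι P, inferInstance, ?_⟩
  haveI := hinj (Injective.under P) inferInstance
  ext x
  exact Ext.eq_zero_of_injective _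

theorem extDelta_isUniversal [EnoughInjectives 𝒜]
    (hinj : ∀ I : 𝒜, Injective I → Injective (Sg.obj I)) : (extDelta Sg B).IsUniversal :=
  Groth.Agent.Lib.Helper25.DeltaFEff.isUniversal (extDelta_isEffaceable Sg B hinj)

end ExtDelta

section HomF

variable {𝒜 : Type u} [Category.{v} 𝒜] [Preadditive 𝒜] (B₀ : 𝒜)

/-- `Hom(B₀, -)` as a functor to abelian groups (with syntactically explicit values). -/
def homF : 𝒜 ⥤ AddCommGrpCat.{v} where
  obj M := AddCommGrpCat.of (B₀ ⟶ M)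
  map φ := AddCommGrpCat.ofHom (AddMonoidHom.mk' (fun g => g ≫ φ)
    (fun a b => Preadditive.add_comp _ _ _ a b φ))
  map_id M := by
    ext g
    exact Category.comp_id g
  map_comp φ ψ := by
    ext g
    exact (Category.assoc g φ ψ).symm

lemma homF_map_apply {M M' : 𝒜} (φ : M ⟶ M') (g : B₀ ⟶ M) : (homF B₀).map φ g = g ≫ φ := rfl

variable {𝒮 : Type u'} [Category.{v'} 𝒮] [Abelian 𝒮] [HasExt.{v} 𝒮]
  (Sg : 𝒜 ⥤ 𝒮) [Sg.Additive] [Sg.Full] [Sg.Faithful]

/-- `Hom(B₀, M) ≃+ Ext⁰(Sg B₀, Sg M)` for a fully faithful additive functor. -/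
noncomputable def homEquivExt₀ (M : 𝒜) : (B₀ ⟶ M) ≃+ Ext (Sg.obj B₀) (Sg.obj M) 0 :=
  AddEquiv.ofBijective (AddMonoidHom.mk' (fun g => Ext.mk₀ (Sg.map g))
    (fun a b => by rw [Sg.map_add, Ext.mk₀_add])) (by
    constructor
    · intro g g' h
      exact Sg.map_injective ((Ext.mk₀_bijective _ _).1 h)
    · intro x
      obtain ⟨f, rfl⟩ := (Ext.mk₀_bijective _ _).2 x
      obtain ⟨g, rfl⟩ := Sg.map_surjective f
      exact ⟨g, rfl⟩)

lemma homEquivExt₀_apply (M : 𝒜) (g : B₀ ⟶ M) : homEquivExt₀ B₀ Sg M g = Ext.mk₀ (Sg.map g) := rfl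

/-- `Hom(B₀, -) ≅ Ext⁰(Sg B₀, Sg -)`. -/
noncomputable def iso2 : homF B₀ ≅ Sg ⋙ extFunctorObj (Sg.obj B₀) 0 :=
  NatIso.ofComponents
    (fun M => (AddEquiv.toAddCommGrpIso (homEquivExt₀ B₀ Sg M) :
      AddCommGrpCat.of (B₀ ⟶ M) ≅ AddCommGrpCat.of (Ext (Sg.obj B₀) (Sg.obj M) 0)))
    (fun {M M'} φ => by
      ext g
      change Ext.mk₀ (Sg.map (g ≫ φ)) = (Ext.mk₀ (Sg.map g)).comp (Ext.mk₀ (Sg.map φ)) (add_zero 0)
      rw [Sg.map_comp, Ext.mk₀_comp_mk₀])

end HomF

section Deg0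

open Groth.Agent.Lib.Helper22.Cech Groth.Agent.Lib.Helper22.Cech.Site

variable {C : Type u} [SmallCategory C] [HasPullbacks C] {X : C} {ι : Type u} (Y : ι → Over X)

/-- The sieve generated by the family. -/
abbrev Rs : Sieve X := Sieve.ofArrows (fun i => (Y i).left) (fun i => (Y i).hom)

/-- The free abelian presheaf on the sieve generated by the family. -/
noncomputable abbrev ZR : Cᵒᵖ ⥤ AddCommGrpCat.{u} := (Rs Y).functor ⋙ AddCommGrpCat.free.{u}

variable {Y}

lemma mem_of_sv {z : Over X} (s : SV Y z) : (Rs Y).arrows z.hom :=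
  ⟨_, s.2.left, (Y s.1).hom, Presieve.ofArrows.mk s.1, Over.w s.2⟩

lemma nonempty_sv {z : Over X} (hz : (Rs Y).arrows z.hom) : Nonempty (SV Y z) := by
  obtain ⟨Z, g, h, ⟨i⟩, e⟩ := hz
  exact ⟨⟨i, Over.homMk g e⟩⟩

/-- The generator of `ℤ[R]` attached to an object over `X` whose structure map lies in the sieve. -/
noncomputable def gen (z : Over X) (hz : (Rs Y).arrows z.hom) : (ZR Y).obj (op z.left) :=
  FreeAbelianGroup.of (⟨z.hom, hz⟩ : {f : z.left ⟶ X // (Rs Y).arrows f})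

lemma ZR_map_gen {z z' : Over X} (k : z' ⟶ z) (hz : (Rs Y).arrows z.hom)
    (hz' : (Rs Y).arrows z'.hom) :
    (ZR Y).map k.left.op (gen z hz) = gen z' hz' := by
  change FreeAbelianGroup.map _ (FreeAbelianGroup.of _) = FreeAbelianGroup.of _
  rw [FreeAbelianGroup.map_of_apply]
  congr 1
  exact Subtype.ext (Over.w k)

variable (M : Cᵒᵖ ⥤ AddCommGrpCat.{u})

/-- The `0`-cochain attached to a morphism `ℤ[R] ⟶ M`. -/
noncomputable def θ (g : ZR Y ⟶ M) : (CK Y (rP M)).X 0 :=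
  mk Y (rP M) (fun σ => g.app (op (Uσ Y σ).left) (gen (Uσ Y σ) (mem_of_sv (can Y σ 0))))

lemma ev_θ (g : ZR Y ⟶ M) {z : Over X} (t : T Y 0 z) :
    ev Y (rP M) (θ M g) t = g.app (op z.left) (gen z (mem_of_sv (t 0))) := by
  unfold ev θ
  rw [proj_mk]
  change M.map (toProd Y t).left.op (g.app _ _) = _
  rw [← NatTrans.naturality_apply g (toProd Y t).left.op,
    ZR_map_gen (toProd Y t) _ (mem_of_sv (t 0))]

lemma ev_ext {n : ℕ} (a b : (CK Y (rP M)).X n)
    (h : ∀ (z : Over X) (t : T Y n z), ev Y (rP M) a t = ev Y (rP M) b t) : a = b := by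
  apply ext_proj
  intro σ
  rw [← ev_can, ← ev_can, h]

lemma d_θ (g : ZR Y ⟶ M) : (CK Y (rP M)).d 0 1 (θ M g) = 0 := by
  apply ev_ext
  intro z t
  rw [ev_d_zero, ev_θ, ev_θ, ev_zero, sub_self]

lemma θ_add (g g' : ZR Y ⟶ M) : θ M (g + g') = θ M g + θ M g' := by
  apply ext_proj
  intro σ
  rw [map_add]
  unfold θ
  rw [proj_mk, proj_mk, proj_mk]
  rfl

lemma θ_injective : Function.Injective (θ (Y := Y) M) := by
  intro g g' h
  ext W : 2
  apply AddCommGrpCat.hom_ext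
  apply FreeAbelianGroup.lift_ext
  rintro ⟨f, hf⟩
  obtain ⟨s⟩ := nonempty_sv (z := Over.mk f) hf
  have h1 := ev_θ M g (sing Y s)
  have h2 := ev_θ M g' (sing Y s)
  rw [h] at h1
  exact h1.symm.trans h2

variable {M}

lemma ev_sing_eq {a : (CK Y (rP M)).X 0} (ha : (CK Y (rP M)).d 0 1 a = 0) {z : Over X}
    (s s' : SV Y z) : ev Y (rP M) a (sing Y s) = ev Y (rP M) a (sing Y s') := by
  have h := ev_d_zero Y (rP M) a (![s', s] : T Y 1 z)
  rw [ha, ev_zero] at h
  exact (sub_eq_zero.1 h.symm)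

/-- The value of a cocycle on an object over `X` whose structure map lies in the sieve. -/
noncomputable def val (a : (CK Y (rP M)).X 0) (z : Over X) (hz : (Rs Y).arrows z.hom) :
    M.obj (op z.left) :=
  ev Y (rP M) a (sing Y (nonempty_sv hz).some)

lemma val_eq {a : (CK Y (rP M)).X 0} (ha : (CK Y (rP M)).d 0 1 a = 0) {z : Over X}
    (hz : (Rs Y).arrows z.hom) (s : SV Y z) : val a z hz = ev Y (rP M) a (sing Y s) :=
  ev_sing_eq ha _ _

/-- The morphism `ℤ[R] ⟶ M` attached to a `0`-cocycle. -/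
noncomputable def ofCocycle (a : (CK Y (rP M)).X 0) (ha : (CK Y (rP M)).d 0 1 a = 0) :
    ZR Y ⟶ M where
  app W := AddCommGrpCat.ofHom (FreeAbelianGroup.lift
    (fun x : {f : W.unop ⟶ X // (Rs Y).arrows f} => val a (Over.mk x.1) x.2))
  naturality W W' k := by
    apply AddCommGrpCat.hom_ext
    apply FreeAbelianGroup.lift_ext
    rintro ⟨f, hf⟩
    obtain ⟨s⟩ := nonempty_sv (z := Over.mk f) hf
    have hf' : (Rs Y).arrows (k.unop ≫ f) := (Rs Y).downward_closed hf k.unop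
    let h : Over.mk (k.unop ≫ f) ⟶ Over.mk f := Over.homMk k.unop rfl
    change FreeAbelianGroup.lift _ (FreeAbelianGroup.map _ (FreeAbelianGroup.of _)) =
      M.map k (FreeAbelianGroup.lift _ (FreeAbelianGroup.of _))
    rw [FreeAbelianGroup.map_of_apply, FreeAbelianGroup.lift_apply_of,
      FreeAbelianGroup.lift_apply_of]
    change val a (Over.mk (k.unop ≫ f)) hf' = M.map k (val a (Over.mk f) hf)
    rw [val_eq ha hf s, val_eq ha hf' (SV.pre Y h s), ← pre_sing, ev_pre]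
    rfl

lemma θ_ofCocycle (a : (CK Y (rP M)).X 0) (ha : (CK Y (rP M)).d 0 1 a = 0) :
    θ M (ofCocycle a ha) = a := by
  apply ext_proj
  intro σ
  unfold θ
  rw [proj_mk, ← ev_can, eq_sing Y (can Y σ)]
  change FreeAbelianGroup.lift _ (FreeAbelianGroup.of _) = _
  rw [FreeAbelianGroup.lift_apply_of]
  exact val_eq ha _ _

variable (M)

/-- `θ` as a morphism of abelian groups. -/
noncomputable def θHom : AddCommGrpCat.of (ZR Y ⟶ M) ⟶ (CK Y (rP M)).X 0 :=
  AddCommGrpCat.ofHom (AddMonoidHom.mk' (θ M) (θ_add M))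

lemma θHom_apply (g : ZR Y ⟶ M) : θHom M g = θ M g := rfl

lemma θHom_d : θHom (Y := Y) M ≫ (CK Y (rP M)).d 0 1 = 0 := by
  ext g
  rw [ConcreteCategory.comp_apply, θHom_apply, d_θ]
  rfl

/-- The comparison `Hom(ℤ[R], M) ⟶ Ȟ⁰(Y, M)`. -/
noncomputable def toH0' : AddCommGrpCat.of (ZR Y ⟶ M) ⟶ (CK Y (rP M)).homology 0 :=
  (CK Y (rP M)).liftCycles (θHom M) 1 (by simp) (θHom_d M) ≫ (CK Y (rP M)).homologyπ 0

lemma iCycles_liftCycles (g : ZR Y ⟶ M) : (CK Y (rP M)).iCycles 0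
    ((CK Y (rP M)).liftCycles (θHom M) 1 (by simp) (θHom_d M) g) = θ M g := by
  rw [← ConcreteCategory.comp_apply, HomologicalComplex.liftCycles_i, θHom_apply]

lemma toH0'_apply (g : ZR Y ⟶ M) : toH0' M g = (CK Y (rP M)).homologyπ 0
    ((CK Y (rP M)).liftCycles (θHom M) 1 (by simp) (θHom_d M) g) := rfl

lemma iCycles_injective : Function.Injective ((CK Y (rP M)).iCycles 0) :=
  (AddCommGrpCat.mono_iff_injective _).1 inferInstance

lemma toH0'_bijective : Function.Bijective (toH0' (Y := Y) M) := by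
  have h1 : Function.Bijective
      ((CK Y (rP M)).liftCycles (θHom M) 1 (by simp) (θHom_d M)) := by
    constructor
    · intro g g' hgg'
      apply θ_injective M
      rw [← iCycles_liftCycles, ← iCycles_liftCycles, hgg']
    · intro z
      have hz : (CK Y (rP M)).d 0 1 ((CK Y (rP M)).iCycles 0 z) = 0 := by
        rw [← ConcreteCategory.comp_apply, HomologicalComplex.iCycles_d]
        rfl
      refine ⟨ofCocycle _ hz, ?_⟩
      apply iCycles_injective M
      rw [iCycles_liftCycles, θ_ofCocycle]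
  have h2 : Function.Bijective ((CK Y (rP M)).homologyπ 0) :=
    ConcreteCategory.bijective_of_isIso _
  have h3 : ⇑(ConcreteCategory.hom (toH0' (Y := Y) M)) =
      ⇑(ConcreteCategory.hom ((CK Y (rP M)).homologyπ 0)) ∘
        ⇑(ConcreteCategory.hom ((CK Y (rP M)).liftCycles (θHom M) 1 (by simp)
          (θHom_d M))) := by
    funext s
    exact ConcreteCategory.comp_apply _ _ s
  rw [h3]
  exact h2.comp h1

variable {M}

lemma θ_naturality {M' : Cᵒᵖ ⥤ AddCommGrpCat.{u}} (φ : M ⟶ M') (g : ZR Y ⟶ M) :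
    ((cechComplexFunctor Y).map (rMap φ)).f 0 (θ M g) = θ M' (g ≫ φ) := by
  apply ext_proj
  intro σ
  rw [proj_map]
  unfold θ
  rw [proj_mk, proj_mk]
  rfl

lemma toH0'_naturality {M' : Cᵒᵖ ⥤ AddCommGrpCat.{u}} (φ : M ⟶ M') (g : ZR Y ⟶ M) :
    HomologicalComplex.homologyMap ((cechComplexFunctor Y).map (rMap φ)) 0 (toH0' M g) =
      toH0' M' (g ≫ φ) := by
  rw [toH0'_apply, toH0'_apply, ← ConcreteCategory.comp_apply,
    HomologicalComplex.homologyπ_naturality, ConcreteCategory.comp_apply]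
  congr 1
  apply iCycles_injective M'
  rw [iCycles_liftCycles, ← ConcreteCategory.comp_apply, HomologicalComplex.cyclesMap_i,
    ConcreteCategory.comp_apply, iCycles_liftCycles, θ_naturality]

variable (Y)

/-- `Hom(ℤ[R], -)` is the degree zero part of Čech cohomology. -/
noncomputable def iso1 :
    homF (ZR Y) ≅ (Groth.Agent.Lib.Helper22.CechEdge.cechDelta Y).F 0 :=
  NatIso.ofComponents
    (fun M => (AddEquiv.toAddCommGrpIso
      (AddEquiv.ofBijective (toH0' (Y := Y) M).hom (toH0'_bijective M)) :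
        AddCommGrpCat.of (ZR Y ⟶ M) ≅ AddCommGrpCat.of ((CK Y (rP M)).homology 0)))
    (fun {M M'} φ => by
      ext g
      exact (toH0'_naturality φ g).symm)

end Deg0

section Main

open Groth.Agent.Lib.Helper22.CechEdge

variable {C : Type u} [SmallCategory C]

/-- Presheaves as sheaves for the trivial topology. -/
abbrev Sg : (Cᵒᵖ ⥤ AddCommGrpCat.{u}) ⥤ Sheaf (⊥ : GrothendieckTopology C) AddCommGrpCat.{u} :=
  (sheafBotEquivalence AddCommGrpCat.{u}).inverse

instance additive_Sg : (Sg (C := C)).Additive where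
  map_add := rfl

lemma injective_Sg (I : Cᵒᵖ ⥤ AddCommGrpCat.{u}) [Injective I] : Injective ((Sg (C := C)).obj I) :=
  Injective.injective_of_adjoint (sheafBotEquivalence (C := C) AddCommGrpCat.{u}).toAdjunction I

variable [HasPullbacks C] {X : C} {ι : Type u} (Y : ι → Over X)

/-- Čech cohomology of a family is `Ext` out of the free abelian presheaf on the generated sieve
(in the category of sheaves for the trivial topology). -/
theorem nonempty_cechH_iso_ext (M : Cᵒᵖ ⥤ AddCommGrpCat.{u}) (q : ℕ) :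
    Nonempty (CohCx.cechH M Y q ≅
      AddCommGrpCat.of (Ext ((Sg (C := C)).obj (ZR Y)) ((Sg (C := C)).obj M) q)) := by
  have e0 : (cechDelta Y).F 0 ≅ (extDelta (Sg (C := C)) ((Sg (C := C)).obj (ZR Y))).F 0 :=
    (iso1 Y).symm ≪≫ iso2 (ZR Y) (Sg (C := C))
  obtain ⟨e⟩ := nonempty_iso_of_isUniversal _ _ (cechDelta_isUniversal Y)
    (extDelta_isUniversal (Sg (C := C)) ((Sg (C := C)).obj (ZR Y))
      (fun I _ => injective_Sg I)) e0 q
  exact ⟨e.app M⟩

end Main

end Groth.Agent.Lib.Helper5.CechExt
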