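import Mathlib
import Groth.Agent.Lib.Helper5.AcyclicRes
import Groth.Agent.Lib.Helper17.TotQis

/-!
# Abstract lemmas for Čech hypercohomology (helper5)

* `quasiIso_of_eval`: a morphism of complexes of complexes is a quasi-isomorphism if all its
  evaluations are.
* `ProdLike`: a functor to abelian groups which is elementwise the product of a family of functors;
  it preserves exactness whenever all the members of the family do.
-/

set_option autoImplicit false

universe u

open CategoryTheory Limits HomologicalComplex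

namespace Groth.Agent.Lib.Helper5.CechHyp1

section Eval

variable {ℬ : Type*} [Category ℬ] [Abelian ℬ] {ι₁ ι₂ : Type*} {c₁ : ComplexShape ι₁}
  {c₂ : ComplexShape ι₂}

/-- A morphism of complexes of complexes is a quasi-isomorphism if all evaluations are. -/
lemma quasiIso_of_eval {K L : HomologicalComplex (HomologicalComplex ℬ c₂) c₁} (φ : K ⟶ L)
    (h : ∀ p, QuasiIso (((eval ℬ c₂ p).mapHomologicalComplex c₁).map φ)) : QuasiIso φ := by
  rw [quasiIso_iff]
  intro i
  rw [quasiIsoAt_iff_isIso_homologyMap]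
  have : ∀ p, IsIso ((homologyMap φ i).f p) := by
    intro p
    have hp : IsIso (homologyMap (((eval ℬ c₂ p).mapHomologicalComplex c₁).map φ) i) := by
      rw [← quasiIsoAt_iff_isIso_homologyMap]
      exact (quasiIso_iff _).1 (h p) i
    have nat := ShortComplex.mapHomologyIso_hom_naturality
      ((shortComplexFunctor _ c₁ i).map φ) (eval ℬ c₂ p)
    have hp' : IsIso (ShortComplex.homologyMap ((eval ℬ c₂ p).mapShortComplex.map
        ((shortComplexFunctor _ c₁ i).map φ))) := hp
    have h2 : IsIso ((((shortComplexFunctor _ c₁ i).obj K).mapHomologyIso (eval ℬ c₂ p)).hom ≫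
        (eval ℬ c₂ p).map
          (ShortComplex.homologyMap ((shortComplexFunctor _ c₁ i).map φ))) := by
      rw [← nat]
      exact @IsIso.comp_isIso _ _ _ _ _ _ _ hp' inferInstance
    have : IsIso ((eval ℬ c₂ p).map
        (ShortComplex.homologyMap ((shortComplexFunctor _ c₁ i).map φ))) :=
      IsIso.of_isIso_comp_left
        (((shortComplexFunctor _ c₁ i).obj K).mapHomologyIso (eval ℬ c₂ p)).hom _
    exact this
  exact Hom.isIso_of_components _

end Eval

section Zero

variable {ℬ : Type*} [Category ℬ] [Abelian ℬ] {ι₁ : Type*} {c₁ : ComplexShape ι₁}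

lemma isZero_homology_of_isZero_X (K : HomologicalComplex ℬ c₁) (i : ι₁) (h : IsZero (K.X i)) :
    IsZero (K.homology i) :=
  (K.exactAt_iff_isZero_homology i).1 (ShortComplex.exact_of_isZero_X₂ _ h)

lemma quasiIso_of_isZero_terms {K L : HomologicalComplex ℬ c₁} (f : K ⟶ L)
    (hK : ∀ i, IsZero (K.X i)) (hL : ∀ i, IsZero (L.X i)) : QuasiIso f := by
  rw [quasiIso_iff]
  intro i
  rw [quasiIsoAt_iff_isIso_homologyMap]
  exact Groth.Agent.Lib.Helper17.TotQis.isIso_of_isZero _
    (isZero_homology_of_isZero_X K i (hK i)) (isZero_homology_of_isZero_X L i (hL i))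

lemma isZero_of_isZero_X (K : HomologicalComplex ℬ c₁) (h : ∀ i, IsZero (K.X i)) : IsZero K := by
  rw [IsZero.iff_id_eq_zero]
  ext i
  exact (h i).eq_of_src _ _

end Zero

section ProdLike

variable {𝒜 : Type*} [Category 𝒜] [Abelian 𝒜]

/-- `S` is elementwise the product of the family `Γ`. -/
structure ProdLike {T : Type*} (S : 𝒜 ⥤ AddCommGrpCat.{u}) (Γ : T → 𝒜 ⥤ AddCommGrpCat.{u}) where
  π : ∀ σ, S ⟶ Γ σ
  ext : ∀ (A : 𝒜) (x y : S.obj A), (∀ σ, (π σ).app A x = (π σ).app A y) → x = y
  exists_mk : ∀ (A : 𝒜) (f : ∀ σ, (Γ σ).obj A), ∃ x : S.obj A, ∀ σ, (π σ).app A x = f σ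

variable {T : Type*} {S : 𝒜 ⥤ AddCommGrpCat.{u}} {Γ : T → 𝒜 ⥤ AddCommGrpCat.{u}}

omit [Abelian 𝒜] in
lemma ProdLike.π_map (h : ProdLike S Γ) (σ : T) {A B : 𝒜} (k : A ⟶ B) (x : S.obj A) :
    (h.π σ).app B (S.map k x) = (Γ σ).map k ((h.π σ).app A x) := by
  have := ConcreteCategory.congr_hom ((h.π σ).naturality k) x
  rwa [ConcreteCategory.comp_apply, ConcreteCategory.comp_apply] at this

lemma ProdLike.additive (h : ProdLike S Γ) [∀ σ, (Γ σ).Additive] : S.Additive := by
  constructor
  intro A B f g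
  ext x
  apply h.ext
  intro σ
  rw [h.π_map]
  have e1 : (S.map f + S.map g) x = S.map f x + S.map g x := rfl
  rw [e1, map_add, h.π_map, h.π_map, Functor.map_add]
  rfl

lemma ProdLike.exactAt (h : ProdLike S Γ) [S.PreservesZeroMorphisms]
    [∀ σ, (Γ σ).PreservesZeroMorphisms] (C : CochainComplex 𝒜 ℤ) (q : ℤ)
    (hC : ∀ σ, (((Γ σ).mapHomologicalComplex (ComplexShape.up ℤ)).obj C).ExactAt q) :
    ((S.mapHomologicalComplex (ComplexShape.up ℤ)).obj C).ExactAt q := by
  rw [exactAt_iff' _ (q - 1) q (q + 1) (by simp) (by simp), ShortComplex.ab_exact_iff]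
  intro x hx
  have hx' : S.map (C.d q (q + 1)) x = 0 := hx
  have hσ : ∀ σ, ∃ y : (Γ σ).obj (C.X (q - 1)),
      (Γ σ).map (C.d (q - 1) q) y = (h.π σ).app _ x := by
    intro σ
    have hCσ := hC σ
    rw [exactAt_iff' _ (q - 1) q (q + 1) (by simp) (by simp), ShortComplex.ab_exact_iff] at hCσ
    apply hCσ
    show (Γ σ).map (C.d q (q + 1)) ((h.π σ).app _ x) = 0
    rw [← h.π_map, hx', map_zero]
  choose y hy using hσ
  obtain ⟨z, hz⟩ := h.exists_mk _ y
  refine ⟨z, ?_⟩
  show S.map (C.d (q - 1) q) z = x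
  apply h.ext
  intro σ
  rw [h.π_map, hz, hy]

open CochainComplex in
lemma ProdLike.quasiIso_map (h : ProdLike S Γ) [S.Additive] [∀ σ, (Γ σ).Additive]
    {K L : CochainComplex 𝒜 ℤ} (j : K ⟶ L)
    (hj : ∀ σ q, (((Γ σ).mapHomologicalComplex (ComplexShape.up ℤ)).obj
      (mappingCone j)).ExactAt q) :
    QuasiIso ((S.mapHomologicalComplex (ComplexShape.up ℤ)).map j) := by
  rw [Groth.Agent.Lib.Helper5.AcyclicRes.quasiIso_iff_mappingCone_exactAt]
  intro n
  exact (h.exactAt (mappingCone j) n (fun σ => hj σ n)).of_iso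
    (mappingCone.mapHomologicalComplexIso j S)

end ProdLike

end Groth.Agent.Lib.Helper5.CechHyp1
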