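import Groth.Agent.Lib.Helper22.Cech.Leray
import Groth.Agent.Lib.Helper5.CechHyp1
import Groth.Prelude.Def_CechTot

/-!
# Čech hypercohomology, step A (helper5)

For a quasi-isomorphism `j : K ⟶ L` from a bounded below complex of sheaves whose terms are acyclic on
all finite intersections of the cover to a bounded below complex of injectives, the induced map on
total Čech complexes is a quasi-isomorphism.
-/

set_option autoImplicit false

universe u

open CategoryTheory CategoryTheory.Limits Opposite TopologicalSpace HomologicalComplex Abelian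

namespace Groth.Agent.Lib.Helper5.CechHyp2

open Groth.Agent.Lib.Helper22 Groth.Agent.Lib.Helper22.Cech Groth.Agent.Lib.Helper5.CechHyp1
open Groth.Agent.Lib.Helper5.AcyclicRes

variable {X : TopCat.{u}} {ι : Type u} (U : ι → Opens X)

/-- sections over `V` of an abelian sheaf. -/
noncomputable abbrev Γs (V : Opens X) : CohTop.Ab X ⥤ AddCommGrpCat.{u} :=
  sheafToPresheaf (Opens.grothendieckTopology X) AddCommGrpCat.{u} ⋙ (evaluation _ _).obj (op V)

instance (V : Opens X) : (Γs V).Additive := inferInstance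

instance (V : Opens X) : PreservesFiniteLimits (Γs V) := inferInstance

theorem isAdapted {n : ℕ} (σ : Fin (n + 1) → ι) : IsAdapted (Γs (Uσ U σ)) (LerayGood U) where
  of_isZero M hM := by
    intro m τ q x
    have e : x = x.comp (Ext.mk₀ (𝟙 M)) (add_zero _) := (Ext.comp_mk₀_id x).symm
    rw [e, hM.eq_of_src (𝟙 M) 0, Ext.mk₀_zero, Ext.comp_zero]
  of_iso {M N} e hM := by
    intro m τ q x
    have e' : x = (x.comp (Ext.mk₀ e.inv) (add_zero _)).comp (Ext.mk₀ e.hom) (add_zero _) := by
      rw [Ext.comp_assoc_of_third_deg_zero, Ext.mk₀_comp_mk₀, e.inv_hom_id, Ext.comp_mk₀_id]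
    rw [e', hM m τ q (x.comp (Ext.mk₀ e.inv) (add_zero _)), Ext.zero_comp]
  biprod M N hM hN := by
    intro m τ q x
    have e' : x = (x.comp (Ext.mk₀ biprod.fst) (add_zero _)).comp (Ext.mk₀ biprod.inl) (add_zero _) +
        (x.comp (Ext.mk₀ biprod.snd) (add_zero _)).comp (Ext.mk₀ biprod.inr) (add_zero _) := by
      rw [Ext.comp_assoc_of_third_deg_zero, Ext.comp_assoc_of_third_deg_zero,
        Ext.mk₀_comp_mk₀, Ext.mk₀_comp_mk₀, ← Ext.comp_add, ← Ext.mk₀_add, biprod.total,
        Ext.comp_mk₀_id]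
    rw [e', hM m τ q (x.comp (Ext.mk₀ biprod.fst) (add_zero _)),
      hN m τ q (x.comp (Ext.mk₀ biprod.snd) (add_zero _)), Ext.zero_comp, Ext.zero_comp, add_zero]
  of_injective M hM := by
    intro m τ q x
    exact Ext.eq_zero_of_injective x
  epi_map S hS h1 := by
    rw [AddCommGrpCat.epi_iff_surjective]
    exact surjective_of_ext_one_eq_zero S hS (Uσ U σ) (h1 n σ 0)
  coker S hS h1 h2 := by
    intro m τ q x
    obtain ⟨y, hy⟩ := Ext.covariant_sequence_exact₃ (CohTop.ZU (Uσ U τ)) hS x rfl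
      (h1 m τ (q + 1) _)
    rw [← hy, h2 m τ q y, Ext.zero_comp]

/-- the Čech complex functor extended to `ℤ` -/
noncomputable abbrev CechZ :
    ((Opens X)ᵒᵖ ⥤ AddCommGrpCat.{u}) ⥤ CochainComplex AddCommGrpCat.{u} ℤ :=
  cechComplexFunctor (A := AddCommGrpCat.{u}) U ⋙
    ComplexShape.embeddingUpNat.extendFunctor AddCommGrpCat.{u}

/-- Čech cochains in degree `p`, as a functor on abelian sheaves. -/
noncomputable abbrev Sp (p : ℤ) : CohTop.Ab X ⥤ AddCommGrpCat.{u} :=
  sheafToPresheaf (Opens.grothendieckTopology X) AddCommGrpCat.{u} ⋙ CechZ U ⋙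
    HomologicalComplex.eval _ _ p

lemma embf (n : ℕ) : ComplexShape.embeddingUpNat.f n = (n : ℤ) := rfl

/-- the identification of the extended complex in nonnegative degrees -/
noncomputable def xIso (P : (Opens X)ᵒᵖ ⥤ AddCommGrpCat.{u}) (n : ℕ) :
    ((CechZ U).obj P).X (n : ℤ) ≅ (CK U P).X n :=
  HomologicalComplex.extendXIso (CK U P) ComplexShape.embeddingUpNat (embf n)

lemma xIso_naturality {P Q : (Opens X)ᵒᵖ ⥤ AddCommGrpCat.{u}} (f : P ⟶ Q) (n : ℕ) :
    ((CechZ U).map f).f (n : ℤ) ≫ (xIso U Q n).hom =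
      (xIso U P n).hom ≫ ((cechComplexFunctor U).map f).f n := by
  unfold xIso
  show (HomologicalComplex.extendMap ((cechComplexFunctor U).map f)
    ComplexShape.embeddingUpNat).f (n : ℤ) ≫ _ = _
  rw [HomologicalComplex.extendMap_f _ _ (embf n)]
  simp only [Category.assoc, Iso.inv_hom_id, Category.comp_id]
  rfl

/-- the projections of the Čech cochains -/
noncomputable def πSp (n : ℕ) (σ : Fin (n + 1) → ι) : Sp U (n : ℤ) ⟶ Γs (Uσ U σ) where
  app F := (xIso U F.obj n).hom ≫ proj U F.obj n σ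
  naturality F G f := by
    show ((CechZ U).map f.hom).f (n : ℤ) ≫ (xIso U G.obj n).hom ≫ proj U G.obj n σ =
      ((xIso U F.obj n).hom ≫ proj U F.obj n σ) ≫ f.hom.app (op (Uσ U σ))
    rw [← Category.assoc, xIso_naturality, Category.assoc, map_proj, Category.assoc]

noncomputable def prodLikeSp (n : ℕ) :
    ProdLike (Sp U (n : ℤ)) (fun σ : Fin (n + 1) → ι => Γs (Uσ U σ)) where
  π σ := πSp U n σ
  ext F x y h := by
    have hinj : Function.Injective (xIso U F.obj n).hom :=
      (ConcreteCategory.bijective_of_isIso (xIso U F.obj n).hom).1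
    apply hinj
    apply ext_proj
    intro σ
    have := h σ
    change ((xIso U F.obj n).hom ≫ proj U F.obj n σ) x =
      ((xIso U F.obj n).hom ≫ proj U F.obj n σ) y at this
    rwa [ConcreteCategory.comp_apply, ConcreteCategory.comp_apply] at this
  exists_mk F f := by
    refine ⟨(xIso U F.obj n).inv (mk U F.obj f), fun σ => ?_⟩
    show ((xIso U F.obj n).hom ≫ proj U F.obj n σ) ((xIso U F.obj n).inv (mk U F.obj f)) = f σ
    rw [ConcreteCategory.comp_apply, Iso.inv_hom_id_apply, proj_mk]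

lemma isZero_Sp_neg (p : ℤ) (hp : p < 0) (F : CohTop.Ab X) : IsZero ((Sp U p).obj F) := by
  apply HomologicalComplex.isZero_extend_X
  intro i hi
  change (i : ℤ) = p at hi
  omega

open CochainComplex in
lemma quasiIso_Sp_nat (a : ℤ) {K L : CochainComplex (CohTop.Ab X) ℤ} [K.IsStrictlyGE a]
    [L.IsStrictlyGE a] (hK : ∀ q, LerayGood U (K.X q)) [∀ q, Injective (L.X q)] (j : K ⟶ L)
    [QuasiIso j] (n : ℕ) :
    QuasiIso (((Sp U (n : ℤ)).mapHomologicalComplex (ComplexShape.up ℤ)).map j) := by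
  have : ∀ σ : Fin (n + 1) → ι, (Γs (Uσ U σ)).Additive := fun σ => inferInstance
  have : (Sp U (n : ℤ)).Additive := (prodLikeSp U n).additive
  apply (prodLikeSp U n).quasiIso_map j
  intro σ q
  have : (mappingCone j).IsStrictlyGE (a - 1) :=
    CochainComplex.isStrictlyGE_mappingCone j a a (a - 1)
  have hC : ∀ n, (mappingCone j).ExactAt n :=
    (quasiIso_iff_mappingCone_exactAt j).1 inferInstance
  have hCP : ∀ n, LerayGood U ((mappingCone j).X n) := fun n =>
    (isAdapted U σ).of_iso (homotopyCofiber.XIsoBiprod j n (n + 1) rfl).symm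
      ((isAdapted U σ).biprod _ _ (hK _) ((isAdapted U σ).of_injective _ inferInstance))
  exact (isAdapted U σ).exactAt_map (mappingCone j) (a - 1) hC hCP q

lemma isZero_cech₂ (a : ℤ) (K : CochainComplex (CohTop.Ab X) ℤ) [K.IsStrictlyGE a] (p q : ℤ)
    (h : p < a ∨ q < 0) :
    IsZero (((CechTot.cech₂ U ((CechTot.presheafCx X).obj K)).X p).X q) := by
  rcases h with h | h
  · have hz : IsZero (K.X p) := K.isZero_of_isStrictlyGE a p h
    exact (HomologicalComplex.eval _ _ q).map_isZero ((CechZ U).map_isZero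
      ((sheafToPresheaf (Opens.grothendieckTopology X) AddCommGrpCat.{u}).map_isZero hz))
  · exact isZero_Sp_neg U q h (K.X p)

/-- the map of Čech double complexes induced by a morphism of complexes of sheaves -/
noncomputable abbrev cech₂Map {K L : CochainComplex (CohTop.Ab X) ℤ} (j : K ⟶ L) :
    CechTot.cech₂ U ((CechTot.presheafCx X).obj K) ⟶
      CechTot.cech₂ U ((CechTot.presheafCx X).obj L) :=
  ((CechZ U).mapHomologicalComplex (ComplexShape.up ℤ)).map ((CechTot.presheafCx X).map j)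

theorem quasiIso_cech₂Map (a : ℤ) {K L : CochainComplex (CohTop.Ab X) ℤ} [K.IsStrictlyGE a]
    [L.IsStrictlyGE a] (hK : ∀ q, LerayGood U (K.X q)) [∀ q, Injective (L.X q)] (j : K ⟶ L)
    [QuasiIso j] : QuasiIso (cech₂Map U j) := by
  apply quasiIso_of_eval
  intro p
  by_cases hp : p < 0
  · exact quasiIso_of_isZero_terms _ (fun q => isZero_Sp_neg U p hp (K.X q))
      (fun q => isZero_Sp_neg U p hp (L.X q))
  · obtain ⟨n, rfl⟩ := Int.eq_ofNat_of_zero_le (not_lt.1 hp)
    exact quasiIso_Sp_nat U a hK j n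

/-- **Step A**: the induced map on total Čech complexes is a quasi-isomorphism. -/
theorem quasiIso_total_cech₂Map (a : ℤ) {K L : CochainComplex (CohTop.Ab X) ℤ} [K.IsStrictlyGE a]
    [L.IsStrictlyGE a] (hK : ∀ q, LerayGood U (K.X q)) [∀ q, Injective (L.X q)] (j : K ⟶ L)
    [QuasiIso j] :
    QuasiIso (HomologicalComplex₂.total.map (cech₂Map U j) (ComplexShape.up ℤ)) := by
  have := quasiIso_cech₂Map U a hK j
  exact Groth.Agent.Lib.Helper17.TotQis.quasiIso_total_map _ _ (cech₂Map U j) a 0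
    (fun p q h => isZero_cech₂ U a K p q h) (fun p q h => isZero_cech₂ U a L p q h)

end Groth.Agent.Lib.Helper5.CechHyp2
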