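import Groth.Agent.Lib.Helper5.CechHyp2

/-!
# Čech hypercohomology, steps B and C (helper5)

For a bounded below complex `L` of injective sheaves, the total Čech complex of `L` is
quasi-isomorphic to the complex of sections of `L` over the union of the cover.
-/

set_option autoImplicit false

universe u

open CategoryTheory CategoryTheory.Limits Opposite TopologicalSpace HomologicalComplex Abelian

namespace Groth.Agent.Lib.Helper5.CechHyp3

open Groth.Agent.Lib.Helper22 Groth.Agent.Lib.Helper22.Cech Groth.Agent.Lib.Helper5.CechHyp1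
open Groth.Agent.Lib.Helper5.CechHyp2 Groth.Agent.Lib.Helper17

variable {X : TopCat.{u}} {ι : Type u} (U : ι → Opens X)

/-- sections over the union, as a complex concentrated in degree `0`. -/
noncomputable abbrev Aug₀ :
    ((Opens X)ᵒᵖ ⥤ AddCommGrpCat.{u}) ⥤ CochainComplex AddCommGrpCat.{u} ℕ :=
  (evaluation _ _).obj (op (iSup U)) ⋙
    HomologicalComplex.single AddCommGrpCat.{u} (ComplexShape.up ℕ) 0

/-- the components of the coaugmentation of the Čech complex -/
noncomputable def ε₀app (P : (Opens X)ᵒᵖ ⥤ AddCommGrpCat.{u}) :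
    (Aug₀ U).obj P ⟶ (cechComplexFunctor (A := AddCommGrpCat.{u}) U).obj P :=
  HomologicalComplex.mkHomFromSingle (resHom U P 0) (by
    intro k hk
    obtain rfl : 0 + 1 = k := hk
    exact resHom_d U P)

lemma ε₀app_f (P : (Opens X)ᵒᵖ ⥤ AddCommGrpCat.{u}) :
    (ε₀app U P).f 0 =
      (HomologicalComplex.singleObjXSelf (ComplexShape.up ℕ) 0 (P.obj (op (iSup U)))).hom ≫
        resHom U P 0 :=
  HomologicalComplex.mkHomFromSingle_f _ _

/-- the coaugmentation of the Čech complex -/
noncomputable def ε₀ : Aug₀ U ⟶ cechComplexFunctor (A := AddCommGrpCat.{u}) U where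
  app P := ε₀app U P
  naturality P Q f := by
    apply HomologicalComplex.from_single_hom_ext
    have h1 : ((Aug₀ U).map f).f 0 =
        (HomologicalComplex.singleObjXSelf (ComplexShape.up ℕ) 0 (P.obj (op (iSup U)))).hom ≫
          f.app (op (iSup U)) ≫
          (HomologicalComplex.singleObjXSelf (ComplexShape.up ℕ) 0 (Q.obj (op (iSup U)))).inv :=
      HomologicalComplex.single_map_f_self _ _ _
    rw [HomologicalComplex.comp_f, HomologicalComplex.comp_f, ε₀app_f, ε₀app_f, h1]
    simp only [Category.assoc, Iso.inv_hom_id_assoc]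
    rw [resHom_naturality]

lemma quasiIso_ε₀ (Q : CohTop.Ab X) [Injective Q] : QuasiIso ((ε₀ U).app Q.obj) := by
  rw [quasiIso_iff]
  intro n
  rw [quasiIsoAt_iff_isIso_homologyMap]
  cases n with
  | zero =>
    have key : (HomologicalComplex.singleObjHomologySelfIso (ComplexShape.up ℕ) 0
        (Q.obj.obj (op (iSup U)))).inv ≫
          HomologicalComplex.homologyMap ((ε₀ U).app Q.obj) 0 = toH0 U Q.obj := by
      rw [← HomologicalComplex.singleObjCyclesSelfIso_inv_homologyπ, Category.assoc,
        HomologicalComplex.homologyπ_naturality, ← Category.assoc]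
      unfold toH0
      congr 1
      rw [← cancel_mono ((CK U Q.obj).iCycles 0), Category.assoc,
        HomologicalComplex.cyclesMap_i, HomologicalComplex.liftCycles_i,
        HomologicalComplex.singleObjCyclesSelfIso_inv_iCycles_assoc]
      show (HomologicalComplex.singleObjXSelf (ComplexShape.up ℕ) 0
        (Q.obj.obj (op (iSup U)))).inv ≫ (ε₀app U Q.obj).f 0 = resHom U Q.obj 0
      rw [ε₀app_f, Iso.inv_hom_id_assoc]
    have hiso : IsIso (toH0 U Q.obj) :=
      (ConcreteCategory.isIso_iff_bijective _).2 (toH0_bijective U Q)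
    have h2 : IsIso ((HomologicalComplex.singleObjHomologySelfIso (ComplexShape.up ℕ) 0
        (Q.obj.obj (op (iSup U)))).inv ≫
          HomologicalComplex.homologyMap ((ε₀ U).app Q.obj) 0) := by
      rw [key]
      exact hiso
    exact IsIso.of_isIso_comp_left (HomologicalComplex.singleObjHomologySelfIso
      (ComplexShape.up ℕ) 0 (Q.obj.obj (op (iSup U)))).inv _
  | succ n =>
    exact TotQis.isIso_of_isZero _
      (HomologicalComplex.isZero_single_obj_homology _ _ _ _ (by simp))
      (isZero_homology_succ_of_injective U Q.obj n)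

/-- sections over the union, as a `ℤ`-graded complex concentrated in degree `0`. -/
noncomputable abbrev AugZ :
    ((Opens X)ᵒᵖ ⥤ AddCommGrpCat.{u}) ⥤ CochainComplex AddCommGrpCat.{u} ℤ :=
  Aug₀ U ⋙ ComplexShape.embeddingUpNat.extendFunctor AddCommGrpCat.{u}

/-- the coaugmentation of the extended Čech complex -/
noncomputable def εZ : AugZ U ⟶ CechZ U := Functor.whiskerRight (ε₀ U) _

/-- the coaugmentation double complex -/
noncomputable abbrev augCx (L' : CochainComplex ((Opens X)ᵒᵖ ⥤ AddCommGrpCat.{u}) ℤ) :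
    HomologicalComplex₂ AddCommGrpCat.{u} (ComplexShape.up ℤ) (ComplexShape.up ℤ) :=
  ((AugZ U).mapHomologicalComplex (ComplexShape.up ℤ)).obj L'

/-- the coaugmentation of the Čech double complex -/
noncomputable abbrev augMap (L' : CochainComplex ((Opens X)ᵒᵖ ⥤ AddCommGrpCat.{u}) ℤ) :
    augCx U L' ⟶ CechTot.cech₂ U L' :=
  (NatTrans.mapHomologicalComplex (εZ U) (ComplexShape.up ℤ)).app L'

lemma isZero_AugZ_X (P : (Opens X)ᵒᵖ ⥤ AddCommGrpCat.{u}) (r : ℤ) (hr : r ≠ 0) :
    IsZero (((AugZ U).obj P).X r) := by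
  by_cases h : r < 0
  · apply HomologicalComplex.isZero_extend_X
    intro i hi
    change (i : ℤ) = r at hi
    omega
  · obtain ⟨n, rfl⟩ := Int.eq_ofNat_of_zero_le (not_lt.1 h)
    have hn : n ≠ 0 := by
      intro h0
      apply hr
      simp [h0]
    exact IsZero.of_iso (HomologicalComplex.isZero_single_obj_X (ComplexShape.up ℕ) 0 _ n hn)
      (HomologicalComplex.extendXIso _ ComplexShape.embeddingUpNat (embf n))

lemma isZero_augCx (a : ℤ) (L : CochainComplex (CohTop.Ab X) ℤ) [L.IsStrictlyGE a] (q p : ℤ)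
    (h : q < a ∨ p < 0) :
    IsZero (((augCx U ((CechTot.presheafCx X).obj L)).X q).X p) := by
  rcases h with h | h
  · have hz : IsZero (L.X q) := L.isZero_of_isStrictlyGE a q h
    exact (HomologicalComplex.eval _ _ p).map_isZero ((AugZ U).map_isZero
      ((sheafToPresheaf (Opens.grothendieckTopology X) AddCommGrpCat.{u}).map_isZero hz))
  · exact isZero_AugZ_X U _ p (by omega)

/-- **Step B**: the coaugmentation induces a quasi-isomorphism on total complexes. -/
theorem quasiIso_total_augMap (a : ℤ) (L : CochainComplex (CohTop.Ab X) ℤ) [L.IsStrictlyGE a]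
    [∀ q, Injective (L.X q)] :
    QuasiIso (HomologicalComplex₂.total.map (augMap U ((CechTot.presheafCx X).obj L))
      (ComplexShape.up ℤ)) := by
  apply TotQis.quasiIso_total_map_of_bddBelow _ _ _ a 0
    (fun q p h => isZero_augCx U a L q p h) (fun q p h => isZero_cech₂ U a L q p h)
  intro q
  have := quasiIso_ε₀ U (L.X q)
  show QuasiIso (HomologicalComplex.extendMap ((ε₀ U).app (L.X q).obj)
    ComplexShape.embeddingUpNat)
  infer_instance

lemma embf0 : ComplexShape.embeddingUpNat.f 0 = (0 : ℤ) := rfl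

/-- the degree `0` part of the augmentation complex -/
noncomputable def augXIso (P : (Opens X)ᵒᵖ ⥤ AddCommGrpCat.{u}) :
    ((AugZ U).obj P).X 0 ≅ P.obj (op (iSup U)) :=
  HomologicalComplex.extendXIso ((HomologicalComplex.single AddCommGrpCat.{u}
      (ComplexShape.up ℕ) 0).obj (P.obj (op (iSup U)))) ComplexShape.embeddingUpNat embf0 ≪≫
    HomologicalComplex.singleObjXSelf (ComplexShape.up ℕ) 0 (P.obj (op (iSup U)))

omit X ι U in
lemma aux_cancel {C : Type*} [Category C] {A B A' B' X Y : C} (a : A ≅ A') (b : A' ≅ X)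
    (c : B ≅ B') (d : B' ≅ Y) (f : X ⟶ Y) (g : A ⟶ B)
    (h : g = a.hom ≫ (b.hom ≫ f ≫ d.inv) ≫ c.inv) :
    g ≫ (c ≪≫ d).hom = (a ≪≫ b).hom ≫ f := by
  subst h
  simp

lemma augXIso_naturality {P Q : (Opens X)ᵒᵖ ⥤ AddCommGrpCat.{u}} (f : P ⟶ Q) :
    ((AugZ U).map f).f 0 ≫ (augXIso U Q).hom = (augXIso U P).hom ≫ f.app (op (iSup U)) := by
  have h1 : ((HomologicalComplex.single AddCommGrpCat.{u} (ComplexShape.up ℕ) 0).map
      (f.app (op (iSup U)))).f 0 =
        (HomologicalComplex.singleObjXSelf (ComplexShape.up ℕ) 0 (P.obj (op (iSup U)))).hom ≫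
          f.app (op (iSup U)) ≫
          (HomologicalComplex.singleObjXSelf (ComplexShape.up ℕ) 0 (Q.obj (op (iSup U)))).inv :=
    HomologicalComplex.single_map_f_self _ _ _
  have h2 : ((AugZ U).map f).f 0 =
      (HomologicalComplex.extendXIso ((HomologicalComplex.single AddCommGrpCat.{u}
        (ComplexShape.up ℕ) 0).obj (P.obj (op (iSup U)))) ComplexShape.embeddingUpNat embf0).hom ≫
      ((HomologicalComplex.single AddCommGrpCat.{u} (ComplexShape.up ℕ) 0).map
        (f.app (op (iSup U)))).f 0 ≫
      (HomologicalComplex.extendXIso ((HomologicalComplex.single AddCommGrpCat.{u}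
        (ComplexShape.up ℕ) 0).obj (Q.obj (op (iSup U)))) ComplexShape.embeddingUpNat embf0).inv :=
    HomologicalComplex.extendMap_f _ _ embf0
  exact aux_cancel _ _ _ _ _ _ (by rw [h2, h1]; rfl)

variable (L : CochainComplex (CohTop.Ab X) ℤ)

/-- the row of index `0` of the flipped augmentation complex is the complex of sections. -/
noncomputable def rowIso :
    (augCx U ((CechTot.presheafCx X).obj L)).flip.X 0 ≅
      ((Γs (iSup U)).mapHomologicalComplex (ComplexShape.up ℤ)).obj L :=
  HomologicalComplex.Hom.isoOfComponents (fun q => augXIso U (L.X q).obj) (by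
    intro q q' _
    exact (augXIso_naturality U (L.d q q').hom).symm)

lemma isZero_flip_row (r : ℤ) (hr : r ≠ 0) :
    IsZero ((augCx U ((CechTot.presheafCx X).obj L)).flip.X r) :=
  isZero_of_isZero_X _ (fun q => isZero_AugZ_X U _ r hr)

/-- **Step C**: the cohomology of the total augmentation complex is the cohomology of the sections
over the union. -/
noncomputable def augHomologyIso (n : ℤ) :
    ((augCx U ((CechTot.presheafCx X).obj L)).total (ComplexShape.up ℤ)).homology n ≅
      (((Γs (iSup U)).mapHomologicalComplex (ComplexShape.up ℤ)).obj L).homology n :=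
  haveI := TotQis.isIso_rowInc (augCx U ((CechTot.presheafCx X).obj L)).flip 0
    (fun r hr => isZero_flip_row U L r hr)
  (HomologicalComplex.homologyFunctor _ _ n).mapIso
      ((augCx U ((CechTot.presheafCx X).obj L)).totalFlipIso (ComplexShape.up ℤ)).symm ≪≫
    ((HomologicalComplex.homologyFunctor _ _ n).mapIso
      (asIso (TotQis.rowInc (augCx U ((CechTot.presheafCx X).obj L)).flip 0
        (isZero_flip_row U L (0 + 1) (by omega))))).symm ≪≫
    (HomologicalComplex.homologyFunctor _ _ n).mapIso
      ((shiftFunctorZero' (CochainComplex AddCommGrpCat.{u} ℤ) (-0 : ℤ) (by simp)).app _) ≪≫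
    (HomologicalComplex.homologyFunctor _ _ n).mapIso (rowIso U L)

/-- Čech hypercohomology of a Leray-good bounded below complex is computed by the sections of an
injective resolution. -/
theorem nonempty_hyperH_iso (a : ℤ) {K L : CochainComplex (CohTop.Ab X) ℤ} [K.IsStrictlyGE a]
    [L.IsStrictlyGE a] (hK : ∀ q, LerayGood U (K.X q)) [∀ q, Injective (L.X q)] (j : K ⟶ L)
    [QuasiIso j] (n : ℤ) :
    Nonempty (CechTot.hyperH U ((CechTot.presheafCx X).obj K) n ≅
      (((Γs (iSup U)).mapHomologicalComplex (ComplexShape.up ℤ)).obj L).homology n) := by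
  have h1 := quasiIso_total_cech₂Map U a hK j
  have h2 := quasiIso_total_augMap U a L
  exact ⟨asIso (HomologicalComplex.homologyMap
      (HomologicalComplex₂.total.map (cech₂Map U j) (ComplexShape.up ℤ)) n) ≪≫
    (asIso (HomologicalComplex.homologyMap
      (HomologicalComplex₂.total.map (augMap U ((CechTot.presheafCx X).obj L))
        (ComplexShape.up ℤ)) n)).symm ≪≫ augHomologyIso U L n⟩

end Groth.Agent.Lib.Helper5.CechHyp3
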