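import Groth.Agent.Lib.Helper5.CechHyp3
import Groth.Agent.Lib.Helper17.HDU3

/-!
# Čech hypercohomology, final step (helper5)

The cohomology of the sections of a bounded below complex of injectives computes hypercohomology.
-/

set_option autoImplicit false

universe u

open CategoryTheory CategoryTheory.Limits Opposite TopologicalSpace HomologicalComplex

namespace Groth.Agent.Lib.Helper5.CechHyp4

open Groth.Agent.Lib.Helper5.CechHyp2 Groth.Agent.Lib.Helper17

variable {X : TopCat.{u}} [HasDerivedCategory.{u} (CohTop.Ab X)]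

theorem nonempty_homology_sections_iso_HDU (a : ℤ) {K L : CochainComplex (CohTop.Ab X) ℤ}
    [L.IsStrictlyGE a] [∀ q, Injective (L.X q)] (j : K ⟶ L) [QuasiIso j] (n : ℤ) (V : Opens X) :
    Nonempty ((((Γs V).mapHomologicalComplex (ComplexShape.up ℤ)).obj L).homology n ≅
      (CohCx.HDUPresheaf (DerivedCategory.Q.obj K) n).obj (op V)) := by
  have : L.IsKInjective := CochainComplex.isKInjective_of_injective L a
  have : IsIso (DerivedCategory.Q.map j) :=
    (DerivedCategory.isIso_Q_map_iff_quasiIso (C := CohTop.Ab X) (φ := j)).2 inferInstance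
  let e1 := (HDU3.hduPresheafMapIso (Opens.grothendieckTopology X)
    (asIso (DerivedCategory.Q.map j)) n).app (op V)
  let e2 := (HDU3.hduIso (Opens.grothendieckTopology X) L n).app (op V)
  let e3 := HDU3.mapHCHomologyIso ((evaluation _ _).obj (op V))
    (HDU3.secCx (Opens.grothendieckTopology X) L) n
  exact ⟨e3 ≪≫ e2.symm ≪≫ e1.symm⟩

end Groth.Agent.Lib.Helper5.CechHyp4
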