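import Mathlib

/-
Helper5: sections of a Čech nerve.  Let `f` be an arrow in a category `𝒞` with Čech nerve, and
`G : 𝒞 ⥤ Type u` a functor preserving the wide pullbacks involved (e.g. sections of a sheaf of
sets over an object).  If `G(f) = g ≫ m` with `g` surjective and `m` injective, then the
simplicial set `G(Čech nerve of f)`, augmented to the image `P` of `G(f)`, has an extra degeneracy.
-/

set_option autoImplicit false

universe v w u

open CategoryTheory Limits Simplicial Opposite SimplicialObject

namespace Groth.Agent.Lib.Helper5.CechNerveType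

variable {𝒞 : Type w} [Category.{v} 𝒞] (f : Arrow 𝒞)
  [∀ n : ℕ, HasWidePullback f.right (fun _ : Fin (n + 1) => f.left) fun _ => f.hom]
  (G : 𝒞 ⥤ Type u)
  {P : Type u} (g : G.obj f.left ⟶ P) (m : P ⟶ G.obj f.right) (hgm : g ≫ m = G.map f.hom)
  [Mono m]

include hgm in
lemma πg_eq (n : ℕ) (i j : Fin (n + 1)) :
    G.map (WidePullback.π (fun _ : Fin (n + 1) => f.hom) i) ≫ g =
      G.map (WidePullback.π (fun _ : Fin (n + 1) => f.hom) j) ≫ g := by
  rw [← cancel_mono m, Category.assoc, Category.assoc, hgm, ← G.map_comp, ← G.map_comp,
    WidePullback.π_arrow, WidePullback.π_arrow]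

/-- `G` of the Čech nerve of `f`, augmented to `P`. -/
noncomputable def A' : Augmented (Type u) where
  left := f.cechNerve ⋙ G
  right := P
  hom :=
    { app := fun x => G.map (WidePullback.π (fun _ : Fin (x.unop.len + 1) => f.hom) 0) ≫ g
      naturality := by
        intro x y θ
        dsimp
        rw [Category.comp_id, ← Category.assoc, ← G.map_comp, WidePullback.lift_π]
        exact πg_eq f G g m hgm _ _ _ }


/-- The comparison morphism to the Čech nerve of `g` in types. -/
noncomputable def comp : A' f G g m hgm ⟶ (Arrow.mk g).augmentedCechNerve :=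
  SimplicialObject.equivalenceLeftToRight (A' f G g m hgm) (Arrow.mk g)
    (Arrow.homMk (G.map (WidePullback.π (fun _ : Fin (0 + 1) => f.hom) 0)) (𝟙 P) (by
      dsimp [A']
      exact (Category.comp_id _).symm))


lemma comp_left_app_π (x : SimplexCategoryᵒᵖ) (i : Fin (x.unop.len + 1)) :
    (comp f G g m hgm).left.app x ≫ WidePullback.π (fun _ : Fin (x.unop.len + 1) => g) i =
      G.map (WidePullback.π (fun _ : Fin (x.unop.len + 1) => f.hom) i) := by
  simp only [comp, SimplicialObject.equivalenceLeftToRight_left_app]
  erw [WidePullback.lift_π]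
  change G.map (f.cechNerve.map _) ≫ G.map _ = _
  rw [← G.map_comp]
  congr 1
  simp only [Arrow.cechNerve_map, WidePullback.lift_π]
  rfl

variable [∀ n : ℕ, PreservesLimit
  (WidePullbackShape.wideCospan f.right (fun _ : Fin (n + 1) => f.left) fun _ => f.hom) G]

lemma bijective_comp_left_app (x : SimplexCategoryᵒᵖ) :
    Function.Bijective ((comp f G g m hgm).left.app x) := by
  let F := WidePullbackShape.wideCospan f.right (fun _ : Fin (x.unop.len + 1) => f.left)
    fun _ => f.hom
  have hlim : IsLimit (G.mapCone (limit.cone F)) := isLimitOfPreserves G (limit.isLimit F)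
  have hex := (Types.isLimit_iff (G.mapCone (limit.cone F))).1 ⟨hlim⟩
  have hbase : ∀ y : G.obj (limit F), G.map (limit.π F none) y =
      G.map f.hom (G.map (WidePullback.π (fun _ : Fin (x.unop.len + 1) => f.hom) 0) y) := by
    intro y
    rw [← ConcreteCategory.comp_apply, ← G.map_comp, WidePullback.π_arrow]
    rfl
  constructor
  · intro y y' hyy
    have hπ : ∀ i, G.map (WidePullback.π (fun _ : Fin (x.unop.len + 1) => f.hom) i) y =
        G.map (WidePullback.π (fun _ : Fin (x.unop.len + 1) => f.hom) i) y' := fun i => by
      have h1 : ∀ y, WidePullback.π (fun _ : Fin (x.unop.len + 1) => g) i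
          ((comp f G g m hgm).left.app x y) =
          G.map (WidePullback.π (fun _ : Fin (x.unop.len + 1) => f.hom) i) y := fun y =>
        ConcreteCategory.congr_hom (comp_left_app_π f G g m hgm x i) y
      rw [← h1 y, ← h1 y', hyy]
    obtain ⟨z, -, hz⟩ := hex _ (Types.sectionOfCone (G.mapCone (limit.cone F)) y).2
    rw [hz y (fun j => rfl), hz y' (fun j => ?_)]
    cases j with
    | none =>
      change G.map (limit.π F none) y' = G.map (limit.π F none) y
      rw [hbase, hbase, hπ]
    | some i => exact (hπ i).symm
  · intro z
    have hbz : ∀ i (z : widePullback P (fun _ : Fin (x.unop.len + 1) => G.obj f.left)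
          (fun _ => g)), g (WidePullback.π (fun _ : Fin (x.unop.len + 1) => g) i z) =
        WidePullback.base (fun _ : Fin (x.unop.len + 1) => g) z := fun i z =>
      ConcreteCategory.congr_hom (WidePullback.π_arrow (fun _ : Fin (x.unop.len + 1) => g) i) z
    let s : ∀ j, (F ⋙ G).obj j := fun j => match j with
      | none => m (WidePullback.base (fun _ : Fin (x.unop.len + 1) => g) z)
      | some i => WidePullback.π (fun _ : Fin (x.unop.len + 1) => g) i z
    have hs : s ∈ (F ⋙ G).sections := by
      intro j j' θ
      match j, j', θ with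
      | _, _, .id j =>
        change (F ⋙ G).map (𝟙 _) (s j) = s j
        rw [(F ⋙ G).map_id]
        rfl
      | _, _, .term i =>
        change G.map f.hom (WidePullback.π (fun _ : Fin (x.unop.len + 1) => g) i z) =
          m (WidePullback.base (fun _ : Fin (x.unop.len + 1) => g) z)
        rw [← hgm, ← hbz i z]
        rfl
    obtain ⟨y, hy, -⟩ := hex s hs
    refine ⟨y, ?_⟩
    have h1 : ∀ i, WidePullback.π (fun _ : Fin (x.unop.len + 1) => g) i
        ((comp f G g m hgm).left.app x y) =
        WidePullback.π (fun _ : Fin (x.unop.len + 1) => g) i z := fun i =>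
      (ConcreteCategory.congr_hom (comp_left_app_π f G g m hgm x i) y).trans (hy (some i))
    apply Types.limit_ext
    intro j
    cases j with
    | none =>
      change WidePullback.base (fun _ : Fin (x.unop.len + 1) => g)
        ((comp f G g m hgm).left.app x y) = WidePullback.base (fun _ : Fin (x.unop.len + 1) => g) z
      rw [← hbz 0 ((comp f G g m hgm).left.app x y), h1 0, hbz 0 z]
    | some i => exact h1 i


/-- `G` of the Čech nerve of `f`, augmented to `P`, is the Čech nerve of `g` in types. -/
noncomputable def isoCech : A' f G g m hgm ≅ (Arrow.mk g).augmentedCechNerve := by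
  haveI : IsIso (comp f G g m hgm).left := by
    haveI : ∀ x, IsIso ((comp f G g m hgm).left.app x) := fun x =>
      (isIso_iff_bijective _).2 (bijective_comp_left_app f G g m hgm x)
    exact NatIso.isIso_of_isIso_app _
  exact Comma.isoMk (asIso (comp f G g m hgm).left) (Iso.refl _) (comp f G g m hgm).w

/-- The extra degeneracy. -/
noncomputable def extraDegeneracy (hg : Function.Surjective g) :
    (A' f G g m hgm).ExtraDegeneracy :=
  .ofIso (isoCech f G g m hgm).symm
    (Arrow.AugmentedCechNerve.extraDegeneracy (Arrow.mk g)
      ⟨↾(Function.surjInv hg), by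
        ext z
        exact Function.surjInv_eq hg z⟩)

end Groth.Agent.Lib.Helper5.CechNerveType
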