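import Groth.Agent.Lib.Helper5.CechDerived
import Groth.Agent.Lib.Helper5.KoszulSections
import Groth.Agent.Lib.Helper29.QCohRestrict

/-!
# Cohomology of a union of affine basic opens via the extended Čech complex of the global sections

`H^q(U, F|U) ≃ H^{q+1}` of the extended Čech complex (and of the Koszul direct limit) of `Γ(X, F)`,
for `U = ⋃ X_{f_i}` with all `X_{f_i}` affine in a quasi-compact separated scheme, `q ≥ 1`.
-/

set_option autoImplicit false

universe u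

open CategoryTheory CategoryTheory.Limits AlgebraicGeometry Opposite TopologicalSpace
open Groth.Agent.Lib.Helper29.QCoh Groth.Agent.Lib.Helper5.CechClosed
open Groth.Agent.Lib.Helper5.QcqsClosed Groth.Agent.Lib.Helper5.QcqsClosedHom
open Groth.Agent.Lib.Helper5.AcyclicEmb

noncomputable section

namespace Groth.Agent.Lib.Helper5.CechOpen

variable {X : Scheme.{u}}

/-- restriction of functions to an open subscheme -/
def φU (U : X.Opens) : Γ(X, ⊤) →+* Γ(U.toScheme, ⊤) := U.ι.appTop.hom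

lemma basicOpen_φU (U : X.Opens) (f : Γ(X, ⊤)) :
    (U.toScheme).basicOpen (φU U f) = U.ι ⁻¹ᵁ X.basicOpen f :=
  (Scheme.preimage_basicOpen_top U.ι f).symm

lemma smul_Nf_restrict (F : X.Modules) (U : X.Opens) (a : Γ(X, ⊤))
    (y : (Nf (φU U)).obj (F.restrict U.ι)) :
    a • y = (show (Nf (φU U)).obj (F.restrict U.ι) from
      rsmul F (le_top : U.ι ''ᵁ ⊤ ≤ ⊤) a (show Γ(F, U.ι ''ᵁ ⊤) from y)) := by
  change rsmul (F.restrict U.ι) (le_top : (⊤ : U.toScheme.Opens) ≤ ⊤) (φU U a) y = _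
  rw [rsmul_self]
  refine (restrict_smul U.ι F ⊤ (φU U a) y).trans ?_
  rw [Scheme.Opens.ι_appIso]
  rfl

/-- restriction of global sections to the open subscheme, as a linear map -/
def rUₗ (F : X.Modules) (U : X.Opens) :
    (F.val.obj (op ⊤)) →ₗ[Γ(X, ⊤)] ((Nf (φU U)).obj (F.restrict U.ι)) where
  toFun := fun m => res F (le_top : U.ι ''ᵁ ⊤ ≤ ⊤) m
  map_add' := fun a b => map_add (res F (le_top : U.ι ''ᵁ ⊤ ≤ ⊤)) a b
  map_smul' := fun g m =>
    (res_smul F (le_top : U.ι ''ᵁ ⊤ ≤ ⊤) g m).trans (smul_Nf_restrict F U g _).symm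

/-- restriction of global sections to the open subscheme -/
def rU (F : X.Modules) (U : X.Opens) :
    ModuleCat.of Γ(X, ⊤) (F.val.obj (op ⊤)) ⟶ (Nf (φU U)).obj (F.restrict U.ι) :=
  ModuleCat.ofHom (X := ↑(F.val.obj (op ⊤))) (Y := ↑((Nf (φU U)).obj (F.restrict U.ι))) (rUₗ F U)

lemma rU_apply (F : X.Modules) (U : X.Opens) (m : ModuleCat.of Γ(X, ⊤) (F.val.obj (op ⊤))) :
    (rU F U).hom m = (show (Nf (φU U)).obj (F.restrict U.ι) from
      res F (le_top : U.ι ''ᵁ ⊤ ≤ ⊤) m) := rfl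

variable [CompactSpace X] [X.IsSeparated]

lemma isSeparated_opens (U : X.Opens) : (U.toScheme).IsSeparated := by
  have e : terminal.from U.toScheme = U.ι ≫ terminal.from X := terminal.hom_ext _ _
  refine ⟨?_⟩
  rw [e]
  infer_instance

/-- comparison of the Čech cohomology of the sections over `X` and over `U` -/
theorem Hq_restrict_iso (fs : List Γ(X, ⊤)) (F : X.Modules) [F.IsQuasicoherent] (n : ℕ) :
    Nonempty (Hq fs (ModuleCat.of Γ(X, ⊤) (F.val.obj (op ⊤))) ((n : ℤ) + 2) ≅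
      Hq fs ((Nf (φU (UL X fs))).obj (F.restrict (UL X fs).ι)) ((n : ℤ) + 2)) := by
  have hT : IsCompact ((⊤ : X.Opens) : Set X) := Groth.Agent.Lib.Helper5.CechDerived.isCompact_top
  have hV : (UL X fs).ι ''ᵁ ⊤ ≤ ⊤ := le_top
  have hUe : (UL X fs).ι ''ᵁ ⊤ = ⊤ ⊓ UL X fs := by
    rw [Scheme.Opens.ι_image_top, top_inf_eq]
  have hVc : IsCompact (((UL X fs).ι ''ᵁ ⊤ : X.Opens) : Set X) := by
    rw [hUe]
    exact isCompact_inf_UL hT fs
  have hg : ∀ g ∈ fs, (⊤ : X.Opens) ⊓ X.basicOpen g ≤ (UL X fs).ι ''ᵁ ⊤ := by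
    intro g hg
    rw [hUe]
    exact inf_le_inf_left _ (basicOpen_le_UL hg)
  refine Hq_iso_of_tors (rU F (UL X fs)) fs ?_ ?_ n (Int.natCast_nonneg n)
  · intro m hm g hgm
    have hm' : res F hV m = 0 := hm
    obtain ⟨k, hk⟩ := ker_tors F hT hV g (hg g hgm) m hm'
    exact ⟨k, (rsmul_self F (g ^ k) m).symm.trans hk⟩
  · intro y g hgm
    obtain ⟨k, m, hm⟩ := coker_tors F hT (IsQuasiSeparated.of_quasiSeparatedSpace _) hVc hV g
      (hg g hgm) (show Γ(F, (UL X fs).ι ''ᵁ ⊤) from y)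
    refine ⟨k, m, ?_⟩
    rw [smul_Nf_restrict, rU_apply]
    exact hm

/-- **`H^{n+1}(U, F|U)` is `H^{n+2}` of the extended Čech complex of `Γ(X, F)`.** -/
theorem HHon_iso_Hq (fs : List Γ(X, ⊤)) (haff : ∀ f ∈ fs, IsAffineOpen (X.basicOpen f))
    (F : X.Modules) [F.IsQuasicoherent] (n : ℕ) :
    Nonempty (Coh.HHon X F (UL X fs) (n + 1) ≃+
      Hq fs (ModuleCat.of Γ(X, ⊤) (F.val.obj (op ⊤))) ((n : ℤ) + 2)) := by
  obtain ⟨e1⟩ := Hq_restrict_iso fs F n
  cases fs with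
  | nil =>
    have hz : IsZero (Hq ([] : List Γ(X, ⊤)) (ModuleCat.of Γ(X, ⊤) (F.val.obj (op ⊤)))
        ((n : ℤ) + 2)) := by
      have h := isZero_Hq_of_tors ([] : List Γ(X, ⊤)) (ModuleCat.of Γ(X, ⊤) (F.val.obj (op ⊤)))
        (fun f hf => (List.not_mem_nil hf).elim) ((n : ℤ) + 1) (by positivity)
      rwa [show (n : ℤ) + 1 + 1 = (n : ℤ) + 2 by ring] at h
    haveI : IsAffine (UL X ([] : List Γ(X, ⊤))).toScheme := isAffineOpen_bot X
    haveI : Subsingleton (Coh.HHon X F (UL X ([] : List Γ(X, ⊤))) (n + 1)) :=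
      Groth.Agent.Lib.Helper22.Cech.subsingleton_HH_succ_of_isAffine _ _ n
    haveI : Subsingleton (Hq ([] : List Γ(X, ⊤)) (ModuleCat.of Γ(X, ⊤) (F.val.obj (op ⊤)))
        ((n : ℤ) + 2)) := ModuleCat.subsingleton_of_isZero hz
    exact ⟨{ toFun := fun _ => 0
             invFun := fun _ => 0
             left_inv := fun _ => Subsingleton.elim _ _
             right_inv := fun _ => Subsingleton.elim _ _
             map_add' := fun _ _ => Subsingleton.elim _ _ }⟩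
  | cons f₀ l =>
    haveI : (UL X (f₀ :: l)).toScheme.IsSeparated := isSeparated_opens _
    have hT : IsCompact ((⊤ : X.Opens) : Set X) :=
      Groth.Agent.Lib.Helper5.CechDerived.isCompact_top
    haveI : CompactSpace (UL X (f₀ :: l)).toScheme := by
      have h := isCompact_inf_UL hT (f₀ :: l)
      rw [top_inf_eq] at h
      exact isCompact_iff_compactSpace.mp h
    have haff' : ∀ f ∈ f₀ :: l,
        IsAffineOpen ((UL X (f₀ :: l)).toScheme.basicOpen (φU (UL X (f₀ :: l)) f)) := by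
      intro f hf
      rw [basicOpen_φU]
      refine (haff f hf).preimage_of_isOpenImmersion _ ?_
      rw [Scheme.Opens.opensRange_ι]
      exact basicOpen_le_UL hf
    have hcov : ∀ x : (UL X (f₀ :: l)).toScheme, ∃ f ∈ f₀ :: l,
        x ∈ (UL X (f₀ :: l)).toScheme.basicOpen (φU (UL X (f₀ :: l)) f) := by
      intro x
      obtain ⟨g, hg, hx⟩ := (mem_UL (f₀ :: l) ((UL X (f₀ :: l)).ι x)).1 x.2
      refine ⟨g, hg, ?_⟩
      rw [basicOpen_φU]
      exact hx
    obtain ⟨e2⟩ := Groth.Agent.Lib.Helper5.CechDerived.main (φU (UL X (f₀ :: l))) f₀ l haff' hcov n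
      (F.restrict (UL X (f₀ :: l)).ι)
    exact ⟨e2.trans e1.symm.toLinearEquiv.toAddEquiv⟩

/-- the Koszul direct limit version -/
theorem HHon_iso_koszulHLim (fs : List Γ(X, ⊤)) (haff : ∀ f ∈ fs, IsAffineOpen (X.basicOpen f))
    (F : X.Modules) [F.IsQuasicoherent] (U : X.Opens) (hU : U = UL X fs) (n : ℕ) :
    Nonempty (Coh.HHon X F U (n + 1) ≃+
      CohIII.koszulHLim fs (ModuleCat.of Γ(X, ⊤) (F.val.obj (op ⊤))) (n + 1 + 1)) := by
  subst hU
  obtain ⟨e⟩ := HHon_iso_Hq fs haff F n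
  have k := Groth.Agent.Lib.Helper5.CechShift.koszulHLimEquivExtCech
    (ModuleCat.of Γ(X, ⊤) (F.val.obj (op ⊤))) fs (n + 1 + 1)
  have j := Groth.Agent.Lib.Helper5.KoszulSections.hqIso fs
    (ModuleCat.of Γ(X, ⊤) (F.val.obj (op ⊤))) (n + 1 + 1) ((n : ℤ) + 2) (by push_cast; ring)
  exact ⟨e.trans (j.symm.toLinearEquiv.toAddEquiv.trans k.symm.toAddEquiv)⟩

end Groth.Agent.Lib.Helper5.CechOpen
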