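import Groth.Agent.Lib.Helper5.CechOpen

/-!
# Cohomology of a union of affine basic opens, for a ring mapping to the global functions

The version of `CechOpen.HHon_iso_Hq` for a ring map `φ : R → Γ(X, ⊤)`, a list of elements of `R`
and an `R`-module `M₀` with a bijection `M₀ → Γ(X, F)` (for instance `X = Spec R`, `F = M₀~`).
-/

set_option autoImplicit false

universe u

open CategoryTheory CategoryTheory.Limits AlgebraicGeometry Opposite TopologicalSpace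
open Groth.Agent.Lib.Helper29.QCoh Groth.Agent.Lib.Helper5.CechClosed
open Groth.Agent.Lib.Helper5.QcqsClosed Groth.Agent.Lib.Helper5.QcqsClosedHom
open Groth.Agent.Lib.Helper5.AcyclicEmb Groth.Agent.Lib.Helper5.CechOpen

noncomputable section

namespace Groth.Agent.Lib.Helper5.CechOpenHom

variable {X : Scheme.{u}} {R : Type u} [CommRing R] (φ : R →+* Γ(X, ⊤))

/-- the composite ring map to the functions on the open subscheme -/
def ψU (U : X.Opens) : R →+* Γ(U.toScheme, ⊤) := (φU U).comp φ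

lemma basicOpen_ψU (U : X.Opens) (f : R) :
    (U.toScheme).basicOpen (ψU φ U f) = U.ι ⁻¹ᵁ X.basicOpen (φ f) :=
  basicOpen_φU U (φ f)

lemma smul_Nf_restrictφ (F : X.Modules) (U : X.Opens) (a : R)
    (y : (Nf (ψU φ U)).obj (F.restrict U.ι)) :
    a • y = (show (Nf (ψU φ U)).obj (F.restrict U.ι) from
      rsmul F (le_top : U.ι ''ᵁ ⊤ ≤ ⊤) (φ a) (show Γ(F, U.ι ''ᵁ ⊤) from y)) :=
  smul_Nf_restrict F U (φ a) y

/-- restriction of global sections to the open subscheme, as a linear map -/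
def rUφₗ (F : X.Modules) (U : X.Opens) :
    (secModφ φ F ⊤) →ₗ[R] ((Nf (ψU φ U)).obj (F.restrict U.ι)) where
  toFun := fun m => res F (le_top : U.ι ''ᵁ ⊤ ≤ ⊤) m
  map_add' := fun a b => map_add (res F (le_top : U.ι ''ᵁ ⊤ ≤ ⊤)) a b
  map_smul' := fun g m =>
    (rsmul_res F (le_top : (⊤ : X.Opens) ≤ ⊤) (le_top : U.ι ''ᵁ ⊤ ≤ ⊤) (φ g) m).trans
      (smul_Nf_restrictφ φ F U g _).symm

/-- restriction of global sections to the open subscheme -/
def rUφ (F : X.Modules) (U : X.Opens) :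
    secModφ φ F ⊤ ⟶ (Nf (ψU φ U)).obj (F.restrict U.ι) :=
  ModuleCat.ofHom (X := ↑(secModφ φ F ⊤)) (Y := ↑((Nf (ψU φ U)).obj (F.restrict U.ι)))
    (rUφₗ φ F U)

lemma rUφ_apply (F : X.Modules) (U : X.Opens) (m : secModφ φ F ⊤) :
    (rUφ φ F U).hom m = (show (Nf (ψU φ U)).obj (F.restrict U.ι) from
      res F (le_top : U.ι ''ᵁ ⊤ ≤ ⊤) m) := rfl

variable [CompactSpace X] [X.IsSeparated]

/-- comparison of the Čech cohomology of the sections over `X` and over `U` -/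
theorem Hq_restrict_isoφ (fs : List R) (F : X.Modules) [F.IsQuasicoherent]
    (M₀ : ModuleCat.{u} R) (r₀ : M₀ ⟶ secModφ φ F ⊤) (hr₀ : Function.Bijective r₀.hom) (n : ℕ) :
    Nonempty (Hq fs M₀ ((n : ℤ) + 2) ≅
      Hq fs ((Nf (ψU φ (UL X (fs.map φ)))).obj (F.restrict (UL X (fs.map φ)).ι))
        ((n : ℤ) + 2)) := by
  have hT : IsCompact ((⊤ : X.Opens) : Set X) := Groth.Agent.Lib.Helper5.CechDerived.isCompact_top
  have hV : (UL X (fs.map φ)).ι ''ᵁ ⊤ ≤ ⊤ := le_top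
  have hUe : (UL X (fs.map φ)).ι ''ᵁ ⊤ = ⊤ ⊓ UL X (fs.map φ) := by
    rw [Scheme.Opens.ι_image_top, top_inf_eq]
  have hVc : IsCompact (((UL X (fs.map φ)).ι ''ᵁ ⊤ : X.Opens) : Set X) := by
    rw [hUe]
    exact isCompact_inf_UL hT (fs.map φ)
  have hg : ∀ g ∈ fs, (⊤ : X.Opens) ⊓ X.basicOpen (φ g) ≤ (UL X (fs.map φ)).ι ''ᵁ ⊤ := by
    intro g hg
    rw [hUe]
    exact inf_le_inf_left _ (basicOpen_le_UL (List.mem_map_of_mem hg))
  refine Hq_iso_of_tors (r₀ ≫ rUφ φ F (UL X (fs.map φ))) fs ?_ ?_ n (Int.natCast_nonneg n)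
  · intro m hm g hgm
    have hm' : res F hV (r₀.hom m) = 0 := hm
    obtain ⟨k, hk⟩ := ker_tors F hT hV (φ g) (hg g hgm) (r₀.hom m) hm'
    refine ⟨k, hr₀.1 ?_⟩
    rw [map_smul, map_zero]
    change rsmul F le_top (φ (g ^ k)) (r₀.hom m) = 0
    rw [map_pow]
    exact hk
  · intro y g hgm
    obtain ⟨k, m, hm⟩ := coker_tors F hT (IsQuasiSeparated.of_quasiSeparatedSpace _) hVc hV (φ g)
      (hg g hgm) (show Γ(F, (UL X (fs.map φ)).ι ''ᵁ ⊤) from y)
    obtain ⟨m₀, hm₀⟩ := hr₀.2 m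
    refine ⟨k, m₀, ?_⟩
    rw [smul_Nf_restrictφ, map_pow]
    change (show (Nf (ψU φ (UL X (fs.map φ)))).obj (F.restrict (UL X (fs.map φ)).ι) from
      res F hV (r₀.hom m₀)) = _
    rw [hm₀]
    exact hm

/-- **`H^{n+1}(U, F|U)` is `H^{n+2}` of the extended Čech complex of `M₀ ≃ Γ(X, F)`.** -/
theorem HHon_iso_Hqφ (f₀ : R) (l : List R)
    (haff : ∀ f ∈ f₀ :: l, IsAffineOpen (X.basicOpen (φ f)))
    (F : X.Modules) [F.IsQuasicoherent]
    (M₀ : ModuleCat.{u} R) (r₀ : M₀ ⟶ secModφ φ F ⊤) (hr₀ : Function.Bijective r₀.hom)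
    (U : X.Opens) (hU : U = UL X ((f₀ :: l).map φ)) (n : ℕ) :
    Nonempty (Coh.HHon X F U (n + 1) ≃+ Hq (f₀ :: l) M₀ ((n : ℤ) + 2)) := by
  subst hU
  obtain ⟨e1⟩ := Hq_restrict_isoφ φ (f₀ :: l) F M₀ r₀ hr₀ n
  haveI : (UL X ((f₀ :: l).map φ)).toScheme.IsSeparated := isSeparated_opens _
  have hT : IsCompact ((⊤ : X.Opens) : Set X) :=
    Groth.Agent.Lib.Helper5.CechDerived.isCompact_top
  haveI : CompactSpace (UL X ((f₀ :: l).map φ)).toScheme := by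
    have h := isCompact_inf_UL hT ((f₀ :: l).map φ)
    rw [top_inf_eq] at h
    exact isCompact_iff_compactSpace.mp h
  have haff' : ∀ f ∈ f₀ :: l, IsAffineOpen ((UL X ((f₀ :: l).map φ)).toScheme.basicOpen
      (ψU φ (UL X ((f₀ :: l).map φ)) f)) := by
    intro f hf
    rw [basicOpen_ψU]
    refine (haff f hf).preimage_of_isOpenImmersion _ ?_
    rw [Scheme.Opens.opensRange_ι]
    exact basicOpen_le_UL (List.mem_map_of_mem hf)
  have hcov : ∀ x : (UL X ((f₀ :: l).map φ)).toScheme, ∃ f ∈ f₀ :: l,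
      x ∈ (UL X ((f₀ :: l).map φ)).toScheme.basicOpen (ψU φ (UL X ((f₀ :: l).map φ)) f) := by
    intro x
    obtain ⟨g', hg', hx⟩ := (mem_UL ((f₀ :: l).map φ) ((UL X ((f₀ :: l).map φ)).ι x)).1 x.2
    obtain ⟨g, hg, rfl⟩ := List.mem_map.1 hg'
    refine ⟨g, hg, ?_⟩
    rw [basicOpen_ψU]
    exact hx
  obtain ⟨e2⟩ := Groth.Agent.Lib.Helper5.CechDerived.main (ψU φ (UL X ((f₀ :: l).map φ))) f₀ l
    haff' hcov n (F.restrict (UL X ((f₀ :: l).map φ)).ι)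
  exact ⟨e2.trans e1.symm.toLinearEquiv.toAddEquiv⟩

end Groth.Agent.Lib.Helper5.CechOpenHom
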