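import Groth.Agent.Lib.Helper5.CechNerveType
import Groth.Agent.Lib.Helper5.AugResolution

/-
Helper5: for an epimorphism `f : K' ⟶ K` of sheaves of sets on a small site, the complex of free
abelian sheaves on the Čech nerve of `f` is a resolution of the free abelian sheaf on `K`.
-/

set_option autoImplicit false

universe u

open CategoryTheory Limits Simplicial Opposite SimplicialObject AlgebraicTopology

namespace Groth.Agent.Lib.Helper5.CechRes

variable {C : Type u} [SmallCategory C] (J : GrothendieckTopology C)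

/-- Sections over `U` of a sheaf of sets. -/
abbrev GU (U : Cᵒᵖ) : Sheaf J (Type u) ⥤ Type u :=
  sheafToPresheaf J (Type u) ⋙ (evaluation Cᵒᵖ (Type u)).obj U

/-- The free abelian presheaf on (the underlying presheaf of) a sheaf of sets. -/
abbrev Ψ : Sheaf J (Type u) ⥤ (Cᵒᵖ ⥤ AddCommGrpCat.{u}) :=
  sheafToPresheaf J (Type u) ⋙ (Functor.whiskeringRight Cᵒᵖ (Type u) AddCommGrpCat.{u}).obj
    AddCommGrpCat.free.{u}

variable {J} {K' K : Sheaf J (Type u)} (f : K' ⟶ K)

/-- The image of `K'(U) → K(U)`. -/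
abbrev PU (U : Cᵒᵖ) : Type u := Set.range (f.hom.app U)

/-- `K'(U) → im`. -/
def gU (U : Cᵒᵖ) : (GU J U).obj K' ⟶ PU f U := ↾(Set.rangeFactorization (f.hom.app U))

/-- `im → K(U)`. -/
def mU (U : Cᵒᵖ) : PU f U ⟶ (GU J U).obj K := ↾(Subtype.val)

lemma gU_mU (U : Cᵒᵖ) : gU f U ≫ mU f U = (GU J U).map (Arrow.mk f).hom := rfl

instance (U : Cᵒᵖ) : Mono (mU f U) := (mono_iff_injective _).2 Subtype.val_injective

lemma gU_surjective (U : Cᵒᵖ) : Function.Surjective (gU f U) :=
  Set.rangeFactorization_surjective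

/-- The extra degeneracy of the sections over `U` of the Čech nerve, augmented to the image. -/
noncomputable def ed (U : Cᵒᵖ) :
    (CechNerveType.A' (Arrow.mk f) (GU J U) (gU f U) (mU f U) (gU_mU f U)).ExtraDegeneracy :=
  CechNerveType.extraDegeneracy (Arrow.mk f) (GU J U) (gU f U) (mU f U) (gU_mU f U)
    (gU_surjective f U)


/-- The free abelian groups on the sections over `U` of the Čech nerve, augmented to the free
abelian group on the image. -/
noncomputable abbrev B (U : Cᵒᵖ) : Augmented AddCommGrpCat.{u} :=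
  ((Augmented.whiskering _ _).obj AddCommGrpCat.free.{u}).obj
    (CechNerveType.A' (Arrow.mk f) (GU J U) (gU f U) (mU f U) (gU_mU f U))

instance (U : Cᵒᵖ) : QuasiIso (AlternatingFaceMapComplex.ε.app (B f U)) :=
  inferInstanceAs (QuasiIso ((ed f U).map AddCommGrpCat.free.{u}).homotopyEquiv.hom)

/-- The simplicial abelian presheaf `ℤ[Čech nerve]`. -/
noncomputable abbrev Zp : SimplicialObject (Cᵒᵖ ⥤ AddCommGrpCat.{u}) :=
  (Arrow.mk f).cechNerve ⋙ Ψ J

lemma exact_eval_succ (U : Cᵒᵖ) (n : ℕ) :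
    ((AlternatingFaceMapComplex.obj
      (Zp f ⋙ (evaluation Cᵒᵖ AddCommGrpCat.{u}).obj U)).sc' (n + 2) (n + 1) n).Exact :=
  (AugRes.exact_of_quasiIso_ε (B f U)).1 n

lemma exact_succ (n : ℕ) : ((AlternatingFaceMapComplex.obj (Zp f)).sc' (n + 2) (n + 1) n).Exact := by
  rw [ShortComplex.exact_iff_isZero_homology, Functor.isZero_iff]
  intro U
  have hU := (ShortComplex.exact_iff_of_iso
    (AugRes.scMapIso ((evaluation Cᵒᵖ AddCommGrpCat.{u}).obj U) (Zp f) n)).2 (exact_eval_succ f U n)
  rw [ShortComplex.exact_iff_isZero_homology] at hU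
  exact IsZero.of_iso hU (ShortComplex.mapHomologyIso _ ((evaluation _ _).obj U)).symm


/-- The augmented simplicial abelian presheaf `ℤ[Čech nerve] → ℤ[K]`. -/
noncomputable abbrev Xp : Augmented (Cᵒᵖ ⥤ AddCommGrpCat.{u}) :=
  ((Augmented.whiskering _ _).obj (Ψ J)).obj (Arrow.mk f).augmentedCechNerve

lemma ε_Xp_app (U : Cᵒᵖ) :
    ((AlternatingFaceMapComplex.ε.app (Xp f)).f 0).app U =
      (AlternatingFaceMapComplex.ε.app (B f U)).f 0 ≫ AddCommGrpCat.free.{u}.map (mU f U) := by
  rw [AlternatingFaceMapComplex.ε_app_f_zero, AlternatingFaceMapComplex.ε_app_f_zero]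
  change AddCommGrpCat.free.{u}.map ((GU J U).map
      (WidePullback.base (fun _ : Fin (0 + 1) => (Arrow.mk f).hom))) ≫ 𝟙 _ =
    (AddCommGrpCat.free.{u}.map ((GU J U).map
      (WidePullback.π (fun _ : Fin (0 + 1) => (Arrow.mk f).hom) 0) ≫ gU f U) ≫ 𝟙 _) ≫
      AddCommGrpCat.free.{u}.map (mU f U)
  rw [Category.comp_id, Category.comp_id, ← Functor.map_comp, Category.assoc, gU_mU,
    ← Functor.map_comp, WidePullback.π_arrow]


lemma exact_zero : (ShortComplex.mk _ _ (AugRes.d_comp_ε (Xp f))).Exact := by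
  rw [ShortComplex.exact_iff_isZero_homology, Functor.isZero_iff]
  intro U
  have h2 := (AugRes.exact_of_quasiIso_ε (B f U)).2.1
  let S' : ShortComplex AddCommGrpCat.{u} :=
    ShortComplex.mk ((AlternatingFaceMapComplex.obj (B f U).left).d 1 0)
      ((AlternatingFaceMapComplex.ε.app (B f U)).f 0 ≫ AddCommGrpCat.free.{u}.map (mU f U))
      (by rw [← Category.assoc, AugRes.d_comp_ε, zero_comp])
  have hS' : S'.Exact := by
    let φ : ShortComplex.mk _ _ (AugRes.d_comp_ε (B f U)) ⟶ S' :=
      { τ₁ := 𝟙 _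
        τ₂ := 𝟙 _
        τ₃ := AddCommGrpCat.free.{u}.map (mU f U)
        comm₁₂ := by simp [S']
        comm₂₃ := by simp [S'] }
    haveI : Mono φ.τ₃ := inferInstanceAs (Mono (AddCommGrpCat.free.{u}.map (mU f U)))
    haveI : Epi φ.τ₁ := inferInstanceAs (Epi (𝟙 _))
    haveI : IsIso φ.τ₂ := inferInstanceAs (IsIso (𝟙 _))
    exact (ShortComplex.exact_iff_of_epi_of_isIso_of_mono φ).1 h2
  have e : (ShortComplex.mk _ _ (AugRes.d_comp_ε (Xp f))).map ((evaluation _ _).obj U) ≅ S' :=
    ShortComplex.isoMk (Iso.refl _) (Iso.refl _) (Iso.refl _)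
      ((Category.id_comp _).trans
        ((AugRes.afmc_d_map ((evaluation Cᵒᵖ AddCommGrpCat.{u}).obj U) (Zp f) 0).trans
          (Category.comp_id _).symm))
      ((Category.id_comp _).trans ((ε_Xp_app f U).symm.trans (Category.comp_id _).symm))
  have hU := (ShortComplex.exact_iff_of_iso e).2 hS'
  rw [ShortComplex.exact_iff_isZero_homology] at hU
  exact IsZero.of_iso hU (ShortComplex.mapHomologyIso _ ((evaluation _ _).obj U)).symm


/-- The augmented simplicial abelian sheaf `ℤ[Čech nerve]^# → ℤ[K]^#`. -/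
noncomputable abbrev Xs : Augmented (Sheaf J AddCommGrpCat.{u}) :=
  ((Augmented.whiskering _ _).obj (Sheaf.composeAndSheafify J AddCommGrpCat.free.{u})).obj
    (Arrow.mk f).augmentedCechNerve

/-- For an epimorphism `f : K' ⟶ K` of sheaves of sets, the complex of free abelian sheaves on
the Čech nerve of `f` is a resolution of the free abelian sheaf on `K`. -/
theorem quasiIso_ε [Epi f] : QuasiIso (AlternatingFaceMapComplex.ε.app (Xs f)) := by
  haveI : (presheafToSheaf J AddCommGrpCat.{u}).PreservesHomology :=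
    Functor.preservesHomologyOfExact _
  refine AugRes.quasiIso_ε_of_exact (Xs f) (fun n => ?_) ?_ ?_
  · exact (ShortComplex.exact_iff_of_iso
      (AugRes.scMapIso (presheafToSheaf J AddCommGrpCat.{u}) (Zp f) n)).1
      ((exact_succ f n).map (presheafToSheaf J AddCommGrpCat.{u}))
  · have hε : (presheafToSheaf J AddCommGrpCat.{u}).map
        ((AlternatingFaceMapComplex.ε.app (Xp f)).f 0) =
        (AlternatingFaceMapComplex.ε.app (Xs f)).f 0 := by
      rw [AlternatingFaceMapComplex.ε_app_f_zero, AlternatingFaceMapComplex.ε_app_f_zero]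
      change (presheafToSheaf J AddCommGrpCat.{u}).map ((Ψ J).map _ ≫ 𝟙 _) =
        (presheafToSheaf J AddCommGrpCat.{u}).map ((Ψ J).map _) ≫ 𝟙 _
      rw [Category.comp_id, Category.comp_id]
    have e : (ShortComplex.mk _ _ (AugRes.d_comp_ε (Xp f))).map
        (presheafToSheaf J AddCommGrpCat.{u}) ≅ ShortComplex.mk _ _ (AugRes.d_comp_ε (Xs f)) :=
      ShortComplex.isoMk (Iso.refl _) (Iso.refl _) (Iso.refl _)
        ((Category.id_comp _).trans
          ((AugRes.afmc_d_map (presheafToSheaf J AddCommGrpCat.{u}) (Zp f) 0).trans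
            (Category.comp_id _).symm))
        ((Category.id_comp _).trans (hε.symm.trans (Category.comp_id _).symm))
    exact (ShortComplex.exact_iff_of_iso e).1
      ((exact_zero f).map (presheafToSheaf J AddCommGrpCat.{u}))
  · rw [AlternatingFaceMapComplex.ε_app_f_zero]
    change Epi ((Sheaf.composeAndSheafify J AddCommGrpCat.free.{u}).map
      (WidePullback.base (fun _ : Fin (0 + 1) => (Arrow.mk f).hom)) ≫ 𝟙 _)
    rw [Category.comp_id]
    haveI : Epi (Arrow.mk f).hom := ‹Epi f›
    haveI : Epi (WidePullback.base (fun _ : Fin (0 + 1) => (Arrow.mk f).hom)) :=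
      epi_of_epi_fac (WidePullback.lift_base (fun _ : Fin (0 + 1) => (Arrow.mk f).hom)
        (Arrow.mk f).hom (fun _ => 𝟙 _) (fun _ => Category.id_comp _))
    haveI : (Sheaf.composeAndSheafify J AddCommGrpCat.free.{u}).PreservesEpimorphisms :=
      Functor.preservesEpimorphisms_of_adjunction (Sheaf.adjunction J AddCommGrpCat.adj.{u})
    infer_instance

end Groth.Agent.Lib.Helper5.CechRes
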