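import Groth.Agent.Lib.Helper5.GrothSSInst
import Groth.Agent.Lib.Helper5.ExtDerived
import Groth.Agent.Lib.Helper5.FreeSheafify
import Groth.Agent.Lib.Helper20.CohPresheafInj

/-
Helper5: abelian sheaves versus abelian presheaves (= sheaves for the trivial topology):
the forgetful functor `T : Sheaf J Ab ⥤ Sheaf ⊥ Ab`, its exact left adjoint (sheafification),
preservation of injectives, `RᵠT(M) ≅ ℋᵠ(M)`, and `Hom(P, T -) ≅ Hom(aP, -)`.
-/

set_option autoImplicit false
set_option maxSynthPendingDepth 3

universe u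
open CategoryTheory CategoryTheory.Limits Opposite Abelian

namespace Groth.Agent.Lib.Helper5.PshSh

open Groth.Agent.Lib.Helper5

variable {C : Type u} [SmallCategory C] (J : GrothendieckTopology C)

/-- The forgetful functor from abelian sheaves to abelian presheaves, the latter seen as sheaves
for the trivial topology. -/
noncomputable abbrev T : Sheaf J AddCommGrpCat.{u} ⥤ Sheaf (⊥ : GrothendieckTopology C) AddCommGrpCat.{u} :=
  sheafToPresheaf J AddCommGrpCat.{u} ⋙ (sheafBotEquivalence AddCommGrpCat.{u}).inverse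

/-- Sheafification, on presheaves seen as sheaves for the trivial topology. -/
noncomputable abbrev L : Sheaf (⊥ : GrothendieckTopology C) AddCommGrpCat.{u} ⥤ Sheaf J AddCommGrpCat.{u} :=
  (sheafBotEquivalence AddCommGrpCat.{u}).functor ⋙ presheafToSheaf J AddCommGrpCat.{u}

/-- Sheafification is left adjoint to the forgetful functor. -/
noncomputable def adj : L J ⊣ T J :=
  (sheafBotEquivalence AddCommGrpCat.{u}).toAdjunction.comp (sheafificationAdjunction J AddCommGrpCat.{u})

instance : (T J).Additive where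
  map_add := rfl

instance : (L J).Additive := (adj J).left_adjoint_additive

noncomputable instance : PreservesFiniteLimits (L J) := by
  dsimp only [L]; infer_instance

noncomputable instance : PreservesLimits (T J) := (adj J).rightAdjoint_preservesLimits

lemma injective_T (Q : Sheaf J AddCommGrpCat.{u}) [Injective Q] : Injective ((T J).obj Q) :=
  Injective.injective_of_adjoint (adj J) Q

lemma T_comp_forget : T J ⋙ sheafToPresheaf (⊥ : GrothendieckTopology C) AddCommGrpCat.{u} =
    sheafToPresheaf J AddCommGrpCat.{u} := rfl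


/-- `Hom(P, T -) ≅ Hom(aP, -)` as additive functors on abelian sheaves. -/
noncomputable def homIso (P : Sheaf (⊥ : GrothendieckTopology C) AddCommGrpCat.{u}) :
    T J ⋙ ExtDer.G P ≅ ExtDer.G ((L J).obj P) :=
  NatIso.ofComponents (fun Y => ((adj J).homAddEquiv P Y).symm.toAddCommGrpIso) (by
    intro Y Y' f
    ext x
    exact (adj J).homEquiv_naturality_right_symm x f)

/-- Sheafification for the trivial topology does nothing. -/
noncomputable def botSheafifyIso (Q : Cᵒᵖ ⥤ AddCommGrpCat.{u}) :
    (presheafToSheaf (⊥ : GrothendieckTopology C) AddCommGrpCat.{u}).obj Q ≅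
      (sheafBotEquivalence AddCommGrpCat.{u}).inverse.obj Q :=
  ((sheafificationAdjunction (⊥ : GrothendieckTopology C) AddCommGrpCat.{u}).leftAdjointUniq
    (sheafBotEquivalence AddCommGrpCat.{u}).symm.toAdjunction).app Q

/-- `a_J(a_⊥ Q) ≅ a_J Q`. -/
noncomputable def LbotIso (Q : Cᵒᵖ ⥤ AddCommGrpCat.{u}) :
    (L J).obj ((presheafToSheaf (⊥ : GrothendieckTopology C) AddCommGrpCat.{u}).obj Q) ≅
      (presheafToSheaf J AddCommGrpCat.{u}).obj Q :=
  (L J).mapIso (botSheafifyIso Q)

/-- `a_J(a_⊥ ℤ[R]) ≅ a_J ℤ[aR]`. -/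
noncomputable def LfreeIso (R : Cᵒᵖ ⥤ Type u) :
    (L J).obj ((presheafToSheaf (⊥ : GrothendieckTopology C) AddCommGrpCat.{u}).obj
      (R ⋙ AddCommGrpCat.free.{u})) ≅
    (presheafToSheaf J AddCommGrpCat.{u}).obj
      (((presheafToSheaf J (Type u)).obj R).obj ⋙ AddCommGrpCat.free.{u}) :=
  LbotIso J _ ≪≫ (FreeSheafify.freeSheafifyIso J R).symm

/-- `RᵠT(M)` is the cohomology presheaf `V ↦ Hᵠ(V, M)`. -/
noncomputable def RTIso (M : Sheaf J AddCommGrpCat.{u}) (q : ℕ) :
    ((T J).rightDerived q).obj M ≅
      (sheafBotEquivalence AddCommGrpCat.{u}).inverse.obj (M.cohomologyPresheaf q) := by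
  let I : InjectiveResolution M := injectiveResolution M
  let p := (ComplexShape.up ℕ).prev q
  have hp : (ComplexShape.up ℕ).prev q = p := rfl
  let K := ((T J).mapHomologicalComplex (ComplexShape.up ℕ)).obj I.cocomplex
  refine (I.isoRightDerivedObj (T J) q) ≪≫ ?_
  refine (fullyFaithfulSheafToPresheaf (⊥ : GrothendieckTopology C) AddCommGrpCat.{u}).preimageIso ?_
  let e1 : K.homology q ≅ (K.sc' p q (q + 1)).homology :=
    ShortComplex.homologyMapIso (K.isoSc' p q (q + 1) hp (by simp))
  let E := sheafToPresheaf (⊥ : GrothendieckTopology C) AddCommGrpCat.{u}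
  haveI : PreservesFiniteColimits E :=
    inferInstanceAs (PreservesFiniteColimits (sheafBotEquivalence AddCommGrpCat.{u}).functor)
  haveI : E.PreservesHomology := Functor.preservesHomologyOfExact E
  let e2 : E.obj (K.sc' p q (q + 1)).homology ≅ ((K.sc' p q (q + 1)).map E).homology :=
    ((K.sc' p q (q + 1)).mapHomologyIso E).symm
  let e3 : ((K.sc' p q (q + 1)).map E).homology ≅ M.cohomologyPresheaf q :=
    Helper20.CohPresheafInj.homologyIso J I p q hp
  exact E.mapIso e1 ≪≫ e2 ≪≫ e3

end Groth.Agent.Lib.Helper5.PshSh
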