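import Mathlib.Algebra.Homology.SpectralObject.SpectralSequence
import Mathlib.Algebra.Homology.SpectralObject.FirstPage
import Groth.Prelude.Def_SpSeq
import Mathlib.Order.Interval.Finset.Defs
import Mathlib.Data.Int.Interval

/-
Helper5: abutment (convergence) data for the `E₂` spectral sequence of a first quadrant
spectral object indexed by `EInt` (Mathlib `Abelian.SpectralObject`), in the `SpSeq.Abutment`
format of the prelude.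

Main results (namespace `Groth.Agent.Lib.Helper5.SpSeqAbut`), for `X : Abelian.SpectralObject C EInt`
with `[X.IsFirstQuadrant]`:
* `abutment X : SpSeq.Abutment X.E₂SpectralSequence (fun n => Hab X n)` where
  `Hab X n = H^n(⊥ ≤ ⊤)`, filtration `fil X n p = im (H^n(⊥ ≤ n - p + 1) → H^n(⊥ ≤ ⊤))`;
* `abutment_isFinite`, `isBounded`, `pageTwoIso` (`E₂^{p,q} ≅ H^{p+q}(q ≤ q+1)`);
* `transport` / `transport_isFinite`: transport of abutment data along isomorphisms `H n ≅ H' n`;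
* general: `grIso` : `F(j')/F(j) ≅ E^n(i₀ ≤ j ≤ j' ≤ i₃)` for a spectral object over a preorder.
-/

set_option autoImplicit false
set_option maxSynthPendingDepth 3

open CategoryTheory Limits ComposableArrows

namespace Groth.Agent.Lib.Helper5.SpSeqAbut

universe v u

variable {C : Type u} [Category.{v} C] [Abelian C]

lemma imageSubobject_eq_top_of_epi {A B : C} (f : A ⟶ B) [Epi f] : imageSubobject f = ⊤ := by
  have : Epi (imageSubobject f).arrow := epi_of_epi_fac (imageSubobject_arrow_comp f)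
  have : IsIso (imageSubobject f).arrow := isIso_of_mono_of_epi _
  exact Subobject.eq_top_of_isIso_arrow _

lemma imageSubobject_eq_bot_of_isZero {A B : C} (f : A ⟶ B) (h : IsZero A) :
    imageSubobject f = ⊥ := by
  obtain rfl : f = 0 := h.eq_of_src _ _
  exact imageSubobject_zero

section General

variable {ι : Type*} [Preorder ι] (X : Abelian.SpectralObject C ι)
  (i₀ j j' i₃ : ι) (h₀ : i₀ ≤ j) (h₁ : j ≤ j') (h₂ : j' ≤ i₃) (n₀ n₁ n₂ : ℤ)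
  (hn₁ : n₀ + 1 = n₁) (hn₂ : n₁ + 1 = n₂)

/-- The epi `H^n(i₀ ≤ j') ↠ E^n(i₀ ≤ j ≤ j' ≤ i₃)`. -/
noncomputable def piE : (X.H n₁).obj (mk₁ (homOfLE (h₀.trans h₁))) ⟶
    X.E (homOfLE h₀) (homOfLE h₁) (homOfLE h₂) n₀ n₁ n₂ hn₁ hn₂ :=
  X.toCycles (homOfLE h₀) (homOfLE h₁) (homOfLE (h₀.trans h₁)) rfl n₁ ≫
    X.πE (homOfLE h₀) (homOfLE h₁) (homOfLE h₂) n₀ n₁ n₂ hn₁ hn₂

instance : Epi (piE X i₀ j j' i₃ h₀ h₁ h₂ n₀ n₁ n₂ hn₁ hn₂) := by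
  dsimp only [piE]; infer_instance

/-- The mono `E^n(i₀ ≤ j ≤ j' ≤ i₃) ↪ H^n(j ≤ i₃)`. -/
noncomputable def iotaE : X.E (homOfLE h₀) (homOfLE h₁) (homOfLE h₂) n₀ n₁ n₂ hn₁ hn₂ ⟶
    (X.H n₁).obj (mk₁ (homOfLE (h₁.trans h₂))) :=
  X.ιE (homOfLE h₀) (homOfLE h₁) (homOfLE h₂) n₀ n₁ n₂ hn₁ hn₂ ≫
    X.fromOpcycles (homOfLE h₁) (homOfLE h₂) (homOfLE (h₁.trans h₂)) rfl n₁

instance : Mono (iotaE X i₀ j j' i₃ h₀ h₁ h₂ n₀ n₁ n₂ hn₁ hn₂) := by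
  dsimp only [iotaE]; infer_instance

lemma piE_iotaE :
    piE X i₀ j j' i₃ h₀ h₁ h₂ n₀ n₁ n₂ hn₁ hn₂ ≫ iotaE X i₀ j j' i₃ h₀ h₁ h₂ n₀ n₁ n₂ hn₁ hn₂ =
      (X.H n₁).map (homMk₁ (homOfLE h₀) (homOfLE h₂) rfl :
        mk₁ (homOfLE (h₀.trans h₁)) ⟶ mk₁ (homOfLE (h₁.trans h₂))) := by
  dsimp only [piE, iotaE]
  rw [Category.assoc, X.πE_ιE_assoc _ _ _ n₀ n₁ n₂ hn₁ hn₂, X.toCycles_i_assoc, X.p_fromOpcycles,
    ← Functor.map_comp]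
  congr 1


/-- The subobject `im (H^n(i₀ ≤ j) → H^n(i₀ ≤ i₃))`. -/
noncomputable def Fsub (h : i₀ ≤ j) (h' : j ≤ i₃) (n : ℤ) :
    Subobject ((X.H n).obj (mk₁ (homOfLE (h.trans h')))) :=
  imageSubobject ((X.H n).map (twoδ₂Toδ₁' i₀ j i₃ h h'))

/-- The epi `H^n(i₀ ≤ j) ↠ F(j)`. -/
noncomputable def toF (h : i₀ ≤ j) (h' : j ≤ i₃) (n : ℤ) :
    (X.H n).obj (mk₁ (homOfLE h)) ⟶ ((Fsub X i₀ j i₃ h h' n : Subobject _) : C) :=
  factorThruImageSubobject _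

instance (h : i₀ ≤ j) (h' : j ≤ i₃) (n : ℤ) : Epi (toF X i₀ j i₃ h h' n) := by
  dsimp only [toF, Fsub]; infer_instance

@[reassoc]
lemma toF_arrow (h : i₀ ≤ j) (h' : j ≤ i₃) (n : ℤ) :
    toF X i₀ j i₃ h h' n ≫ (Fsub X i₀ j i₃ h h' n).arrow =
      (X.H n).map (twoδ₂Toδ₁' i₀ j i₃ h h') :=
  imageSubobject_arrow_comp _

lemma Fsub_le (n : ℤ) :
    Fsub X i₀ j i₃ h₀ (h₁.trans h₂) n ≤ Fsub X i₀ j' i₃ (h₀.trans h₁) h₂ n := by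
  dsimp only [Fsub]
  have : (X.H n).map (twoδ₂Toδ₁' i₀ j i₃ h₀ (h₁.trans h₂)) =
      (X.H n).map (twoδ₂Toδ₁' i₀ j j' h₀ h₁) ≫
        (X.H n).map (twoδ₂Toδ₁' i₀ j' i₃ (h₀.trans h₁) h₂) := by
    rw [← Functor.map_comp]; congr 1
  exact SpSeq.FilCx.imageSubobject_le_of_fac _ this.symm

/-- The map `F(j') → E^n(i₀ ≤ j ≤ j' ≤ i₃)`. -/
lemma psi_sq : CommSq (piE X i₀ j j' i₃ h₀ h₁ h₂ n₀ n₁ n₂ hn₁ hn₂)
      (toF X i₀ j' i₃ (h₀.trans h₁) h₂ n₁)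
      (iotaE X i₀ j j' i₃ h₀ h₁ h₂ n₀ n₁ n₂ hn₁ hn₂)
      ((Fsub X i₀ j' i₃ (h₀.trans h₁) h₂ n₁).arrow ≫
        (X.H n₁).map (twoδ₁Toδ₀' i₀ j i₃ h₀ (h₁.trans h₂))) := ⟨by
    rw [piE_iotaE, toF_arrow_assoc, ← Functor.map_comp]
    congr 1⟩

noncomputable def psi :
    ((Fsub X i₀ j' i₃ (h₀.trans h₁) h₂ n₁ : Subobject _) : C) ⟶
      X.E (homOfLE h₀) (homOfLE h₁) (homOfLE h₂) n₀ n₁ n₂ hn₁ hn₂ :=
  haveI : StrongEpi (toF X i₀ j' i₃ (h₀.trans h₁) h₂ n₁) := strongEpi_of_epi _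
  (psi_sq X i₀ j j' i₃ h₀ h₁ h₂ n₀ n₁ n₂ hn₁ hn₂).lift

lemma fac_psi :
    toF X i₀ j' i₃ (h₀.trans h₁) h₂ n₁ ≫
      psi X i₀ j j' i₃ h₀ h₁ h₂ n₀ n₁ n₂ hn₁ hn₂ = piE X i₀ j j' i₃ h₀ h₁ h₂ n₀ n₁ n₂ hn₁ hn₂ := by
  have : StrongEpi (toF X i₀ j' i₃ (h₀.trans h₁) h₂ n₁) := strongEpi_of_epi _
  exact (psi_sq X i₀ j j' i₃ h₀ h₁ h₂ n₀ n₁ n₂ hn₁ hn₂).fac_left

lemma psi_iotaE :
    psi X i₀ j j' i₃ h₀ h₁ h₂ n₀ n₁ n₂ hn₁ hn₂ ≫ iotaE X i₀ j j' i₃ h₀ h₁ h₂ n₀ n₁ n₂ hn₁ hn₂ =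
      (Fsub X i₀ j' i₃ (h₀.trans h₁) h₂ n₁).arrow ≫
        (X.H n₁).map (twoδ₁Toδ₀' i₀ j i₃ h₀ (h₁.trans h₂)) := by
  have : StrongEpi (toF X i₀ j' i₃ (h₀.trans h₁) h₂ n₁) := strongEpi_of_epi _
  exact (psi_sq X i₀ j j' i₃ h₀ h₁ h₂ n₀ n₁ n₂ hn₁ hn₂).fac_right

instance : Epi (psi X i₀ j j' i₃ h₀ h₁ h₂ n₀ n₁ n₂ hn₁ hn₂) :=
  epi_of_epi_fac (fac_psi X i₀ j j' i₃ h₀ h₁ h₂ n₀ n₁ n₂ hn₁ hn₂)

lemma ofLE_psi :
    (Fsub X i₀ j i₃ h₀ (h₁.trans h₂) n₁).ofLE (Fsub X i₀ j' i₃ (h₀.trans h₁) h₂ n₁)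
      (Fsub_le X i₀ j j' i₃ h₀ h₁ h₂ n₁) ≫ psi X i₀ j j' i₃ h₀ h₁ h₂ n₀ n₁ n₂ hn₁ hn₂ = 0 := by
  rw [← cancel_mono (iotaE X i₀ j j' i₃ h₀ h₁ h₂ n₀ n₁ n₂ hn₁ hn₂), Category.assoc, psi_iotaE,
    Subobject.ofLE_arrow_assoc, zero_comp]
  rw [← cancel_epi (toF X i₀ j i₃ h₀ (h₁.trans h₂) n₁), toF_arrow_assoc, comp_zero]
  exact X.zero₂ (homOfLE h₀) (homOfLE (h₁.trans h₂)) _ rfl n₁

lemma gr_exact : (ShortComplex.mk _ _ (ofLE_psi X i₀ j j' i₃ h₀ h₁ h₂ n₀ n₁ n₂ hn₁ hn₂)).Exact := by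
  rw [ShortComplex.exact_iff_exact_up_to_refinements]
  intro A x hx
  dsimp at x hx
  have hx' : (x ≫ (Fsub X i₀ j' i₃ (h₀.trans h₁) h₂ n₁).arrow) ≫
      (X.H n₁).map (twoδ₁Toδ₀' i₀ j i₃ h₀ (h₁.trans h₂)) = 0 := by
    rw [Category.assoc, ← psi_iotaE X i₀ j j' i₃ h₀ h₁ h₂ n₀ n₁ n₂ hn₁ hn₂, ← Category.assoc, hx,
      zero_comp]
  obtain ⟨A', π, hπ, y, hy⟩ :=
    (X.exact₂ (homOfLE h₀) (homOfLE (h₁.trans h₂)) _ rfl n₁).exact_up_to_refinements _ hx'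
  obtain ⟨y, rfl⟩ : ∃ y' : A' ⟶ (X.H n₁).obj (mk₁ (homOfLE h₀)), y' = y := ⟨y, rfl⟩
  replace hy : π ≫ x ≫ (Fsub X i₀ j' i₃ (h₀.trans h₁) h₂ n₁).arrow =
      y ≫ (X.H n₁).map (twoδ₂Toδ₁' i₀ j i₃ h₀ (h₁.trans h₂)) := hy
  refine ⟨A', π, hπ, y ≫ toF X i₀ j i₃ h₀ (h₁.trans h₂) n₁, ?_⟩
  dsimp
  rw [← cancel_mono (Fsub X i₀ j' i₃ (h₀.trans h₁) h₂ n₁).arrow]
  rw [Category.assoc, Category.assoc, Category.assoc, Subobject.ofLE_arrow, toF_arrow]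
  exact hy

lemma gr_shortExact :
    (ShortComplex.mk _ _ (ofLE_psi X i₀ j j' i₃ h₀ h₁ h₂ n₀ n₁ n₂ hn₁ hn₂)).ShortExact :=
  { exact := gr_exact X i₀ j j' i₃ h₀ h₁ h₂ n₀ n₁ n₂ hn₁ hn₂
    mono_f := by dsimp; infer_instance
    epi_g := by dsimp; infer_instance }

/-- `F(j') / F(j) ≅ E^n(i₀ ≤ j ≤ j' ≤ i₃)`. -/
noncomputable def grIso :
    SpSeq.subquot (Fsub X i₀ j' i₃ (h₀.trans h₁) h₂ n₁) (Fsub X i₀ j i₃ h₀ (h₁.trans h₂) n₁)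
      (Fsub_le X i₀ j j' i₃ h₀ h₁ h₂ n₁) ≅
    X.E (homOfLE h₀) (homOfLE h₁) (homOfLE h₂) n₀ n₁ n₂ hn₁ hn₂ :=
  IsColimit.coconePointUniqueUpToIso (cokernelIsCokernel _)
    (gr_shortExact X i₀ j j' i₃ h₀ h₁ h₂ n₀ n₁ n₂ hn₁ hn₂).gIsCokernel

end General

section EIntPart

open Abelian.SpectralObject

variable (X : Abelian.SpectralObject C EInt)

/-- Congruence of `E` along equalities of indices. -/
noncomputable def EIsoOfEq {ι : Type*} [Preorder ι] (X : Abelian.SpectralObject C ι)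
    {i₀ i₁ i₂ i₃ i₀' i₁' i₂' i₃' : ι} (h₀ : i₀ ≤ i₁) (h₁ : i₁ ≤ i₂) (h₂ : i₂ ≤ i₃)
    (e₀ : i₀ = i₀') (e₁ : i₁ = i₁') (e₂ : i₂ = i₂') (e₃ : i₃ = i₃')
    (n₀ n₁ n₂ : ℤ) (hn₁ : n₀ + 1 = n₁) (hn₂ : n₁ + 1 = n₂) :
    X.E (homOfLE h₀) (homOfLE h₁) (homOfLE h₂) n₀ n₁ n₂ hn₁ hn₂ ≅
      X.E (homOfLE (show i₀' ≤ i₁' by rw [← e₀, ← e₁]; exact h₀))
        (homOfLE (show i₁' ≤ i₂' by rw [← e₁, ← e₂]; exact h₁))
        (homOfLE (show i₂' ≤ i₃' by rw [← e₂, ← e₃]; exact h₂)) n₀ n₁ n₂ hn₁ hn₂ :=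
  eqToIso (by subst e₀ e₁ e₂ e₃; rfl)

/-- The abutment objects. -/
noncomputable abbrev Hab (n : ℤ) : C := (X.H n).obj (mk₁ (homOfLE (bot_le : (⊥ : EInt) ≤ ⊤)))

/-- The filtration on the abutment. -/
noncomputable def fil (n p : ℤ) : Subobject (Hab X n) :=
  Fsub X ⊥ ((n - p + 1 : ℤ) : EInt) ⊤ bot_le le_top n

lemma fil_anti (n : ℤ) : Antitone (fil X n) := by
  intro p p' hpp'
  exact Fsub_le X ⊥ _ _ ⊤ bot_le (WithBotTop.coe_le_coe.2 (by lia)) le_top n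

variable [X.IsFirstQuadrant]

lemma fil_eq_top (n : ℤ) : fil X n 0 = ⊤ := by
  dsimp only [fil, Fsub]
  have : Epi ((X.H n).map (twoδ₂Toδ₁' (⊥ : EInt) ((n - 0 + 1 : ℤ) : EInt) ⊤ bot_le le_top)) :=
    (X.exact₂ (homOfLE bot_le) (homOfLE le_top) _ rfl n).epi_f
      ((X.isZero₂_of_isFirstQuadrant _ _ le_top n
        (WithBotTop.coe_lt_coe.2 (by lia))).eq_of_tgt _ _)
  exact imageSubobject_eq_top_of_epi _

lemma fil_eq_bot (n : ℤ) : fil X n (n + 1) = ⊥ := by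
  dsimp only [fil, Fsub]
  exact imageSubobject_eq_bot_of_isZero _
    (X.isZero₁_of_isFirstQuadrant _ _ bot_le (WithBotTop.coe_le_coe.2 (by lia)) n)

lemma isZero_page_of_fst_neg (r : ℤ) (hr : 2 ≤ r) (pq : ℤ × ℤ) (hp : pq.1 < 0) :
    IsZero ((X.E₂SpectralSequence.page r hr).X pq) :=
  isZero_spectralSequence_page_X_of_isZero_H' _ _ _ hr _
    (X.isZero₂_of_isFirstQuadrant _ _ _ _ (by simp; lia))

lemma isZero_page_of_snd_neg (r : ℤ) (hr : 2 ≤ r) (pq : ℤ × ℤ) (hq : pq.2 < 0) :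
    IsZero ((X.E₂SpectralSequence.page r hr).X pq) :=
  isZero_spectralSequence_page_X_of_isZero_H' _ _ _ hr _
    (X.isZero₁_of_isFirstQuadrant _ _ _ (by simp; lia) _)

/-- The page from which position `pq` is stationary. -/
def rk (pq : ℤ × ℤ) : ℤ := max 2 (max (pq.2 + 2) (pq.1 + 1))

lemma two_le_rk (pq : ℤ × ℤ) : 2 ≤ rk pq := le_max_left _ _
lemma snd_le_rk (pq : ℤ × ℤ) : pq.2 + 2 ≤ rk pq := (le_max_left _ _).trans (le_max_right _ _)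
lemma fst_le_rk (pq : ℤ × ℤ) : pq.1 + 1 ≤ rk pq := (le_max_right _ _).trans (le_max_right _ _)

lemma stationaryAt (pq : ℤ × ℤ) : SpSeq.StationaryAt X.E₂SpectralSequence pq (rk pq) := by
  refine ⟨two_le_rk pq, fun r' h₀ hr' => ⟨?_, ?_⟩⟩
  · apply IsZero.eq_of_src
    apply isZero_page_of_fst_neg
    have := fst_le_rk pq
    simp only [Prod.fst_sub]
    lia
  · apply IsZero.eq_of_tgt
    apply isZero_page_of_snd_neg
    have := snd_le_rk pq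
    simp only [Prod.snd_add]
    lia

/-- `E_r^{p,q} ≅ E^{p+q}(⊥ ≤ q ≤ q+1 ≤ ⊤)` for `r` large. -/
noncomputable def pageIsoEinf (pq : ℤ × ℤ) (r : ℤ) (hr : 2 ≤ r) (h1 : pq.2 + 2 ≤ r)
    (h2 : pq.1 + 1 ≤ r) :
    (X.E₂SpectralSequence.page r hr).X pq ≅
      X.E (homOfLE (bot_le : (⊥ : EInt) ≤ (pq.2 : EInt)))
        (homOfLE (WithBotTop.coe_le_coe.2 (by lia) : (pq.2 : EInt) ≤ ((pq.2 + 1 : ℤ) : EInt)))
        (homOfLE (le_top : ((pq.2 + 1 : ℤ) : EInt) ≤ ⊤))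
        (pq.1 + pq.2 - 1) (pq.1 + pq.2) (pq.1 + pq.2 + 1) (by lia) (by lia) :=
  X.spectralSequencePageXIso coreE₂Cohomological r hr pq
      ((pq.2 - r + 2 : ℤ) : EInt) (pq.2 : EInt) ((pq.2 + 1 : ℤ) : EInt) ((pq.2 + r - 1 : ℤ) : EInt)
      rfl rfl rfl rfl
      (pq.1 + pq.2 - 1) (pq.1 + pq.2) (pq.1 + pq.2 + 1) rfl (by lia) (by lia) ≪≫
    (X.isoMapFourδ₁Toδ₀' ⊥ ((pq.2 - r + 2 : ℤ) : EInt) (pq.2 : EInt) ((pq.2 + 1 : ℤ) : EInt)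
      ((pq.2 + r - 1 : ℤ) : EInt) bot_le (WithBotTop.coe_le_coe.2 (by lia))
      (WithBotTop.coe_le_coe.2 (by lia)) (WithBotTop.coe_le_coe.2 (by lia))
      (pq.1 + pq.2 - 1) (pq.1 + pq.2) (pq.1 + pq.2 + 1)
      (X.isZero₁_of_isFirstQuadrant _ _ bot_le (WithBotTop.coe_le_coe.2 (by lia)) _)
      (by lia) (by lia)).symm ≪≫
    X.isoMapFourδ₄Toδ₃' ⊥ (pq.2 : EInt) ((pq.2 + 1 : ℤ) : EInt)
      ((pq.2 + r - 1 : ℤ) : EInt) ⊤ bot_le (WithBotTop.coe_le_coe.2 (by lia))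
      (WithBotTop.coe_le_coe.2 (by lia)) le_top
      (pq.1 + pq.2 - 1) (pq.1 + pq.2) (pq.1 + pq.2 + 1)
      (X.isZero₂_of_isFirstQuadrant _ _ le_top _ (WithBotTop.coe_lt_coe.2 (by lia)))
      (by lia) (by lia)

/-- The identification of the limit term with the graded piece of the abutment. -/
noncomputable def beta (pq : ℤ × ℤ) :
    (X.E₂SpectralSequence.page (rk pq) (two_le_rk pq)).X pq ≅
      SpSeq.grPiece (fil X (pq.1 + pq.2)) (fil_anti X (pq.1 + pq.2)) pq.1 :=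
  pageIsoEinf X pq (rk pq) (two_le_rk pq) (snd_le_rk pq) (fst_le_rk pq) ≪≫
    (EIsoOfEq X (bot_le : (⊥ : EInt) ≤ ((pq.1 + pq.2 - (pq.1 + 1) + 1 : ℤ) : EInt))
      (WithBotTop.coe_le_coe.2 (by lia) :
        ((pq.1 + pq.2 - (pq.1 + 1) + 1 : ℤ) : EInt) ≤ ((pq.1 + pq.2 - pq.1 + 1 : ℤ) : EInt))
      (le_top : ((pq.1 + pq.2 - pq.1 + 1 : ℤ) : EInt) ≤ ⊤)
      rfl (congrArg WithBotTop.coe (by lia : pq.1 + pq.2 - (pq.1 + 1) + 1 = pq.2))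
      (congrArg WithBotTop.coe (by lia : pq.1 + pq.2 - pq.1 + 1 = pq.2 + 1)) rfl
      (pq.1 + pq.2 - 1) (pq.1 + pq.2) (pq.1 + pq.2 + 1) (by lia) (by lia)).symm ≪≫
    (grIso X ⊥ ((pq.1 + pq.2 - (pq.1 + 1) + 1 : ℤ) : EInt) ((pq.1 + pq.2 - pq.1 + 1 : ℤ) : EInt) ⊤
      bot_le (WithBotTop.coe_le_coe.2 (by lia)) le_top
      (pq.1 + pq.2 - 1) (pq.1 + pq.2) (pq.1 + pq.2 + 1) (by lia) (by lia)).symm

/-- The abutment of the `E₂` spectral sequence of a first quadrant spectral object. -/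
noncomputable def abutment : SpSeq.Abutment X.E₂SpectralSequence (fun n => Hab X n) where
  fil n := fil X n
  anti n := fil_anti X n
  rk := rk
  stat := stationaryAt X
  β := beta X

lemma abutment_isFinite (n : ℤ) : (abutment X).IsFinite n :=
  ⟨⟨0, fil_eq_top X n⟩, ⟨n + 1, fil_eq_bot X n⟩⟩

lemma isBounded : SpSeq.IsBounded X.E₂SpectralSequence := by
  intro n
  refine (Set.finite_Icc (0 : ℤ) n).subset ?_
  intro p hp
  simp only [Set.mem_ofPred_eq] at hp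
  by_contra hc
  simp only [Set.mem_Icc, not_and_or, not_le] at hc
  rcases hc with hc | hc
  · exact hp (isZero_page_of_fst_neg X 2 le_rfl (p, n - p) hc)
  · exact hp (isZero_page_of_snd_neg X 2 le_rfl (p, n - p) (by simp only; lia))

/-- The `E₂` page. -/
noncomputable def pageTwoIso (pq : ℤ × ℤ) :
    (X.E₂SpectralSequence.page 2 le_rfl).X pq ≅
      (X.H (pq.1 + pq.2)).obj (mk₁ (homOfLE
        (WithBotTop.coe_le_coe.2 (by lia) : (pq.2 : EInt) ≤ ((pq.2 + 1 : ℤ) : EInt)))) :=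
  X.spectralSequenceFirstPageXIso coreE₂Cohomological pq (pq.2 : EInt) ((pq.2 + 1 : ℤ) : EInt)
    rfl rfl (pq.1 + pq.2) rfl

end EIntPart

section Transport

variable {A B : C} (f : A ⟶ B) [Mono f]

omit [Abelian C] in
lemma map_eq_mk (S : Subobject A) : (Subobject.map f).obj S = Subobject.mk (S.arrow ≫ f) := by
  conv_lhs => rw [← Subobject.mk_arrow S]
  exact Subobject.map_mk _ _

/-- The underlying object of the image of a subobject under a mono. -/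
noncomputable def mapObjIso (S : Subobject A) : (((Subobject.map f).obj S : Subobject B) : C) ≅ (S : C) :=
  Subobject.isoOfEq _ _ (map_eq_mk f S) ≪≫ Subobject.underlyingIso (S.arrow ≫ f)

@[reassoc]
lemma mapObjIso_hom_arrow (S : Subobject A) :
    (mapObjIso f S).hom ≫ S.arrow ≫ f = ((Subobject.map f).obj S).arrow := by
  dsimp only [mapObjIso, Iso.trans_hom]
  rw [Category.assoc, Subobject.underlyingIso_hom_comp_eq_mk, Subobject.isoOfEq_hom,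
    Subobject.ofLE_arrow]

omit [Abelian C] in
lemma map_le (S T : Subobject A) (h : S ≤ T) : (Subobject.map f).obj S ≤ (Subobject.map f).obj T :=
  ((Subobject.map f).map (homOfLE h)).le

@[reassoc]
lemma ofLE_mapObjIso (S T : Subobject A) (h : S ≤ T) :
    ((Subobject.map f).obj S).ofLE ((Subobject.map f).obj T) (map_le f S T h) ≫
      (mapObjIso f T).hom = (mapObjIso f S).hom ≫ S.ofLE T h := by
  rw [← cancel_mono (T.arrow ≫ f), Category.assoc, mapObjIso_hom_arrow, Subobject.ofLE_arrow,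
    Category.assoc, Subobject.ofLE_arrow_assoc, mapObjIso_hom_arrow]

/-- Subquotients are preserved by `Subobject.map` along a mono. -/
noncomputable def subquotMapIso (Z S : Subobject A) (h : S ≤ Z) :
    SpSeq.subquot ((Subobject.map f).obj Z) ((Subobject.map f).obj S) (map_le f S Z h) ≅
      SpSeq.subquot Z S h :=
  cokernel.mapIso _ _ (mapObjIso f S) (mapObjIso f Z) (ofLE_mapObjIso f S Z h)

end Transport

section Abut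

variable {r₀ : ℤ} {E : CohomologicalSpectralSequence C r₀} {H H' : ℤ → C}

/-- Transport of abutment data along isomorphisms of the abutment objects. -/
noncomputable def transport (a : SpSeq.Abutment E H) (e : ∀ n, H n ≅ H' n) :
    SpSeq.Abutment E H' where
  fil n p := (Subobject.map (e n).hom).obj (a.fil n p)
  anti n := fun _ _ h => map_le _ _ _ (a.anti n h)
  rk := a.rk
  stat := a.stat
  β pq := a.β pq ≪≫ (subquotMapIso (e (pq.1 + pq.2)).hom _ _ _).symm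

lemma transport_isFinite (a : SpSeq.Abutment E H) (e : ∀ n, H n ≅ H' n) (n : ℤ)
    (h : a.IsFinite n) : (transport a e).IsFinite n := by
  obtain ⟨⟨p, hp⟩, ⟨q, hq⟩⟩ := h
  refine ⟨⟨p, ?_⟩, ⟨q, ?_⟩⟩
  · show (Subobject.map (e n).hom).obj (a.fil n p) = ⊤
    have hp' : a.fil n p = ⊤ := hp
    rw [hp', Subobject.map_top]
    exact Subobject.mk_eq_top_of_isIso _
  · show (Subobject.map (e n).hom).obj (a.fil n q) = ⊥
    have hq' : a.fil n q = ⊥ := hq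
    rw [hq', Subobject.map_bot]

end Abut


end Groth.Agent.Lib.Helper5.SpSeqAbut
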