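import Groth.Agent.Lib.Helper5.HyCechSite
import Groth.Agent.Lib.Helper5.DescentSSGen
import Groth.Agent.Lib.Helper5.PshSh
import Groth.Agent.Lib.Helper5.SpSeqAbut

/-!
# The Čech-to-cohomology spectral sequence of a hypercovering of a site
-/

set_option autoImplicit false

universe u

open CategoryTheory CategoryTheory.Limits Opposite Simplicial Abelian
open scoped ZeroObject

noncomputable section

namespace Groth.Agent.Lib.Helper5.HyCechSS

open Groth.Agent.Lib.Helper5.HyCechSite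

variable {C : Type u} [SmallCategory C] (J : GrothendieckTopology C)
  (K : SimplicialObject (FormalCoproduct.{u} C))

/-- the Čech complex functor on abelian presheaves -/
abbrev Cf : (Cᵒᵖ ⥤ AddCommGrpCat.{u}) ⥤ CochainComplex AddCommGrpCat.{u} ℕ :=
  FormalCoproduct.cochainComplexFunctor K

lemma Cf_map_f {P Q : Cᵒᵖ ⥤ AddCommGrpCat.{u}} (α : P ⟶ Q) (n : ℕ) :
    ((Cf K).map α).f n =
      Limits.Pi.map (fun i : (K.obj (op ⦋n⦌)).I => α.app (op ((K.obj (op ⦋n⦌)).obj i))) := rfl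

instance : (Cf K).Additive where
  map_add := by
    intro P Q α β
    apply HomologicalComplex.hom_ext
    intro n
    change Limits.Pi.map
        (fun i : (K.obj (op ⦋n⦌)).I => (α + β).app (op ((K.obj (op ⦋n⦌)).obj i))) =
      Limits.Pi.map (fun i : (K.obj (op ⦋n⦌)).I => α.app (op ((K.obj (op ⦋n⦌)).obj i))) +
      Limits.Pi.map (fun i : (K.obj (op ⦋n⦌)).I => β.app (op ((K.obj (op ⦋n⦌)).obj i)))
    apply Pi.hom_ext
    intro i
    rw [Preadditive.add_comp, Limits.Pi.map_π, Limits.Pi.map_π, Limits.Pi.map_π,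
      ← Preadditive.comp_add]
    rfl

/-- products of exact sequences of abelian groups are exact -/
lemma exact_pi {I : Type u} {A B D : I → AddCommGrpCat.{u}} (f : ∀ i, A i ⟶ B i)
    (g : ∀ i, B i ⟶ D i)
    (h : ∀ (i : I) (b : B i), (g i).hom b = 0 → ∃ a : A i, (f i).hom a = b)
    (x : (∏ᶜ B : AddCommGrpCat.{u})) (hx : (Limits.Pi.map g).hom x = 0) :
    ∃ y : (∏ᶜ A : AddCommGrpCat.{u}), (Limits.Pi.map f).hom y = x := by
  have hcomp : ∀ i : I, ∃ a : A i, (f i).hom a = (Pi.π B i).hom x := by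
    intro i
    refine h i _ ?_
    have e := congrArg (fun ψ => ψ.hom x) (Limits.Pi.map_π g i)
    have e' : (g i).hom ((Pi.π B i).hom x) = (Pi.π D i).hom ((Limits.Pi.map g).hom x) := e.symm
    rw [e', hx, map_zero]
  choose y hy using hcomp
  refine ⟨(Concrete.productEquiv A).symm y, ?_⟩
  apply (Concrete.productEquiv B).injective
  funext i
  have e1 : Concrete.productEquiv B ((Limits.Pi.map f).hom ((Concrete.productEquiv A).symm y)) i =
      (Pi.π B i).hom ((Limits.Pi.map f).hom ((Concrete.productEquiv A).symm y)) :=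
    Concrete.productEquiv_apply_apply B _ i
  have e2 : Concrete.productEquiv B x i = (Pi.π B i).hom x :=
    Concrete.productEquiv_apply_apply B x i
  have e3 : (Pi.π B i).hom ((Limits.Pi.map f).hom ((Concrete.productEquiv A).symm y)) =
      (f i).hom ((Pi.π A i).hom ((Concrete.productEquiv A).symm y)) :=
    congrArg (fun ψ => ψ.hom ((Concrete.productEquiv A).symm y)) (Limits.Pi.map_π f i)
  have e4 : (Pi.π A i).hom ((Concrete.productEquiv A).symm y) = y i :=
    Concrete.productEquiv_symm_apply_π A y i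
  rw [e1, e2, e3, e4, hy]

/-- **the Čech complex functor is exact on presheaves** -/
lemma exact_map_Cf (S : ShortComplex (Cᵒᵖ ⥤ AddCommGrpCat.{u})) (hS : S.Exact) :
    (S.map (Cf K)).Exact := by
  apply HomologicalComplex.exact_of_degreewise_exact
  intro n
  have hsec : ∀ U : Cᵒᵖ, (S.map ((evaluation Cᵒᵖ AddCommGrpCat.{u}).obj U)).Exact :=
    fun U => hS.map _
  rw [ShortComplex.ab_exact_iff]
  intro x₂ hx
  exact exact_pi (fun i : (K.obj (op ⦋n⦌)).I => S.f.app (op ((K.obj (op ⦋n⦌)).obj i)))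
    (fun i : (K.obj (op ⦋n⦌)).I => S.g.app (op ((K.obj (op ⦋n⦌)).obj i)))
    (fun i b hb => (ShortComplex.ab_exact_iff _).1 (hsec (op ((K.obj (op ⦋n⦌)).obj i))) b hb)
    x₂ hx

instance : (Cf K).PreservesHomology :=
  ((Functor.exact_tfae (Cf K)).out 1 2).1 (exact_map_Cf K)

/-- the Čech complex functor on presheaves seen as sheaves for the trivial topology -/
abbrev Ef : Sheaf (⊥ : GrothendieckTopology C) AddCommGrpCat.{u} ⥤
    CochainComplex AddCommGrpCat.{u} ℕ :=
  sheafToPresheaf (⊥ : GrothendieckTopology C) AddCommGrpCat.{u} ⋙ Cf K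

instance : (Ef K).PreservesHomology := by
  haveI : PreservesFiniteColimits
      (sheafToPresheaf (⊥ : GrothendieckTopology C) AddCommGrpCat.{u}) :=
    inferInstanceAs (PreservesFiniteColimits (sheafBotEquivalence AddCommGrpCat.{u}).functor)
  haveI : (sheafToPresheaf (⊥ : GrothendieckTopology C) AddCommGrpCat.{u}).PreservesHomology :=
    Functor.preservesHomologyOfExact _
  refine ((Functor.exact_tfae (Ef K)).out 1 2).1 (fun S hS => ?_)
  exact exact_map_Cf K _
    (hS.map (sheafToPresheaf (⊥ : GrothendieckTopology C) AddCommGrpCat.{u}))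

/-- the Čech complex functor on sheaves -/
abbrev TT : Sheaf J AddCommGrpCat.{u} ⥤ CochainComplex AddCommGrpCat.{u} ℕ :=
  PshSh.T J ⋙ Ef K

variable [∀ (n : ℕ) (F : (SimplexCategory.Truncated n)ᵒᵖ ⥤ FormalCoproduct.{u} C),
  (SimplexCategory.Truncated.inclusion n).op.HasRightKanExtension F]

/-- **the Čech-to-cohomology spectral sequence of a hypercovering of a site** -/
theorem exists_spectralSequence (hK : Hyper.IsHypercoveringSite J K)
    (F : Sheaf J AddCommGrpCat.{u}) :
    ∃ (E : E₂CohomologicalSpectralSequence AddCommGrpCat.{u})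
      (a : SpSeq.Abutment E (fun n : ℤ =>
        if 0 ≤ n then AddCommGrpCat.of (Sheaf.H F n.toNat) else AddCommGrpCat.of PUnit.{u + 1})),
      (∀ n, a.IsFinite n) ∧ SpSeq.IsBounded E ∧
      ∀ p q : ℤ, Nonempty ((E.page 2 le_rfl).X (p, q) ≅
        (if 0 ≤ p ∧ 0 ≤ q then
          (Hyper.cechCxSite K (Sheaf.cohomologyPresheaf F q.toNat)).homology p.toNat
         else AddCommGrpCat.of PUnit.{u + 1})) := by
  have hZ : IsZero (AddCommGrpCat.of PUnit.{u + 1}) := AddCommGrpCat.isZero_of_subsingleton _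
  have hT' : ∀ Q : Sheaf J AddCommGrpCat.{u}, Injective Q → ∀ q : ℕ, 0 < q →
      IsZero (((DescentSSGen.H0 AddCommGrpCat.{u}).rightDerived q).obj ((TT J K).obj Q)) := by
    intro Q hQ q hq
    haveI := hQ
    obtain ⟨k, rfl⟩ : ∃ k, q = k + 1 := ⟨q - 1, by omega⟩
    exact (isZero_homology_succ_of_injective J K hK Q k).of_iso
      (DescentSSGen.rightDerivedH0Iso (k + 1) ((TT J K).obj Q))
  obtain ⟨E2, a, hfin, hb, hE⟩ :=
    GrothSSMain.main (TT J K) (DescentSSGen.H0 AddCommGrpCat.{u}) hT' F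
  obtain ⟨e0⟩ := nonempty_H0Iso J K hK
  have e0' : TT J K ⋙ DescentSSGen.H0 AddCommGrpCat.{u} ≅ ExtDer.G (Zc J) := e0
  let eH : ∀ n : ℤ,
      (if 0 ≤ n then ((TT J K ⋙ DescentSSGen.H0 AddCommGrpCat.{u}).rightDerived n.toNat).obj F
        else 0) ≅
      (if 0 ≤ n then AddCommGrpCat.of (Sheaf.H F n.toNat)
        else AddCommGrpCat.of PUnit.{u + 1}) := fun n =>
    if h : 0 ≤ n then eqToIso (if_pos h) ≪≫
      (ExtDer.extIsoOfIso (Zc J) (TT J K ⋙ DescentSSGen.H0 AddCommGrpCat.{u}) e0' n.toNat).app F ≪≫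
      eqToIso (if_pos h).symm
    else eqToIso (if_neg h) ≪≫ (isZero_zero _).iso hZ ≪≫ eqToIso (if_neg h).symm
  refine ⟨E2, SpSeqAbut.transport a eH, fun n => SpSeqAbut.transport_isFinite a eH n (hfin n), hb,
    fun p q => ?_⟩
  obtain ⟨e⟩ := hE p q
  by_cases h : 0 ≤ p ∧ 0 ≤ q
  · rw [if_pos h] at e ⊢
    exact ⟨e ≪≫ DescentSSGen.rightDerivedH0Iso p.toNat _ ≪≫
      (HomologicalComplex.homologyFunctor AddCommGrpCat.{u} (ComplexShape.up ℕ) p.toNat).mapIso
        (RDPost.postIsoApp (PshSh.T J) (Ef K) q.toNat F ≪≫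
          (Ef K).mapIso (PshSh.RTIso J F q.toNat))⟩
  · rw [if_neg h] at e ⊢
    exact ⟨e ≪≫ (isZero_zero _).iso hZ⟩

end Groth.Agent.Lib.Helper5.HyCechSS
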