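import Groth.Agent.Lib.Helper5.StairFil
import Groth.Agent.Lib.Helper5.CechHyp4
import Groth.Agent.Lib.Helper5.HyCechSS
import Groth.Prelude.Def_CohB1

/-!
# The Čech-to-hypercohomology filtration, part 1 (helper5)

The augmented Čech double complex of a complex of sheaves, its exactness properties, and the
identification of its `E₂`-terms with Čech cohomology of the cohomology presheaves.
-/

set_option autoImplicit false

universe u

open CategoryTheory CategoryTheory.Limits Opposite TopologicalSpace HomologicalComplex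

namespace Groth.Agent.Lib.Helper5.CechSS

open Groth.Agent.Lib.Helper22 Groth.Agent.Lib.Helper22.Cech Groth.Agent.Lib.Helper5.CechHyp2
open Groth.Agent.Lib.Helper17 Groth.Agent.Lib.Helper5.StairFil

section Nat

/-- naturality of `mapHCHomologyIso` in the functor -/
lemma mapHCHomologyIso_naturality {V W : Type*} [Category V] [Category W] [Abelian V] [Abelian W]
    {F G : V ⥤ W} [F.Additive] [G.Additive] [F.PreservesHomology] [G.PreservesHomology]
    (τ : F ⟶ G) {κ : Type*} {c : ComplexShape κ} (K : HomologicalComplex V c) (i : κ) :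
    HomologicalComplex.homologyMap ((NatTrans.mapHomologicalComplex τ c).app K) i ≫
        (HDU3.mapHCHomologyIso G K i).hom =
      (HDU3.mapHCHomologyIso F K i).hom ≫ τ.app (K.homology i) := by
  show ShortComplex.homologyMap ((K.sc i).mapNatTrans τ) ≫ ((K.sc i).mapHomologyIso G).hom =
    ((K.sc i).mapHomologyIso F).hom ≫ τ.app (K.sc i).homology
  rw [NatTrans.app_homology τ (K.sc i), Iso.hom_inv_id_assoc]

end Nat

variable {X : TopCat.{u}} {ι : Type u} (U : ι → Opens X)

instance : (cechComplexFunctor (A := AddCommGrpCat.{u}) U).Additive :=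
  inferInstanceAs (HyCechSS.Cf (FormalCoproduct.mk _ U).cech).Additive

instance : (cechComplexFunctor (A := AddCommGrpCat.{u}) U).PreservesHomology :=
  inferInstanceAs (HyCechSS.Cf (FormalCoproduct.mk _ U).cech).PreservesHomology

/-- Čech cochains in degree `p` as a functor on presheaves -/
noncomputable abbrev Tp (p : ℕ) : ((Opens X)ᵒᵖ ⥤ AddCommGrpCat.{u}) ⥤ AddCommGrpCat.{u} :=
  cechComplexFunctor (A := AddCommGrpCat.{u}) U ⋙ HomologicalComplex.eval _ _ p

instance (p : ℕ) : (Tp U p).PreservesHomology := by
  haveI : PreservesFiniteLimits (cechComplexFunctor (A := AddCommGrpCat.{u}) U) :=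
    Functor.preservesFiniteLimits_of_preservesHomology _
  haveI : PreservesFiniteColimits (cechComplexFunctor (A := AddCommGrpCat.{u}) U) :=
    Functor.preservesFiniteColimits_of_preservesHomology _
  haveI : PreservesFiniteLimits (Tp U p) := comp_preservesFiniteLimits _ _
  haveI : PreservesFiniteColimits (Tp U p) := comp_preservesFiniteColimits _ _
  infer_instance

/-- the Čech differential as a natural transformation -/
noncomputable def δδ (p p' : ℕ) : Tp U p ⟶ Tp U p' where
  app P := ((cechComplexFunctor (A := AddCommGrpCat.{u}) U).obj P).d p p'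
  naturality P Q f := ((cechComplexFunctor (A := AddCommGrpCat.{u}) U).map f).comm p p'

variable (L : CochainComplex (CohTop.Ab X) ℤ)

/-- the complex of presheaves underlying `L` -/
noncomputable abbrev Lp : CochainComplex ((Opens X)ᵒᵖ ⥤ AddCommGrpCat.{u}) ℤ :=
  (CechTot.presheafCx X).obj L

/-- the Čech double complex: a `ℤ`-complex of `ℕ`-complexes -/
noncomputable abbrev DD :
    HomologicalComplex₂ AddCommGrpCat.{u} (ComplexShape.up ℤ) (ComplexShape.up ℕ) :=
  ((cechComplexFunctor (A := AddCommGrpCat.{u}) U).mapHomologicalComplex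
    (ComplexShape.up ℤ)).obj (Lp L)

/-- the flipped Čech double complex: an `ℕ`-complex of `ℤ`-complexes -/
noncomputable abbrev BB : CochainComplex (CochainComplex AddCommGrpCat.{u} ℤ) ℕ :=
  (DD U L).flip

/-- sections over the union -/
noncomputable abbrev ΓΓ : CochainComplex AddCommGrpCat.{u} ℤ :=
  ((Γs (iSup U)).mapHomologicalComplex (ComplexShape.up ℤ)).obj L

/-- the coaugmentation -/
noncomputable def εε : ΓΓ U L ⟶ (BB U L).X 0 where
  f q := resHom U (L.X q).obj 0
  comm' q q' _ := resHom_naturality U (L.X q).obj (L.d q q').hom 0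

lemma εε_d : εε U L ≫ (BB U L).d 0 1 = 0 := by
  apply HomologicalComplex.hom_ext
  intro q
  exact resHom_d U (L.X q).obj

lemma subsingleton_BB (a : ℤ) [L.IsStrictlyGE a] (p : ℕ) (q : ℤ) (hq : q < a) :
    Subsingleton (((BB U L).X p).X q) := by
  have hz : IsZero (L.X q) := L.isZero_of_isStrictlyGE a q hq
  have h : IsZero (((BB U L).X p).X q) :=
    (HomologicalComplex.eval _ _ p).map_isZero
      ((cechComplexFunctor (A := AddCommGrpCat.{u}) U).map_isZero
        ((sheafToPresheaf (Opens.grothendieckTopology X) AddCommGrpCat.{u}).map_isZero hz))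
  exact AddCommGrpCat.subsingleton_of_isZero h

lemma εε_injective (q : ℤ) : Function.Injective ((εε U L).f q) := by
  intro s s' h
  apply resCochain_zero_injective U (L.X q)
  rw [← resHom_apply, ← resHom_apply]
  exact h

lemma εε_exact (q : ℤ) (x : ((BB U L).X 0).X q) (hx : ((BB U L).d 0 1).f q x = 0) :
    ∃ t, (εε U L).f q t = x := by
  obtain ⟨s, hs⟩ := exists_section_of_cocycle U (L.X q) x hx
  exact ⟨s, (resHom_apply U _ 0 s).trans hs⟩

lemma BB_exact [∀ q, Injective (L.X q)] (p : ℕ) (q : ℤ) (x : ((BB U L).X (p + 1)).X q)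
    (hx : ((BB U L).d (p + 1) (p + 1 + 1)).f q x = 0) :
    ∃ v, ((BB U L).d p (p + 1)).f q v = x :=
  (isZero_homology_succ_iff U (L.X q).obj p).1
    (isZero_homology_succ_of_injective U (L.X q).obj p) x hx

/-- the `E₁`-complex is the Čech complex of the cohomology presheaf -/
noncomputable def e1Iso (q : ℤ) :
    E1 (BB U L) q ≅
      (cechComplexFunctor (A := AddCommGrpCat.{u}) U).obj ((Lp L).homology q) :=
  HomologicalComplex.Hom.isoOfComponents
    (fun p => HDU3.mapHCHomologyIso (Tp U p) (Lp L) q)
    (by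
      intro p p' _
      exact (mapHCHomologyIso_naturality (δδ U p p') (Lp L) q).symm)

/-- the `E₂`-terms are Čech cohomology of the cohomology presheaves -/
noncomputable def e2Iso (H : ℤ → ((Opens X)ᵒᵖ ⥤ AddCommGrpCat.{u}))
    (ψ : ∀ q, H q ≅ (Lp L).homology q) (p : ℕ) (q : ℤ) :
    (E1 (BB U L) q).homology p ≅ CohB1.cechHTop U (H q) p :=
  (HomologicalComplex.homologyFunctor _ _ p).mapIso
    (e1Iso U L q ≪≫ (cechComplexFunctor (A := AddCommGrpCat.{u}) U).mapIso (ψ q).symm)

end Groth.Agent.Lib.Helper5.CechSS
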