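import Groth.Agent.Lib.Helper5.CechSS1

/-!
# The Čech-to-hypercohomology filtration, part 2 (helper5)

Transport of the staircase filtration to hypercohomology and identification of its first step with the
kernel of the restriction maps to the members of the cover.
-/

set_option autoImplicit false

universe u

open CategoryTheory CategoryTheory.Limits Opposite TopologicalSpace HomologicalComplex

namespace Groth.Agent.Lib.Helper5.CechSS

open Groth.Agent.Lib.Helper22 Groth.Agent.Lib.Helper22.Cech Groth.Agent.Lib.Helper5.CechHyp2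
open Groth.Agent.Lib.Helper17 Groth.Agent.Lib.Helper5.StairFil Groth.Agent.Lib.Helper5.AbCls
open Groth.Agent.Lib.Helper11.Kun

section Transport

lemma transport_fil {H H' : Type u} [AddCommGroup H] [AddCommGroup H'] (e : H ≃+ H')
    (T : ℕ → Type u) [∀ p, AddCommGroup (T p)]
    (N : ℕ) (G : ℕ → Submodule ℤ H) (hanti : Antitone G) (h0 : G 0 = ⊤) (hN : G N = ⊥)
    (hsub : ∀ p, HTor.IsSubquotient ℤ (HTor.grDesc G p) (T p))
    (S1 : Submodule ℤ H') (h1 : ∀ x, x ∈ G 1 ↔ e x ∈ S1) :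
    ∃ (N : ℕ) (G' : ℕ → Submodule ℤ H'), Antitone G' ∧ G' 0 = ⊤ ∧ G' N = ⊥ ∧ G' 1 = S1 ∧
      ∀ p, HTor.IsSubquotient ℤ (HTor.grDesc G' p) (T p) := by
  let el : H ≃ₗ[ℤ] H' := e.toIntLinearEquiv
  have hel : ∀ x, el x = e x := fun _ => rfl
  refine ⟨N, fun p => (G p).map el.toLinearMap, ?_, ?_, ?_, ?_, ?_⟩
  · intro p q hpq
    exact Submodule.map_mono (hanti hpq)
  · show (G 0).map el.toLinearMap = ⊤
    rw [h0, Submodule.map_top, LinearMap.range_eq_top]
    exact el.surjective
  · show (G N).map el.toLinearMap = ⊥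
    rw [hN, Submodule.map_bot]
  · show (G 1).map el.toLinearMap = S1
    ext x'
    rw [Submodule.mem_map]
    constructor
    · rintro ⟨x, hx, rfl⟩
      exact (h1 x).1 hx
    · intro hx'
      refine ⟨el.symm x', (h1 _).2 ?_, el.apply_symm_apply x'⟩
      rw [← hel, el.apply_symm_apply]
      exact hx'
  · intro p
    let r : ↥(G p) →ₗ[ℤ] ↥((G p).map el.toLinearMap) :=
      el.toLinearMap.restrict (fun x hx => Submodule.mem_map_of_mem hx)
    have hr : Submodule.comap (G p).subtype (G (p + 1)) ≤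
        Submodule.comap r (Submodule.comap ((G p).map el.toLinearMap).subtype
          ((G (p + 1)).map el.toLinearMap)) := by
      intro x hx
      exact Submodule.mem_map_of_mem hx
    refine IsSubquotient.of_surjective (Submodule.mapQ _ _ r hr) ?_ (hsub p)
    intro w
    obtain ⟨⟨x', hx'⟩, rfl⟩ := Submodule.Quotient.mk_surjective _ w
    obtain ⟨x, hx, rfl⟩ := hx'
    exact ⟨Submodule.Quotient.mk ⟨x, hx⟩, rfl⟩

end Transport

/-- `StairFil.main` with the degree of the abutment made flexible. -/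
theorem main' {B : CochainComplex (CochainComplex AddCommGrpCat.{u} ℤ) ℕ}
    {Γ : CochainComplex AddCommGrpCat.{u} ℤ} {ε : Γ ⟶ B.X 0} (n m : ℤ)
    (hm : n - ((0 : ℕ) : ℤ) = m) (hε : ε ≫ B.d 0 1 = 0) (a : ℤ)
    (hbdd : ∀ (p : ℕ) (q : ℤ), q < a → Subsingleton ((B.X p).X q))
    (hinj : ∀ q, Function.Injective (ε.f q))
    (hex0 : ∀ (q : ℤ) (x : (B.X 0).X q), (B.d 0 1).f q x = 0 → ∃ t, ε.f q t = x)
    (hex : ∀ (p : ℕ) (q : ℤ) (x : (B.X (p + 1)).X q),
      (B.d (p + 1) (p + 1 + 1)).f q x = 0 → ∃ v, (B.d p (p + 1)).f q v = x) :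
    ∃ (N : ℕ) (G : ℕ → Submodule ℤ (Γ.homology m)),
      Antitone G ∧ G 0 = ⊤ ∧ G N = ⊥ ∧
      G 1 = AddSubgroup.toIntSubmodule (HomologicalComplex.homologyMap ε m).hom.ker ∧
      ∀ p : ℕ, HTor.IsSubquotient ℤ (HTor.grDesc G p) ((E1 B (n - (p : ℤ))).homology p) := by
  subst hm
  exact StairFil.main hε a hbdd hinj hex0 hex

variable {X : TopCat.{u}} {ι : Type u} (U : ι → Opens X) (L : CochainComplex (CohTop.Ab X) ℤ)

/-- restriction of sections as a natural transformation -/
noncomputable abbrev ρρ {V V' : Opens X} (f : V' ⟶ V) :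
    (evaluation (Opens X)ᵒᵖ AddCommGrpCat.{u}).obj (op V) ⟶
      (evaluation (Opens X)ᵒᵖ AddCommGrpCat.{u}).obj (op V') :=
  (evaluation _ _).map f.op

/-- restriction of sections of `L` -/
noncomputable abbrev resΓ {V V' : Opens X} (f : V' ⟶ V) :
    ((Γs V).mapHomologicalComplex (ComplexShape.up ℤ)).obj L ⟶
      ((Γs V').mapHomologicalComplex (ComplexShape.up ℤ)).obj L :=
  (NatTrans.mapHomologicalComplex (ρρ f) (ComplexShape.up ℤ)).app (Lp L)

/-- cohomology of sections is sections of the cohomology presheaf -/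
noncomputable def θθ (n : ℤ) (V : Opens X) :
    (((Γs V).mapHomologicalComplex (ComplexShape.up ℤ)).obj L).homology n ≅
      ((Lp L).homology n).obj (op V) :=
  HDU3.mapHCHomologyIso ((evaluation _ _).obj (op V)) (Lp L) n

lemma θθ_naturality (n : ℤ) {V V' : Opens X} (f : V' ⟶ V) :
    HomologicalComplex.homologyMap (resΓ L f) n ≫ (θθ L n V').hom =
      (θθ L n V).hom ≫ ((Lp L).homology n).map f.op :=
  mapHCHomologyIso_naturality (ρρ f) (Lp L) n

variable {L} in
/-- cohomology of sections of `L` as sections of a presheaf isomorphic to the cohomology presheaf -/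
noncomputable def ee (n : ℤ) {H : (Opens X)ᵒᵖ ⥤ AddCommGrpCat.{u}} (ψ : H ≅ (Lp L).homology n)
    (V : Opens X) :
    (((Γs V).mapHomologicalComplex (ComplexShape.up ℤ)).obj L).homology n ≅ H.obj (op V) :=
  θθ L n V ≪≫ (ψ.app (op V)).symm

variable {L} in
lemma ee_naturality (n : ℤ) {H : (Opens X)ᵒᵖ ⥤ AddCommGrpCat.{u}} (ψ : H ≅ (Lp L).homology n)
    {V V' : Opens X} (f : V' ⟶ V) :
    HomologicalComplex.homologyMap (resΓ L f) n ≫ (ee n ψ V').hom =
      (ee n ψ V).hom ≫ H.map f.op := by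
  show _ ≫ ((θθ L n V').hom ≫ ψ.inv.app (op V')) = ((θθ L n V).hom ≫ ψ.inv.app (op V)) ≫ _
  rw [← Category.assoc, θθ_naturality, Category.assoc, Category.assoc, ψ.inv.naturality]

/-- the projection from `0`-cochains as a natural transformation -/
noncomputable def projNat (σ : Fin 1 → ι) :
    Tp U 0 ⟶ (evaluation (Opens X)ᵒᵖ AddCommGrpCat.{u}).obj (op (Uσ U σ)) where
  app P := proj U P 0 σ
  naturality P Q f := map_proj U P f 0 σ

/-- the projection from `0`-cochains of `L` -/
noncomputable abbrev ππ (σ : Fin 1 → ι) :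
    (BB U L).X 0 ⟶ ((Γs (Uσ U σ)).mapHomologicalComplex (ComplexShape.up ℤ)).obj L :=
  (NatTrans.mapHomologicalComplex (projNat U σ) (ComplexShape.up ℤ)).app (Lp L)

lemma εε_ππ (σ : Fin 1 → ι) :
    εε U L ≫ ππ U L σ = resΓ L (homOfLE (Uσ_le_iSup U σ)) := by
  apply HomologicalComplex.hom_ext
  intro q
  exact Pi.lift_π _ σ

lemma eq_zero_of_ππ (n : ℤ) (z : ((BB U L).X 0).homology n)
    (h : ∀ σ : Fin 1 → ι, HomologicalComplex.homologyMap (ππ U L σ) n z = 0) : z = 0 := by
  obtain ⟨y, hy, rfl⟩ := exists_cls ((BB U L).X 0) n z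
  have hσ : ∀ σ : Fin 1 → ι, ∃ w : (L.X (n - 1)).obj.obj (op (Uσ U σ)),
      (L.d (n - 1) n).hom.app (op (Uσ U σ)) w = proj U (L.X n).obj 0 σ y := by
    intro σ
    have h1 := h σ
    rw [map_cls] at h1
    exact (cls_eq_zero_iff _ (n - 1) n (CochainComplex.prev ℤ n) _ _).1 h1
  choose w hw using hσ
  rw [cls_eq_zero_iff _ (n - 1) n (CochainComplex.prev ℤ n)]
  refine ⟨mk U (L.X (n - 1)).obj w, ?_⟩
  apply ext_proj U (L.X n).obj
  intro σ
  have e := proj_map U (L.X (n - 1)).obj (L.d (n - 1) n).hom 0 σ (mk U (L.X (n - 1)).obj w)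
  rw [proj_mk] at e
  exact e.trans (hw σ)

lemma homologyMap_εε_eq_zero_iff (n : ℤ) (y : (ΓΓ U L).homology n) :
    HomologicalComplex.homologyMap (εε U L) n y = 0 ↔
      ∀ σ : Fin 1 → ι,
        HomologicalComplex.homologyMap (resΓ L (homOfLE (Uσ_le_iSup U σ))) n y = 0 := by
  have hc : ∀ σ : Fin 1 → ι,
      HomologicalComplex.homologyMap (resΓ L (homOfLE (Uσ_le_iSup U σ))) n y =
        HomologicalComplex.homologyMap (ππ U L σ) n
          (HomologicalComplex.homologyMap (εε U L) n y) := by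
    intro σ
    rw [← εε_ππ, HomologicalComplex.homologyMap_comp]
    rfl
  constructor
  · intro h σ
    rw [hc, h, map_zero]
  · intro h
    apply eq_zero_of_ππ U L n
    intro σ
    rw [← hc]
    exact h σ

lemma presheaf_res_iff (P : (Opens X)ᵒᵖ ⥤ AddCommGrpCat.{u}) (x : P.obj (op (iSup U))) :
    (∀ σ : Fin 1 → ι, P.map (homOfLE (Uσ_le_iSup U σ)).op x = 0) ↔
      ∀ i, P.map (homOfLE (le_iSup U i)).op x = 0 := by
  constructor
  · intro h i
    have e : (homOfLE (le_iSup U i)).op =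
        (homOfLE (Uσ_le_iSup U (single i))).op ≫ (homOfLE (le_Uσ_single U i)).op :=
      (congrArg Quiver.Hom.op (Subsingleton.elim (homOfLE (le_iSup U i))
        (homOfLE (le_Uσ_single U i) ≫ homOfLE (Uσ_le_iSup U (single i))))).trans op_comp
    rw [e, P.map_comp, ConcreteCategory.comp_apply, h, map_zero]
  · intro h σ
    have e : (homOfLE (Uσ_le_iSup U σ)).op =
        (homOfLE (le_iSup U (σ 0))).op ≫ (homOfLE (Uσ_le U σ 0)).op :=
      (congrArg Quiver.Hom.op (Subsingleton.elim (homOfLE (Uσ_le_iSup U σ))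
        (homOfLE (Uσ_le U σ 0) ≫ homOfLE (le_iSup U (σ 0))))).trans op_comp
    rw [e, P.map_comp, ConcreteCategory.comp_apply, h, map_zero]

/-- **The Čech-to-hypercohomology filtration** (over the union of the family). -/
theorem cech_filtration [HasDerivedCategory.{u} (CohTop.Ab X)]
    (K : CochainComplex (CohTop.Ab X) ℤ) (a : ℤ) (ha : ∀ i : ℤ, i < a → IsZero (K.X i)) (n : ℤ) :
    ∃ (N : ℕ) (G : ℕ → Submodule ℤ (CohCx.HDU (DerivedCategory.Q.obj K) n (iSup U))),
      Antitone G ∧ G 0 = ⊤ ∧ G N = ⊥ ∧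
      G 1 = ⨅ i, AddSubgroup.toIntSubmodule
        (CohCx.HDUres (DerivedCategory.Q.obj K) n (homOfLE (le_iSup U i))).ker ∧
      ∀ p : ℕ, HTor.IsSubquotient ℤ (HTor.grDesc G p)
        (CohB1.cechHTop U (CohCx.HDUPresheaf (DerivedCategory.Q.obj K) (n - p)) p) := by
  have : K.IsStrictlyGE a := by
    rw [CochainComplex.isStrictlyGE_iff]
    intro i hi
    exact ha i hi
  obtain ⟨L, j, hj, hL, hLa⟩ :=
    CochainComplex.Plus.modelCategoryQuillen.exists_quasiIso_injective K a
  haveI := hj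
  haveI := hL
  haveI := hLa
  have : L.IsKInjective := CochainComplex.isKInjective_of_injective L a
  have : IsIso (DerivedCategory.Q.map j) :=
    (DerivedCategory.isIso_Q_map_iff_quasiIso (C := CohTop.Ab X) (φ := j)).2 inferInstance
  let ψ : ∀ q, CohCx.HDUPresheaf (DerivedCategory.Q.obj K) q ≅ (Lp L).homology q := fun q =>
    HDU3.hduPresheafMapIso (Opens.grothendieckTopology X) (asIso (DerivedCategory.Q.map j)) q ≪≫
      HDU3.hduIso (Opens.grothendieckTopology X) L q
  obtain ⟨N, G, hanti, h0, hN, h1, hsub⟩ := main' (B := BB U L) (Γ := ΓΓ U L) (ε := εε U L) n n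
    (by simp) (εε_d U L) a (subsingleton_BB U L a) (εε_injective U L) (εε_exact U L)
    (BB_exact U L)
  let e : (ΓΓ U L).homology n ≃+ CohCx.HDU (DerivedCategory.Q.obj K) n (iSup U) :=
    (ee n (ψ n) (iSup U)).addCommGroupIsoToAddEquiv
  refine transport_fil e
    (fun p => CohB1.cechHTop U (CohCx.HDUPresheaf (DerivedCategory.Q.obj K) (n - p)) p)
    N G hanti h0 hN ?_ _ ?_
  · intro p
    exact IsSubquotient.of_equiv_right
      (e2Iso U L _ ψ p (n - p)).addCommGroupIsoToAddEquiv.toIntLinearEquiv (hsub p)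
  · intro x
    rw [h1, Submodule.mem_iInf]
    show HomologicalComplex.homologyMap (εε U L) n x = 0 ↔
      ∀ i, (CohCx.HDUPresheaf (DerivedCategory.Q.obj K) n).map (homOfLE (le_iSup U i)).op
        ((ee n (ψ n) (iSup U)).hom x) = 0
    rw [homologyMap_εε_eq_zero_iff, ← presheaf_res_iff U]
    apply forall_congr'
    intro σ
    have nat := ConcreteCategory.congr_hom
      (ee_naturality n (ψ n) (homOfLE (Uσ_le_iSup U σ))) x
    rw [ConcreteCategory.comp_apply, ConcreteCategory.comp_apply] at nat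
    constructor
    · intro h
      rw [← nat, h, map_zero]
    · intro h
      apply (ConcreteCategory.bijective_of_isIso (ee n (ψ n) (Uσ U σ)).hom).1
      rw [nat, h, map_zero]

end Groth.Agent.Lib.Helper5.CechSS
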