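import Groth.Prelude.Def_CechOX
import Groth.Prelude.Def_CohTop
import Groth.Agent.Lib.Helper5.CechContract
import Groth.Agent.Lib.Helper5.RpushAb
import Groth.Agent.Lib.Helper22.Cech.Site

/-!
# The Čech complex of sheaves of an `O_X`-module is a resolution (helper5)

* `exact_of_local_lift`: a complex `A ⟶ B ⟶ C` of `O_X`-modules is exact as soon as cycles lift locally;
* `sections_exact_succ`, `sections_exact_zero`: over an open `W ⊆ U_j` the sections of the (augmented)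
  Čech complex of sheaves are exact (contracting homotopy of `CechContract`);
* `exact_succ`, `exact_zero`, `mono_aug`, `aug_d`: the resolution property.
-/

set_option autoImplicit false
set_option linter.unusedSectionVars false

universe u

open CategoryTheory CategoryTheory.Limits Opposite TopologicalSpace AlgebraicGeometry

namespace Groth.Agent.Lib.Helper5.CechShRes

open Groth.Agent.Lib.Helper22.EGA7 Groth.Agent.Lib.Helper5.CechContract
  Groth.Agent.Lib.Helper5.RpushAb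

section Top

variable {Y : TopCat.{u}}

/-- a complex of abelian sheaves is exact if cycles lift locally -/
lemma exact_of_local_lift_top (S : ShortComplex (CohTop.Ab Y))
    (h : ∀ (V : Opens Y) (t : S.X₂.obj.obj (op V)), S.g.hom.app (op V) t = 0 → ∀ y ∈ V,
      ∃ (W : Opens Y) (hWV : W ≤ V), y ∈ W ∧ ∃ u : S.X₁.obj.obj (op W),
        S.f.hom.app (op W) u = S.X₂.obj.map (homOfLE hWV).op t) : S.Exact := by
  refine (S.exact_iff_epi_kernel_lift).2 ?_
  refine (TopCat.Sheaf.isLocallySurjective_iff_epi (kernel.lift S.g S.f S.zero)).1 ?_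
  rw [TopCat.Presheaf.isLocallySurjective_iff]
  intro V k y hy
  have ht : S.g.hom.app (op V) ((kernel.ι S.g).hom.app (op V) k) = 0 := by
    have e : kernel.ι S.g ≫ S.g = 0 := kernel.condition _
    exact congrArg (fun φ : kernel S.g ⟶ S.X₃ => φ.hom.app (op V) k) e
  obtain ⟨W, hWV, hyW, u, hu⟩ := h V _ ht y hy
  refine ⟨W, hWV, ⟨u, ?_⟩, hyW⟩
  show (kernel.lift S.g S.f S.zero).hom.app (op W) u = (kernel S.g).obj.map (homOfLE hWV).op k
  apply Groth.Agent.Lib.Helper22.Cech.Site.injective_app_of_mono (kernel.ι S.g) W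
  have e : kernel.lift S.g S.f S.zero ≫ kernel.ι S.g = S.f := kernel.lift_ι _ _ _
  have e1 : (kernel.ι S.g).hom.app (op W) ((kernel.lift S.g S.f S.zero).hom.app (op W) u) =
      S.f.hom.app (op W) u :=
    congrArg (fun φ : S.X₁ ⟶ S.X₂ => φ.hom.app (op W) u) e
  have e2 := (kernel.ι S.g).hom.naturality (homOfLE hWV).op
  have e3 : (kernel.ι S.g).hom.app (op W) ((kernel S.g).obj.map (homOfLE hWV).op k) =
      S.X₂.obj.map (homOfLE hWV).op ((kernel.ι S.g).hom.app (op V) k) :=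
    congrArg (fun φ => φ.hom k) e2
  exact e1.trans (hu.trans e3.symm)

end Top

variable {X : Scheme.{u}}

/-- a complex of `O_X`-modules is exact if cycles lift locally -/
lemma exact_of_local_lift {A B C : X.Modules} (a : A ⟶ B) (b : B ⟶ C) (w : a ≫ b = 0)
    (h : ∀ (V : X.Opens) (t : Γ(B, V)), b.app V t = 0 → ∀ y ∈ V,
      ∃ (W : X.Opens) (hWV : W ≤ V), y ∈ W ∧ ∃ u : Γ(A, W),
        a.app W u = B.presheaf.map (homOfLE hWV).op t) :
    (ShortComplex.mk a b w).Exact := by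
  haveI : (TT X).PreservesHomology := Functor.preservesHomologyOfExact _
  haveI : (TT X).Faithful := inferInstanceAs (SheafOfModules.toSheaf X.ringCatSheaf).Faithful
  refine (ShortComplex.exact_map_iff_of_faithful _ (TT X)).1 ?_
  exact exact_of_local_lift_top ((ShortComplex.mk a b w).map (TT X))
    (fun V t ht y hy => h V t ht y hy)

/-- a morphism of modules which is injective on sections is a monomorphism -/
lemma mono_of_injective_app {M N : X.Modules} (φ : M ⟶ N)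
    (h : ∀ (V : X.Opens) (s : Γ(M, V)), φ.app V s = 0 → s = 0) : Mono φ where
  right_cancellation {G} a b hab := by
    apply Scheme.Modules.hom_ext
    intro V
    refine ConcreteCategory.hom_ext _ _ fun s => ?_
    have h1 : φ.app V (a.app V s) = φ.app V (b.app V s) :=
      congrArg (fun k : G ⟶ N => k.app V s) hab
    have h2 : φ.app V (a.app V s - b.app V s) = 0 := by
      rw [map_sub, h1, sub_self]
    exact sub_eq_zero.1 (h V _ h2)

/-! ### The sections functor -/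

/-- sections over `W`, as a functor to abelian groups -/
noncomputable abbrev Φ (W : X.Opens) : X.Modules ⥤ AddCommGrpCat.{u} :=
  Scheme.Modules.toPresheaf X ⋙ (evaluation _ _).obj (op W)

instance additive_Φ (W : X.Opens) : (Φ W).Additive := ⟨by intros; rfl⟩

instance preservesProducts_Φ (W : X.Opens) (J : Type u) :
    PreservesLimitsOfShape (Discrete J) (Φ W) := by
  haveI h1 : PreservesLimitsOfShape (Discrete J) (Scheme.Modules.toPresheaf X) := inferInstance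
  haveI h2 : PreservesLimitsOfShape (Discrete J)
      ((evaluation (X.Opens)ᵒᵖ AddCommGrpCat.{u}).obj (op W)) := inferInstance
  exact comp_preservesLimitsOfShape _ _

lemma Φ_map (W : X.Opens) {M N : X.Modules} (φ : M ⟶ N) : (Φ W).map φ = φ.app W := rfl

/-! ### The presheaf `W ↦ (j_W)_*(F|_W)` and its cone from `F` -/

variable {ι : Type u} (𝒰 : ι → X.Opens) (F : X.Modules)

/-- the presheaf of modules `Z ↦ (j_Z)_*(F|_Z)` -/
noncomputable abbrev PF : (X.Opens)ᵒᵖ ⥤ X.Modules := CechOX.pushRestrFam.flip.obj F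

lemma cechSh_obj : (CechOX.cechSh 𝒰).obj F = CKg 𝒰 (PF F) := rfl

/-- the units `F ⟶ (j_Z)_*(F|_Z)` as a cone -/
noncomputable def βM : (Functor.const (X.Opens)ᵒᵖ).obj F ⟶ PF F where
  app Z := (Scheme.Modules.restrictAdjunction Z.unop.ι).unit.app F
  naturality Z Z' f := by
    apply Scheme.Modules.hom_ext
    intro V
    change 𝟙 _ ≫ F.presheaf.map (homOfLE _).op =
      F.presheaf.map (homOfLE _).op ≫ F.presheaf.map (homOfLE _).op
    rw [Category.id_comp, ← Functor.map_comp]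
    rfl

lemma βM_app_app (Z : X.Opens) (V : X.Opens) :
    ((βM F).app (op Z)).app V = F.presheaf.map (homOfLE (Z.ι.image_preimage_le V)).op := rfl

lemma cechShAug_eq : CechOX.cechShAug 𝒰 F = augg 𝒰 (PF F) (βM F) := rfl

/-- **The coaugmentation followed by the first differential is zero.** -/
theorem aug_d : CechOX.cechShAug 𝒰 F ≫ ((CechOX.cechSh 𝒰).obj F).d 0 1 = 0 :=
  augg_d 𝒰 (PF F) (βM F)

/-- the cone on sections over `W` -/
noncomputable def βQ (W : X.Opens) :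
    (Functor.const (X.Opens)ᵒᵖ).obj ((Φ W).obj F) ⟶ PF F ⋙ Φ W where
  app Z := (Φ W).map ((βM F).app Z)
  naturality Z Z' f := by
    have h := (βM F).naturality f
    simp only [Functor.const_obj_obj, Functor.const_obj_map, Category.id_comp] at h
    change 𝟙 _ ≫ (Φ W).map ((βM F).app Z') = (Φ W).map ((βM F).app Z) ≫ (Φ W).map ((PF F).map f)
    rw [Category.id_comp, h, Functor.map_comp]

lemma isIso_presheaf_map {A B : X.Opens} (le : A ≤ B) (ge : B ≤ A) :
    IsIso (F.presheaf.map (homOfLE le).op) := by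
  have h1 : homOfLE ge ≫ homOfLE le = 𝟙 _ := Subsingleton.elim _ _
  have h2 : homOfLE le ≫ homOfLE ge = 𝟙 _ := Subsingleton.elim _ _
  refine ⟨⟨F.presheaf.map (homOfLE ge).op, ?_, ?_⟩⟩
  · rw [← Functor.map_comp, ← op_comp, h1, op_id, CategoryTheory.Functor.map_id]
  · rw [← Functor.map_comp, ← op_comp, h2, op_id, CategoryTheory.Functor.map_id]

lemma isIso_Q_map (W : X.Opens) {A' A : X.Opens} (f : A' ⟶ A) (h : W ⊓ A ≤ A') :
    IsIso ((PF F ⋙ Φ W).map f.op) := by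
  have le : A'.ι ''ᵁ (A'.ι ⁻¹ᵁ W) ≤ A.ι ''ᵁ (A.ι ⁻¹ᵁ W) :=
    CechOX.image_preimage_mono (leOfHom f) W
  have ge : A.ι ''ᵁ (A.ι ⁻¹ᵁ W) ≤ A'.ι ''ᵁ (A'.ι ⁻¹ᵁ W) := by
    rw [Scheme.Hom.image_preimage_eq_opensRange_inf, Scheme.Hom.image_preimage_eq_opensRange_inf,
      Scheme.Opens.opensRange_ι, Scheme.Opens.opensRange_ι]
    exact le_inf (by rw [inf_comm]; exact h) inf_le_right
  have e : (PF F ⋙ Φ W).map f.op = F.presheaf.map (homOfLE le).op := rfl
  rw [e]
  exact isIso_presheaf_map F le ge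

lemma isIso_βQ (W Z : X.Opens) (h : W ≤ Z) : IsIso ((βQ F W).app (op Z)) := by
  have ge : W ≤ Z.ι ''ᵁ (Z.ι ⁻¹ᵁ W) := by
    rw [Scheme.Hom.image_preimage_eq_opensRange_inf, Scheme.Opens.opensRange_ι]
    exact le_inf h le_rfl
  have e : (βQ F W).app (op Z) = F.presheaf.map (homOfLE (Z.ι.image_preimage_le W)).op := rfl
  rw [e]
  exact isIso_presheaf_map F (Z.ι.image_preimage_le W) ge

lemma le_Uσ_cons (W : X.Opens) (j : ι) (hW : W ≤ 𝒰 j) {n : ℕ} (σ : Fin (n + 1) → ι) :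
    W ⊓ Uσg 𝒰 σ ≤ Uσg 𝒰 (Fin.cons j σ : Fin (n + 2) → ι) := by
  have hk : ∀ k : Fin (n + 2), W ⊓ Uσg 𝒰 σ ≤ (𝒰 ∘ (Fin.cons j σ : Fin (n + 2) → ι)) k := by
    intro k
    refine Fin.cases ?_ (fun k' => ?_) k
    · exact inf_le_left.trans hW
    · exact inf_le_right.trans (leOfHom (Pi.π (𝒰 ∘ σ) k'))
  exact leOfHom (Pi.lift fun k => homOfLE (hk k))

lemma le_Uσ_one (W : X.Opens) (j : ι) (hW : W ≤ 𝒰 j) : W ≤ Uσg 𝒰 (fun _ : Fin 1 => j) :=
  leOfHom (Pi.lift fun _ => homOfLE hW)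

/-! ### Exactness of sections over small opens -/

section sections

variable (W : X.Opens) (j : ι) (hW : W ≤ 𝒰 j)

include hW

lemma hQ (n : ℕ) (σ : Fin (n + 1) → ι) : IsIso ((PF F ⋙ Φ W).map (prj 𝒰 j σ).op) :=
  isIso_Q_map F W (prj 𝒰 j σ) (le_Uσ_cons 𝒰 W j hW σ)

lemma hβ : IsIso ((βQ F W).app (op (Uσg 𝒰 (fun _ : Fin 1 => j)))) :=
  isIso_βQ F W _ (le_Uσ_one 𝒰 W j hW)

lemma sections_exact_succ (n : ℕ) (t : Γ(((CechOX.cechSh 𝒰).obj F).X (n + 1), W))
    (ht : (((CechOX.cechSh 𝒰).obj F).d (n + 1) (n + 1 + 1)).app W t = 0) :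
    ∃ u : Γ(((CechOX.cechSh 𝒰).obj F).X n, W),
      (((CechOX.cechSh 𝒰).obj F).d n (n + 1)).app W u = t := by
  have hd1 := compIso_d 𝒰 (Φ W) (PF F) (n + 1)
  have hd0 := compIso_d 𝒰 (Φ W) (PF F) n
  have ht' : (CKg 𝒰 (PF F ⋙ Φ W)).d (n + 1) (n + 1 + 1)
      ((compIso 𝒰 (Φ W) (PF F) (n + 1)).hom t) = 0 := by
    have h1 := ConcreteCategory.congr_hom hd1 t
    rw [ConcreteCategory.comp_apply, ConcreteCategory.comp_apply] at h1
    rw [← h1]
    have h2 : (Φ W).map ((CKg 𝒰 (PF F)).d (n + 1) (n + 1 + 1)) t = 0 := ht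
    rw [h2, map_zero]
  obtain ⟨u', hu'⟩ := ab_exact_succ 𝒰 j (PF F ⋙ Φ W) (hQ 𝒰 F W j hW) n _ ht'
  refine ⟨(compIso 𝒰 (Φ W) (PF F) n).inv u', ?_⟩
  have h3 := ConcreteCategory.congr_hom hd0 ((compIso 𝒰 (Φ W) (PF F) n).inv u')
  rw [ConcreteCategory.comp_apply, ConcreteCategory.comp_apply, Iso.inv_hom_id_apply, hu'] at h3
  have inj : Function.Injective (compIso 𝒰 (Φ W) (PF F) (n + 1)).hom :=
    (ConcreteCategory.bijective_of_isIso _).1
  exact inj h3

lemma sections_exact_zero (t : Γ(((CechOX.cechSh 𝒰).obj F).X 0, W))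
    (ht : (((CechOX.cechSh 𝒰).obj F).d 0 1).app W t = 0) :
    ∃ u : Γ(F, W), (CechOX.cechShAug 𝒰 F).app W u = t := by
  have hd0 := compIso_d 𝒰 (Φ W) (PF F) 0
  have ht' : (CKg 𝒰 (PF F ⋙ Φ W)).d 0 1 ((compIso 𝒰 (Φ W) (PF F) 0).hom t) = 0 := by
    have h1 := ConcreteCategory.congr_hom hd0 t
    rw [ConcreteCategory.comp_apply, ConcreteCategory.comp_apply] at h1
    have h2 : (Φ W).map ((CKg 𝒰 (PF F)).d 0 (0 + 1)) t = 0 := ht
    rw [h2, map_zero] at h1
    exact h1.symm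
  obtain ⟨u, hu⟩ := ab_exact_zero 𝒰 j (PF F ⋙ Φ W) (βQ F W) (hQ 𝒰 F W j hW) (hβ 𝒰 F W j hW) _ ht'
  refine ⟨u, ?_⟩
  -- compare the two augmentations
  have haug : (Φ W).map (augg 𝒰 (PF F) (βM F)) ≫ (compIso 𝒰 (Φ W) (PF F) 0).hom =
      augg 𝒰 (PF F ⋙ Φ W) (βQ F W) := by
    refine hom_ext_projg 𝒰 (PF F ⋙ Φ W) _ _ fun σ => ?_
    rw [Category.assoc, compIso_hom_projg, ← Functor.map_comp, augg_projg, augg_projg]
    rfl
  have h3 := ConcreteCategory.congr_hom haug u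
  rw [ConcreteCategory.comp_apply, hu] at h3
  have inj : Function.Injective (compIso 𝒰 (Φ W) (PF F) 0).hom :=
    (ConcreteCategory.bijective_of_isIso _).1
  exact inj h3

end sections

/-! ### The resolution property -/

variable (h𝒰 : ⨆ i, 𝒰 i = ⊤)

include h𝒰

lemma exists_mem (y : X) : ∃ j, y ∈ 𝒰 j := by
  have hy : y ∈ (⨆ i, 𝒰 i : X.Opens) := by
    rw [h𝒰]
    trivial
  exact Opens.mem_iSup.1 hy

/-- **Exactness of the Čech complex of sheaves in positive degrees.** -/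
theorem exact_succ (n : ℕ) :
    (ShortComplex.mk (((CechOX.cechSh 𝒰).obj F).d n (n + 1))
      (((CechOX.cechSh 𝒰).obj F).d (n + 1) (n + 1 + 1))
      (((CechOX.cechSh 𝒰).obj F).d_comp_d _ _ _)).Exact := by
  refine exact_of_local_lift _ _ _ fun V t ht y hy => ?_
  obtain ⟨j, hj⟩ := exists_mem 𝒰 h𝒰 y
  have hWV : V ⊓ 𝒰 j ≤ V := inf_le_left
  refine ⟨V ⊓ 𝒰 j, hWV, ⟨hy, hj⟩, ?_⟩
  refine sections_exact_succ 𝒰 F (V ⊓ 𝒰 j) j inf_le_right n _ ?_
  have hn := ConcreteCategory.congr_hom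
    (CechOX.app_naturality (((CechOX.cechSh 𝒰).obj F).d (n + 1) (n + 1 + 1)) (homOfLE hWV).op) t
  rw [ConcreteCategory.comp_apply, ConcreteCategory.comp_apply] at hn
  rw [hn, ht, map_zero]

/-- **Exactness of the augmented Čech complex of sheaves in degree `0`.** -/
theorem exact_zero :
    (ShortComplex.mk (CechOX.cechShAug 𝒰 F) (((CechOX.cechSh 𝒰).obj F).d 0 1)
      (aug_d 𝒰 F)).Exact := by
  refine exact_of_local_lift _ _ _ fun V t ht y hy => ?_
  obtain ⟨j, hj⟩ := exists_mem 𝒰 h𝒰 y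
  have hWV : V ⊓ 𝒰 j ≤ V := inf_le_left
  refine ⟨V ⊓ 𝒰 j, hWV, ⟨hy, hj⟩, ?_⟩
  refine sections_exact_zero 𝒰 F (V ⊓ 𝒰 j) j inf_le_right _ ?_
  have hn := ConcreteCategory.congr_hom
    (CechOX.app_naturality (((CechOX.cechSh 𝒰).obj F).d 0 1) (homOfLE hWV).op) t
  rw [ConcreteCategory.comp_apply, ConcreteCategory.comp_apply] at hn
  rw [hn, ht, map_zero]

/-- **The coaugmentation is a monomorphism.** -/
theorem mono_aug : Mono (CechOX.cechShAug 𝒰 F) := by
  refine mono_of_injective_app _ fun V s hs => ?_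
  have hproj : ∀ i : ι, F.presheaf.map
      (homOfLE ((Uσg 𝒰 (fun _ : Fin 1 => i)).ι.image_preimage_le V)).op s = 0 := by
    intro i
    have e : CechOX.cechShAug 𝒰 F ≫ projg 𝒰 (PF F) 0 (fun _ => i) =
        (βM F).app (op (Uσg 𝒰 (fun _ : Fin 1 => i))) := augg_projg 𝒰 (PF F) (βM F) _
    have e2 : ((projg 𝒰 (PF F) 0 (fun _ => i)).app V) ((CechOX.cechShAug 𝒰 F).app V s) =
        F.presheaf.map (homOfLE ((Uσg 𝒰 (fun _ : Fin 1 => i)).ι.image_preimage_le V)).op s :=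
      congrArg (fun k : F ⟶ (PF F).obj (op (Uσg 𝒰 (fun _ : Fin 1 => i))) =>
        (Scheme.Modules.Hom.app k V) s) e
    have e3 : ((projg 𝒰 (PF F) 0 (fun _ => i)).app V) ((CechOX.cechShAug 𝒰 F).app V s) = 0 := by
      have h0 := congrArg (fun z : Γ((CKg 𝒰 (PF F)).X 0, V) =>
        ((projg 𝒰 (PF F) 0 (fun _ => i)).app V) z) hs
      exact h0.trans (map_zero _)
    exact e2.symm.trans e3
  refine TopCat.Sheaf.eq_of_locally_eq' ⟨F.presheaf, F.isSheaf⟩
    (fun i : ι => (Uσg 𝒰 (fun _ : Fin 1 => i)).ι ''ᵁ ((Uσg 𝒰 (fun _ : Fin 1 => i)).ι ⁻¹ᵁ V)) V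
    (fun i => homOfLE (Scheme.Hom.image_preimage_le _ V)) ?_ s 0 (fun i => ?_)
  · intro y hy
    obtain ⟨i, hi⟩ := exists_mem 𝒰 h𝒰 y
    refine Opens.mem_iSup.2 ⟨i, ?_⟩
    rw [Scheme.Hom.image_preimage_eq_opensRange_inf, Scheme.Opens.opensRange_ι]
    exact ⟨leOfHom (Pi.lift fun _ => 𝟙 (𝒰 i)) hi, hy⟩
  · rw [map_zero]
    exact hproj i

end Groth.Agent.Lib.Helper5.CechShRes
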