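import Groth.Agent.Lib.Helper5.SectSupp
import Groth.Agent.Lib.Helper22.CohTop.ClosedEmb
import Groth.Agent.Lib.Helper22.CohTop.PushInjective
import Mathlib.CategoryTheory.Adjunction.FullyFaithful

/-!
# `i_* ⊣ i^!` for the closed complement of an open subset

For an open `U` of a space `X` with closed complement `i : Z → X`, the direct image `i_*` of abelian
sheaves is fully faithful, every sheaf vanishing on `U` is a direct image, and `i_*` is left adjoint
to `F ↦ i⁻¹ Γ_Z(F)`.
-/

set_option autoImplicit false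
universe u
open CategoryTheory CategoryTheory.Limits TopologicalSpace Opposite

namespace Groth.Agent.Lib.Helper5.ClosedAdj

open Groth.Agent.Lib.Helper5.SectSupp

variable {X : TopCat.{u}} (U : Opens X)

/-- the closed complement as a space -/
abbrev Zt : TopCat.{u} := TopCat.of ((U : Set X)ᶜ : Set X)

/-- `κ W = i(W) ∪ U` -/
def κ (W : Opens (Zt U)) : Opens X :=
  ⟨{x : X | (∃ h : x ∈ ((U : Set X)ᶜ : Set X), (⟨x, h⟩ : Zt U) ∈ W) ∨ x ∈ U}, by
    obtain ⟨V, hV, hVW⟩ := isOpen_induced_iff.1 W.2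
    have : {x : X | (∃ h : x ∈ ((U : Set X)ᶜ : Set X), (⟨x, h⟩ : Zt U) ∈ W) ∨ x ∈ U} =
        V ∪ (U : Set X) := by
      ext x
      constructor
      · rintro (⟨h, hz⟩ | hx)
        · left
          have : (⟨x, h⟩ : Zt U) ∈ Subtype.val ⁻¹' V := by
            rw [hVW]
            exact hz
          exact this
        · exact Or.inr hx
      · rintro (hx | hx)
        · by_cases hxU : x ∈ (U : Set X)
          · exact Or.inr hxU
          · left
            refine ⟨hxU, ?_⟩
            have : (⟨x, hxU⟩ : Zt U) ∈ W.carrier := by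
              rw [← hVW]
              exact hx
            exact this
        · exact Or.inr hx
    rw [this]
    exact hV.union U.2⟩

lemma mem_κ {W : Opens (Zt U)} {x : X} :
    x ∈ κ U W ↔ (∃ h : x ∈ ((U : Set X)ᶜ : Set X), (⟨x, h⟩ : Zt U) ∈ W) ∨ x ∈ U := Iff.rfl

lemma map_κ (W : Opens (Zt U)) : (Opens.map (CohCx.inclCompl U)).obj (κ U W) = W := by
  refine Opens.ext (Set.ext fun z => ?_)
  change (z.1 : X) ∈ κ U W ↔ z ∈ W
  rw [mem_κ]
  constructor
  · rintro (⟨h, hz⟩ | hx)
    · exact hz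
    · exact absurd hx z.2
  · intro hz
    exact Or.inl ⟨z.2, hz⟩

lemma κ_mono {W W' : Opens (Zt U)} (h : W ≤ W') : κ U W ≤ κ U W' := by
  intro x hx
  rw [mem_κ] at hx ⊢
  rcases hx with ⟨h', hz⟩ | hx
  · exact Or.inl ⟨h', h hz⟩
  · exact Or.inr hx

lemma le_κ (W : Opens (Zt U)) : U ≤ κ U W := fun _ hx => Or.inr hx

lemma le_κ_map (V : Opens X) : V ≤ κ U ((Opens.map (CohCx.inclCompl U)).obj V) := by
  intro x hx
  rw [mem_κ]
  by_cases hxU : x ∈ (U : Set X)
  · exact Or.inr hxU
  · exact Or.inl ⟨hxU, hx⟩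

lemma κ_map_le (V : Opens X) : κ U ((Opens.map (CohCx.inclCompl U)).obj V) ≤ V ⊔ U := by
  intro x hx
  rw [mem_κ] at hx
  rcases hx with ⟨h', hz⟩ | hx
  · exact Or.inl hz
  · exact Or.inr hx

lemma κ_inf_le (W W' : Opens (Zt U)) : κ U W ⊓ κ U W' ≤ κ U (W ⊓ W') := by
  rintro x ⟨h1, h2⟩
  have h1 := (mem_κ U).1 h1
  have h2 := (mem_κ U).1 h2
  refine (mem_κ U).2 ?_
  rcases h1 with ⟨h', hz⟩ | hx
  · rcases h2 with ⟨h'', hz'⟩ | hx
    · exact Or.inl ⟨h', hz, hz'⟩
    · exact Or.inr hx
  · exact Or.inr hx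

lemma map_inf_eq_bot (V : Opens X) (hV : V ≤ U) :
    (Opens.map (CohCx.inclCompl U)).obj V = ⊥ := by
  refine Opens.ext (Set.ext fun z => ?_)
  constructor
  · intro hz
    exact absurd (hV hz) z.2
  · intro hz
    exact absurd hz (Set.notMem_empty z)

/-- `κ` as a functor -/
def κF : Opens (Zt U) ⥤ Opens X where
  obj := κ U
  map f := homOfLE (κ_mono U (leOfHom f))

lemma map_thin {C : Type*} [Category C] {T : TopCat.{u}} (P : (Opens T)ᵒᵖ ⥤ C)
    {A B : (Opens T)ᵒᵖ} (f g : A ⟶ B) : P.map f = P.map g := by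
  rw [Subsingleton.elim f g]

lemma map_comp_thin {C : Type*} [Category C] {T : TopCat.{u}} (P : (Opens T)ᵒᵖ ⥤ C)
    {A B D : (Opens T)ᵒᵖ} (f : A ⟶ B) (g : B ⟶ D) (h : A ⟶ D) : P.map f ≫ P.map g = P.map h := by
  rw [← P.map_comp]
  exact map_thin P _ _

/-! ### `i_*` is fully faithful -/

instance faithful_push : (CohTop.push (CohCx.inclCompl U)).Faithful where
  map_injective {G G'} ψ ψ' h := by
    apply Sheaf.hom_ext
    apply NatTrans.ext
    funext W
    obtain ⟨V, hV⟩ : ∃ V, (Opens.map (CohCx.inclCompl U)).obj V = W.unop :=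
      ⟨κ U W.unop, map_κ U W.unop⟩
    have hW : W = op ((Opens.map (CohCx.inclCompl U)).obj V) := by rw [hV]
    subst hW
    exact congrArg (fun f => f.hom.app (op V)) h

/-- components of a morphism between direct images, with the expected types -/
noncomputable def cmp {G G' : CohTop.Ab (Zt U)}
    (φ : (CohTop.push (CohCx.inclCompl U)).obj G ⟶ (CohTop.push (CohCx.inclCompl U)).obj G')
    (V : Opens X) :
    G.obj.obj (op ((Opens.map (CohCx.inclCompl U)).obj V)) ⟶
      G'.obj.obj (op ((Opens.map (CohCx.inclCompl U)).obj V)) := φ.hom.app (op V)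

lemma cmp_naturality {G G' : CohTop.Ab (Zt U)}
    (φ : (CohTop.push (CohCx.inclCompl U)).obj G ⟶ (CohTop.push (CohCx.inclCompl U)).obj G')
    {V V' : Opens X} (g : V' ⟶ V) :
    G.obj.map ((Opens.map (CohCx.inclCompl U)).map g).op ≫ cmp U φ V' =
      cmp U φ V ≫ G'.obj.map ((Opens.map (CohCx.inclCompl U)).map g).op :=
  φ.hom.naturality g.op

/-- the preimage of a morphism `i_* G ⟶ i_* G'` -/
noncomputable def preimg {G G' : CohTop.Ab (Zt U)}
    (φ : (CohTop.push (CohCx.inclCompl U)).obj G ⟶ (CohTop.push (CohCx.inclCompl U)).obj G') :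
    G ⟶ G' :=
  ⟨{ app := fun W =>
        G.obj.map (homOfLE (le_of_eq (map_κ U W.unop))).op ≫ cmp U φ (κ U W.unop) ≫
          G'.obj.map (homOfLE (le_of_eq (map_κ U W.unop).symm)).op
     naturality := by
       intro W W' f
       have g : κ U W'.unop ⟶ κ U W.unop := homOfLE (κ_mono U (leOfHom f.unop))
       have h2 := cmp_naturality U φ g
       have h1 : G.obj.map f ≫ G.obj.map (homOfLE (le_of_eq (map_κ U W'.unop))).op =
           G.obj.map (homOfLE (le_of_eq (map_κ U W.unop))).op ≫
             G.obj.map ((Opens.map (CohCx.inclCompl U)).map g).op := by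
         rw [← G.obj.map_comp, ← G.obj.map_comp]
         exact map_thin G.obj _ _
       have h3 : G'.obj.map ((Opens.map (CohCx.inclCompl U)).map g).op ≫
           G'.obj.map (homOfLE (le_of_eq (map_κ U W'.unop).symm)).op =
           G'.obj.map (homOfLE (le_of_eq (map_κ U W.unop).symm)).op ≫ G'.obj.map f := by
         rw [← G'.obj.map_comp, ← G'.obj.map_comp]
         exact map_thin G'.obj _ _
       change G.obj.map f ≫ (G.obj.map _ ≫ cmp U φ (κ U W'.unop) ≫ G'.obj.map _) =
         (G.obj.map _ ≫ cmp U φ (κ U W.unop) ≫ G'.obj.map _) ≫ G'.obj.map f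
       rw [← Category.assoc, h1, Category.assoc,
         ← Category.assoc (G.obj.map ((Opens.map (CohCx.inclCompl U)).map g).op), h2]
       simp only [Category.assoc]
       rw [h3] }⟩

lemma push_map_preimg {G G' : CohTop.Ab (Zt U)}
    (φ : (CohTop.push (CohCx.inclCompl U)).obj G ⟶ (CohTop.push (CohCx.inclCompl U)).obj G') :
    (CohTop.push (CohCx.inclCompl U)).map (preimg U φ) = φ := by
  apply Sheaf.hom_ext
  apply NatTrans.ext
  funext V
  have g : V.unop ⟶ κ U ((Opens.map (CohCx.inclCompl U)).obj V.unop) :=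
    homOfLE (le_κ_map U V.unop)
  have h2 := cmp_naturality U φ g
  have hb : G'.obj.map (homOfLE (le_of_eq
      (map_κ U ((Opens.map (CohCx.inclCompl U)).obj V.unop)).symm)).op =
      G'.obj.map ((Opens.map (CohCx.inclCompl U)).map g).op := map_thin G'.obj _ _
  have ha : G.obj.map (homOfLE (le_of_eq
      (map_κ U ((Opens.map (CohCx.inclCompl U)).obj V.unop)))).op ≫
      G.obj.map ((Opens.map (CohCx.inclCompl U)).map g).op = 𝟙 _ := by
    rw [← G.obj.map_comp, map_thin G.obj _ (𝟙 _), G.obj.map_id]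
  change G.obj.map (homOfLE (le_of_eq
      (map_κ U ((Opens.map (CohCx.inclCompl U)).obj V.unop)))).op ≫
    cmp U φ (κ U ((Opens.map (CohCx.inclCompl U)).obj V.unop)) ≫
      G'.obj.map (homOfLE (le_of_eq
        (map_κ U ((Opens.map (CohCx.inclCompl U)).obj V.unop)).symm)).op = cmp U φ V.unop
  rw [hb, ← h2, ← Category.assoc, ha, Category.id_comp]

instance full_push : (CohTop.push (CohCx.inclCompl U)).Full where
  map_surjective φ := ⟨preimg U φ, push_map_preimg U φ⟩

/-! ### sheaves vanishing on `U` are direct images -/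

/-- the presheaf `W ↦ H(i(W) ∪ U)` on `Z` -/
noncomputable def Kp (H : CohTop.Ab X) : (Opens (Zt U))ᵒᵖ ⥤ AddCommGrpCat.{u} :=
  (κF U).op ⋙ H.obj

theorem isSheaf_Kp (H : CohTop.Ab X)
    (hH : ∀ V : Opens X, V ≤ U → Subsingleton (H.obj.obj (op V))) :
    TopCat.Presheaf.IsSheaf (Kp U H) := by
  rw [TopCat.Presheaf.isSheaf_iff_isSheafUniqueGluing]
  intro ι W sf hc
  let Uf : Option ι → Opens X := fun o => match o with
    | none => U
    | some a => κ U (W a)
  let sf' : ∀ o : Option ι, H.obj.obj (op (Uf o)) := fun o => match o with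
    | none => 0
    | some a => sf a
  let iUV : ∀ o : Option ι, Uf o ⟶ κ U (iSup W) := fun o => match o with
    | none => homOfLE (le_κ U _)
    | some a => (κF U).map (Opens.leSupr W a)
  have hcover : κ U (iSup W) ≤ iSup Uf := by
    intro x hx
    rw [mem_κ] at hx
    rcases hx with ⟨h', hz⟩ | hx
    · obtain ⟨a, ha⟩ := Opens.mem_iSup.1 hz
      exact Opens.mem_iSup.2 ⟨some a, Or.inl ⟨h', ha⟩⟩
    · exact Opens.mem_iSup.2 ⟨none, hx⟩
  have hcomp : TopCat.Presheaf.IsCompatible H.obj Uf sf' := by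
    rintro (_ | a) (_ | b)
    · rfl
    · haveI := hH (Uf none ⊓ Uf (some b)) inf_le_left
      exact Subsingleton.elim _ _
    · haveI := hH (Uf (some a) ⊓ Uf none) inf_le_right
      exact Subsingleton.elim _ _
    · have h1 := hc a b
      change (H.obj.map ((κF U).map (Opens.infLELeft (W a) (W b))).op).hom (sf a) =
        (H.obj.map ((κF U).map (Opens.infLERight (W a) (W b))).op).hom (sf b) at h1
      have e1 : H.obj.map (Opens.infLELeft (κ U (W a)) (κ U (W b))).op =
          H.obj.map ((κF U).map (Opens.infLELeft (W a) (W b))).op ≫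
            H.obj.map (homOfLE (κ_inf_le U (W a) (W b))).op :=
        (map_comp_thin H.obj _ _ _).symm
      have e2 : H.obj.map (Opens.infLERight (κ U (W a)) (κ U (W b))).op =
          H.obj.map ((κF U).map (Opens.infLERight (W a) (W b))).op ≫
            H.obj.map (homOfLE (κ_inf_le U (W a) (W b))).op :=
        (map_comp_thin H.obj _ _ _).symm
      change (H.obj.map (Opens.infLELeft (κ U (W a)) (κ U (W b))).op).hom (sf a) =
        (H.obj.map (Opens.infLERight (κ U (W a)) (κ U (W b))).op).hom (sf b)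
      rw [e1, e2]
      exact congrArg (H.obj.map (homOfLE (κ_inf_le U (W a) (W b))).op).hom h1
  obtain ⟨s, hs, hsu⟩ := TopCat.Sheaf.existsUnique_gluing' H Uf (κ U (iSup W)) iUV hcover sf' hcomp
  refine ⟨s, fun a => hs (some a), ?_⟩
  intro s' hs'
  apply hsu
  rintro (_ | a)
  · haveI := hH U le_rfl
    exact Subsingleton.elim _ _
  · exact hs' a

/-- the sheaf `W ↦ H(i(W) ∪ U)` on `Z` -/
noncomputable def K (H : CohTop.Ab X)
    (hH : ∀ V : Opens X, V ≤ U → Subsingleton (H.obj.obj (op V))) : CohTop.Ab (Zt U) :=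
  ⟨Kp U H, isSheaf_Kp U H hH⟩

/-- `i_* K(H) ⟶ H` -/
noncomputable def τ (H : CohTop.Ab X)
    (hH : ∀ V : Opens X, V ≤ U → Subsingleton (H.obj.obj (op V))) :
    (CohTop.push (CohCx.inclCompl U)).obj (K U H hH) ⟶ H :=
  ⟨{ app := fun V => H.obj.map (homOfLE (le_κ_map U V.unop)).op
     naturality := by
       intro V V' f
       change H.obj.map ((κF U).map ((Opens.map (CohCx.inclCompl U)).map f.unop)).op ≫
         H.obj.map (homOfLE (le_κ_map U V'.unop)).op =
         H.obj.map (homOfLE (le_κ_map U V.unop)).op ≫ H.obj.map f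
       rw [← H.obj.map_comp, ← H.obj.map_comp]
       exact map_thin H.obj _ _ }⟩

lemma τ_app_bijective (H : CohTop.Ab X)
    (hH : ∀ V : Opens X, V ≤ U → Subsingleton (H.obj.obj (op V))) (V : Opens X) :
    Function.Bijective ((τ U H hH).hom.app (op V)).hom := by
  constructor
  · rw [injective_iff_map_eq_zero]
    intro s hs
    change (H.obj.map (homOfLE (le_κ_map U V)).op).hom s = 0 at hs
    refine TopCat.Sheaf.eq_of_locally_eq₂ H (homOfLE (le_κ_map U V)) (homOfLE (le_κ U _))
      (κ_map_le U V) s 0 ?_ ?_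
    · rw [map_zero]
      exact hs
    · haveI := hH U le_rfl
      exact Subsingleton.elim _ _
  · intro t
    have h0 : (H.obj.map (homOfLE (inf_le_left : V ⊓ U ≤ V)).op).hom t =
        (H.obj.map (homOfLE (inf_le_right : V ⊓ U ≤ U)).op).hom 0 := by
      haveI := hH (V ⊓ U) inf_le_right
      exact Subsingleton.elim _ _
    obtain ⟨s, hs1, -⟩ := exists_glue₂ H V U t 0 h0
    refine ⟨(H.obj.map (homOfLE (κ_map_le U V)).op).hom s, ?_⟩
    change (H.obj.map (homOfLE (le_κ_map U V)).op).hom
      ((H.obj.map (homOfLE (κ_map_le U V)).op).hom s) = t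
    rw [← ConcreteCategory.comp_apply,
      map_comp_thin H.obj _ _ (homOfLE (le_sup_left : V ≤ V ⊔ U)).op]
    exact hs1

instance isIso_τ (H : CohTop.Ab X)
    (hH : ∀ V : Opens X, V ≤ U → Subsingleton (H.obj.obj (op V))) : IsIso (τ U H hH) := by
  haveI : IsIso ((sheafToPresheaf _ _).map (τ U H hH)) := by
    haveI : ∀ V, IsIso (((sheafToPresheaf _ _).map (τ U H hH)).app V) := by
      intro V
      rw [ConcreteCategory.isIso_iff_bijective]
      exact τ_app_bijective U H hH V.unop
    exact NatIso.isIso_of_isIso_app _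
  exact isIso_of_reflects_iso _ (sheafToPresheaf _ _)

/-! ### the adjunction -/

/-- sections of `Γ_Z F` over opens inside `U` vanish -/
lemma subsingleton_sectSupp (F : CohTop.Ab X) (V : Opens X) (hV : V ≤ U) :
    Subsingleton (((LocCohZ.sectSuppF U).obj F).obj.obj (op V)) := by
  refine subsingleton_of_forall_eq 0 fun t => ?_
  apply ι_app_injective U F V
  rw [map_zero]
  have h := res_ι_apply U F V t
  have e : (F.obj.map (homOfLE (inf_le_left : V ⊓ U ≤ V)).op ≫
      F.obj.map (homOfLE (le_inf le_rfl hV : V ≤ V ⊓ U)).op) = 𝟙 _ := by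
    rw [map_comp_thin F.obj _ _ (𝟙 _), F.obj.map_id]
  have h2 := ConcreteCategory.congr_hom e (((ι U F).hom.app (op V)).hom t)
  rw [ConcreteCategory.comp_apply, h, map_zero] at h2
  exact h2.symm

/-- any morphism out of a direct image from `Z` is killed by restriction to `U` -/
lemma comp_η_eq_zero (G : CohTop.Ab (Zt U)) (F : CohTop.Ab X)
    (φ : (CohTop.push (CohCx.inclCompl U)).obj G ⟶ F) : φ ≫ η U F = 0 := by
  apply Sheaf.hom_ext
  apply NatTrans.ext
  funext V
  apply AddCommGrpCat.hom_ext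
  apply AddMonoidHom.ext
  intro s
  rcases V with ⟨V⟩
  have key : ((η U F).hom.app (op V)).hom ((φ.hom.app (op V)).hom s) = 0 := by
    rw [η_apply_eq_zero_iff]
    have h1 := app_res φ (inf_le_left : V ⊓ U ≤ V) s
    haveI : Subsingleton (((CohTop.push (CohCx.inclCompl U)).obj G).obj.obj (op (V ⊓ U))) :=
      Groth.Agent.Lib.Helper22.CohTop.subsingleton_sections_of_isEmpty G _
        (map_inf_eq_bot U (V ⊓ U) inf_le_right)
    rw [Subsingleton.elim (res _ (inf_le_left : V ⊓ U ≤ V) s) 0, map_zero] at h1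
    exact h1.symm
  exact key

/-- the adjunction `i⁻¹ ⊣ i_*` -/
noncomputable abbrev adj' :
    CohTop.pull (CohCx.inclCompl U) ⊣ CohTop.push (CohCx.inclCompl U) :=
  TopCat.Sheaf.pullbackPushforwardAdjunction AddCommGrpCat.{u} (CohCx.inclCompl U)

instance isIso_unit_sectSupp (F : CohTop.Ab X) :
    IsIso ((adj' U).unit.app ((LocCohZ.sectSuppF U).obj F)) :=
  Adjunction.isIso_unit_app_of_iso (adj' U)
    (asIso (τ U ((LocCohZ.sectSuppF U).obj F) (subsingleton_sectSupp U F))).symm

/-- the hom-set bijection -/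
noncomputable def homEq (G : CohTop.Ab (Zt U)) (F : CohTop.Ab X) :
    ((CohTop.push (CohCx.inclCompl U)).obj G ⟶ F) ≃
      (G ⟶ (CohTop.pull (CohCx.inclCompl U)).obj ((LocCohZ.sectSuppF U).obj F)) where
  toFun φ := (CohTop.push (CohCx.inclCompl U)).preimage
    (lift U φ (comp_η_eq_zero U G F φ) ≫ (adj' U).unit.app ((LocCohZ.sectSuppF U).obj F))
  invFun ψ := (CohTop.push (CohCx.inclCompl U)).map ψ ≫
    inv ((adj' U).unit.app ((LocCohZ.sectSuppF U).obj F)) ≫ ι U F
  left_inv φ := by
    simp only [Functor.map_preimage, Category.assoc, IsIso.hom_inv_id_assoc, lift_ι]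
  right_inv ψ := by
    apply (CohTop.push (CohCx.inclCompl U)).map_injective
    dsimp only
    rw [Functor.map_preimage]
    have : lift U ((CohTop.push (CohCx.inclCompl U)).map ψ ≫
        inv ((adj' U).unit.app ((LocCohZ.sectSuppF U).obj F)) ≫ ι U F)
        (comp_η_eq_zero U G F _) = (CohTop.push (CohCx.inclCompl U)).map ψ ≫
        inv ((adj' U).unit.app ((LocCohZ.sectSuppF U).obj F)) := by
      rw [← cancel_mono (ι U F), lift_ι, Category.assoc]
    rw [this, Category.assoc, IsIso.inv_hom_id, Category.comp_id]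

/-- **`i_* ⊣ i⁻¹ Γ_Z`** -/
noncomputable def adj : CohTop.push (CohCx.inclCompl U) ⊣
    LocCohZ.sectSuppF U ⋙ CohTop.pull (CohCx.inclCompl U) :=
  Adjunction.mkOfHomEquiv
    { homEquiv := fun G F => homEq U G F
      homEquiv_naturality_left_symm := by
        intro G' G F g ψ
        change (CohTop.push (CohCx.inclCompl U)).map (g ≫ ψ) ≫ _ =
          (CohTop.push (CohCx.inclCompl U)).map g ≫ (CohTop.push (CohCx.inclCompl U)).map ψ ≫ _
        rw [Functor.map_comp, Category.assoc]
      homEquiv_naturality_right := by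
        intro G F F' φ f
        apply (CohTop.push (CohCx.inclCompl U)).map_injective
        change (CohTop.push (CohCx.inclCompl U)).map ((CohTop.push (CohCx.inclCompl U)).preimage _) =
          (CohTop.push (CohCx.inclCompl U)).map ((CohTop.push (CohCx.inclCompl U)).preimage _ ≫
            (CohTop.pull (CohCx.inclCompl U)).map ((LocCohZ.sectSuppF U).map f))
        rw [Functor.map_comp, Functor.map_preimage, Functor.map_preimage]
        have h1 : lift U (φ ≫ f) (comp_η_eq_zero U G F' (φ ≫ f)) =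
            lift U φ (comp_η_eq_zero U G F φ) ≫ (LocCohZ.sectSuppF U).map f := by
          rw [← cancel_mono (ι U F'), lift_ι, Category.assoc, sectSuppF_map_ι, lift_ι_assoc]
        have h2 := (adj' U).unit.naturality ((LocCohZ.sectSuppF U).map f)
        rw [h1, Category.assoc, Category.assoc]
        congr 1 }

instance preservesMono_push : (CohTop.push (CohCx.inclCompl U)).PreservesMonomorphisms :=
  ⟨fun f _ => inferInstance⟩

/-- `i⁻¹ Γ_Z(I)` is injective for injective `I` -/
theorem injective_HZ (I : CohTop.Ab X) [Injective I] :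
    Injective ((CohTop.pull (CohCx.inclCompl U)).obj ((LocCohZ.sectSuppF U).obj I)) :=
  Injective.injective_of_adjoint (adj U) I

/-- `Γ_Z(I)` is injective for injective `I` -/
theorem injective_sectSupp (I : CohTop.Ab X) [Injective I] :
    Injective ((LocCohZ.sectSuppF U).obj I) := by
  haveI := injective_HZ U I
  have h2 : Injective ((CohTop.push (CohCx.inclCompl U)).obj
      ((CohTop.pull (CohCx.inclCompl U)).obj ((LocCohZ.sectSuppF U).obj I))) :=
    Groth.Agent.Lib.Helper22.CohTop.injective_push (CohCx.inclCompl U) _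
  exact Injective.of_iso (asIso ((adj' U).unit.app ((LocCohZ.sectSuppF U).obj I))).symm h2

end Groth.Agent.Lib.Helper5.ClosedAdj
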