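import Groth.Agent.Lib.Helper5.ClosedRes

/-!
# The Čech-type resolution attached to a locally finite closed cover

For a locally finite cover `U` of `X` by closed subsets and an abelian sheaf `F`, the complex
`KC` with terms `∏_σ i_{σ,*} i_σ⁻¹ F` (`σ` running over the `(p+1)`-tuples of indices) is a
resolution of `F`.
-/

set_option autoImplicit false

universe u

open CategoryTheory CategoryTheory.Limits TopologicalSpace Opposite

noncomputable section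

namespace Groth.Agent.Lib.Helper5.ClosedCx

open Groth.Agent.Lib.Helper5.PullStalk Groth.Agent.Lib.Helper5.SubspaceSect
  Groth.Agent.Lib.Helper5.LFProd Groth.Agent.Lib.Helper5.ClosedRes

variable {X : TopCat.{u}} {I : Type u} (U : I → Set X) (F : CohTop.Ab X)

/-- the intersection of the members of the cover indexed by a tuple -/
abbrev Zσ {n : ℕ} (σ : Fin n → I) : Set X := ⋂ k, U (σ k)

lemma isClosed_Zσ (hU : ∀ i, IsClosed (U i)) {n : ℕ} (σ : Fin n → I) : IsClosed (Zσ U σ) :=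
  isClosed_iInter fun _ => hU _

lemma Zσ_anti {m n : ℕ} (τ : Fin n → I) (θ : Fin m → Fin n) : Zσ U τ ⊆ Zσ U (τ ∘ θ) :=
  fun _ hx => Set.mem_iInter.2 fun k => Set.mem_iInter.1 hx (θ k)

/-- the sheaves `i_{σ,*} i_σ⁻¹ F` -/
abbrev Aσ (n : ℕ) (σ : Fin n → I) : CohTop.Ab X := AZ F (Zσ U σ)

/-- the product over all `n`-tuples -/
abbrev K (n : ℕ) : CohTop.Ab X := ∏ᶜ (Aσ U F n)

variable (hU : ∀ i, IsClosed (U i))

/-- the map induced by a map of index sets -/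
def Kmap {m n : ℕ} (θ : Fin m → Fin n) : K U F m ⟶ K U F n :=
  Limits.Pi.lift fun τ => Limits.Pi.π (Aσ U F m) (τ ∘ θ) ≫
    resZ F (Zσ_anti U τ θ) (isClosed_Zσ U hU (τ ∘ θ))

lemma Kmap_π {m n : ℕ} (θ : Fin m → Fin n) (τ : Fin n → I) :
    Kmap U F hU θ ≫ Limits.Pi.π (Aσ U F n) τ =
      Limits.Pi.π (Aσ U F m) (τ ∘ θ) ≫ resZ F (Zσ_anti U τ θ) (isClosed_Zσ U hU (τ ∘ θ)) :=
  Limits.Pi.lift_π _ _

lemma Kmap_id (n : ℕ) : Kmap U F hU (id : Fin n → Fin n) = 𝟙 _ := by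
  apply Limits.Pi.hom_ext
  intro τ
  rw [Kmap_π, Category.id_comp]
  show Limits.Pi.π (Aσ U F n) τ ≫ resZ F (subset_refl _) (isClosed_Zσ U hU τ) = _
  rw [resZ_refl, Category.comp_id]

lemma Kmap_comp {m n k : ℕ} (θ : Fin m → Fin n) (θ' : Fin n → Fin k) :
    Kmap U F hU θ ≫ Kmap U F hU θ' = Kmap U F hU (θ' ∘ θ) := by
  apply Limits.Pi.hom_ext
  intro υ
  rw [Category.assoc, Kmap_π, ← Category.assoc, Kmap_π, Category.assoc, resZ_trans, Kmap_π]
  rfl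

/-- the cosimplicial sheaf -/
def Kcos : CosimplicialObject (CohTop.Ab X) where
  obj n := K U F (n.len + 1)
  map θ := Kmap U F hU (⇑θ.toOrderHom)
  map_id n := Kmap_id U F hU (n.len + 1)
  map_comp f g := (Kmap_comp U F hU (⇑f.toOrderHom) (⇑g.toOrderHom)).symm

/-- the differential -/
def dK (p : ℕ) : K U F (p + 1) ⟶ K U F (p + 1 + 1) :=
  ∑ k : Fin (p + 2), (-1 : ℤ) ^ (k : ℕ) • Kmap U F hU (Fin.succAbove k)

lemma dK_comp (p : ℕ) : dK U F hU p ≫ dK U F hU (p + 1) = 0 :=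
  AlgebraicTopology.AlternatingCofaceMapComplex.d_squared (Kcos U F hU) p

/-- the complex -/
def KC : CochainComplex (CohTop.Ab X) ℕ :=
  CochainComplex.of (fun p => K U F (p + 1)) (dK U F hU) (dK_comp U F hU)

lemma KC_d (p : ℕ) : (KC U F hU).d p (p + 1) = dK U F hU p := by
  unfold KC
  exact CochainComplex.of_d (fun p => K U F (p + 1)) (dK U F hU) p

lemma ap_dK (p : ℕ) (V : Opens X) (s : (K U F (p + 1)).obj.obj (op V)) :
    ap (dK U F hU p) V s =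
      ∑ k : Fin (p + 2), (-1 : ℤ) ^ (k : ℕ) • ap (Kmap U F hU (Fin.succAbove k)) V s := by
  unfold dK
  rw [ap_sum]
  refine Finset.sum_congr rfl fun k _ => ?_
  rw [ap_zsmul]

lemma locIm_congr {A B : CohTop.Ab X} {f f' : A ⟶ B} (h : f = f') {V : Opens X}
    {t : B.obj.obj (op V)} (ht : LocIm f t) : LocIm f' t := h ▸ ht

/-! ### Evaluation at points -/

/-- evaluation of the `σ`-component at a point of `Zσ σ` -/
def evK {n : ℕ} (σ : Fin n → I) (x : X) (hx : x ∈ Zσ U σ) (V : Opens X) (hxV : x ∈ V) :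
    (K U F n).obj.obj (op V) →+ CohTop.stalk F x :=
  (ev F (Zσ U σ) x hx V hxV).comp (secπ (Aσ U F n) V σ)

lemma evK_apply {n : ℕ} (σ : Fin n → I) (x : X) (hx : x ∈ Zσ U σ) (V : Opens X) (hxV : x ∈ V)
    (s : (K U F n).obj.obj (op V)) :
    evK U F σ x hx V hxV s = ev F (Zσ U σ) x hx V hxV (secπ (Aσ U F n) V σ s) := rfl

lemma evK_congr {n : ℕ} {σ σ' : Fin n → I} (e : σ = σ') (x : X) (hx : x ∈ Zσ U σ)
    (hx' : x ∈ Zσ U σ') (V : Opens X) (hxV : x ∈ V) (s : (K U F n).obj.obj (op V)) :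
    evK U F σ x hx V hxV s = evK U F σ' x hx' V hxV s := by
  subst e
  rfl

lemma evK_rs {n : ℕ} (σ : Fin n → I) (x : X) (hx : x ∈ Zσ U σ) {V' V : Opens X} (h : V' ≤ V)
    (hxV' : x ∈ V') (s : (K U F n).obj.obj (op V)) :
    evK U F σ x hx V' hxV' (rs (K U F n) h s) = evK U F σ x hx V (h hxV') s := by
  rw [evK_apply, evK_apply, secπ_rs, ev_rs]

lemma evK_Kmap {m n : ℕ} (θ : Fin m → Fin n) (τ : Fin n → I) (x : X) (hx : x ∈ Zσ U τ)
    (V : Opens X) (hxV : x ∈ V) (s : (K U F m).obj.obj (op V)) :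
    evK U F τ x hx V hxV (ap (Kmap U F hU θ) V s) =
      evK U F (τ ∘ θ) x (Zσ_anti U τ θ hx) V hxV s := by
  rw [evK_apply, evK_apply]
  unfold Kmap
  rw [secπ_lift, ap_comp, ev_resZ]

lemma evK_dK (p : ℕ) (σ : Fin (p + 2) → I) (x : X) (hx : x ∈ Zσ U σ) (V : Opens X)
    (hxV : x ∈ V) (s : (K U F (p + 1)).obj.obj (op V)) :
    evK U F σ x hx V hxV (ap (dK U F hU p) V s) =
      ∑ k : Fin (p + 2), (-1 : ℤ) ^ (k : ℕ) •
        evK U F (σ ∘ Fin.succAbove k) x (Zσ_anti U σ _ hx) V hxV s := by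
  rw [ap_dK, map_sum]
  refine Finset.sum_congr rfl fun k _ => ?_
  rw [map_zsmul, evK_Kmap]

/-! ### Local structure -/

include hU in
lemma exists_nhd (hlf : LocallyFinite U) (x : X) :
    ∃ W : Opens X, x ∈ W ∧ {i | x ∈ U i}.Finite ∧ ∀ i, (U i ∩ (W : Set X)).Nonempty → x ∈ U i := by
  obtain ⟨t, ht, hfin⟩ := hlf x
  obtain ⟨W₀, hW₀t, hW₀o, hxW₀⟩ := mem_nhds_iff.1 ht
  have hbad : {i | (U i ∩ t).Nonempty ∧ x ∉ U i}.Finite := hfin.subset fun i hi => hi.1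
  refine ⟨(⟨W₀, hW₀o⟩ : Opens X) ⊓ finInter _ hbad (fun i => ⟨(U i)ᶜ, (hU i).isOpen_compl⟩),
    ⟨hxW₀, mem_finInter.2 fun i hi => hi.2⟩, hfin.subset fun i hi => ⟨x, hi, mem_of_mem_nhds ht⟩,
    ?_⟩
  rintro i ⟨y, hyU, hyW₀, hyB⟩
  by_contra hxi
  exact mem_finInter.1 hyB i ⟨⟨y, hyU, hW₀t hyW₀⟩, hxi⟩ hyU

include hU in
/-- sections with the same values at `x` agree near `x` -/
theorem exists_rs_eq_K (hlf : LocallyFinite U) {n : ℕ} {V : Opens X}
    (s s' : (K U F n).obj.obj (op V)) (x : X) (hxV : x ∈ V)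
    (h : ∀ (σ : Fin n → I) (hx : x ∈ Zσ U σ), evK U F σ x hx V hxV s = evK U F σ x hx V hxV s') :
    ∃ (V' : Opens X) (hV' : V' ≤ V), x ∈ V' ∧ rs (K U F n) hV' s = rs (K U F n) hV' s' := by
  classical
  obtain ⟨W, hxW, hfin, hW⟩ := exists_nhd U hU hlf x
  have hfinS : {σ : Fin n → I | ∀ k, σ k ∈ {i | x ∈ U i}}.Finite := Set.Finite.pi' fun _ => hfin
  have key : ∀ σ : Fin n → I, ∃ Vσ : Opens X, x ∈ Vσ ∧ ∃ hle : Vσ ≤ V,
      ((∀ k, σ k ∈ {i | x ∈ U i}) → rs (Aσ U F n σ) hle (secπ (Aσ U F n) V σ s) =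
        rs (Aσ U F n σ) hle (secπ (Aσ U F n) V σ s')) := by
    intro σ
    by_cases hσ : ∀ k, σ k ∈ {i | x ∈ U i}
    · have hx : x ∈ Zσ U σ := Set.mem_iInter.2 hσ
      obtain ⟨V', hV', hxV', e⟩ := exists_rs_eq F (Zσ U σ) x hx V hxV _ _ (h σ hx)
      exact ⟨V', hxV', hV', fun _ => e⟩
    · exact ⟨V, hxV, le_rfl, fun h' => absurd h' hσ⟩
  choose Vσ hxVσ hle he using key
  refine ⟨W ⊓ V ⊓ finInter _ hfinS Vσ, inf_le_left.trans inf_le_right,
    ⟨⟨hxW, hxV⟩, mem_finInter.2 fun σ _ => hxVσ σ⟩, ?_⟩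
  apply sec_ext
  intro σ
  rw [secπ_rs, secπ_rs]
  by_cases hσ : ∀ k, σ k ∈ {i | x ∈ U i}
  · have h1 := congrArg (rs (Aσ U F n σ)
      (inf_le_right.trans (finInter_le hσ) : W ⊓ V ⊓ finInter _ hfinS Vσ ≤ Vσ σ)) (he σ hσ)
    rw [rs_rs, rs_rs] at h1
    exact h1
  · have hdis : Disjoint (W : Set X) (Zσ U σ) := by
      rw [Set.disjoint_left]
      intro y hyW hyZ
      apply hσ
      intro k
      exact hW (σ k) ⟨y, Set.mem_iInter.1 hyZ k, hyW⟩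
    haveI := trivOn_push (Zσ U σ) (Gs (Zσ U σ) F) W hdis (W ⊓ V ⊓ finInter _ hfinS Vσ)
      (inf_le_left.trans inf_le_left)
    exact Subsingleton.elim _ _

include hU in
/-- sections with prescribed values at `x` exist near `x` -/
theorem exists_sec_K (hlf : LocallyFinite U) {n : ℕ} (x : X)
    (a : (Fin n → I) → CohTop.stalk F x) :
    ∃ (V' : Opens X) (hxV' : x ∈ V') (t : (K U F n).obj.obj (op V')),
      ∀ (σ : Fin n → I) (hx : x ∈ Zσ U σ), evK U F σ x hx V' hxV' t = a σ := by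
  classical
  obtain ⟨W, hxW, hfin, hW⟩ := exists_nhd U hU hlf x
  have hfinS : {σ : Fin n → I | ∀ k, σ k ∈ {i | x ∈ U i}}.Finite := Set.Finite.pi' fun _ => hfin
  have key : ∀ σ : Fin n → I, ∃ (N : Opens X) (hN : x ∈ N) (t : F.obj.obj (op N)),
      gm F N x hN t = a σ := fun σ =>
    TopCat.Presheaf.exists_germ_eq (C := AddCommGrpCat.{u}) F.obj (a σ)
  choose N hN tσ htσ using key
  have hxV' : x ∈ finInter _ hfinS N := mem_finInter.2 fun σ _ => hN σ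
  obtain ⟨t, ht⟩ := exists_sec (Aσ U F n) (V := finInter _ hfinS N) (fun σ =>
    if hσ : ∀ k, σ k ∈ {i | x ∈ U i} then
      ap (ηZ F (Zσ U σ)) (finInter _ hfinS N) (rs F
        (finInter_le (S := {σ : Fin n → I | ∀ k, σ k ∈ {i | x ∈ U i}}) (σ := σ) hσ) (tσ σ)) else 0)
  refine ⟨finInter _ hfinS N, hxV', t, fun σ hx => ?_⟩
  have hσ : ∀ k, σ k ∈ {i | x ∈ U i} := Set.mem_iInter.1 hx
  rw [evK_apply, ht, dif_pos hσ, ev_η, gm_rs, htσ]

/-! ### The key identity -/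

lemma cons_comp_succAbove_zero {n : ℕ} (i₀ : I) (σ : Fin n → I) :
    (Fin.cons i₀ σ : Fin (n + 1) → I) ∘ Fin.succAbove 0 = σ := by
  funext j
  simp [Fin.succAbove_zero]

lemma cons_comp_succAbove_succ {n : ℕ} (i₀ : I) (σ : Fin (n + 1) → I) (k : Fin (n + 1)) :
    (Fin.cons i₀ σ : Fin (n + 2) → I) ∘ Fin.succAbove k.succ =
      Fin.cons i₀ (σ ∘ Fin.succAbove k) := by
  funext j
  refine Fin.cases ?_ (fun j => ?_) j
  · simp
  · simp

lemma mem_Zσ_cons {n : ℕ} {i₀ : I} {σ : Fin n → I} {x : X} (h0 : x ∈ U i₀)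
    (h : x ∈ Zσ U σ) : x ∈ Zσ U (Fin.cons i₀ σ : Fin (n + 1) → I) := by
  refine Set.mem_iInter.2 fun k => ?_
  refine Fin.cases ?_ (fun j => ?_) k
  · simpa using h0
  · simpa using Set.mem_iInter.1 h j

/-- the values of a cocycle at `x` are determined by the components involving `i₀` -/
theorem evK_cocycle (n : ℕ) (i₀ : I) (x : X) (h0 : x ∈ U i₀) (V : Opens X) (hxV : x ∈ V)
    (s : (K U F (n + 1)).obj.obj (op V)) (hs : ap (dK U F hU n) V s = 0)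
    (σ : Fin (n + 1) → I) (hx : x ∈ Zσ U σ) :
    evK U F σ x hx V hxV s = ∑ k : Fin (n + 1), (-1 : ℤ) ^ (k : ℕ) •
      evK U F (Fin.cons i₀ (σ ∘ Fin.succAbove k) : Fin (n + 1) → I) x
        (mem_Zσ_cons U h0 (Zσ_anti U σ _ hx)) V hxV s := by
  have h1 := evK_dK U F hU n (Fin.cons i₀ σ : Fin (n + 2) → I) x (mem_Zσ_cons U h0 hx) V hxV s
  rw [hs, map_zero, Fin.sum_univ_succ] at h1
  have e0 : evK U F ((Fin.cons i₀ σ : Fin (n + 2) → I) ∘ Fin.succAbove 0) x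
      (Zσ_anti U _ _ (mem_Zσ_cons U h0 hx)) V hxV s = evK U F σ x hx V hxV s :=
    evK_congr U F (cons_comp_succAbove_zero i₀ σ) x _ _ V hxV s
  have e1 : ∀ k : Fin (n + 1), evK U F ((Fin.cons i₀ σ : Fin (n + 2) → I) ∘ Fin.succAbove k.succ) x
      (Zσ_anti U _ _ (mem_Zσ_cons U h0 hx)) V hxV s =
      evK U F (Fin.cons i₀ (σ ∘ Fin.succAbove k) : Fin (n + 1) → I) x
        (mem_Zσ_cons U h0 (Zσ_anti U σ _ hx)) V hxV s := fun k =>
    evK_congr U F (cons_comp_succAbove_succ i₀ σ k) x _ _ V hxV s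
  rw [e0] at h1
  simp only [e1, Fin.val_zero, pow_zero, one_smul, Fin.val_succ, pow_succ, mul_neg, mul_one,
    neg_smul, Finset.sum_neg_distrib] at h1
  exact (sub_eq_zero.1 (by rw [sub_eq_add_neg]; exact h1.symm))

/-! ### Exactness -/

include hU in
theorem locIm_dK (hlf : LocallyFinite U) (hcov : ⋃ i, U i = Set.univ) (p : ℕ) {V : Opens X}
    (s : (K U F (p + 1 + 1)).obj.obj (op V))
    (hs : ap (dK U F hU (p + 1)) V s = 0) :
    LocIm (dK U F hU p) s := by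
  classical
  intro x hxV
  obtain ⟨i₀, h0⟩ : ∃ i, x ∈ U i := Set.mem_iUnion.1 (hcov ▸ Set.mem_univ x)
  obtain ⟨V₁, hxV₁, t, ht⟩ := exists_sec_K U F hU hlf (n := p + 1) x (fun τ =>
    if h : x ∈ Zσ U τ then
      evK U F (Fin.cons i₀ τ : Fin (p + 1 + 1) → I) x (mem_Zσ_cons U h0 h) V hxV s else 0)
  obtain ⟨V', hV', hxV', e⟩ := exists_rs_eq_K U F hU hlf (n := p + 1 + 1)
    (ap (dK U F hU p) (V₁ ⊓ V) (rs (K U F (p + 1)) inf_le_left t))
    (rs (K U F (p + 1 + 1)) inf_le_right s) x ⟨hxV₁, hxV⟩ (fun σ hσ => by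
      rw [evK_dK, evK_rs, evK_cocycle U F hU (p + 1) i₀ x h0 V hxV s hs σ hσ]
      refine Finset.sum_congr rfl fun k _ => ?_
      rw [evK_rs, ht, dif_pos (Zσ_anti U σ _ hσ)])
  refine ⟨V', hV'.trans inf_le_right, hxV', rs (K U F (p + 1)) (hV'.trans inf_le_left) t, ?_⟩
  have h2 := e
  rw [← ap_rs, rs_rs, rs_rs] at h2
  exact h2

include hU in
theorem isZero_homology_succ (hlf : LocallyFinite U) (hcov : ⋃ i, U i = Set.univ) (p : ℕ) :
    IsZero ((KC U F hU).homology (p + 1)) := by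
  rw [← HomologicalComplex.exactAt_iff_isZero_homology,
    HomologicalComplex.exactAt_iff' _ p (p + 1) (p + 1 + 1) (by simp) (by simp)]
  apply exact_of_locIm
  intro V s hs
  have hs' : ap (dK U F hU (p + 1)) V s = 0 :=
    (congrArg (fun f : K U F (p + 1 + 1) ⟶ K U F (p + 1 + 1 + 1) => ap f V s)
      (KC_d U F hU (p + 1))).symm.trans hs
  exact locIm_congr (KC_d U F hU p).symm (locIm_dK U F hU hlf hcov p s hs')

/-! ### The augmentation -/

/-- the augmentation maps -/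
def εn (n : ℕ) : F ⟶ K U F n := Limits.Pi.lift fun σ => ηZ F (Zσ U σ)

lemma εn_Kmap {m n : ℕ} (θ : Fin m → Fin n) : εn U F m ≫ Kmap U F hU θ = εn U F n := by
  apply Limits.Pi.hom_ext
  intro τ
  rw [Category.assoc, Kmap_π]
  unfold εn
  rw [Limits.Pi.lift_π_assoc, Limits.Pi.lift_π, η_resZ]

lemma evK_ε {n : ℕ} (σ : Fin n → I) (x : X) (hx : x ∈ Zσ U σ) (V : Opens X) (hxV : x ∈ V)
    (t : F.obj.obj (op V)) : evK U F σ x hx V hxV (ap (εn U F n) V t) = gm F V x hxV t := by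
  rw [evK_apply]
  unfold εn
  rw [secπ_lift, ev_η]

lemma ε_dK : εn U F (0 + 1) ≫ dK U F hU 0 = 0 := by
  unfold dK
  rw [Preadditive.comp_sum]
  have h : ∀ k : Fin (0 + 2),
      εn U F (0 + 1) ≫ ((-1 : ℤ) ^ (k : ℕ) • Kmap U F hU (Fin.succAbove k)) =
      (-1 : ℤ) ^ (k : ℕ) • εn U F (0 + 1 + 1) := fun k => by
    rw [Preadditive.comp_zsmul]
    congr 1
    exact εn_Kmap U F hU _
  rw [Finset.sum_congr rfl fun k _ => h k, Fin.sum_univ_two]
  simp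

/-- the augmentation `F ⟶ KC^0` -/
def ε : F ⟶ (KC U F hU).X 0 := εn U F (0 + 1)

lemma ε_d : ε U F hU ≫ (KC U F hU).d 0 (0 + 1) = 0 := by
  rw [KC_d]
  exact ε_dK U F hU

include hU in
lemma mono_ε (hcov : ⋃ i, U i = Set.univ) : Mono (εn U F (0 + 1)) := by
  apply mono_of_injective
  intro V
  rw [injective_iff_map_eq_zero]
  intro t ht
  refine TopCat.Presheaf.section_ext F V _ _ ?_
  intro x hxV
  obtain ⟨i₀, h0⟩ : ∃ i, x ∈ U i := Set.mem_iUnion.1 (hcov ▸ Set.mem_univ x)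
  have hx : x ∈ Zσ U (fun _ : Fin (0 + 1) => i₀) := Set.mem_iInter.2 fun _ => h0
  have h1 := evK_ε U F (fun _ : Fin (0 + 1) => i₀) x hx V hxV t
  rw [ht, map_zero] at h1
  exact h1.symm.trans (map_zero _).symm

include hU in
theorem locIm_ε (hlf : LocallyFinite U) (hcov : ⋃ i, U i = Set.univ) {V : Opens X}
    (s : (K U F (0 + 1)).obj.obj (op V)) (hs : ap (dK U F hU 0) V s = 0) :
    LocIm (εn U F (0 + 1)) s := by
  intro x hxV
  obtain ⟨i₀, h0⟩ : ∃ i, x ∈ U i := Set.mem_iUnion.1 (hcov ▸ Set.mem_univ x)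
  have hx0 : x ∈ Zσ U (Fin.cons i₀ (fun k : Fin 0 => k.elim0) : Fin (0 + 1) → I) :=
    mem_Zσ_cons U h0 (Set.mem_iInter.2 fun k => k.elim0)
  obtain ⟨N, hN, t, ht⟩ := TopCat.Presheaf.exists_germ_eq (C := AddCommGrpCat.{u}) F.obj
    (evK U F (Fin.cons i₀ (fun k : Fin 0 => k.elim0) : Fin (0 + 1) → I) x hx0 V hxV s)
  obtain ⟨V', hV', hxV', e⟩ := exists_rs_eq_K U F hU hlf (n := 0 + 1)
    (ap (εn U F (0 + 1)) (N ⊓ V) (rs F inf_le_left t))
    (rs (K U F (0 + 1)) inf_le_right s) x ⟨hN, hxV⟩ (fun σ hσ => by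
      rw [evK_ε, gm_rs, evK_rs, evK_cocycle U F hU 0 i₀ x h0 V hxV s hs σ hσ,
        Fin.sum_univ_one]
      simp only [Fin.val_zero, pow_zero, one_smul]
      refine Eq.trans ht ?_
      exact evK_congr U F (congrArg _ (Subsingleton.elim _ _)) x _ _ V hxV s)
  refine ⟨V', hV'.trans inf_le_right, hxV', rs F (hV'.trans inf_le_left) t, ?_⟩
  have h2 := e
  rw [← ap_rs, rs_rs, rs_rs] at h2
  exact h2

include hU in
/-- `H^0` of the complex is `F` -/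
theorem nonempty_homologyIso (hlf : LocallyFinite U) (hcov : ⋃ i, U i = Set.univ) :
    Nonempty ((KC U F hU).homology 0 ≅ F) := by
  let S : ShortComplex (CohTop.Ab X) := ShortComplex.mk (ε U F hU) ((KC U F hU).d 0 (0 + 1))
    (ε_d U F hU)
  have hS : S.Exact := by
    apply exact_of_locIm
    intro V s hs
    have hs' : ap (dK U F hU 0) V s = 0 :=
      (congrArg (fun f : K U F (0 + 1) ⟶ K U F (0 + 1 + 1) => ap f V s)
        (KC_d U F hU 0)).symm.trans hs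
    exact locIm_ε U F hU hlf hcov s hs'
  haveI : Mono S.f := mono_ε U F hU hcov
  exact ⟨(KC U F hU).isoHomologyπ₀.symm ≪≫
    (IsLimit.conePointUniqueUpToIso ((KC U F hU).cyclesIsKernel 0 1 (by simp)) hS.fIsKernel :
      (KC U F hU).cycles 0 ≅ F)⟩

end Groth.Agent.Lib.Helper5.ClosedCx
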