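import Groth.Agent.Lib.Helper5.CxDeltaNat
import Mathlib.AlgebraicTopology.AlternatingFaceMapComplex
import Mathlib.CategoryTheory.Abelian.FunctorCategory
import Mathlib.Algebra.Homology.HomologicalComplexAbelian

/-!
# The alternating coface map complex as a δ-functor on cosimplicial objects

For an abelian category `𝒮`, the functor `F ↦ H^n(alternating coface map complex of F)` on
`SimplexCategory ⥤ 𝒮` is an effaceable δ-functor (effaced by the décalage `F ↦ F([n+1])`), and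
its degree zero part is the limit functor.
-/

set_option autoImplicit false

universe v u

open CategoryTheory CategoryTheory.Limits Simplicial

noncomputable section

namespace Groth.Agent.Lib.Helper5.CosimpLim

/-! ### the shift functor of the simplex category -/

/-- the map `⦋a+1⦌ ⟶ ⦋b+1⦌` fixing the new vertex `0` -/
def shMap {a b : SimplexCategory} (θ : a ⟶ b) : ⦋a.len + 1⦌ ⟶ ⦋b.len + 1⦌ :=
  SimplexCategory.Hom.mk
    { toFun := Fin.cases 0 (fun i => (θ.toOrderHom i).succ)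
      monotone' := by
        intro x y hxy
        induction x using Fin.cases with
        | zero => exact Fin.zero_le _
        | succ x =>
          induction y using Fin.cases with
          | zero => exact absurd hxy (by simp)
          | succ y =>
            simp only [Fin.cases_succ]
            exact Fin.succ_le_succ_iff.mpr (θ.toOrderHom.monotone (Fin.succ_le_succ_iff.mp hxy)) }

lemma shMap_zero {a b : SimplexCategory} (θ : a ⟶ b) : (shMap θ).toOrderHom 0 = 0 := rfl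

lemma shMap_succ {a b : SimplexCategory} (θ : a ⟶ b) (i : Fin (a.len + 1)) :
    (shMap θ).toOrderHom i.succ = (θ.toOrderHom i).succ := rfl

/-- the shift functor `⦋n⦌ ↦ ⦋n+1⦌` -/
def Sh : SimplexCategory ⥤ SimplexCategory where
  obj a := ⦋a.len + 1⦌
  map θ := shMap θ
  map_id a := by
    ext i : 3
    induction i using Fin.cases with
    | zero => rfl
    | succ i => rfl
  map_comp θ θ' := by
    ext i : 3
    induction i using Fin.cases with
    | zero => rfl
    | succ i => rfl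

lemma Sh_map_δ {n : ℕ} (i : Fin (n + 2)) :
    Sh.map (SimplexCategory.δ i) = SimplexCategory.δ i.succ := by
  ext j : 3
  induction j using Fin.cases with
  | zero =>
    show (0 : Fin (n + 3)) = Fin.succAbove i.succ 0
    exact (Fin.succ_succAbove_zero i).symm
  | succ j =>
    show (Fin.succAbove i j).succ = Fin.succAbove i.succ j.succ
    exact (Fin.succ_succAbove_succ i j).symm

/-- the natural transformation `𝟭 ⟶ Sh` given by the cofaces `δ 0` -/
def shι : 𝟭 SimplexCategory ⟶ Sh where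
  app a := (SimplexCategory.δ (0 : Fin (a.len + 2)) : ⦋a.len⦌ ⟶ ⦋a.len + 1⦌)
  naturality a b θ := by
    ext j : 3
    rfl

variable {𝒮 : Type u} [Category.{v} 𝒮] [Abelian 𝒮]

variable (𝒮) in
/-- the alternating coface map complex functor -/
abbrev Φ : (SimplexCategory ⥤ 𝒮) ⥤ CochainComplex 𝒮 ℕ :=
  AlgebraicTopology.alternatingCofaceMapComplex 𝒮

instance : (Φ 𝒮).Additive where
  map_add := by
    intro F G f g
    ext n
    rfl

lemma shortExact_map (S : ShortComplex (SimplexCategory ⥤ 𝒮)) (hS : S.ShortExact) :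
    (S.map (Φ 𝒮)).ShortExact := by
  apply HomologicalComplex.shortExact_of_degreewise_shortExact
  intro i
  exact hS.map_of_exact ((evaluation SimplexCategory 𝒮).obj ⦋i⦌)

/-- the δ-functor `F ↦ H^n(alternating coface map complex of F)` -/
def T : DeltaF.CohDeltaFunctor (SimplexCategory ⥤ 𝒮) 𝒮 ℕ :=
  CxDeltaNat.cxDelta (Φ 𝒮) shortExact_map

lemma T_zeroMono : (T (𝒮 := 𝒮)).ZeroMono := CxDeltaNat.zeroMono (Φ 𝒮) shortExact_map

lemma T_F_obj (n : ℕ) (F : SimplexCategory ⥤ 𝒮) :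
    ((T (𝒮 := 𝒮)).F n).obj F = ((Φ 𝒮).obj F).homology n := rfl

variable (F : SimplexCategory ⥤ 𝒮)

/-- the differential of the alternating coface map complex -/
lemma Φ_d (n : ℕ) : ((Φ 𝒮).obj F).d n (n + 1) =
    ∑ i : Fin (n + 2), (-1 : ℤ) ^ (i : ℕ) • F.map (SimplexCategory.δ i) :=
  CochainComplex.of_d (fun n => F.obj ⦋n⦌)
    (AlgebraicTopology.AlternatingCofaceMapComplex.objD (show CosimplicialObject 𝒮 from F)) n

/-! ### effaceability -/

/-- the décalage of a cosimplicial object -/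
abbrev dec : SimplexCategory ⥤ 𝒮 := Sh ⋙ F

/-- the canonical monomorphism into the décalage -/
def toDec : F ⟶ dec F := (Functor.leftUnitor F).inv ≫ Functor.whiskerRight shι F

lemma toDec_app (a : SimplexCategory) :
    (toDec F).app a = F.map (SimplexCategory.δ (0 : Fin (a.len + 2)) : ⦋a.len⦌ ⟶ ⦋a.len + 1⦌) := by
  show 𝟙 _ ≫ F.map (shι.app a) = _
  rw [Category.id_comp]
  rfl

instance : Mono (toDec F) := by
  have : ∀ a, Mono ((toDec F).app a) := by
    intro a
    rw [toDec_app]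
    have h : F.map (SimplexCategory.δ (0 : Fin (a.len + 2)) : ⦋a.len⦌ ⟶ ⦋a.len + 1⦌) ≫
        F.map (SimplexCategory.σ (0 : Fin (a.len + 1))) = 𝟙 _ := by
      rw [← F.map_comp]
      have h2 : (SimplexCategory.δ (0 : Fin (a.len + 2)) : ⦋a.len⦌ ⟶ ⦋a.len + 1⦌) ≫
          SimplexCategory.σ (0 : Fin (a.len + 1)) = 𝟙 _ :=
        SimplexCategory.δ_comp_σ_self' (by simp)
      rw [h2, F.map_id]
    exact (SplitMono.mk _ h).mono
  exact NatTrans.mono_of_mono_app _

lemma dec_d (n : ℕ) : ((Φ 𝒮).obj (dec F)).d n (n + 1) =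
    ∑ i : Fin (n + 2), (-1 : ℤ) ^ (i : ℕ) • F.map (SimplexCategory.δ i.succ) := by
  refine (Φ_d (dec F) n).trans ?_
  refine Finset.sum_congr rfl (fun i _ => ?_)
  congr 1
  show F.map (Sh.map (SimplexCategory.δ i)) = _
  rw [Sh_map_δ]
  rfl

/-- the contracting homotopy of the décalage -/
lemma contraction (n : ℕ) :
    F.map (SimplexCategory.σ (0 : Fin (n + 2))) ≫
        (∑ i : Fin (n + 2), (-1 : ℤ) ^ (i : ℕ) • F.map (SimplexCategory.δ i.succ)) +
      (∑ i : Fin (n + 3), (-1 : ℤ) ^ (i : ℕ) • F.map (SimplexCategory.δ i.succ)) ≫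
        F.map (SimplexCategory.σ (0 : Fin (n + 3))) = 𝟙 (F.obj ⦋n + 2⦌) := by
  rw [Preadditive.comp_sum, Preadditive.sum_comp, Fin.sum_univ_succ (n := n + 2)]
  have h0 : ((-1 : ℤ) ^ ((0 : Fin (n + 3)) : ℕ) • F.map (SimplexCategory.δ (0 : Fin (n + 3)).succ)) ≫
      F.map (SimplexCategory.σ (0 : Fin (n + 3))) = 𝟙 _ := by
    rw [Fin.val_zero, pow_zero, one_smul, ← F.map_comp, SimplexCategory.δ_comp_σ_succ, F.map_id]
  have h1 : ∀ k : Fin (n + 2),
      ((-1 : ℤ) ^ ((k.succ : Fin (n + 3)) : ℕ) • F.map (SimplexCategory.δ k.succ.succ)) ≫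
        F.map (SimplexCategory.σ (0 : Fin (n + 3))) =
      - (F.map (SimplexCategory.σ (0 : Fin (n + 2))) ≫
        ((-1 : ℤ) ^ (k : ℕ) • F.map (SimplexCategory.δ k.succ))) := by
    intro k
    rw [Preadditive.zsmul_comp, Preadditive.comp_zsmul, ← F.map_comp, ← F.map_comp, Fin.val_succ,
      pow_succ, mul_neg_one, neg_smul]
    congr 3
    have h2 : SimplexCategory.δ k.succ.succ ≫ SimplexCategory.σ ((0 : Fin (n + 2)).castSucc) =
        SimplexCategory.σ (0 : Fin (n + 2)) ≫ SimplexCategory.δ k.succ :=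
      SimplexCategory.δ_comp_σ_of_gt (by simp [Fin.castSucc_zero])
    rw [← h2]
    rfl
  rw [h0, Finset.sum_congr rfl (fun k _ => h1 k), Finset.sum_neg_distrib]
  abel

lemma isZero_homology_dec (n : ℕ) : IsZero (((Φ 𝒮).obj (dec F)).homology (n + 1)) := by
  refine CxDeltaNat.isZero_homology_of_contraction _ n
    (F.map (SimplexCategory.σ (0 : Fin (n + 2)))) (F.map (SimplexCategory.σ (0 : Fin (n + 3)))) ?_
  have h1 := dec_d F n
  have h2 := dec_d F (n + 1)
  rw [h1, h2]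
  exact contraction F n

lemma T_isEffaceable : (T (𝒮 := 𝒮)).IsEffaceable := by
  intro n F
  refine ⟨dec F, toDec F, inferInstance, ?_⟩
  exact (isZero_homology_dec F n).eq_of_tgt _ _

/-! ### the degree zero part is the limit -/

lemma d_zero_one : ((Φ 𝒮).obj F).d 0 1 =
    F.map (SimplexCategory.δ (0 : Fin 2)) - F.map (SimplexCategory.δ (1 : Fin 2)) := by
  refine (Φ_d F 0).trans ?_
  rw [Fin.sum_univ_two]
  simp [sub_eq_add_neg]

/-- the inclusion of the `0`-cocycles -/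
def ι₀ : ((Φ 𝒮).obj F).cycles 0 ⟶ F.obj ⦋0⦌ := ((Φ 𝒮).obj F).iCycles 0

instance : Mono (ι₀ F) := inferInstanceAs (Mono (((Φ 𝒮).obj F).iCycles 0))

lemma ι₀_d : ι₀ F ≫ (F.map (SimplexCategory.δ (0 : Fin 2)) - F.map (SimplexCategory.δ (1 : Fin 2))) =
    0 := by
  have h := ((Φ 𝒮).obj F).iCycles_d 0 1
  rw [d_zero_one] at h
  exact h

lemma ι₀_δ : ι₀ F ≫ F.map (SimplexCategory.δ (0 : Fin 2)) =
    ι₀ F ≫ F.map (SimplexCategory.δ (1 : Fin 2)) := by
  have h := ι₀_d F
  rw [Preadditive.comp_sub, sub_eq_zero] at h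
  exact h

lemma ι₀_map_eq_of_le {m : ℕ} (a b : ⦋0⦌ ⟶ ⦋m⦌) (h : a.toOrderHom 0 ≤ b.toOrderHom 0) :
    ι₀ F ≫ F.map a = ι₀ F ≫ F.map b := by
  obtain ⟨e, ha, hb⟩ : ∃ e : ⦋1⦌ ⟶ ⦋m⦌, a = SimplexCategory.δ (1 : Fin 2) ≫ e ∧
      b = SimplexCategory.δ (0 : Fin 2) ≫ e := by
    refine ⟨SimplexCategory.mkOfLe _ _ h, ?_, ?_⟩
    · ext i : 3
      obtain rfl : i = 0 := Fin.fin_one_eq_zero i
      rfl
    · ext i : 3
      obtain rfl : i = 0 := Fin.fin_one_eq_zero i
      rfl
  rw [ha, hb, F.map_comp, F.map_comp, ← Category.assoc, ← Category.assoc, ι₀_δ]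

lemma ι₀_map_eq {m : ℕ} (a b : ⦋0⦌ ⟶ ⦋m⦌) : ι₀ F ≫ F.map a = ι₀ F ≫ F.map b := by
  rcases le_total (a.toOrderHom 0) (b.toOrderHom 0) with h | h
  · exact ι₀_map_eq_of_le F a b h
  · exact (ι₀_map_eq_of_le F b a h).symm

/-- the cone over `F` with vertex the `0`-cocycles -/
def cone : Cone F where
  pt := ((Φ 𝒮).obj F).cycles 0
  π :=
    { app := fun a => ι₀ F ≫ F.map (SimplexCategory.const ⦋0⦌ a 0)
      naturality := fun a b θ => by
        dsimp only [Functor.const_obj_obj, Functor.const_obj_map]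
        rw [Category.id_comp, Category.assoc, ← F.map_comp]
        exact ι₀_map_eq (m := b.len) F _ _ }

lemma cone_π_zero : (cone F).π.app ⦋0⦌ = ι₀ F := by
  show ι₀ F ≫ F.map (SimplexCategory.const ⦋0⦌ ⦋0⦌ 0) = _
  rw [SimplexCategory.const_eq_id, F.map_id]
  exact Category.comp_id _

lemma cone_π_comp_d (s : Cone F) : s.π.app ⦋0⦌ ≫ ((Φ 𝒮).obj F).d 0 1 = 0 := by
  have h : s.π.app ⦋0⦌ ≫
      (F.map (SimplexCategory.δ (0 : Fin 2)) - F.map (SimplexCategory.δ (1 : Fin 2))) = 0 := by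
    rw [Preadditive.comp_sub, sub_eq_zero]
    exact (s.w (SimplexCategory.δ (0 : Fin 2))).trans (s.w (SimplexCategory.δ (1 : Fin 2))).symm
  exact (congrArg (fun z => s.π.app ⦋0⦌ ≫ z) (d_zero_one F)).trans h

/-- the lift of a cone to the cocycles -/
def coneLift (s : Cone F) : s.pt ⟶ ((Φ 𝒮).obj F).cycles 0 :=
  ((Φ 𝒮).obj F).liftCycles (s.π.app ⦋0⦌) 1 (by simp) (cone_π_comp_d F s)

lemma coneLift_ι₀ (s : Cone F) : coneLift F s ≫ ι₀ F = s.π.app ⦋0⦌ :=
  HomologicalComplex.liftCycles_i _ _ _ _ _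

/-- the cone of `0`-cocycles is a limit cone -/
def isLimitCone : IsLimit (cone F) where
  lift s := coneLift F s
  fac s a := by
    show coneLift F s ≫ ι₀ F ≫ F.map (SimplexCategory.const ⦋0⦌ a 0) = s.π.app a
    rw [← Category.assoc, coneLift_ι₀]
    exact s.w _
  uniq s m hm := by
    apply (cancel_mono (ι₀ F)).1
    rw [coneLift_ι₀]
    have h := hm ⦋0⦌
    rw [cone_π_zero] at h
    exact h

variable [HasLimitsOfShape SimplexCategory 𝒮]

/-- `lim F ≅ Z^0` -/
def limCyclesIso : limit F ≅ ((Φ 𝒮).obj F).cycles 0 :=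
  (limit.isLimit F).conePointUniqueUpToIso (isLimitCone F)

lemma limCyclesIso_hom_ι₀ : (limCyclesIso F).hom ≫ ι₀ F = limit.π F ⦋0⦌ := by
  rw [← cone_π_zero]
  exact IsLimit.conePointUniqueUpToIso_hom_comp _ _ _

lemma isIso_homologyπ_zero (K : CochainComplex 𝒮 ℕ) : IsIso (K.homologyπ 0) :=
  K.isIso_homologyπ 0 0 (by simp) (K.shape _ _ (by simp))

/-- `Z^0 ≅ H^0` for `ℕ`-indexed cochain complexes -/
def homologyπIso (K : CochainComplex 𝒮 ℕ) : K.cycles 0 ≅ K.homology 0 :=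
  @asIso _ _ _ _ (K.homologyπ 0) (isIso_homologyπ_zero K)

lemma cyclesMap_ι₀ {F G : SimplexCategory ⥤ 𝒮} (φ : F ⟶ G) :
    HomologicalComplex.cyclesMap ((Φ 𝒮).map φ) 0 ≫ ι₀ G = ι₀ F ≫ φ.app ⦋0⦌ :=
  HomologicalComplex.cyclesMap_i ((Φ 𝒮).map φ) 0

lemma limCyclesIso_naturality {F G : SimplexCategory ⥤ 𝒮} (φ : F ⟶ G) :
    lim.map φ ≫ (limCyclesIso G).hom =
      (limCyclesIso F).hom ≫ HomologicalComplex.cyclesMap ((Φ 𝒮).map φ) 0 := by
  rw [← cancel_mono (ι₀ G), Category.assoc, Category.assoc, limCyclesIso_hom_ι₀, cyclesMap_ι₀,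
    ← Category.assoc, limCyclesIso_hom_ι₀]
  exact limMap_π _ _

/-- `lim ≅ H^0 ∘ Φ` -/
def limIso : (lim : (SimplexCategory ⥤ 𝒮) ⥤ 𝒮) ≅ (T (𝒮 := 𝒮)).F 0 :=
  NatIso.ofComponents
    (fun F => limCyclesIso F ≪≫ homologyπIso ((Φ 𝒮).obj F))
    (by
      intro F G φ
      show lim.map φ ≫ (limCyclesIso G).hom ≫ ((Φ 𝒮).obj G).homologyπ 0 =
        ((limCyclesIso F).hom ≫ ((Φ 𝒮).obj F).homologyπ 0) ≫
          HomologicalComplex.homologyMap ((Φ 𝒮).map φ) 0
      rw [Category.assoc, HomologicalComplex.homologyπ_naturality, ← Category.assoc,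
        ← Category.assoc, limCyclesIso_naturality])

end Groth.Agent.Lib.Helper5.CosimpLim
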