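import Groth.Agent.Lib.Helper5.SectSupp
import Groth.Agent.Lib.Helper22.ExtCompare
import Groth.Agent.Lib.Helper22.CohTop.KillClass

set_option autoImplicit false
universe u
open CategoryTheory CategoryTheory.Limits TopologicalSpace Opposite Abelian

namespace Groth.Agent.Lib.Helper5.SectSupp

open Groth.Agent.Lib.Helper22 Groth.Agent.Lib.Helper22.CohTop

variable {X : TopCat.{u}}

section ExtShift

variable {S : ShortComplex (CohTop.Ab X)} (hS : S.ShortExact) [Injective S.X₂] (P : CohTop.Ab X)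

include hS in
theorem ext_one_subsingleton_iff :
    Subsingleton (Ext P S.X₁ 1) ↔
      Function.Surjective ((Ext.mk₀ S.g).postcomp P (add_zero 0)) := by
  constructor
  · intro h y
    obtain ⟨z, hz⟩ := Ext.covariant_sequence_exact₃ P hS y (zero_add 1) (Subsingleton.elim _ _)
    exact ⟨z, hz⟩
  · intro h
    refine subsingleton_of_forall_eq 0 fun x => ?_
    obtain ⟨y, hy⟩ := Ext.covariant_sequence_exact₁ P hS x (Ext.eq_zero_of_injective _) (zero_add 1)
    obtain ⟨z, rfl⟩ := h y
    rw [← hy]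
    change (z.comp (Ext.mk₀ S.g) (add_zero 0)).comp hS.extClass (zero_add 1) = 0
    rw [Ext.comp_assoc_of_second_deg_zero, hS.comp_extClass, Ext.comp_zero]

include hS in
theorem ext_succ_succ_subsingleton_iff (n : ℕ) :
    Subsingleton (Ext P S.X₁ (n + 2)) ↔ Subsingleton (Ext P S.X₃ (n + 1)) :=
  (ExtCompare.shiftEquiv hS P n (fun x => Ext.eq_zero_of_injective x)
    (fun x => Ext.eq_zero_of_injective x)).symm.toEquiv.subsingleton_congr

end ExtShift

variable (U : Opens X)

/-- `Γ(V, Γ_Z F) ≃+ {s ∈ F(V) | s|_{V ∩ U} = 0}`. -/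
noncomputable def sectEquiv (F : CohTop.Ab X) (V : Opens X) :
    ((LocCohZ.sectSuppF U).obj F).obj.obj (op V) ≃+ LocCohZ.sectZ F (inf_le_left : V ⊓ U ≤ V) :=
  AddEquiv.ofBijective
    (((ι U F).hom.app (op V)).hom.codRestrict _ (fun t => by
      rw [AddMonoidHom.mem_ker]; exact res_ι_apply U F V t))
    ⟨fun a b hab => ι_app_injective U F V (congrArg Subtype.val hab),
      fun s => by
        obtain ⟨t, ht⟩ := exists_of_res_eq_zero U F V s.1 s.2
        exact ⟨t, Subtype.ext ht⟩⟩

lemma sectEquiv_apply (F : CohTop.Ab X) (V : Opens X) (t) :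
    (sectEquiv U F V t).1 = ((ι U F).hom.app (op V)).hom t := rfl

/-- Surjectivity of `Hom(zq_V, B) → Hom(zq_V, C)` is surjectivity of `Γ_Z(B)(V) → Γ_Z(C)(V)`. -/
theorem postcomp_surjective_iff {B C : CohTop.Ab X} (g : B ⟶ C) (V : Opens X) :
    Function.Surjective ((Ext.mk₀ g).postcomp (LocCohZ.zq (inf_le_left : V ⊓ U ≤ V)) (add_zero 0)) ↔
      Function.Surjective (((LocCohZ.sectSuppF U).map g).hom.app (op V)).hom := by
  constructor
  · intro h t
    obtain ⟨y, hy⟩ := h ((LocCohZ.sect0Equiv C _).symm (sectEquiv U C V t))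
    refine ⟨(sectEquiv U B V).symm (LocCohZ.sect0Equiv B _ y), ?_⟩
    apply (sectEquiv U C V).injective
    apply Subtype.ext
    rw [sectEquiv_apply, sectSuppF_map_ι_apply, ← sectEquiv_apply, AddEquiv.apply_symm_apply,
      ← sect0Equiv_comp_mk₀]
    have := congrArg (LocCohZ.sect0Equiv C _) hy
    rw [AddEquiv.apply_symm_apply] at this
    exact congrArg Subtype.val this
  · intro h y
    obtain ⟨t, ht⟩ := h ((sectEquiv U C V).symm (LocCohZ.sect0Equiv C _ y))
    refine ⟨(LocCohZ.sect0Equiv B _).symm (sectEquiv U B V t), ?_⟩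
    apply (LocCohZ.sect0Equiv C _).injective
    apply Subtype.ext
    change (LocCohZ.sect0Equiv C _ (((LocCohZ.sect0Equiv B _).symm (sectEquiv U B V t)).comp
      (Ext.mk₀ g) (add_zero 0))).1 = _
    rw [sect0Equiv_comp_mk₀, AddEquiv.apply_symm_apply, sectEquiv_apply, ← sectSuppF_map_ι_apply,
      ht, ← sectEquiv_apply, AddEquiv.apply_symm_apply]

/-- `Γ_Z Q` is flasque. -/
def Good (Q : CohTop.Ab X) : Prop := TopCat.Sheaf.IsFlasque ((LocCohZ.sectSuppF U).obj Q)

variable {U}

lemma mapSC_shortExact {Q : CohTop.Ab X} (h : Epi ((LocCohZ.sectSuppF U).map (injSC Q).g)) :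
    ((injSC Q).map (LocCohZ.sectSuppF U)).ShortExact := by
  have := (injSC_shortExact Q).mono_f
  exact
    { exact := sectSuppF_map_exact U _ (injSC_shortExact Q)
      mono_f := inferInstanceAs (Mono ((LocCohZ.sectSuppF U).map (injSC Q).f))
      epi_g := h }

theorem epi_iff_app_surjective_of_good {Q : CohTop.Ab X} (hQ : Good U Q) :
    Epi ((LocCohZ.sectSuppF U).map (injSC Q).g) ↔
      ∀ V : Opens X, Function.Surjective
        (((LocCohZ.sectSuppF U).map (injSC Q).g).hom.app (op V)).hom := by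
  constructor
  · intro h V
    have hS := mapSC_shortExact h
    have : TopCat.Sheaf.IsFlasque ((injSC Q).map (LocCohZ.sectSuppF U)).X₁ := hQ
    have hepi : Epi (((injSC Q).map (LocCohZ.sectSuppF U)).g.hom.app (op V)) :=
      TopCat.Sheaf.IsFlasque.epi_of_shortExact hS
    exact (AddCommGrpCat.epi_iff_surjective _).1 hepi
  · intro h
    exact epi_of_app_surjective _ h

theorem good_X₃ {Q : CohTop.Ab X} (hQ : Good U Q)
    (h : Epi ((LocCohZ.sectSuppF U).map (injSC Q).g)) : Good U (injSC Q).X₃ := by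
  have hS := mapSC_shortExact h
  have h1 : TopCat.Sheaf.IsFlasque ((injSC Q).map (LocCohZ.sectSuppF U)).X₁ := hQ
  have h2 : TopCat.Sheaf.IsFlasque ((injSC Q).map (LocCohZ.sectSuppF U)).X₂ :=
    sectSupp_isFlasque U (injSC Q).X₂
  exact TopCat.Sheaf.IsFlasque.of_shortExact_of_isFlasque₁₂ hS

/-- Degree one: `ℋ^1_Z(Q) = 0` iff all `H^1_{Z∩V}(V, Q) = 0`, when `Γ_Z Q` is flasque. -/
theorem isZero_HZsh_one_iff {Q : CohTop.Ab X} (hQ : Good U Q) :
    IsZero ((LocCohZ.HZsh U 1).obj Q) ↔
      ∀ V : Opens X, Subsingleton (LocCohZ.HZ Q 1 (inf_le_left : V ⊓ U ≤ V)) := by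
  rw [DimShift.isZero_rightDerived_one_iff (LocCohZ.sectSuppF U) (injSC Q) (injSC_shortExact Q),
    epi_iff_app_surjective_of_good hQ]
  refine forall_congr' fun V => ?_
  rw [ext_one_subsingleton_iff (injSC_shortExact Q), postcomp_surjective_iff]

/-- Lemma A: simultaneous dimension shifting. -/
theorem isZero_HZsh_succ_iff (n : ℕ) : ∀ (Q : CohTop.Ab X), Good U Q →
    ((∀ j < n, IsZero ((LocCohZ.HZsh U (j + 1)).obj Q)) ↔
      ∀ (V : Opens X), ∀ j < n, Subsingleton (LocCohZ.HZ Q (j + 1) (inf_le_left : V ⊓ U ≤ V))) := by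
  induction n with
  | zero => intro Q _; simp
  | succ n ih =>
    intro Q hQ
    have hS := injSC_shortExact Q
    have e1 : (∀ j < n + 1, IsZero ((LocCohZ.HZsh U (j + 1)).obj Q)) ↔
        IsZero ((LocCohZ.HZsh U 1).obj Q) ∧
          ∀ j < n, IsZero ((LocCohZ.HZsh U (j + 1)).obj (injSC Q).X₃) := by
      rw [Nat.forall_lt_succ_left]
      refine and_congr Iff.rfl (forall_congr' fun j => forall_congr' fun _ => ?_)
      exact DimShift.isZero_rightDerived_succ_succ_iff (LocCohZ.sectSuppF U) (injSC Q) hS j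
    have e2 : (∀ (V : Opens X), ∀ j < n + 1,
        Subsingleton (LocCohZ.HZ Q (j + 1) (inf_le_left : V ⊓ U ≤ V))) ↔
        (∀ V : Opens X, Subsingleton (LocCohZ.HZ Q 1 (inf_le_left : V ⊓ U ≤ V))) ∧
          ∀ (V : Opens X), ∀ j < n,
            Subsingleton (LocCohZ.HZ (injSC Q).X₃ (j + 1) (inf_le_left : V ⊓ U ≤ V)) := by
      rw [← forall_and]
      refine forall_congr' fun V => ?_
      rw [Nat.forall_lt_succ_left]
      refine and_congr Iff.rfl (forall_congr' fun j => forall_congr' fun _ => ?_)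
      exact ext_succ_succ_subsingleton_iff hS _ j
    rw [e1, e2, isZero_HZsh_one_iff hQ]
    constructor
    · rintro ⟨h1, h2⟩
      refine ⟨h1, (ih _ (good_X₃ hQ ?_)).1 h2⟩
      rw [← DimShift.isZero_rightDerived_one_iff (LocCohZ.sectSuppF U) (injSC Q) hS]
      exact (isZero_HZsh_one_iff hQ).2 h1
    · rintro ⟨h1, h2⟩
      refine ⟨h1, (ih _ (good_X₃ hQ ?_)).2 h2⟩
      rw [← DimShift.isZero_rightDerived_one_iff (LocCohZ.sectSuppF U) (injSC Q) hS]
      exact (isZero_HZsh_one_iff hQ).2 h1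

theorem isZero_iff_subsingleton_sections (G : CohTop.Ab X) :
    IsZero G ↔ ∀ V : Opens X, Subsingleton (G.obj.obj (op V)) := by
  constructor
  · intro h V
    have : IsZero ((sheafToPresheaf _ _ ⋙ (evaluation _ _).obj (op V)).obj G) :=
      Functor.map_isZero _ h
    exact AddCommGrpCat.subsingleton_of_isZero this
  · intro h
    rw [IsZero.iff_id_eq_zero]
    apply Sheaf.hom_ext
    apply NatTrans.ext
    funext V
    apply AddCommGrpCat.hom_ext
    apply AddMonoidHom.ext
    intro x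
    have := h V.unop
    exact Subsingleton.elim _ _

theorem isFlasque_of_subsingleton_sections (G : CohTop.Ab X)
    (h : ∀ V : Opens X, Subsingleton (G.obj.obj (op V))) : TopCat.Sheaf.IsFlasque G := by
  constructor
  intro V W i
  rw [AddCommGrpCat.epi_iff_surjective]
  intro t
  have := h W.unop
  exact ⟨0, Subsingleton.elim _ _⟩

variable (U) in
theorem isZero_HZsh_zero_iff (F : CohTop.Ab X) :
    IsZero ((LocCohZ.HZsh U 0).obj F) ↔
      ∀ V : Opens X, Subsingleton (LocCohZ.HZ F 0 (inf_le_left : V ⊓ U ≤ V)) := by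
  rw [((LocCohZ.sectSuppF U).rightDerivedZeroIsoSelf.app F).isZero_iff,
    isZero_iff_subsingleton_sections]
  refine forall_congr' fun V => ?_
  exact ((sectEquiv U F V).trans (LocCohZ.sect0Equiv F _).symm).toEquiv.subsingleton_congr

variable (U) in
/-- S6022. -/
theorem isZero_HZsh_lt_iff (F : CohTop.Ab X) (n : ℕ) :
    (∀ i : ℕ, i < n → IsZero ((LocCohZ.HZsh U i).obj F)) ↔
      ∀ (V : Opens X) (i : ℕ), i < n →
        Subsingleton (LocCohZ.HZ F i (inf_le_left : V ⊓ U ≤ V)) := by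
  cases n with
  | zero => simp
  | succ m =>
    have e2 : (∀ (V : Opens X) (i : ℕ), i < m + 1 →
        Subsingleton (LocCohZ.HZ F i (inf_le_left : V ⊓ U ≤ V))) ↔
        (∀ V : Opens X, Subsingleton (LocCohZ.HZ F 0 (inf_le_left : V ⊓ U ≤ V))) ∧
          ∀ (V : Opens X), ∀ j < m,
            Subsingleton (LocCohZ.HZ F (j + 1) (inf_le_left : V ⊓ U ≤ V)) := by
      rw [← forall_and]
      refine forall_congr' fun V => ?_
      rw [Nat.forall_lt_succ_left]
    rw [Nat.forall_lt_succ_left, e2, isZero_HZsh_zero_iff]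
    have hgood : (∀ V : Opens X, Subsingleton (LocCohZ.HZ F 0 (inf_le_left : V ⊓ U ≤ V))) →
        Good U F := by
      intro h
      apply isFlasque_of_subsingleton_sections
      intro V
      exact ((sectEquiv U F V).trans (LocCohZ.sect0Equiv F _).symm).toEquiv.subsingleton_congr.2
        (h V)
    constructor
    · rintro ⟨h1, h2⟩
      exact ⟨h1, (isZero_HZsh_succ_iff m F (hgood h1)).1 h2⟩
    · rintro ⟨h1, h2⟩
      exact ⟨h1, (isZero_HZsh_succ_iff m F (hgood h1)).2 h2⟩

end Groth.Agent.Lib.Helper5.SectSupp
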