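import Groth.Agent.Lib.Helper5.GrothSSInst
import Groth.Agent.Lib.Helper5.ExtDerived
import Groth.Agent.Lib.Helper5.SectSuppDim
import Groth.Agent.Lib.Helper22.CohTop.Sections
import Groth.Agent.Lib.Helper22.CohTop.FlasqueAcyclic
import Groth.Agent.Lib.Helper22.CohTop.InjFlasque

/-
Helper5: ingredients for the Grothendieck spectral sequence on topological spaces:
`Γ(V, -)` as a left exact additive functor with `RᵖΓ(V, -) ≅ Extᵖ(ℤ_V, -) = Hᵖ(V, -)`, vanishing on
flasque sheaves.
-/

set_option autoImplicit false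
set_option maxSynthPendingDepth 3

universe u
open CategoryTheory CategoryTheory.Limits TopologicalSpace Opposite Abelian

namespace Groth.Agent.Lib.Helper5.TopSS

open Groth.Agent.Lib.Helper5 Groth.Agent.Lib.Helper22.CohTop

variable {X : TopCat.{u}}

/-- `Γ(V, -)` on abelian sheaves. -/
noncomputable abbrev ΓV (V : Opens X) : CohTop.Ab X ⥤ AddCommGrpCat.{u} :=
  sheafToPresheaf (Opens.grothendieckTopology X) AddCommGrpCat.{u} ⋙
    (evaluation (Opens X)ᵒᵖ AddCommGrpCat.{u}).obj (op V)

instance (V : Opens X) : (ΓV V).Additive := inferInstance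

noncomputable instance (V : Opens X) : PreservesFiniteLimits (ΓV V) := inferInstance

/-- `Γ(V, -) ≅ Hom(ℤ_V, -)`. -/
noncomputable def ΓVIso (V : Opens X) : ΓV V ≅ ExtDer.G (ZU V) :=
  NatIso.ofComponents (fun F => (homAddEquivSections V F).symm.toAddCommGrpIso) (by
    intro F G φ
    ext t
    apply (homAddEquivSections V G).injective
    change homEquivSections V G ((homAddEquivSections V G).symm ((φ.hom.app (op V)).hom t)) =
      homEquivSections V G ((homAddEquivSections V F).symm t ≫ φ)
    rw [homEquivSections_naturality_right]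
    have h1 : homEquivSections V G ((homAddEquivSections V G).symm ((φ.hom.app (op V)).hom t)) =
        (φ.hom.app (op V)).hom t := (homAddEquivSections V G).apply_symm_apply _
    have h2 : homEquivSections V F ((homAddEquivSections V F).symm t) = t :=
      (homAddEquivSections V F).apply_symm_apply _
    rw [h1, h2])

/-- `RᵖΓ(V, -) ≅ Extᵖ(ℤ_V, -)`. -/
noncomputable def RΓVIso (V : Opens X) (p : ℕ) : (ΓV V).rightDerived p ≅ extFunctorObj (ZU V) p :=
  ExtDer.extIsoOfIso _ (ΓV V) (ΓVIso V) p

/-- `RᵖΓ(V, F) ≅ Hᵖ(V, F)`. -/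
noncomputable def RΓVObjIso (V : Opens X) (p : ℕ) (F : CohTop.Ab X) :
    ((ΓV V).rightDerived p).obj F ≅ AddCommGrpCat.of (CohTop.HU F p V) :=
  (RΓVIso V p).app F

lemma isZero_RΓV_succ_of_flasque (V : Opens X) (F : CohTop.Ab X) [TopCat.Sheaf.IsFlasque F]
    (q : ℕ) : IsZero (((ΓV V).rightDerived (q + 1)).obj F) := by
  refine IsZero.of_iso ?_ (RΓVObjIso V (q + 1) F)
  have := subsingleton_HU_succ_of_flasque F V q
  exact AddCommGrpCat.isZero_of_subsingleton _

end Groth.Agent.Lib.Helper5.TopSS
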