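import Groth.Agent.Lib.Helper5.FreePsh
import Groth.Agent.Lib.Helper5.TopSS
import Groth.Agent.Lib.Helper5.DescentSSGen
import Groth.Agent.Lib.Helper5.CosimpLim

/-!
# `H^0` of the complex `Hom(ℤ[A^{•+1}], F)` for a locally nonempty presheaf of sets `A`

If `A` is a presheaf of sets on a space `S` which is locally nonempty and `F` is an abelian sheaf,
then `H^0(Hom(K A •, F)) = Γ(S, F)`, naturally in `F`.
-/

set_option autoImplicit false

universe u

open CategoryTheory CategoryTheory.Limits Opposite TopologicalSpace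

noncomputable section

namespace Groth.Agent.Lib.Helper5.SecH0

open Groth.Agent.Lib.Helper5.FreePsh

variable {S : TopCat.{u}}

lemma map_map_thin (P : (Opens S)ᵒᵖ ⥤ AddCommGrpCat.{u}) {V₁ V₂ V₃ : (Opens S)ᵒᵖ}
    (f : V₁ ⟶ V₂) (g : V₂ ⟶ V₃) (k : V₁ ⟶ V₃) (x : P.obj V₁) :
    (P.map g).hom ((P.map f).hom x) = (P.map k).hom x := by
  have h : f ≫ g = k := Subsingleton.elim _ _
  rw [← h, P.map_comp]
  rfl

lemma map_thin_eq (P : (Opens S)ᵒᵖ ⥤ AddCommGrpCat.{u}) {V₁ V₂ : (Opens S)ᵒᵖ}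
    (f g : V₁ ⟶ V₂) (x : P.obj V₁) : (P.map f).hom x = (P.map g).hom x := by
  have h : f = g := Subsingleton.elim _ _
  rw [h]

variable (A : (Opens S)ᵒᵖ ⥤ Type u)

/-- the morphism `K A 0 ⟶ P` with constant value the restrictions of a global section -/
def constMor (P : (Opens S)ᵒᵖ ⥤ AddCommGrpCat.{u}) (s : P.obj (op ⊤)) : K A 0 ⟶ P :=
  ofFam (fun W _ => (P.map (homOfLE (le_top : W.unop ≤ ⊤)).op).hom s)
    (fun {V W} h _ => (map_map_thin P _ h _ s).symm)

lemma fam_constMor (P : (Opens S)ᵒᵖ ⥤ AddCommGrpCat.{u}) (s : P.obj (op ⊤))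
    (W : (Opens S)ᵒᵖ) (τ : TupT A 0 W) :
    fam (constMor A P s) W τ = (P.map (homOfLE (le_top : W.unop ≤ ⊤)).op).hom s := by
  exact fam_ofFam (A := TupP A 0) (P := P)
    (fun W _ => (P.map (homOfLE (le_top : W.unop ≤ ⊤)).op).hom s)
    (fun {V W} h _ => (map_map_thin P _ h _ s).symm) W τ

/-- `constMor` as an additive map -/
def constHom (P : (Opens S)ᵒᵖ ⥤ AddCommGrpCat.{u}) : P.obj (op ⊤) →+ (K A 0 ⟶ P) where
  toFun := constMor A P
  map_zero' := by
    apply hom_ext_fam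
    intro W τ
    rw [fam_constMor, map_zero]
    rfl
  map_add' s s' := by
    apply hom_ext_fam
    intro W τ
    rw [fam_add, fam_constMor, fam_constMor, fam_constMor, map_add]

lemma constMor_comp {P Q : (Opens S)ᵒᵖ ⥤ AddCommGrpCat.{u}} (g : P ⟶ Q) (s : P.obj (op ⊤)) :
    constMor A P s ≫ g = constMor A Q ((g.app (op ⊤)).hom s) := by
  apply hom_ext_fam
  intro W τ
  rw [fam_comp, fam_constMor, fam_constMor]
  exact NatTrans.naturality_apply g (homOfLE (le_top : W.unop ≤ ⊤)).op s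

lemma bdry_constMor (P : (Opens S)ᵒᵖ ⥤ AddCommGrpCat.{u}) (s : P.obj (op ⊤)) :
    bdry A 0 ≫ constMor A P s = 0 := by
  apply hom_ext_fam
  intro W τ
  rw [fam_bdry_comp, Fin.sum_univ_two, fam_constMor, fam_constMor, fam_zero]
  simp

lemma tup_zero_eq {W : (Opens S)ᵒᵖ} (τ : TupT A 0 W) : τ = fun _ => τ 0 := by
  funext j
  exact congrArg τ (Fin.ext (Nat.lt_one_iff.1 j.isLt))

lemma fam_eq_of_cocycle {P : (Opens S)ᵒᵖ ⥤ AddCommGrpCat.{u}} (t : K A 0 ⟶ P)
    (ht : bdry A 0 ≫ t = 0) (W : (Opens S)ᵒᵖ) (a b : A.obj W) :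
    fam t W (fun _ => a) = fam t W (fun _ => b) := by
  have h := fam_bdry_comp A 0 t W (Fin.cons a (fun _ => b) : Fin 2 → A.obj W)
  rw [ht, fam_zero, Fin.sum_univ_two] at h
  have e0 : (Fin.cons a (fun _ => b) : Fin 2 → A.obj W) ∘ (0 : Fin 2).succAbove =
      (fun _ => b) := cons_comp_succAbove_zero A a (n := 0) (fun _ => b)
  have e1 : (Fin.cons a (fun _ => b) : Fin 2 → A.obj W) ∘ (1 : Fin 2).succAbove =
      (fun _ => a) := by
    funext j
    obtain rfl : j = 0 := Fin.ext (Nat.lt_one_iff.1 j.isLt)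
    rfl
  rw [e0, e1] at h
  simp only [Fin.val_zero, pow_zero, one_smul, Fin.val_one, pow_one, neg_smul] at h
  exact (eq_of_sub_eq_zero (by rw [sub_eq_add_neg]; exact h.symm)).symm

section sheaf

variable (hA : ∀ x : S, ∃ W : Opens S, x ∈ W ∧ Nonempty (A.obj (op W)))
variable (F : CohTop.Ab S)

include hA

/-- a chosen neighbourhood on which `A` has a section -/
def nb (x : S) : Opens S := (hA x).choose

lemma mem_nb (x : S) : x ∈ nb A hA x := (hA x).choose_spec.1

/-- a chosen section -/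
def sec (x : S) : A.obj (op (nb A hA x)) := (hA x).choose_spec.2.some

lemma top_le_iSup_nb : (⊤ : Opens S) ≤ iSup (nb A hA) := fun x _ =>
  Opens.mem_iSup.2 ⟨x, mem_nb A hA x⟩

lemma constMor_injective (s : F.obj.obj (op ⊤)) (hs : constMor A F.obj s = 0) : s = 0 := by
  refine TopCat.Sheaf.eq_of_locally_eq' F (nb A hA) ⊤ (fun x => homOfLE le_top)
    (top_le_iSup_nb A hA) s 0 (fun x => ?_)
  rw [map_zero]
  have h := fam_constMor A F.obj s (op (nb A hA x)) (fun _ => sec A hA x)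
  rw [hs, fam_zero] at h
  exact h.symm

lemma exists_constMor_eq (t : K A 0 ⟶ F.obj) (ht : bdry A 0 ≫ t = 0) :
    ∃ s : F.obj.obj (op ⊤), constMor A F.obj s = t := by
  let sf : ∀ x : S, F.obj.obj (op (nb A hA x)) := fun x =>
    fam t (op (nb A hA x)) (fun _ => sec A hA x)
  have hcomp : TopCat.Presheaf.IsCompatible F.obj (nb A hA) sf := by
    intro x y
    change (F.obj.map (Opens.infLELeft (nb A hA x) (nb A hA y)).op).hom (sf x) =
      (F.obj.map (Opens.infLERight (nb A hA x) (nb A hA y)).op).hom (sf y)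
    have h1 := fam_map t (Opens.infLELeft (nb A hA x) (nb A hA y)).op (fun _ => sec A hA x)
    have h2 := fam_map t (Opens.infLERight (nb A hA x) (nb A hA y)).op (fun _ => sec A hA y)
    rw [← h1, ← h2]
    exact fam_eq_of_cocycle A t ht _ _ _
  obtain ⟨s, hs, -⟩ := TopCat.Sheaf.existsUnique_gluing' F (nb A hA) ⊤
    (fun x => homOfLE le_top) (top_le_iSup_nb A hA) sf hcomp
  refine ⟨s, ?_⟩
  apply hom_ext_fam
  intro W τ
  rw [fam_constMor]
  obtain ⟨W⟩ := W
  refine TopCat.Sheaf.eq_of_locally_eq' F (fun x : W => W ⊓ nb A hA x.1) W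
    (fun x => homOfLE inf_le_left)
    (fun y hy => Opens.mem_iSup.2 ⟨⟨y, hy⟩, ⟨hy, mem_nb A hA y⟩⟩) _ _ (fun x => ?_)
  have h1 : (F.obj.map (homOfLE (inf_le_left : W ⊓ nb A hA x.1 ≤ W)).op).hom
      ((F.obj.map (homOfLE (le_top : W ≤ ⊤)).op).hom s) =
      (F.obj.map (homOfLE (inf_le_right : W ⊓ nb A hA x.1 ≤ nb A hA x.1)).op).hom
        ((F.obj.map (homOfLE (le_top : nb A hA x.1 ≤ ⊤)).op).hom s) := by
    rw [map_map_thin F.obj _ _ (homOfLE (le_top : W ⊓ nb A hA x.1 ≤ ⊤)).op,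
      map_map_thin F.obj _ _ (homOfLE (le_top : W ⊓ nb A hA x.1 ≤ ⊤)).op]
  have h2 : (F.obj.map (homOfLE (le_top : nb A hA x.1 ≤ ⊤)).op).hom s = sf x.1 := hs x.1
  have h3 := fam_map t (homOfLE (inf_le_right : W ⊓ nb A hA x.1 ≤ nb A hA x.1)).op
    (fun _ => sec A hA x.1)
  have h4 := fam_map t (homOfLE (inf_le_left : W ⊓ nb A hA x.1 ≤ W)).op τ
  refine h1.trans ?_
  rw [h2]
  refine h3.symm.trans (Eq.trans ?_ h4)
  rw [tup_zero_eq A ((TupP A 0).map (homOfLE (inf_le_left : W ⊓ nb A hA x.1 ≤ W)).op τ)]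
  exact fam_eq_of_cocycle A t ht _ _ _

end sheaf

/-! ### the natural isomorphism -/

/-- the functor `F ↦ Hom(K A •, F)` on sheaves -/
abbrev T : CohTop.Ab S ⥤ CochainComplex AddCommGrpCat.{u} ℕ :=
  sheafToPresheaf (Opens.grothendieckTopology S) AddCommGrpCat.{u} ⋙ TT A

instance : (T A).Additive := inferInstance

/-- the augmentation `Γ(S, F) ⟶ Hom(K A 0, F)` -/
def aug (F : CohTop.Ab S) : F.obj.obj (op ⊤) ⟶ ((T A).obj F).X 0 :=
  AddCommGrpCat.ofHom (constHom A F.obj)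

lemma aug_apply (F : CohTop.Ab S) (s : F.obj.obj (op ⊤)) :
    (aug A F).hom s = constMor A F.obj s := rfl

lemma aug_d (F : CohTop.Ab S) : aug A F ≫ ((T A).obj F).d 0 1 = 0 := by
  ext s
  change (((TT A).obj F.obj).d 0 (0 + 1)).hom (constMor A F.obj s) = 0
  rw [TT_d]
  exact bdry_constMor A F.obj s

/-- the lift of the augmentation to the cycles -/
def augZ (F : CohTop.Ab S) : F.obj.obj (op ⊤) ⟶ ((T A).obj F).cycles 0 :=
  ((T A).obj F).liftCycles (aug A F) 1 (by simp) (aug_d A F)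

lemma augZ_i (F : CohTop.Ab S) : augZ A F ≫ ((T A).obj F).iCycles 0 = aug A F :=
  HomologicalComplex.liftCycles_i _ _ _ _ _

lemma aug_naturality {F G : CohTop.Ab S} (g : F ⟶ G) :
    aug A F ≫ ((T A).map g).f 0 = g.hom.app (op ⊤) ≫ aug A G := by
  ext s
  exact constMor_comp A g.hom s

lemma augZ_naturality {F G : CohTop.Ab S} (g : F ⟶ G) :
    augZ A F ≫ HomologicalComplex.cyclesMap ((T A).map g) 0 = g.hom.app (op ⊤) ≫ augZ A G := by
  rw [← cancel_mono (((T A).obj G).iCycles 0), Category.assoc, Category.assoc,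
    HomologicalComplex.cyclesMap_i, augZ_i, ← Category.assoc, augZ_i]
  exact aug_naturality A g

variable (hA : ∀ x : S, ∃ W : Opens S, x ∈ W ∧ Nonempty (A.obj (op W)))

include hA in
lemma isIso_augZ (F : CohTop.Ab S) : IsIso (augZ A F) := by
  rw [ConcreteCategory.isIso_iff_bijective]
  constructor
  · rw [injective_iff_map_eq_zero]
    intro s hs
    apply constMor_injective A hA F s
    have h1 := ConcreteCategory.congr_hom (augZ_i A F) s
    have h2 : (((T A).obj F).iCycles 0).hom ((augZ A F).hom s) = constMor A F.obj s := h1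
    rw [← h2]
    have h3 : (augZ A F).hom s = 0 := hs
    rw [h3, map_zero]
    rfl
  · intro z
    let t : K A 0 ⟶ F.obj := (((T A).obj F).iCycles 0).hom z
    have ht : bdry A 0 ≫ t = 0 := by
      have h1 := ConcreteCategory.congr_hom (((T A).obj F).iCycles_d 0 1) z
      have h2 : (((TT A).obj F.obj).d 0 (0 + 1)).hom t = 0 := h1
      rw [TT_d] at h2
      exact h2
    obtain ⟨s, hs⟩ := exists_constMor_eq A hA F t ht
    refine ⟨s, ?_⟩
    have hmono : Function.Injective (((T A).obj F).iCycles 0).hom := by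
      have : Mono (((T A).obj F).iCycles 0) := inferInstance
      exact (AddCommGrpCat.mono_iff_injective _).1 this
    apply hmono
    have h1 := ConcreteCategory.congr_hom (augZ_i A F) s
    exact h1.trans hs

/-- **`Γ(S, -) ≅ H^0(Hom(K A •, -))`** for a locally nonempty presheaf of sets `A`. -/
def H0Iso : TopSS.ΓV (⊤ : Opens S) ≅ T A ⋙ DescentSSGen.H0 AddCommGrpCat.{u} :=
  haveI : ∀ F : CohTop.Ab S, IsIso (augZ A F) := isIso_augZ A hA
  NatIso.ofComponents
    (fun F => asIso (augZ A F) ≪≫ CosimpLim.homologyπIso ((T A).obj F))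
    (by
      intro F G g
      change g.hom.app (op ⊤) ≫ augZ A G ≫ ((T A).obj G).homologyπ 0 =
        (augZ A F ≫ ((T A).obj F).homologyπ 0) ≫
          HomologicalComplex.homologyMap ((T A).map g) 0
      rw [Category.assoc, HomologicalComplex.homologyπ_naturality, ← Category.assoc,
        ← Category.assoc, augZ_naturality])

end Groth.Agent.Lib.Helper5.SecH0
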