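import Groth.Agent.Lib.Helper5.LHTuple
import Groth.Agent.Lib.Helper5.SecH0
import Groth.Agent.Lib.Helper5.DescentSSGen
import Groth.Agent.Lib.Helper5.PrecompDelta
import Groth.Agent.Lib.Helper5.HTerminal
import Groth.Agent.Lib.Helper5.SpSeqAbut

/-!
# The descent spectral sequence of a surjective local homeomorphism
-/

set_option autoImplicit false

universe u

open CategoryTheory CategoryTheory.Limits Opposite TopologicalSpace

noncomputable section

namespace Groth.Agent.Lib.Helper5.LHDescent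

open Groth.Agent.Lib.Helper5.FreePsh Groth.Agent.Lib.Helper5.LHSheaf
  Groth.Agent.Lib.Helper5.LHTuple Groth.Agent.Lib.Helper22

variable {X S : TopCat.{u}} (f : X ⟶ S)

/-- the presheaf of continuous sections of `f` -/
abbrev A : (Opens S)ᵒᵖ ⥤ Type u := SecP f ⊤

lemma locally_nonempty (hf : IsLocalHomeomorph f) (hsurj : Function.Surjective f) :
    ∀ x : S, ∃ W : Opens S, x ∈ W ∧ Nonempty ((A f).obj (op W)) := by
  intro x
  obtain ⟨y, rfl⟩ := hsurj x
  obtain ⟨V', -, hy, ⟨sh⟩⟩ := exists_sheet f hf ⊤ y trivial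
  exact ⟨hf.isOpenMap.functor.obj V', ⟨y, hy, rfl⟩, ⟨Sec.mapV le_top sh.τ⟩⟩

/-- the functor `F ↦ Hom(ℤ[sections of f]^{•+1}, F)` -/
abbrev T : CohTop.Ab S ⥤ CochainComplex AddCommGrpCat.{u} ℕ := SecH0.T (A f)

lemma hT (Q : CohTop.Ab S) (hQ : Injective Q) (k : ℕ) :
    IsZero (((T f).obj Q).homology (k + 1)) := by
  have hinj : Injective (C := (Opens S)ᵒᵖ ⥤ AddCommGrpCat.{u}) Q.obj :=
    Injective.injective_of_adjoint
      (sheafificationAdjunction (Opens.grothendieckTopology S) AddCommGrpCat.{u}) Q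
  exact isZero_homology_succ_of_injective (A f) Q.obj k

/-- `H^n` over the whole space as a derived functor of global sections -/
def RΓIso {Y : TopCat.{u}} (G : CohTop.Ab Y) (n : ℕ) :
    ((TopSS.ΓV (⊤ : Opens Y)).rightDerived n).obj G ≅ AddCommGrpCat.of (CohTop.H G n) :=
  TopSS.RΓVObjIso ⊤ n G ≪≫
    (Classical.choice (HTerminal.nonempty_H_addEquiv_HU (Opens.grothendieckTopology Y)
      (isTerminalTop : IsTerminal (⊤ : Opens Y)) G n)).symm.toAddCommGrpIso

/-- the abutment -/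
def abutIso (hf : IsLocalHomeomorph f) (hsurj : Function.Surjective f) (F : CohTop.Ab S) (n : ℕ) :
    ((T f ⋙ DescentSSGen.H0 AddCommGrpCat.{u}).rightDerived n).obj F ≅
      AddCommGrpCat.of (CohTop.H F n) :=
  (DimShift.rightDerivedIsoOfNatIso
    (SecH0.H0Iso (A f) (locally_nonempty f hf hsurj)).symm n).app F ≪≫ RΓIso F n

/-- `Hom(K p, -)` as sections of `Gsh` -/
def evalIso (p : ℕ) :
    T f ⋙ HomologicalComplex.eval AddCommGrpCat.{u} (ComplexShape.up ℕ) p ≅
      Gsh (ap f p) ⋙ TopSS.ΓV (⊤ : Opens (Xp f p)) :=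
  Functor.associator _ _ _ ≪≫
    Functor.isoWhiskerLeft (sheafToPresheaf (Opens.grothendieckTopology S) AddCommGrpCat.{u})
      (TTevalIso (A f) p ≪≫ preadditiveCoyoneda.mapIso (Ziso (secTupIso f p)).op) ≪≫
    NatIso.ofComponents (fun F => Iso.refl _) (by
      intro F G g
      exact (Category.comp_id _).trans (Category.id_comp _).symm)

/-- `Hom(K p, -)` as sections of the inverse image -/
def evalPullIso (hf : IsLocalHomeomorph f) (p : ℕ) :
    T f ⋙ HomologicalComplex.eval AddCommGrpCat.{u} (ComplexShape.up ℕ) p ≅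
      CohPull.inv (ap f p) ⋙ TopSS.ΓV (⊤ : Opens (Xp f p)) :=
  evalIso f p ≪≫
    Functor.isoWhiskerRight (pullIso (ap f p) (isLocalHomeomorph_ap p hf)).symm _

lemma hacyc (hf : IsLocalHomeomorph f) (p : ℕ) (I : CohTop.Ab S) (hI : Injective I) (n : ℕ) :
    IsZero (((TopSS.ΓV (⊤ : Opens (Xp f p))).rightDerived (n + 1)).obj
      ((CohPull.inv (ap f p)).obj I)) := by
  haveI := isFlasque_inv_obj (ap f p) (isLocalHomeomorph_ap p hf) I
  exact TopSS.isZero_RΓV_succ_of_flasque ⊤ _ n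

/-- the `E₁` terms -/
def e1Iso (hf : IsLocalHomeomorph f) (F : CohTop.Ab S) (p q : ℕ) :
    ((T f ⋙ HomologicalComplex.eval AddCommGrpCat.{u} (ComplexShape.up ℕ) p).rightDerived q).obj
      F ≅ AddCommGrpCat.of (CohTop.H ((CohTop.pull (ap f p)).obj F) q) :=
  (DimShift.rightDerivedIsoOfNatIso (evalPullIso f hf p) q).app F ≪≫
    (PrecompDelta.rightDerivedPrecompIso (CohPull.inv (ap f p))
      (TopSS.ΓV (⊤ : Opens (Xp f p))) (hacyc f hf p) q).app F ≪≫
    RΓIso ((CohPull.inv (ap f p)).obj F) q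

/-- **the descent spectral sequence of a surjective local homeomorphism** -/
theorem exists_spectralSequence (hf : IsLocalHomeomorph f) (hsurj : Function.Surjective f)
    (F : CohTop.Ab S) :
    ∃ (E : CohomologicalSpectralSequence AddCommGrpCat.{u} 1)
      (a : SpSeq.Abutment E (fun n : ℤ =>
        if 0 ≤ n then AddCommGrpCat.of (CohTop.H F n.toNat) else AddCommGrpCat.of PUnit.{u + 1})),
      (∀ n, a.IsFinite n) ∧ SpSeq.IsBounded E ∧
      ∀ p q : ℤ, Nonempty ((E.page 1 le_rfl).X (p, q) ≅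
        (if 0 ≤ p ∧ 0 ≤ q then
          AddCommGrpCat.of (CohTop.H ((CohTop.pull (ap f p.toNat)).obj F) q.toNat)
         else AddCommGrpCat.of PUnit.{u + 1})) := by
  have hZ : IsZero (AddCommGrpCat.of PUnit.{u + 1}) := AddCommGrpCat.isZero_of_subsingleton _
  obtain ⟨E, a, hfin, hb, hE⟩ := DescentSSGen.exists_spectralSequence (T f) (hT f) F
    (AddCommGrpCat.of PUnit.{u + 1}) hZ
  let eH : ∀ n : ℤ,
      (if 0 ≤ n then ((T f ⋙ DescentSSGen.H0 AddCommGrpCat.{u}).rightDerived n.toNat).obj F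
        else AddCommGrpCat.of PUnit.{u + 1}) ≅
      (if 0 ≤ n then AddCommGrpCat.of (CohTop.H F n.toNat)
        else AddCommGrpCat.of PUnit.{u + 1}) := fun n =>
    if h : 0 ≤ n then eqToIso (if_pos h) ≪≫ abutIso f hf hsurj F n.toNat ≪≫
      eqToIso (if_pos h).symm
    else eqToIso (if_neg h) ≪≫ eqToIso (if_neg h).symm
  refine ⟨E, SpSeqAbut.transport a eH, fun n => SpSeqAbut.transport_isFinite a eH n (hfin n), hb,
    fun p q => ?_⟩
  obtain ⟨e⟩ := hE p q
  by_cases h : 0 ≤ p ∧ 0 ≤ q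
  · rw [if_pos h] at e ⊢
    exact ⟨e ≪≫ e1Iso f hf F p.toNat q.toNat⟩
  · rw [if_neg h] at e ⊢
    exact ⟨e⟩

end Groth.Agent.Lib.Helper5.LHDescent
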