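import Groth.Agent.Lib.Helper5.ClosedRes
import Groth.Agent.Lib.Helper22.CohTop.PushInjective
import Groth.Agent.Lib.Helper22.DimShiftIso

/-!
# Cohomology of a locally finite product of sheaves supported on closed subsets

For a locally finite family of closed subsets `Z σ` of `X` and abelian sheaves `M σ` on `Z σ`,
`H^q(X, ∏_σ i_{σ,*} M σ) ≅ ∏_σ H^q(Z σ, M σ)` (in the form of right derived functors of global
sections).
-/

set_option autoImplicit false

universe u

open CategoryTheory CategoryTheory.Limits TopologicalSpace Opposite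

noncomputable section

namespace Groth.Agent.Lib.Helper5.ProdCoh

open Groth.Agent.Lib.Helper5.PullStalk Groth.Agent.Lib.Helper5.SubspaceSect
  Groth.Agent.Lib.Helper5.LFProd Groth.Agent.Lib.Helper5.ClosedRes
  Groth.Agent.Lib.Helper22 Groth.Agent.Lib.Helper22.DimShift

/-! ### Products and cokernels of abelian groups -/

section Ab

variable {ι : Type u}

/-- the product of a family of additive maps -/
def piMapHom {A B : ι → Type u} [∀ σ, AddCommGroup (A σ)] [∀ σ, AddCommGroup (B σ)]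
    (g : ∀ σ, A σ →+ B σ) : (∀ σ, A σ) →+ (∀ σ, B σ) where
  toFun a σ := g σ (a σ)
  map_zero' := by funext σ; simp
  map_add' a b := by funext σ; simp

/-- the product of a family of morphisms of abelian groups -/
def piMap {A B : ι → AddCommGrpCat.{u}} (g : ∀ σ, A σ ⟶ B σ) :
    AddCommGrpCat.of (∀ σ, A σ) ⟶ AddCommGrpCat.of (∀ σ, B σ) :=
  AddCommGrpCat.ofHom (piMapHom fun σ => (g σ).hom)

lemma piMap_apply {A B : ι → AddCommGrpCat.{u}} (g : ∀ σ, A σ ⟶ B σ) (a : ∀ σ, A σ) (σ : ι) :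
    (piMap g).hom a σ = (g σ).hom (a σ) := rfl

/-- a product of isomorphisms -/
def piIso {A B : ι → AddCommGrpCat.{u}} (e : ∀ σ, A σ ≅ B σ) :
    AddCommGrpCat.of (∀ σ, A σ) ≅ AddCommGrpCat.of (∀ σ, B σ) :=
  (AddEquiv.piCongrRight fun σ => (e σ).addCommGroupIsoToAddEquiv).toAddCommGrpIso

lemma piMap_comp_zero {A B : ι → AddCommGrpCat.{u}} (g : ∀ σ, A σ ⟶ B σ) :
    piMap g ≫ piMap (fun σ => cokernel.π (g σ)) = 0 := by
  ext a σ
  show (cokernel.π (g σ)).hom ((g σ).hom (a σ)) = 0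
  rw [← ConcreteCategory.comp_apply, cokernel.condition]
  rfl

/-- cokernels commute with products of abelian groups -/
def cokerPiIso {A B : ι → AddCommGrpCat.{u}} (g : ∀ σ, A σ ⟶ B σ) :
    cokernel (piMap g) ≅ AddCommGrpCat.of (∀ σ, (cokernel (g σ) : AddCommGrpCat.{u})) := by
  let S : ShortComplex AddCommGrpCat.{u} :=
    ShortComplex.mk (piMap g) (piMap fun σ => cokernel.π (g σ)) (piMap_comp_zero g)
  have hS : S.Exact := by
    rw [ShortComplex.ab_exact_iff]
    intro b hb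
    have h1 : ∀ σ, ∃ a : A σ, (g σ).hom a = b σ := by
      intro σ
      have hex : (ShortComplex.mk (g σ) (cokernel.π (g σ)) (cokernel.condition _)).Exact :=
        ShortComplex.exact_cokernel _
      rw [ShortComplex.ab_exact_iff] at hex
      exact hex (b σ) (congrFun hb σ)
    choose a ha using h1
    exact ⟨a, funext ha⟩
  haveI : Epi S.g := by
    rw [AddCommGrpCat.epi_iff_surjective]
    intro c
    have h1 : ∀ σ, ∃ b : B σ, (cokernel.π (g σ)).hom b = c σ := fun σ =>
      (AddCommGrpCat.epi_iff_surjective _).1 inferInstance (c σ)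
    choose b hb using h1
    exact ⟨b, funext hb⟩
  exact (cokernelIsCokernel (piMap g)).coconePointUniqueUpToIso hS.gIsCokernel

end Ab

/-! ### The product sheaf -/

lemma additive_push {X Y : TopCat.{u}} (f : Y ⟶ X) : (CohTop.push f).Additive := inferInstance

lemma preservesFiniteLimits_push {X Y : TopCat.{u}} (f : Y ⟶ X) :
    PreservesFiniteLimits (CohTop.push f) := inferInstance

instance {X : TopCat.{u}} (Z : Set X) : (CohTop.push (incl Z)).Additive := additive_push _

instance {X : TopCat.{u}} (Z : Set X) : PreservesFiniteLimits (CohTop.push (incl Z)) :=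
  preservesFiniteLimits_push _

variable {X : TopCat.{u}} {ι : Type u} (Z : ι → Set X)

/-- the product of the direct images -/
abbrev P (M : ∀ σ, CohTop.Ab (TopCat.of (Z σ))) : CohTop.Ab X :=
  ∏ᶜ fun σ => (CohTop.push (incl (Z σ))).obj (M σ)

/-- functoriality of `P` -/
abbrev Pmap {M M' : ∀ σ, CohTop.Ab (TopCat.of (Z σ))} (f : ∀ σ, M σ ⟶ M' σ) : P Z M ⟶ P Z M' :=
  Limits.Pi.map fun σ => (CohTop.push (incl (Z σ))).map (f σ)

lemma locFin_push (hlf : LocallyFinite Z) (M : ∀ σ, CohTop.Ab (TopCat.of (Z σ))) :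
    LocFin fun σ => (CohTop.push (incl (Z σ))).obj (M σ) := by
  intro x
  obtain ⟨t, ht, hfin⟩ := hlf x
  obtain ⟨W₀, hW₀t, hW₀o, hxW₀⟩ := mem_nhds_iff.1 ht
  refine ⟨⟨W₀, hW₀o⟩, hxW₀, hfin.subset fun σ hσ => ?_⟩
  by_contra hne
  apply hσ
  apply trivOn_push
  rw [Set.disjoint_left]
  intro y hyW hyZ
  exact hne ⟨y, hyZ, hW₀t hyW⟩

/-- global sections over `X` -/
abbrev ΓX (X : TopCat.{u}) : CohTop.Ab X ⥤ AddCommGrpCat.{u} := TopSS.ΓV (⊤ : Opens X)

/-- global sections over `Z σ` -/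
abbrev Γσ (σ : ι) : CohTop.Ab (TopCat.of (Z σ)) ⥤ AddCommGrpCat.{u} :=
  TopSS.ΓV (⊤ : Opens (TopCat.of (Z σ)))

/-- global sections of the product, as an additive map to the product of global sections -/
def toPi (M : ∀ σ, CohTop.Ab (TopCat.of (Z σ))) :
    (P Z M).obj.obj (op ⊤) →+ ∀ σ, (M σ).obj.obj (op ⊤) where
  toFun s σ := secπ (fun σ => (CohTop.push (incl (Z σ))).obj (M σ)) ⊤ σ s
  map_zero' := by funext σ; exact map_zero _
  map_add' a b := by funext σ; exact map_add _ a b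

lemma toPi_bijective (M : ∀ σ, CohTop.Ab (TopCat.of (Z σ))) :
    Function.Bijective (toPi Z M) := by
  constructor
  · intro s t h
    apply sec_ext
    intro σ
    exact congrFun h σ
  · intro s
    obtain ⟨t, ht⟩ := exists_sec (fun σ => (CohTop.push (incl (Z σ))).obj (M σ)) (V := ⊤) s
    exact ⟨t, funext ht⟩

/-- global sections of the product -/
def Γ0Iso (M : ∀ σ, CohTop.Ab (TopCat.of (Z σ))) :
    (ΓX X).obj (P Z M) ≅ AddCommGrpCat.of (∀ σ, ((Γσ Z σ).obj (M σ) : AddCommGrpCat.{u})) :=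
  (AddEquiv.ofBijective (toPi Z M) (toPi_bijective Z M)).toAddCommGrpIso

lemma Γ0Iso_natural {M M' : ∀ σ, CohTop.Ab (TopCat.of (Z σ))} (f : ∀ σ, M σ ⟶ M' σ) :
    (ΓX X).map (Pmap Z f) ≫ (Γ0Iso Z M').hom =
      (Γ0Iso Z M).hom ≫ piMap fun σ => (Γσ Z σ).map (f σ) := by
  ext s σ
  exact secπ_map (fun σ => (CohTop.push (incl (Z σ))).map (f σ)) ⊤ σ s

/-! ### The dimension shifting sequence -/

variable (hZ : ∀ σ, IsClosed (Z σ))

include hZ in
lemma isClosedEmbedding_incl (σ : ι) : Topology.IsClosedEmbedding (incl (Z σ)) :=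
  (hZ σ).isClosedEmbedding_subtypeVal

/-- the product of the direct images of the sequences `0 → M σ → Q σ → C σ → 0` -/
def PS (M : ∀ σ, CohTop.Ab (TopCat.of (Z σ))) : ShortComplex (CohTop.Ab X) :=
  ShortComplex.mk (Pmap Z fun σ => (injSC (M σ)).f) (Pmap Z fun σ => (injSC (M σ)).g) (by
    apply Limits.Pi.hom_ext
    intro σ
    simp only [Category.assoc, Limits.Pi.map_π, Limits.Pi.map_π_assoc, zero_comp]
    rw [← Functor.map_comp, (injSC (M σ)).zero, Functor.map_zero, comp_zero])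

include hZ in
lemma PS_shortExact (hlf : LocallyFinite Z) (M : ∀ σ, CohTop.Ab (TopCat.of (Z σ))) :
    (PS Z M).ShortExact := by
  have hepi : ∀ σ, Epi ((CohTop.push (incl (Z σ))).map (injSC (M σ)).g) := fun σ => by
    haveI : Epi (injSC (M σ)).g := (injSC_shortExact (M σ)).epi_g
    exact Groth.Agent.Lib.Helper22.CohTop.epi_push_map_of_isClosedEmbedding _ (isClosedEmbedding_incl Z hZ σ) _
  have hse : ∀ σ, ((injSC (M σ)).map (CohTop.push (incl (Z σ)))).ShortExact := fun σ =>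
    shortExact_map_of_epi' (CohTop.push (incl (Z σ))) (injSC_shortExact (M σ)) (hepi σ)
  have hex : (PS Z M).Exact :=
    exact_pi_map (fun σ => (injSC (M σ)).map (CohTop.push (incl (Z σ))))
      (locFin_push Z hlf fun σ => (injSC (M σ)).X₂) fun σ => (hse σ).exact
  haveI : ∀ σ, Mono ((CohTop.push (incl (Z σ))).map (injSC (M σ)).f) := fun σ => (hse σ).mono_f
  haveI : Mono (PS Z M).f := inferInstanceAs
    (Mono (Limits.Pi.map fun σ => (CohTop.push (incl (Z σ))).map (injSC (M σ)).f))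
  haveI : Epi (PS Z M).g :=
    epi_pi_map _ (locFin_push Z hlf fun σ => (injSC (M σ)).X₃) hepi
  exact ShortComplex.ShortExact.mk' hex inferInstance inferInstance

instance injective_PS_X₂ (M : ∀ σ, CohTop.Ab (TopCat.of (Z σ))) : Injective (PS Z M).X₂ := by
  haveI : ∀ σ, Injective ((CohTop.push (incl (Z σ))).obj (injSC (M σ)).X₂) := fun σ =>
    Groth.Agent.Lib.Helper22.CohTop.injective_push _ _
  exact inferInstanceAs (Injective (∏ᶜ fun σ => (CohTop.push (incl (Z σ))).obj (injSC (M σ)).X₂))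

/-! ### The main result -/

include hZ in
theorem nonempty_iso (hlf : LocallyFinite Z) (q : ℕ) :
    ∀ M : (∀ σ, CohTop.Ab (TopCat.of (Z σ))),
      Nonempty (((ΓX X).rightDerived q).obj (P Z M) ≅
        AddCommGrpCat.of (∀ σ, (((Γσ Z σ).rightDerived q).obj (M σ) : AddCommGrpCat.{u}))) := by
  cases q with
  | zero =>
    intro M
    exact ⟨(ΓX X).rightDerivedZeroIsoSelf.app (P Z M) ≪≫ Γ0Iso Z M ≪≫
      piIso fun σ => ((Γσ Z σ).rightDerivedZeroIsoSelf.app (M σ)).symm⟩
  | succ q =>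
    induction q with
    | zero =>
      intro M
      have e1 := rightDerivedOneIso (ΓX X) (PS Z M) (PS_shortExact Z hZ hlf M)
      have e2 : ∀ σ, ((Γσ Z σ).rightDerived 1).obj (M σ) ≅
          cokernel ((Γσ Z σ).map (injSC (M σ)).g) := fun σ =>
        rightDerivedOneIso (Γσ Z σ) (injSC (M σ)) (injSC_shortExact (M σ))
      have e3 : cokernel ((ΓX X).map (PS Z M).g) ≅
          cokernel (piMap fun σ => (Γσ Z σ).map (injSC (M σ)).g) :=
        cokernel.mapIso _ _ (Γ0Iso Z _) (Γ0Iso Z _)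
          (Γ0Iso_natural Z fun σ => (injSC (M σ)).g)
      exact ⟨e1 ≪≫ e3 ≪≫ cokerPiIso _ ≪≫ piIso fun σ => (e2 σ).symm⟩
    | succ q ih =>
      intro M
      have e1 := rightDerivedSuccSuccIso (ΓX X) (PS Z M) (PS_shortExact Z hZ hlf M) q
      have e2 : ∀ σ, ((Γσ Z σ).rightDerived (q + 2)).obj (M σ) ≅
          ((Γσ Z σ).rightDerived (q + 1)).obj (injSC (M σ)).X₃ := fun σ =>
        rightDerivedSuccSuccIso (Γσ Z σ) (injSC (M σ)) (injSC_shortExact (M σ)) q
      obtain ⟨e3⟩ := ih fun σ => (injSC (M σ)).X₃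
      exact ⟨e1 ≪≫ e3 ≪≫ piIso fun σ => (e2 σ).symm⟩

end Groth.Agent.Lib.Helper5.ProdCoh
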