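import Groth.Agent.Lib.Helper5.HyperSS
import Groth.Agent.Lib.Helper5.ClosedCx
import Groth.Agent.Lib.Helper5.ProdCoh
import Groth.Agent.Lib.Helper5.LHDescent
import Groth.Agent.Lib.Helper5.SpSeqAbut

/-!
# The descent spectral sequence of a locally finite closed cover
-/

set_option autoImplicit false

universe u

open CategoryTheory CategoryTheory.Limits TopologicalSpace Opposite

noncomputable section

namespace Groth.Agent.Lib.Helper5.ClosedDescent

open Groth.Agent.Lib.Helper5.SubspaceSect Groth.Agent.Lib.Helper5.ClosedCx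
  Groth.Agent.Lib.Helper5.ProdCoh

variable {X : TopCat.{u}} {I : Type u} (U : I → Set X)

lemma locallyFinite_Zσ (hlf : LocallyFinite U) (n : ℕ) :
    LocallyFinite fun σ : Fin n → I => Zσ U σ := by
  intro x
  obtain ⟨t, ht, hfin⟩ := hlf x
  refine ⟨t, ht, (Set.Finite.pi' (fun _ : Fin n => hfin)).subset ?_⟩
  rintro σ ⟨y, hyZ, hyt⟩ k
  exact ⟨y, Set.mem_iInter.1 hyZ k, hyt⟩

variable (hU : ∀ i, IsClosed (U i)) (F : CohTop.Ab X)

include hU in
/-- the `E₁` terms -/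
lemma nonempty_e1Iso (hlf : LocallyFinite U) (p q : ℕ) :
    Nonempty (((TopSS.ΓV (⊤ : Opens X)).rightDerived q).obj ((KC U F hU).X p) ≅
      AddCommGrpCat.of (∀ σ : Fin (p + 1) → I,
        CohTop.H ((CohTop.pull (incl (⋂ k, U (σ k)))).obj F) q)) := by
  obtain ⟨e⟩ := ProdCoh.nonempty_iso (fun σ : Fin (p + 1) → I => Zσ U σ)
    (fun σ => isClosed_Zσ U hU σ) (locallyFinite_Zσ U hlf (p + 1)) q
    (fun σ => Gs (Zσ U σ) F)
  exact ⟨e ≪≫ piIso fun σ => LHDescent.RΓIso (Gs (Zσ U σ) F) q⟩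

include hU in
/-- **the descent spectral sequence of a locally finite closed cover** -/
theorem exists_spectralSequence (hlf : LocallyFinite U) (hcov : ⋃ i, U i = Set.univ) :
    ∃ (E : CohomologicalSpectralSequence AddCommGrpCat.{u} 1)
      (a : SpSeq.Abutment E (fun n : ℤ =>
        if 0 ≤ n then AddCommGrpCat.of (CohTop.H F n.toNat) else AddCommGrpCat.of PUnit.{u + 1})),
      (∀ n, a.IsFinite n) ∧ SpSeq.IsBounded E ∧
      ∀ p q : ℤ, Nonempty ((E.page 1 le_rfl).X (p, q) ≅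
        (if 0 ≤ p ∧ 0 ≤ q then
          AddCommGrpCat.of (∀ σ : Fin (p.toNat + 1) → I,
            CohTop.H ((CohTop.pull (incl (⋂ k, U (σ k)))).obj F) q.toNat)
         else AddCommGrpCat.of PUnit.{u + 1})) := by
  have hZ : IsZero (AddCommGrpCat.of PUnit.{u + 1}) := AddCommGrpCat.isZero_of_subsingleton _
  obtain ⟨E, a, hfin, hb, hE⟩ := HyperSS.exists_spectralSequence (TopSS.ΓV (⊤ : Opens X))
    (KC U F hU) (isZero_homology_succ U F hU hlf hcov) (AddCommGrpCat.of PUnit.{u + 1}) hZ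
  obtain ⟨eF⟩ := nonempty_homologyIso U F hU hlf hcov
  let eH : ∀ n : ℤ,
      (if 0 ≤ n then ((TopSS.ΓV (⊤ : Opens X)).rightDerived n.toNat).obj ((KC U F hU).homology 0)
        else AddCommGrpCat.of PUnit.{u + 1}) ≅
      (if 0 ≤ n then AddCommGrpCat.of (CohTop.H F n.toNat)
        else AddCommGrpCat.of PUnit.{u + 1}) := fun n =>
    if h : 0 ≤ n then eqToIso (if_pos h) ≪≫
      ((TopSS.ΓV (⊤ : Opens X)).rightDerived n.toNat).mapIso eF ≪≫ LHDescent.RΓIso F n.toNat ≪≫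
      eqToIso (if_pos h).symm
    else eqToIso (if_neg h) ≪≫ eqToIso (if_neg h).symm
  refine ⟨E, SpSeqAbut.transport a eH, fun n => SpSeqAbut.transport_isFinite a eH n (hfin n), hb,
    fun p q => ?_⟩
  obtain ⟨e⟩ := hE p q
  by_cases h : 0 ≤ p ∧ 0 ≤ q
  · rw [if_pos h] at e ⊢
    obtain ⟨e'⟩ := nonempty_e1Iso U hU F hlf p.toNat q.toNat
    exact ⟨e ≪≫ e'⟩
  · rw [if_neg h] at e ⊢
    exact ⟨e⟩

end Groth.Agent.Lib.Helper5.ClosedDescent
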