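import Groth.Agent.Lib.Helper5.SectSupp
import Groth.Agent.Lib.Helper22.CohTop.ClosedEmb
import Mathlib.CategoryTheory.Adjunction.FullyFaithful

/-!
# Direct image along a closed embedding is fully faithful, with essential image the sheaves
vanishing off the image

(generalization of the first half of `ClosedAdj` to arbitrary closed embeddings)
-/

set_option autoImplicit false
universe u
open CategoryTheory CategoryTheory.Limits TopologicalSpace Opposite

namespace Groth.Agent.Lib.Helper5.ClosedEmbFF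

open Groth.Agent.Lib.Helper5.SectSupp

variable {Z X : TopCat.{u}} (i : Z ⟶ X) (hi : Topology.IsClosedEmbedding i)

/-- the open complement of the image -/
def Uc : Opens X := ⟨(Set.range i)ᶜ, hi.isClosed_range.isOpen_compl⟩

lemma mem_Uc {x : X} : x ∈ Uc i hi ↔ x ∉ Set.range i := Iff.rfl

/-- `κ W = i(W) ∪ (X ∖ i(Z))` -/
def κ (W : Opens Z) : Opens X :=
  ⟨{x : X | (∃ z ∈ W, i z = x) ∨ x ∉ Set.range i}, by
    obtain ⟨V, hV, hVW⟩ := hi.isInducing.isOpen_iff.1 W.2
    have : {x : X | (∃ z ∈ W, i z = x) ∨ x ∉ Set.range i} = V ∪ (Set.range i)ᶜ := by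
      ext x
      constructor
      · rintro (⟨z, hz, rfl⟩ | hx)
        · left
          have : z ∈ i ⁻¹' V := by
            rw [hVW]
            exact hz
          exact this
        · exact Or.inr hx
      · rintro (hx | hx)
        · by_cases hxU : x ∈ Set.range i
          · obtain ⟨z, rfl⟩ := hxU
            left
            refine ⟨z, ?_, rfl⟩
            have : z ∈ W.carrier := by
              rw [← hVW]
              exact hx
            exact this
          · exact Or.inr hxU
        · exact Or.inr hx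
    rw [this]
    exact hV.union hi.isClosed_range.isOpen_compl⟩

lemma mem_κ {W : Opens Z} {x : X} :
    x ∈ κ i hi W ↔ (∃ z ∈ W, i z = x) ∨ x ∉ Set.range i := Iff.rfl

lemma map_κ (W : Opens Z) : (Opens.map i).obj (κ i hi W) = W := by
  refine Opens.ext (Set.ext fun z => ?_)
  change i z ∈ κ i hi W ↔ z ∈ W
  rw [mem_κ]
  constructor
  · rintro (⟨z', hz', h⟩ | hx)
    · rw [← hi.injective h]
      exact hz'
    · exact absurd ⟨z, rfl⟩ hx
  · intro hz
    exact Or.inl ⟨z, hz, rfl⟩

lemma κ_mono {W W' : Opens Z} (h : W ≤ W') : κ i hi W ≤ κ i hi W' := by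
  intro x hx
  have hx := (mem_κ i hi).1 hx
  refine (mem_κ i hi).2 ?_
  rcases hx with ⟨z, hz, h'⟩ | hx
  · exact Or.inl ⟨z, h hz, h'⟩
  · exact Or.inr hx

lemma le_κ (W : Opens Z) : Uc i hi ≤ κ i hi W := fun _ hx => Or.inr hx

lemma le_κ_map (V : Opens X) : V ≤ κ i hi ((Opens.map i).obj V) := by
  intro x hx
  refine (mem_κ i hi).2 ?_
  by_cases hxU : x ∈ Set.range i
  · obtain ⟨z, rfl⟩ := hxU
    exact Or.inl ⟨z, hx, rfl⟩
  · exact Or.inr hxU

lemma κ_map_le (V : Opens X) : κ i hi ((Opens.map i).obj V) ≤ V ⊔ Uc i hi := by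
  intro x hx
  have hx := (mem_κ i hi).1 hx
  rcases hx with ⟨z, hz, rfl⟩ | hx
  · exact Or.inl hz
  · exact Or.inr hx

lemma κ_inf_le (W W' : Opens Z) : κ i hi W ⊓ κ i hi W' ≤ κ i hi (W ⊓ W') := by
  rintro x ⟨h1, h2⟩
  have h1 := (mem_κ i hi).1 h1
  have h2 := (mem_κ i hi).1 h2
  refine (mem_κ i hi).2 ?_
  rcases h1 with ⟨z, hz, h'⟩ | hx
  · rcases h2 with ⟨z', hz', h''⟩ | hx
    · have : z' = z := hi.injective (h''.trans h'.symm)
      subst this
      exact Or.inl ⟨z', ⟨hz, hz'⟩, h'⟩
    · exact Or.inr hx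
  · exact Or.inr hx

lemma map_inf_eq_bot (V : Opens X) (hV : V ≤ Uc i hi) :
    (Opens.map i).obj V = ⊥ := by
  refine Opens.ext (Set.ext fun z => ?_)
  constructor
  · intro hz
    exact absurd ⟨z, rfl⟩ (hV hz)
  · intro hz
    exact absurd hz (Set.notMem_empty z)

/-- `κ` as a functor -/
def κF : Opens Z ⥤ Opens X where
  obj := κ i hi
  map f := homOfLE (κ_mono i hi (leOfHom f))

lemma map_thin {C : Type*} [Category C] {T : TopCat.{u}} (P : (Opens T)ᵒᵖ ⥤ C)
    {A B : (Opens T)ᵒᵖ} (f g : A ⟶ B) : P.map f = P.map g := by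
  rw [Subsingleton.elim f g]

lemma map_comp_thin {C : Type*} [Category C] {T : TopCat.{u}} (P : (Opens T)ᵒᵖ ⥤ C)
    {A B D : (Opens T)ᵒᵖ} (f : A ⟶ B) (g : B ⟶ D) (h : A ⟶ D) : P.map f ≫ P.map g = P.map h := by
  rw [← P.map_comp]
  exact map_thin P _ _

/-! ### `i_*` is fully faithful -/

include hi in
theorem faithful_push : (CohTop.push i).Faithful where
  map_injective {G G'} ψ ψ' h := by
    apply Sheaf.hom_ext
    apply NatTrans.ext
    funext W
    obtain ⟨V, hV⟩ : ∃ V, (Opens.map i).obj V = W.unop :=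
      ⟨κ i hi W.unop, map_κ i hi W.unop⟩
    have hW : W = op ((Opens.map i).obj V) := by rw [hV]
    subst hW
    exact congrArg (fun f => f.hom.app (op V)) h

/-- components of a morphism between direct images, with the expected types -/
noncomputable def cmp {G G' : CohTop.Ab Z}
    (φ : (CohTop.push i).obj G ⟶ (CohTop.push i).obj G')
    (V : Opens X) :
    G.obj.obj (op ((Opens.map i).obj V)) ⟶
      G'.obj.obj (op ((Opens.map i).obj V)) := φ.hom.app (op V)

lemma cmp_naturality {G G' : CohTop.Ab Z}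
    (φ : (CohTop.push i).obj G ⟶ (CohTop.push i).obj G')
    {V V' : Opens X} (g : V' ⟶ V) :
    G.obj.map ((Opens.map i).map g).op ≫ cmp i φ V' =
      cmp i φ V ≫ G'.obj.map ((Opens.map i).map g).op :=
  φ.hom.naturality g.op

/-- the preimage of a morphism `i_* G ⟶ i_* G'` -/
noncomputable def preimg {G G' : CohTop.Ab Z}
    (φ : (CohTop.push i).obj G ⟶ (CohTop.push i).obj G') :
    G ⟶ G' :=
  ⟨{ app := fun W =>
        G.obj.map (homOfLE (le_of_eq (map_κ i hi W.unop))).op ≫ cmp i φ (κ i hi W.unop) ≫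
          G'.obj.map (homOfLE (le_of_eq (map_κ i hi W.unop).symm)).op
     naturality := by
       intro W W' f
       have g : κ i hi W'.unop ⟶ κ i hi W.unop := homOfLE (κ_mono i hi (leOfHom f.unop))
       have h2 := cmp_naturality i φ g
       have h1 : G.obj.map f ≫ G.obj.map (homOfLE (le_of_eq (map_κ i hi W'.unop))).op =
           G.obj.map (homOfLE (le_of_eq (map_κ i hi W.unop))).op ≫
             G.obj.map ((Opens.map i).map g).op := by
         rw [← G.obj.map_comp, ← G.obj.map_comp]
         exact map_thin G.obj _ _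
       have h3 : G'.obj.map ((Opens.map i).map g).op ≫
           G'.obj.map (homOfLE (le_of_eq (map_κ i hi W'.unop).symm)).op =
           G'.obj.map (homOfLE (le_of_eq (map_κ i hi W.unop).symm)).op ≫ G'.obj.map f := by
         rw [← G'.obj.map_comp, ← G'.obj.map_comp]
         exact map_thin G'.obj _ _
       change G.obj.map f ≫ (G.obj.map _ ≫ cmp i φ (κ i hi W'.unop) ≫ G'.obj.map _) =
         (G.obj.map _ ≫ cmp i φ (κ i hi W.unop) ≫ G'.obj.map _) ≫ G'.obj.map f
       rw [← Category.assoc, h1, Category.assoc,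
         ← Category.assoc (G.obj.map ((Opens.map i).map g).op), h2]
       simp only [Category.assoc]
       rw [h3] }⟩

include hi in
lemma push_map_preimg {G G' : CohTop.Ab Z}
    (φ : (CohTop.push i).obj G ⟶ (CohTop.push i).obj G') :
    (CohTop.push i).map (preimg i hi φ) = φ := by
  apply Sheaf.hom_ext
  apply NatTrans.ext
  funext V
  have g : V.unop ⟶ κ i hi ((Opens.map i).obj V.unop) :=
    homOfLE (le_κ_map i hi V.unop)
  have h2 := cmp_naturality i φ g
  have hb : G'.obj.map (homOfLE (le_of_eq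
      (map_κ i hi ((Opens.map i).obj V.unop)).symm)).op =
      G'.obj.map ((Opens.map i).map g).op := map_thin G'.obj _ _
  have ha : G.obj.map (homOfLE (le_of_eq
      (map_κ i hi ((Opens.map i).obj V.unop)))).op ≫
      G.obj.map ((Opens.map i).map g).op = 𝟙 _ := by
    rw [← G.obj.map_comp, map_thin G.obj _ (𝟙 _), G.obj.map_id]
  change G.obj.map (homOfLE (le_of_eq
      (map_κ i hi ((Opens.map i).obj V.unop)))).op ≫
    cmp i φ (κ i hi ((Opens.map i).obj V.unop)) ≫
      G'.obj.map (homOfLE (le_of_eq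
        (map_κ i hi ((Opens.map i).obj V.unop)).symm)).op = cmp i φ V.unop
  rw [hb, ← h2, ← Category.assoc, ha, Category.id_comp]

include hi in
theorem full_push : (CohTop.push i).Full where
  map_surjective φ := ⟨preimg i hi φ, push_map_preimg i hi φ⟩

/-! ### sheaves vanishing on `U` are direct images -/

/-- the presheaf `W ↦ H(i(W) ∪ U)` on `Z` -/
noncomputable def Kp (H : CohTop.Ab X) : (Opens Z)ᵒᵖ ⥤ AddCommGrpCat.{u} :=
  (κF i hi).op ⋙ H.obj

theorem isSheaf_Kp (H : CohTop.Ab X)
    (hH : ∀ V : Opens X, V ≤ Uc i hi → Subsingleton (H.obj.obj (op V))) :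
    TopCat.Presheaf.IsSheaf (Kp i hi H) := by
  rw [TopCat.Presheaf.isSheaf_iff_isSheafUniqueGluing]
  intro ι W sf hc
  let Uf : Option ι → Opens X := fun o => match o with
    | none => Uc i hi
    | some a => κ i hi (W a)
  let sf' : ∀ o : Option ι, H.obj.obj (op (Uf o)) := fun o => match o with
    | none => 0
    | some a => sf a
  let iUV : ∀ o : Option ι, Uf o ⟶ κ i hi (iSup W) := fun o => match o with
    | none => homOfLE (le_κ i hi _)
    | some a => (κF i hi).map (Opens.leSupr W a)
  have hcover : κ i hi (iSup W) ≤ iSup Uf := by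
    intro x hx
    have hx := (mem_κ i hi).1 hx
    rcases hx with ⟨z, hz, rfl⟩ | hx
    · obtain ⟨a, ha⟩ := Opens.mem_iSup.1 hz
      exact Opens.mem_iSup.2 ⟨some a, Or.inl ⟨z, ha, rfl⟩⟩
    · exact Opens.mem_iSup.2 ⟨none, hx⟩
  have hcomp : TopCat.Presheaf.IsCompatible H.obj Uf sf' := by
    rintro (_ | a) (_ | b)
    · rfl
    · haveI := hH (Uf none ⊓ Uf (some b)) inf_le_left
      exact Subsingleton.elim _ _
    · haveI := hH (Uf (some a) ⊓ Uf none) inf_le_right
      exact Subsingleton.elim _ _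
    · have h1 := hc a b
      change (H.obj.map ((κF i hi).map (Opens.infLELeft (W a) (W b))).op).hom (sf a) =
        (H.obj.map ((κF i hi).map (Opens.infLERight (W a) (W b))).op).hom (sf b) at h1
      have e1 : H.obj.map (Opens.infLELeft (κ i hi (W a)) (κ i hi (W b))).op =
          H.obj.map ((κF i hi).map (Opens.infLELeft (W a) (W b))).op ≫
            H.obj.map (homOfLE (κ_inf_le i hi (W a) (W b))).op :=
        (map_comp_thin H.obj _ _ _).symm
      have e2 : H.obj.map (Opens.infLERight (κ i hi (W a)) (κ i hi (W b))).op =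
          H.obj.map ((κF i hi).map (Opens.infLERight (W a) (W b))).op ≫
            H.obj.map (homOfLE (κ_inf_le i hi (W a) (W b))).op :=
        (map_comp_thin H.obj _ _ _).symm
      change (H.obj.map (Opens.infLELeft (κ i hi (W a)) (κ i hi (W b))).op).hom (sf a) =
        (H.obj.map (Opens.infLERight (κ i hi (W a)) (κ i hi (W b))).op).hom (sf b)
      rw [e1, e2]
      exact congrArg (H.obj.map (homOfLE (κ_inf_le i hi (W a) (W b))).op).hom h1
  obtain ⟨s, hs, hsu⟩ := TopCat.Sheaf.existsUnique_gluing' H Uf (κ i hi (iSup W)) iUV hcover sf' hcomp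
  refine ⟨s, fun a => hs (some a), ?_⟩
  intro s' hs'
  apply hsu
  rintro (_ | a)
  · haveI := hH (Uc i hi) le_rfl
    exact Subsingleton.elim _ _
  · exact hs' a

/-- the sheaf `W ↦ H(i(W) ∪ U)` on `Z` -/
noncomputable def K (H : CohTop.Ab X)
    (hH : ∀ V : Opens X, V ≤ Uc i hi → Subsingleton (H.obj.obj (op V))) : CohTop.Ab Z :=
  ⟨Kp i hi H, isSheaf_Kp i hi H hH⟩

/-- `i_* K(H) ⟶ H` -/
noncomputable def τ (H : CohTop.Ab X)
    (hH : ∀ V : Opens X, V ≤ Uc i hi → Subsingleton (H.obj.obj (op V))) :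
    (CohTop.push i).obj (K i hi H hH) ⟶ H :=
  ⟨{ app := fun V => H.obj.map (homOfLE (le_κ_map i hi V.unop)).op
     naturality := by
       intro V V' f
       change H.obj.map ((κF i hi).map ((Opens.map i).map f.unop)).op ≫
         H.obj.map (homOfLE (le_κ_map i hi V'.unop)).op =
         H.obj.map (homOfLE (le_κ_map i hi V.unop)).op ≫ H.obj.map f
       rw [← H.obj.map_comp, ← H.obj.map_comp]
       exact map_thin H.obj _ _ }⟩

lemma τ_app_bijective (H : CohTop.Ab X)
    (hH : ∀ V : Opens X, V ≤ Uc i hi → Subsingleton (H.obj.obj (op V))) (V : Opens X) :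
    Function.Bijective ((τ i hi H hH).hom.app (op V)).hom := by
  constructor
  · rw [injective_iff_map_eq_zero]
    intro s hs
    change (H.obj.map (homOfLE (le_κ_map i hi V)).op).hom s = 0 at hs
    refine TopCat.Sheaf.eq_of_locally_eq₂ H (homOfLE (le_κ_map i hi V)) (homOfLE (le_κ i hi _))
      (κ_map_le i hi V) s 0 ?_ ?_
    · rw [map_zero]
      exact hs
    · haveI := hH (Uc i hi) le_rfl
      exact Subsingleton.elim _ _
  · intro t
    have h0 : (H.obj.map (homOfLE (inf_le_left : V ⊓ Uc i hi ≤ V)).op).hom t =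
        (H.obj.map (homOfLE (inf_le_right : V ⊓ Uc i hi ≤ Uc i hi)).op).hom 0 := by
      haveI := hH (V ⊓ Uc i hi) inf_le_right
      exact Subsingleton.elim _ _
    obtain ⟨s, hs1, -⟩ := exists_glue₂ H V (Uc i hi) t 0 h0
    refine ⟨(H.obj.map (homOfLE (κ_map_le i hi V)).op).hom s, ?_⟩
    change (H.obj.map (homOfLE (le_κ_map i hi V)).op).hom
      ((H.obj.map (homOfLE (κ_map_le i hi V)).op).hom s) = t
    rw [← ConcreteCategory.comp_apply,
      map_comp_thin H.obj _ _ (homOfLE (le_sup_left : V ≤ V ⊔ Uc i hi)).op]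
    exact hs1

theorem isIso_τ (H : CohTop.Ab X)
    (hH : ∀ V : Opens X, V ≤ Uc i hi → Subsingleton (H.obj.obj (op V))) : IsIso (τ i hi H hH) := by
  haveI : IsIso ((sheafToPresheaf _ _).map (τ i hi H hH)) := by
    haveI : ∀ V, IsIso (((sheafToPresheaf _ _).map (τ i hi H hH)).app V) := by
      intro V
      rw [ConcreteCategory.isIso_iff_bijective]
      exact τ_app_bijective i hi H hH V.unop
    exact NatIso.isIso_of_isIso_app _
  exact isIso_of_reflects_iso _ (sheafToPresheaf _ _)


end Groth.Agent.Lib.Helper5.ClosedEmbFF
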