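import Groth.Agent.Lib.Helper5.LFProd
import Groth.Agent.Lib.Helper22.CohTop.ClosedEmb

/-!
# The sheaves `i_* i⁻¹ F` for closed subsets

For a closed subset `Z` of `X` and an abelian sheaf `F` on `X` we study `AZ F Z = i_* i⁻¹ F`:
the unit `F ⟶ AZ F Z` is an epimorphism, there are restriction maps `AZ F Z ⟶ AZ F Z'` for
`Z' ⊆ Z`, strictly functorial, and evaluation maps `ev` to the stalks of `F` at points of `Z`.
-/

set_option autoImplicit false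

universe u

open CategoryTheory CategoryTheory.Limits TopologicalSpace Opposite

noncomputable section

namespace Groth.Agent.Lib.Helper5.ClosedRes

open Groth.Agent.Lib.Helper5.PullStalk Groth.Agent.Lib.Helper5.SubspaceSect
  Groth.Agent.Lib.Helper5.LFProd

variable {X : TopCat.{u}}

lemma φ_injective {X Y : TopCat.{u}} (f : X ⟶ Y) (F : CohTop.Ab Y) (x : X) :
    Function.Injective (φ f F x).hom := by
  intro a b hab
  obtain ⟨a', rfl⟩ := c_surjective f F x a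
  obtain ⟨b', rfl⟩ := c_surjective f F x b
  have e : ∀ z, (φ f F x).hom ((c f F x).hom z) = z := fun z =>
    ConcreteCategory.congr_hom (c_φ f F x) z
  rw [e, e] at hab
  rw [hab]

lemma exists_pre_eq (Z : Set X) (W' : Opens (TopCat.of Z)) : ∃ N : Opens X, pre Z N = W' := by
  obtain ⟨t, ht, he⟩ := isOpen_induced_iff.1 W'.isOpen
  exact ⟨⟨t, ht⟩, Opens.ext he⟩

lemma trivOn_push (Z : Set X) (M : CohTop.Ab (TopCat.of Z)) (W : Opens X)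
    (h : Disjoint (W : Set X) Z) : TrivOn ((CohTop.push (incl Z)).obj M) W := by
  intro V hV
  refine Groth.Agent.Lib.Helper22.CohTop.subsingleton_sections_of_isEmpty M
    ((Opens.map (incl Z)).obj V) ?_
  ext z
  simp only [Opens.coe_bot, Set.mem_empty_iff_false, iff_false]
  intro hz
  exact Set.disjoint_left.1 h (hV hz) z.2

variable (F : CohTop.Ab X)

/-- `i_* i⁻¹ F` for the inclusion `i` of the subset `Z` -/
abbrev AZ (Z : Set X) : CohTop.Ab X := (CohTop.push (incl Z)).obj (Gs Z F)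

/-- the unit `F ⟶ i_* i⁻¹ F` -/
abbrev ηZ (Z : Set X) : F ⟶ AZ F Z := η (incl Z) F

lemma ap_ηZ (Z : Set X) (V : Opens X) (t : F.obj.obj (op V)) :
    ap (ηZ F Z) V t = ρ (incl Z) F V t := rfl

lemma rs_AZ (Z : Set X) {V' V : Opens X} (h : V' ≤ V) (s : (AZ F Z).obj.obj (op V)) :
    rs (AZ F Z) h s = rs (Gs Z F) (pre_mono Z h) s := rfl

/-- evaluation at a point of `Z` -/
def ev (Z : Set X) (x : X) (hxZ : x ∈ Z) (V : Opens X) (hxV : x ∈ V) :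
    (AZ F Z).obj.obj (op V) →+ CohTop.stalk F x :=
  ((φ (incl Z) F ⟨x, hxZ⟩).hom : CohTop.stalk (Gs Z F) ⟨x, hxZ⟩ →+ CohTop.stalk F x).comp
    (gm (Gs Z F) (pre Z V) ⟨x, hxZ⟩ hxV).hom

lemma ev_apply (Z : Set X) (x : X) (hxZ : x ∈ Z) (V : Opens X) (hxV : x ∈ V)
    (s : (AZ F Z).obj.obj (op V)) :
    ev F Z x hxZ V hxV s =
      (φ (incl Z) F ⟨x, hxZ⟩).hom (gm (Gs Z F) (pre Z V) ⟨x, hxZ⟩ hxV s) := rfl

lemma ev_rs (Z : Set X) (x : X) (hxZ : x ∈ Z) {V' V : Opens X} (h : V' ≤ V) (hxV' : x ∈ V')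
    (s : (AZ F Z).obj.obj (op V)) :
    ev F Z x hxZ V' hxV' (rs (AZ F Z) h s) = ev F Z x hxZ V (h hxV') s := by
  rw [ev_apply, ev_apply, rs_AZ]
  exact congrArg _ (gm_rs (Gs Z F) (pre_mono Z h) ⟨x, hxZ⟩ hxV' s)

lemma ev_η (Z : Set X) (x : X) (hxZ : x ∈ Z) (V : Opens X) (hxV : x ∈ V)
    (t : F.obj.obj (op V)) :
    ev F Z x hxZ V hxV (ap (ηZ F Z) V t) = gm F V x hxV t := by
  rw [ev_apply, ap_ηZ]
  have h1 := c_germ (incl Z) F ⟨x, hxZ⟩ V hxV t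
  rw [← h1]
  exact ConcreteCategory.congr_hom (c_φ (incl Z) F ⟨x, hxZ⟩) (gm F V x hxV t)

/-- two sections with the same value at `x` agree near `x` -/
lemma exists_rs_eq (Z : Set X) (x : X) (hxZ : x ∈ Z) (V : Opens X) (hxV : x ∈ V)
    (s s' : (AZ F Z).obj.obj (op V))
    (h : ev F Z x hxZ V hxV s = ev F Z x hxZ V hxV s') :
    ∃ (V' : Opens X) (hV' : V' ≤ V), x ∈ V' ∧ rs (AZ F Z) hV' s = rs (AZ F Z) hV' s' := by
  have hg : gm (Gs Z F) (pre Z V) ⟨x, hxZ⟩ hxV s = gm (Gs Z F) (pre Z V) ⟨x, hxZ⟩ hxV s' :=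
    φ_injective (incl Z) F ⟨x, hxZ⟩ h
  obtain ⟨W', hxW', iU, iV, e⟩ := TopCat.Presheaf.germ_eq (C := AddCommGrpCat.{u}) (Gs Z F).obj
    (⟨x, hxZ⟩ : TopCat.of Z) hxV hxV s s' hg
  obtain ⟨N', hN'⟩ := exists_pre_eq Z W'
  have hxN' : x ∈ N' := by
    have : (⟨x, hxZ⟩ : TopCat.of Z) ∈ pre Z N' := by rw [hN']; exact hxW'
    exact this
  have hle : pre Z (N' ⊓ V) ≤ W' := by
    rw [← hN']
    exact pre_mono Z inf_le_left
  refine ⟨N' ⊓ V, inf_le_right, ⟨hxN', hxV⟩, ?_⟩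
  have e' : rs (Gs Z F) (leOfHom iU) s = rs (Gs Z F) (leOfHom iU) s' := e
  rw [rs_AZ, rs_AZ]
  have h1 := congrArg (rs (Gs Z F) hle) e'
  rw [rs_rs, rs_rs] at h1
  exact h1

/-- every section of `i_* i⁻¹ F` is locally the image of a section of `F` -/
lemma locIm_η (Z : Set X) (hZ : IsClosed Z) {V : Opens X} (s : (AZ F Z).obj.obj (op V)) :
    LocIm (ηZ F Z) s := by
  intro x hx
  by_cases hxZ : x ∈ Z
  · obtain ⟨N, hN, t, W', hxW', h1, h2, e⟩ :=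
      exists_local_rep (incl Z) F (⟨x, hxZ⟩ : TopCat.of Z) (pre Z V) s hx
    obtain ⟨N', hN'⟩ := exists_pre_eq Z W'
    have hxN' : x ∈ N' := by
      have : (⟨x, hxZ⟩ : TopCat.of Z) ∈ pre Z N' := by rw [hN']; exact hxW'
      exact this
    have hle : pre Z (N' ⊓ N ⊓ V) ≤ W' := by
      rw [← hN']
      exact pre_mono Z (inf_le_left.trans inf_le_left)
    refine ⟨N' ⊓ N ⊓ V, inf_le_right, ⟨⟨hxN', hN⟩, hx⟩,
      rs F (inf_le_left.trans inf_le_right : N' ⊓ N ⊓ V ≤ N) t, ?_⟩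
    rw [ap_ηZ, rs_AZ]
    have e0 := ρ_res (incl Z) F (inf_le_left.trans inf_le_right : N' ⊓ N ⊓ V ≤ N) t
    refine e0.trans ?_
    have h3 := congrArg (rs (Gs Z F) hle) e
    rw [rs_rs, rs_rs] at h3
    exact h3.symm
  · have htriv : TrivOn (AZ F Z) ⟨Zᶜ, hZ.isOpen_compl⟩ :=
      trivOn_push Z (Gs Z F) _ (Set.disjoint_left.2 fun y hy hyZ => hy hyZ)
    refine ⟨V ⊓ ⟨Zᶜ, hZ.isOpen_compl⟩, inf_le_left, ⟨hx, hxZ⟩, 0, ?_⟩
    haveI := htriv (V ⊓ ⟨Zᶜ, hZ.isOpen_compl⟩) inf_le_right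
    exact Subsingleton.elim _ _

lemma epi_ηZ (Z : Set X) (hZ : IsClosed Z) : Epi (ηZ F Z) :=
  epi_of_locIm _ fun _ s => locIm_η F Z hZ s

lemma ap_η_eq_zero_iff (Z : Set X) {V : Opens X} (t : F.obj.obj (op V)) :
    ap (ηZ F Z) V t = 0 ↔ ∀ (x : X) (_ : x ∈ Z) (hxV : x ∈ V), gm F V x hxV t = 0 := by
  constructor
  · intro h x hxZ hxV
    rw [← ev_η F Z x hxZ V hxV t, h, map_zero]
  · intro h
    refine TopCat.Presheaf.section_ext (Gs Z F) (pre Z V) _ _ ?_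
    intro z hz
    have h1 := c_germ (incl Z) F z V hz t
    have h2 : gm F V ((incl Z) z) hz t = 0 := h z.1 z.2 hz
    rw [h2, map_zero] at h1
    exact h1.symm.trans (map_zero _).symm

lemma kernel_cond {Z Z' : Set X} (h : Z' ⊆ Z) : kernel.ι (ηZ F Z) ≫ ηZ F Z' = 0 := by
  apply hom_ext_ap
  intro V k
  rw [ap_comp, ap_zero]
  have h0 : ap (ηZ F Z) V (ap (kernel.ι (ηZ F Z)) V k) = 0 := by
    rw [← ap_comp, kernel.condition]
    rfl
  rw [ap_η_eq_zero_iff] at h0 ⊢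
  exact fun x hxZ' hxV => h0 x (h hxZ') hxV

/-- the restriction map for closed subsets `Z' ⊆ Z` -/
def resZ {Z Z' : Set X} (h : Z' ⊆ Z) (hZ : IsClosed Z) : AZ F Z ⟶ AZ F Z' :=
  haveI := epi_ηZ F Z hZ
  Abelian.epiDesc (ηZ F Z) (ηZ F Z') (kernel_cond F h)

lemma η_resZ {Z Z' : Set X} (h : Z' ⊆ Z) (hZ : IsClosed Z) :
    ηZ F Z ≫ resZ F h hZ = ηZ F Z' :=
  haveI := epi_ηZ F Z hZ
  Abelian.comp_epiDesc _ _ _

lemma resZ_refl (Z : Set X) (hZ : IsClosed Z) : resZ F (subset_refl Z) hZ = 𝟙 _ := by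
  haveI := epi_ηZ F Z hZ
  rw [← cancel_epi (ηZ F Z), η_resZ, Category.comp_id]

lemma resZ_trans {Z Z' Z'' : Set X} (h : Z' ⊆ Z) (h' : Z'' ⊆ Z') (hZ : IsClosed Z)
    (hZ' : IsClosed Z') : resZ F h hZ ≫ resZ F h' hZ' = resZ F (h'.trans h) hZ := by
  haveI := epi_ηZ F Z hZ
  rw [← cancel_epi (ηZ F Z), ← Category.assoc, η_resZ, η_resZ, η_resZ]

lemma ev_resZ {Z Z' : Set X} (h : Z' ⊆ Z) (hZ : IsClosed Z) (x : X) (hxZ' : x ∈ Z')
    (V : Opens X) (hxV : x ∈ V) (s : (AZ F Z).obj.obj (op V)) :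
    ev F Z' x hxZ' V hxV (ap (resZ F h hZ) V s) = ev F Z x (h hxZ') V hxV s := by
  obtain ⟨V', hV', hxV', t, ht⟩ := locIm_η F Z hZ s x hxV
  rw [← ev_rs F Z' x hxZ' hV' hxV', ← ap_rs, ← ht, ← ap_comp, η_resZ, ev_η,
    ← ev_rs F Z x (h hxZ') hV' hxV', ← ht, ev_η]

end Groth.Agent.Lib.Helper5.ClosedRes
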