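import Mathlib.Data.Int.GCD
import Mathlib.Data.Nat.GCD.Basic
import Mathlib.Tactic.Ring

/-!
# Colon ideals of the integers, in terms of generators

For `n ≠ 0`, the colon ideal `((G) : n)` of `ℤ` is generated by `G / gcd G n`, and taking colons
commutes with sums of ideals (i.e. with gcds of generators).
-/

set_option autoImplicit false

namespace Groth.Agent.Lib.Helper5.ColonArith

/-- the generator of the colon ideal `((G) : n)` -/
def colon (n G : ℕ) : ℕ := G / Nat.gcd G n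

lemma colon_zero (n : ℕ) : colon n 0 = 0 := Nat.zero_div _

lemma gcd_pos {n : ℕ} (hn : n ≠ 0) (G : ℕ) : 0 < Nat.gcd G n :=
  Nat.gcd_pos_of_pos_right G (Nat.pos_of_ne_zero hn)

lemma mul_colon (n G : ℕ) : Nat.gcd G n * colon n G = G :=
  Nat.mul_div_cancel' (Nat.gcd_dvd_left G n)

lemma colon_coprime {n : ℕ} (hn : n ≠ 0) (G : ℕ) :
    Nat.Coprime (colon n G) (n / Nat.gcd G n) :=
  Nat.coprime_div_gcd_div_gcd (gcd_pos hn G)

lemma colon_dvd_iff {n : ℕ} (hn : n ≠ 0) (G m : ℕ) : colon n G ∣ m ↔ G ∣ m * n := by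
  have he := gcd_pos hn G
  have hG := mul_colon n G
  have hn' : Nat.gcd G n * (n / Nat.gcd G n) = n := Nat.mul_div_cancel' (Nat.gcd_dvd_right G n)
  constructor
  · intro h
    obtain ⟨k, rfl⟩ := h
    refine ⟨k * (n / Nat.gcd G n), ?_⟩
    calc colon n G * k * n = colon n G * k * (Nat.gcd G n * (n / Nat.gcd G n)) := by rw [hn']
      _ = (Nat.gcd G n * colon n G) * (k * (n / Nat.gcd G n)) := by ring
      _ = G * (k * (n / Nat.gcd G n)) := by rw [hG]
  · intro h
    have h1 : Nat.gcd G n * colon n G ∣ Nat.gcd G n * (m * (n / Nat.gcd G n)) := by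
      rw [hG]
      have : Nat.gcd G n * (m * (n / Nat.gcd G n)) = m * n := by
        calc Nat.gcd G n * (m * (n / Nat.gcd G n)) = m * (Nat.gcd G n * (n / Nat.gcd G n)) := by
              ring
          _ = m * n := by rw [hn']
      rw [this]
      exact h
    have h2 : colon n G ∣ m * (n / Nat.gcd G n) := Nat.dvd_of_mul_dvd_mul_left he h1
    exact (colon_coprime hn G).dvd_of_dvd_mul_right h2

lemma colon_dvd_colon {n : ℕ} (hn : n ≠ 0) {D G : ℕ} (h : D ∣ G) : colon n D ∣ colon n G := by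
  rw [colon_dvd_iff hn]
  refine h.trans ?_
  rw [← colon_dvd_iff hn]

theorem colon_gcd {n : ℕ} (hn : n ≠ 0) (G B : ℕ) :
    Nat.gcd (colon n G) (colon n B) = colon n (Nat.gcd G B) := by
  apply Nat.dvd_antisymm
  · -- `gcd (G/eG) (B/eB) ∣ D / e`
    set D := Nat.gcd G B with hD
    set e := Nat.gcd D n with he
    have heG : e ∣ Nat.gcd G n :=
      Nat.dvd_gcd ((Nat.gcd_dvd_left D n).trans (Nat.gcd_dvd_left G B)) (Nat.gcd_dvd_right D n)
    have heB : e ∣ Nat.gcd B n :=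
      Nat.dvd_gcd ((Nat.gcd_dvd_left D n).trans (Nat.gcd_dvd_right G B)) (Nat.gcd_dvd_right D n)
    have h1 : colon n G ∣ G / e := Nat.div_dvd_div_left (Nat.gcd_dvd_left G n) heG
    have h2 : colon n B ∣ B / e := Nat.div_dvd_div_left (Nat.gcd_dvd_left B n) heB
    have h3 : Nat.gcd (G / e) (B / e) = D / e :=
      Nat.gcd_div ((Nat.gcd_dvd_left D n).trans (Nat.gcd_dvd_left G B))
        ((Nat.gcd_dvd_left D n).trans (Nat.gcd_dvd_right G B))
    change _ ∣ D / e
    rw [← h3]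
    exact Nat.dvd_gcd ((Nat.gcd_dvd_left _ _).trans h1) ((Nat.gcd_dvd_right _ _).trans h2)
  · exact Nat.dvd_gcd (colon_dvd_colon hn (Nat.gcd_dvd_left G B))
      (colon_dvd_colon hn (Nat.gcd_dvd_right G B))

/-- the integral form of `colon_dvd_iff` -/
lemma colon_dvd_iff_int {n : ℕ} (hn : n ≠ 0) (G : ℕ) (m : ℤ) :
    ((colon n G : ℕ) : ℤ) ∣ m ↔ (G : ℤ) ∣ m * (n : ℤ) := by
  rw [Int.natCast_dvd, Int.natCast_dvd, Int.natAbs_mul, Int.natAbs_natCast]
  exact colon_dvd_iff hn G m.natAbs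

end Groth.Agent.Lib.Helper5.ColonArith
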