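import Mathlib.Algebra.Homology.DerivedCategory.HomologySequence
import Mathlib.Algebra.Category.ModuleCat.Abelian
import Mathlib.Algebra.Homology.ShortComplex.ModuleCat

/-!
# The long exact cohomology sequence of a mapping cone of complexes of modules, elementwise,
with its naturality for `mappingCone.map`.
-/

set_option autoImplicit false

universe u

open CategoryTheory CategoryTheory.Limits CochainComplex

attribute [local instance] HasDerivedCategory.standard

noncomputable section

namespace Groth.Agent.Lib.Helper5.ConeLES

variable {R : Type u} [CommRing R]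

lemma app_eq' {A B : ModuleCat.{u} R} {f g : A ⟶ B} (h : f = g) (x : A) : f.hom x = g.hom x := by
  rw [h]

section

variable {K L : CochainComplex (ModuleCat.{u} R) ℤ} (φ : K ⟶ L)

/-- the connecting map `H^j(cone φ) ⟶ H^{j+1}(K)` -/
def δ (j j' : ℤ) (h : j + 1 = j') : (mappingCone φ).homology j ⟶ K.homology j' :=
  CochainComplex.homologyδOfTriangle (mappingCone.triangle φ) j j' h

lemma inr_φ (j : ℤ) (x : K.homology j) :
    (HomologicalComplex.homologyMap (mappingCone.inr φ) j).hom
      ((HomologicalComplex.homologyMap φ j).hom x) = 0 :=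
  app_eq' (CochainComplex.homologyMap_comp_eq_zero_of_distTriang (mappingCone.triangle φ)
    (DerivedCategory.mappingCone_triangle_distinguished φ) j) x

lemma δ_inr (j j' : ℤ) (h : j + 1 = j') (y : L.homology j) :
    (δ φ j j' h).hom ((HomologicalComplex.homologyMap (mappingCone.inr φ) j).hom y) = 0 :=
  app_eq' (CochainComplex.homologyMap_homologyδOfTriangle (mappingCone.triangle φ)
    (DerivedCategory.mappingCone_triangle_distinguished φ) j j' h) y

lemma φ_δ (j j' : ℤ) (h : j + 1 = j') (z : (mappingCone φ).homology j) :
    (HomologicalComplex.homologyMap φ j').hom ((δ φ j j' h).hom z) = 0 :=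
  app_eq' (CochainComplex.homologyδOfTriangle_homologyMap (mappingCone.triangle φ)
    (DerivedCategory.mappingCone_triangle_distinguished φ) j j' h) z

lemma exact_L (j : ℤ) (y : L.homology j)
    (hy : (HomologicalComplex.homologyMap (mappingCone.inr φ) j).hom y = 0) :
    ∃ x : K.homology j, (HomologicalComplex.homologyMap φ j).hom x = y := by
  have hex := CochainComplex.homologyMap_exact₂_of_distTriang (mappingCone.triangle φ)
    (DerivedCategory.mappingCone_triangle_distinguished φ) j
  rw [ShortComplex.moduleCat_exact_iff] at hex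
  exact hex y hy

lemma exact_cone (j j' : ℤ) (h : j + 1 = j') (z : (mappingCone φ).homology j)
    (hz : (δ φ j j' h).hom z = 0) :
    ∃ y : L.homology j, (HomologicalComplex.homologyMap (mappingCone.inr φ) j).hom y = z := by
  have hex := CochainComplex.homologyMap_exact₃_of_distTriang (mappingCone.triangle φ)
    (DerivedCategory.mappingCone_triangle_distinguished φ) j j' h
  rw [ShortComplex.moduleCat_exact_iff] at hex
  exact hex z hz

lemma exact_K (j j' : ℤ) (h : j + 1 = j') (x : K.homology j')
    (hx : (HomologicalComplex.homologyMap φ j').hom x = 0) :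
    ∃ z : (mappingCone φ).homology j, (δ φ j j' h).hom z = x := by
  have hex := CochainComplex.homologyMap_exact₁_of_distTriang (mappingCone.triangle φ)
    (DerivedCategory.mappingCone_triangle_distinguished φ) j j' h
  rw [ShortComplex.moduleCat_exact_iff] at hex
  exact hex x hx

end

section Nat

variable {K₁ L₁ K₂ L₂ : CochainComplex (ModuleCat.{u} R) ℤ} (φ₁ : K₁ ⟶ L₁) (φ₂ : K₂ ⟶ L₂)
  (a : K₁ ⟶ K₂) (b : L₁ ⟶ L₂) (comm : φ₁ ≫ b = a ≫ φ₂)

include comm in
lemma map_φ (j : ℤ) (x : K₁.homology j) :
    (HomologicalComplex.homologyMap b j).hom ((HomologicalComplex.homologyMap φ₁ j).hom x) =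
      (HomologicalComplex.homologyMap φ₂ j).hom ((HomologicalComplex.homologyMap a j).hom x) := by
  have h : HomologicalComplex.homologyMap φ₁ j ≫ HomologicalComplex.homologyMap b j =
      HomologicalComplex.homologyMap a j ≫ HomologicalComplex.homologyMap φ₂ j := by
    rw [← HomologicalComplex.homologyMap_comp, ← HomologicalComplex.homologyMap_comp, comm]
  exact app_eq' h x

lemma map_inr (j : ℤ) (y : L₁.homology j) :
    (HomologicalComplex.homologyMap (mappingCone.map φ₁ φ₂ a b comm) j).hom
        ((HomologicalComplex.homologyMap (mappingCone.inr φ₁) j).hom y) =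
      (HomologicalComplex.homologyMap (mappingCone.inr φ₂) j).hom
        ((HomologicalComplex.homologyMap b j).hom y) := by
  have h2 := (mappingCone.triangleMap φ₁ φ₂ a b comm).comm₂
  have h : HomologicalComplex.homologyMap (mappingCone.inr φ₁) j ≫
      HomologicalComplex.homologyMap (mappingCone.map φ₁ φ₂ a b comm) j =
      HomologicalComplex.homologyMap b j ≫
        HomologicalComplex.homologyMap (mappingCone.inr φ₂) j := by
    rw [← HomologicalComplex.homologyMap_comp, ← HomologicalComplex.homologyMap_comp]
    exact congrArg (fun t => HomologicalComplex.homologyMap t j) h2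
  exact app_eq' h y

lemma δ_map (j j' : ℤ) (h : j + 1 = j') (z : (mappingCone φ₁).homology j) :
    (δ φ₂ j j' h).hom
        ((HomologicalComplex.homologyMap (mappingCone.map φ₁ φ₂ a b comm) j).hom z) =
      (HomologicalComplex.homologyMap a j').hom ((δ φ₁ j j' h).hom z) := by
  have h3 := (mappingCone.triangleMap φ₁ φ₂ a b comm).comm₃
  have hnat := ((HomologicalComplex.homologyFunctor (ModuleCat.{u} R) (ComplexShape.up ℤ)
    0).shiftIso 1 j j' (by omega)).hom.naturality a
  have e1 : HomologicalComplex.homologyMap
      (mappingCone.map φ₁ φ₂ a b comm ≫ (mappingCone.triangle φ₂).mor₃) j =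
      HomologicalComplex.homologyMap ((mappingCone.triangle φ₁).mor₃ ≫ a⟦(1 : ℤ)⟧') j :=
    congrArg (fun t => HomologicalComplex.homologyMap t j) h3.symm
  have e2 := HomologicalComplex.homologyMap_comp (mappingCone.map φ₁ φ₂ a b comm)
    (mappingCone.triangle φ₂).mor₃ j
  have e3 := HomologicalComplex.homologyMap_comp (mappingCone.triangle φ₁).mor₃ (a⟦(1 : ℤ)⟧') j
  have hh : HomologicalComplex.homologyMap (mappingCone.map φ₁ φ₂ a b comm) j ≫ δ φ₂ j j' h =
      δ φ₁ j j' h ≫ HomologicalComplex.homologyMap a j' := by
    unfold δ CochainComplex.homologyδOfTriangle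
    refine (Category.assoc _ _ _).symm.trans ?_
    refine (congrArg (fun t => t ≫ ((HomologicalComplex.homologyFunctor (ModuleCat.{u} R)
      (ComplexShape.up ℤ) 0).shiftIso 1 j j' (by omega)).hom.app K₂)
      (e2.symm.trans (e1.trans e3))).trans ?_
    refine (Category.assoc _ _ _).trans ?_
    refine (congrArg (fun t =>
      HomologicalComplex.homologyMap (mappingCone.triangle φ₁).mor₃ j ≫ t) hnat).trans ?_
    exact (Category.assoc _ _ _).symm
  exact app_eq' hh z

end Nat

end Groth.Agent.Lib.Helper5.ConeLES
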