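import Mathlib.Algebra.Homology.HomotopyCategory.Pretriangulated
import Mathlib.Algebra.Homology.HomotopyCategory.HomologicalFunctor
import Mathlib.Algebra.Homology.HomotopyCategory.ShiftSequence
import Mathlib.CategoryTheory.Triangulated.HomologicalFunctor

/-!
# Lifting through a morphism up to homotopy via the mapping cone

* `exists_lift_of_homotopy_inr`: if `α ≫ inr f` is null-homotopic then `α` lifts through `f` up to
  homotopy;
* `isZero_homology_mappingCone`: the cone of `f` is acyclic in degree `n` if `H^n(f)` is epi and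
  `H^{n+1}(f)` is mono.
-/

set_option autoImplicit false

open CategoryTheory Limits CochainComplex

noncomputable section

namespace Groth.Agent.Lib.Helper5.ConeLift

section lift

universe v u

variable {𝒜 : Type u} [Category.{v} 𝒜] [Preadditive 𝒜] [HasZeroObject 𝒜] [HasBinaryBiproducts 𝒜]
  {E G F : CochainComplex 𝒜 ℤ}

theorem exists_lift_of_homotopy_inr (f : G ⟶ F) (α : E ⟶ F)
    (H : Homotopy (α ≫ mappingCone.inr f) 0) : ∃ β : E ⟶ G, Nonempty (Homotopy (β ≫ f) α) := by
  have hT := HomotopyCategory.mappingCone_triangleh_distinguished f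
  have h0 : (HomotopyCategory.quotient 𝒜 (ComplexShape.up ℤ)).map α ≫
      (mappingCone.triangleh f).mor₂ = 0 := by
    show (HomotopyCategory.quotient 𝒜 (ComplexShape.up ℤ)).map α ≫
      (HomotopyCategory.quotient 𝒜 (ComplexShape.up ℤ)).map (mappingCone.inr f) = 0
    rw [← Functor.map_comp, HomotopyCategory.eq_of_homotopy _ _ H, Functor.map_zero]
  obtain ⟨g, hg⟩ := Pretriangulated.Triangle.coyoneda_exact₂ _ hT _ h0
  obtain ⟨β, rfl⟩ := (HomotopyCategory.quotient 𝒜 (ComplexShape.up ℤ)).map_surjective g
  refine ⟨β, ⟨HomotopyCategory.homotopyOfEq _ _ ?_⟩⟩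
  rw [Functor.map_comp]
  exact hg.symm

end lift

section homology

universe v u

variable {𝒜 : Type u} [Category.{v} 𝒜] [Abelian 𝒜] {G F : CochainComplex 𝒜 ℤ} (f : G ⟶ F)

lemma epi_homologyFunctor_map (n : ℤ) (h : Epi (HomologicalComplex.homologyMap f n)) :
    Epi ((HomotopyCategory.homologyFunctor 𝒜 (ComplexShape.up ℤ) n).map
      ((HomotopyCategory.quotient 𝒜 (ComplexShape.up ℤ)).map f)) := by
  let e := HomotopyCategory.homologyFunctorFactors 𝒜 (ComplexShape.up ℤ) n
  have h1 : (HomotopyCategory.homologyFunctor 𝒜 (ComplexShape.up ℤ) n).map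
      ((HomotopyCategory.quotient 𝒜 (ComplexShape.up ℤ)).map f) =
      e.hom.app G ≫ HomologicalComplex.homologyMap f n ≫ e.inv.app F := by
    have := e.hom.naturality f
    have h2 : (HomotopyCategory.quotient 𝒜 (ComplexShape.up ℤ) ⋙
        HomotopyCategory.homologyFunctor 𝒜 (ComplexShape.up ℤ) n).map f =
        e.hom.app G ≫ (HomologicalComplex.homologyFunctor 𝒜 (ComplexShape.up ℤ) n).map f ≫
          e.inv.app F := by
      rw [← Category.assoc, ← this, Category.assoc, Iso.hom_inv_id_app, Category.comp_id]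
    exact h2
  rw [h1]
  have h3 : Epi (e.inv.app F) := inferInstance
  have h4 : Epi (HomologicalComplex.homologyMap f n ≫ e.inv.app F) := epi_comp' h h3
  exact epi_comp' inferInstance h4

lemma mono_homologyFunctor_map (n : ℤ) (h : Mono (HomologicalComplex.homologyMap f n)) :
    Mono ((HomotopyCategory.homologyFunctor 𝒜 (ComplexShape.up ℤ) n).map
      ((HomotopyCategory.quotient 𝒜 (ComplexShape.up ℤ)).map f)) := by
  let e := HomotopyCategory.homologyFunctorFactors 𝒜 (ComplexShape.up ℤ) n
  have h1 : (HomotopyCategory.homologyFunctor 𝒜 (ComplexShape.up ℤ) n).map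
      ((HomotopyCategory.quotient 𝒜 (ComplexShape.up ℤ)).map f) =
      e.hom.app G ≫ HomologicalComplex.homologyMap f n ≫ e.inv.app F := by
    have := e.hom.naturality f
    have h2 : (HomotopyCategory.quotient 𝒜 (ComplexShape.up ℤ) ⋙
        HomotopyCategory.homologyFunctor 𝒜 (ComplexShape.up ℤ) n).map f =
        e.hom.app G ≫ (HomologicalComplex.homologyFunctor 𝒜 (ComplexShape.up ℤ) n).map f ≫
          e.inv.app F := by
      rw [← Category.assoc, ← this, Category.assoc, Iso.hom_inv_id_app, Category.comp_id]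
    exact h2
  rw [h1]
  have h3 : Mono (e.inv.app F) := inferInstance
  have h4 : Mono (HomologicalComplex.homologyMap f n ≫ e.inv.app F) := mono_comp' h h3
  exact mono_comp' inferInstance h4

/-- the mapping cone of `f` has no cohomology in degree `n` if `H^n(f)` is an epimorphism and
`H^{n+1}(f)` is a monomorphism -/
theorem isZero_homology_mappingCone (n : ℤ) (h1 : Epi (HomologicalComplex.homologyMap f n))
    (h2 : Mono (HomologicalComplex.homologyMap f (n + 1))) :
    IsZero ((mappingCone f).homology n) := by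
  let H0 := HomotopyCategory.homologyFunctor 𝒜 (ComplexShape.up ℤ) 0
  have hT := HomotopyCategory.mappingCone_triangleh_distinguished f
  have e1 : Epi ((H0.shift n).map (mappingCone.triangleh f).mor₁) :=
    epi_homologyFunctor_map f n h1
  have e2 : Mono ((H0.shift (n + 1)).map (mappingCone.triangleh f).mor₁) :=
    mono_homologyFunctor_map f (n + 1) h2
  have z1 := (H0.homologySequence_epi_shift_map_mor₁_iff _ hT n).1 e1
  have z2 := (H0.homologySequence_mono_shift_map_mor₁_iff _ hT n (n + 1) rfl).1 e2
  have hz : IsZero ((H0.shift n).obj (mappingCone.triangleh f).obj₃) :=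
    (H0.homologySequence_exact₃ _ hT n (n + 1) rfl).isZero_X₂_iff.2 ⟨z1, z2⟩
  exact IsZero.of_iso hz
    ((HomotopyCategory.homologyFunctorFactors 𝒜 (ComplexShape.up ℤ) n).app (mappingCone f)).symm

end homology

end Groth.Agent.Lib.Helper5.ConeLift
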