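import Mathlib

/-!
# Sections of constant sheaves of modules and tensor products (helper5)

`G = Γ(U, (-)̲) : ModuleCat Λ ⥤ ModuleCat Λ` is an exact `Λ`-linear functor
(left exact as a composite of left exact functors; it preserves surjections because a
set-theoretic section of a surjection induces a section on the constant sheaves of sets,
through `constantCommuteCompose`).  Hence the comparison map
`Γ(U, M̲) ⊗ Q → Γ(U, (M ⊗ Q)̲)` is bijective for finitely presented `Q` (five lemma on a finite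
presentation), and `Γ(U, M̲)` is flat for flat `M` over a coherent ring.
-/

set_option autoImplicit false
set_option linter.style.haveILetI false

universe u

open CategoryTheory CategoryTheory.Limits Opposite TensorProduct

namespace Groth.Agent.Lib.Helper5.ConstSect

section Functor

variable {C : Type u} [SmallCategory C] (J : GrothendieckTopology C) (Λ : Type u) [CommRing Λ]
  (U : C)

/-- The functor `M ↦ Γ(U, M̲)`. -/
noncomputable abbrev G : ModuleCat.{u} Λ ⥤ ModuleCat.{u} Λ :=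
  constantSheaf J (ModuleCat.{u} Λ) ⋙ (sheafSections J (ModuleCat.{u} Λ)).obj (op U)

instance i1 : PreservesFiniteLimits ((sheafSections J (ModuleCat.{u} Λ)).obj (op U)) := by
  show PreservesFiniteLimits (sheafToPresheaf J (ModuleCat.{u} Λ) ⋙ (evaluation _ _).obj (op U))
  infer_instance

instance i2 : PreservesFiniteLimits (constantSheaf J (ModuleCat.{u} Λ)) := by
  unfold constantSheaf
  infer_instance

instance i3 : PreservesFiniteLimits (G J Λ U) := by
  unfold G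
  infer_instance

instance i4 : (G J Λ U).Additive := Functor.additive_of_preserves_binary_products _

lemma constantSheaf_map_smul {X Y : ModuleCat.{u} Λ} (a : Λ) (f : X ⟶ Y) :
    ((constantSheaf J (ModuleCat.{u} Λ)).map (a • f)).hom =
      a • ((constantSheaf J (ModuleCat.{u} Λ)).map f).hom := by
  have h1 : (Functor.const Cᵒᵖ).map (a • f) = a • (Functor.const Cᵒᵖ).map f := by
    ext V
    rfl
  show sheafifyMap J ((Functor.const Cᵒᵖ).map (a • f)) =
    a • sheafifyMap J ((Functor.const Cᵒᵖ).map f)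
  have hQ : Presheaf.IsSheaf J (sheafify J ((Functor.const Cᵒᵖ).obj Y)) :=
    ((constantSheaf J (ModuleCat.{u} Λ)).obj Y).property
  apply sheafify_hom_ext J _ _ hQ
  rw [← toSheafify_naturality, h1, Linear.comp_smul, Linear.smul_comp, ← toSheafify_naturality]

lemma G_map_surjective {X Y : ModuleCat.{u} Λ} (p : X ⟶ Y)
    (hp : Function.Surjective p.hom) : Function.Surjective ((G J Λ U).map p).hom := by
  let F := forget (ModuleCat.{u} Λ)
  let S := constantSheaf J (ModuleCat.{u} Λ)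
  let T := constantSheaf J (Type u)
  let e := constantCommuteCompose J F
  let s : F.obj Y ⟶ F.obj X := ↾(Function.surjInv hp)
  have hs : s ≫ F.map p = 𝟙 _ := by
    apply ConcreteCategory.hom_ext
    intro y
    exact Function.surjInv_eq hp y
  let σ : (S ⋙ sheafCompose J F).obj Y ⟶ (S ⋙ sheafCompose J F).obj X :=
    e.hom.app Y ≫ T.map s ≫ e.inv.app X
  have hσ : σ ≫ (S ⋙ sheafCompose J F).map p = 𝟙 _ := by
    have hn := e.inv.naturality p
    have h2 : T.map s ≫ (F ⋙ T).map p = 𝟙 _ := by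
      rw [Functor.comp_map, ← T.map_comp, hs, T.map_id]
    show (e.hom.app Y ≫ T.map s ≫ e.inv.app X) ≫ (S ⋙ sheafCompose J F).map p = 𝟙 _
    rw [Category.assoc, Category.assoc, ← hn, ← Category.assoc (T.map s), h2,
      Category.id_comp, Iso.hom_inv_id_app]
  intro y
  have h3 : (σ ≫ (S ⋙ sheafCompose J F).map p).hom.app (op U) =
      (𝟙 ((S ⋙ sheafCompose J F).obj Y) : _ ⟶ _).hom.app (op U) := by rw [hσ]
  refine ⟨(σ.hom.app (op U)) y, ?_⟩
  exact ConcreteCategory.congr_hom h3 y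

lemma G_rightExact (S : ShortComplex (ModuleCat.{u} Λ)) (hS : S.Exact) (hg : Epi S.g) :
    (S.map (G J Λ U)).Exact ∧ Epi ((G J Λ U).map S.g) := by
  have h0 : ∀ (S : ShortComplex (ModuleCat.{u} Λ)), S.ShortExact →
      (S.map (G J Λ U)).Exact ∧ Epi ((G J Λ U).map S.g) := by
    intro S hS
    have h1 := (Functor.preservesFiniteLimits_iff_forall_exact_map_and_mono (G J Λ U)).1
      inferInstance S hS
    refine ⟨h1.1, ?_⟩
    haveI := hS.epi_g
    rw [ModuleCat.epi_iff_surjective]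
    exact G_map_surjective J Λ U S.g ((ModuleCat.epi_iff_surjective S.g).1 inferInstance)
  have h01 : (∀ (S : ShortComplex (ModuleCat.{u} Λ)), S.ShortExact →
      (S.map (G J Λ U)).Exact ∧ Epi ((G J Λ U).map S.g)) ↔
      (∀ (S : ShortComplex (ModuleCat.{u} Λ)), S.Exact ∧ Epi S.g →
      (S.map (G J Λ U)).Exact ∧ Epi ((G J Λ U).map S.g)) :=
    (Functor.preservesFiniteColimits_tfae (G J Λ U)).out 0 1
  exact h01.1 h0 S ⟨hS, hg⟩

end Functor

section Linear

variable {C : Type u} [SmallCategory C] (J : GrothendieckTopology C) (Λ : Type u) [CommRing Λ]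
  (U : C)

/-- Sections over `U` of the constant sheaf on `M`. -/
abbrev Γc (M : Type u) [AddCommGroup M] [Module Λ M] : Type u :=
  ((constantSheaf J (ModuleCat.{u} Λ)).obj (ModuleCat.of Λ M)).obj.obj (op U)

variable {M N P Q Q' : Type u} [AddCommGroup M] [Module Λ M] [AddCommGroup N] [Module Λ N]
  [AddCommGroup P] [Module Λ P] [AddCommGroup Q] [Module Λ Q] [AddCommGroup Q'] [Module Λ Q']

/-- The map on sections induced by a linear map. -/
noncomputable def Gm (φ : M →ₗ[Λ] N) : Γc J Λ U M →ₗ[Λ] Γc J Λ U N :=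
  (((constantSheaf J (ModuleCat.{u} Λ)).map (ModuleCat.ofHom φ)).hom.app (op U)).hom

lemma Gm_eq (φ : M →ₗ[Λ] N) :
    Gm J Λ U φ = ((G J Λ U).map (ModuleCat.ofHom φ)).hom := rfl

lemma Gm_id : Gm J Λ U (LinearMap.id : M →ₗ[Λ] M) = LinearMap.id := by
  rw [Gm_eq, ModuleCat.ofHom_id, CategoryTheory.Functor.map_id, ModuleCat.hom_id]

lemma Gm_comp (ψ : N →ₗ[Λ] P) (φ : M →ₗ[Λ] N) :
    Gm J Λ U (ψ ∘ₗ φ) = Gm J Λ U ψ ∘ₗ Gm J Λ U φ := by
  rw [Gm_eq, ModuleCat.ofHom_comp, CategoryTheory.Functor.map_comp, ModuleCat.hom_comp]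
  rfl

lemma Gm_add (φ ψ : M →ₗ[Λ] N) : Gm J Λ U (φ + ψ) = Gm J Λ U φ + Gm J Λ U ψ := by
  rw [Gm_eq, ModuleCat.ofHom_add, CategoryTheory.Functor.map_add, ModuleCat.hom_add]
  rfl

lemma Gm_zero : Gm J Λ U (0 : M →ₗ[Λ] N) = 0 := by
  rw [Gm_eq, ModuleCat.ofHom_zero, CategoryTheory.Functor.map_zero, ModuleCat.hom_zero]

/-- `Gm` as an additive map. -/
noncomputable def GmHom : (M →ₗ[Λ] N) →+ (Γc J Λ U M →ₗ[Λ] Γc J Λ U N) where
  toFun := Gm J Λ U
  map_zero' := Gm_zero J Λ U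
  map_add' := Gm_add J Λ U

lemma Gm_sum {ι : Type*} (s : Finset ι) (φ : ι → (M →ₗ[Λ] N)) :
    Gm J Λ U (∑ i ∈ s, φ i) = ∑ i ∈ s, Gm J Λ U (φ i) :=
  map_sum (GmHom J Λ U (M := M) (N := N)) φ s

lemma Gm_smul (a : Λ) (φ : M →ₗ[Λ] N) : Gm J Λ U (a • φ) = a • Gm J Λ U φ := by
  have h0 : ModuleCat.ofHom (a • φ) = a • ModuleCat.ofHom φ := rfl
  unfold Gm
  rw [h0, constantSheaf_map_smul, NatTrans.app_smul, ModuleCat.hom_smul]

lemma Gm_surjective (φ : M →ₗ[Λ] N) (hφ : Function.Surjective φ) :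
    Function.Surjective (Gm J Λ U φ) :=
  G_map_surjective J Λ U (ModuleCat.ofHom φ) hφ

lemma Gm_injective (φ : M →ₗ[Λ] N) (hφ : Function.Injective φ) :
    Function.Injective (Gm J Λ U φ) := by
  haveI : Mono (ModuleCat.ofHom φ) := (ModuleCat.mono_iff_injective _).2 hφ
  have : Mono ((G J Λ U).map (ModuleCat.ofHom φ)) := inferInstance
  exact (ModuleCat.mono_iff_injective _).1 this

lemma Gm_exact (f : M →ₗ[Λ] N) (g : N →ₗ[Λ] P) (hfg : Function.Exact f g)
    (hg : Function.Surjective g) : Function.Exact (Gm J Λ U f) (Gm J Λ U g) := by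
  let S : ShortComplex (ModuleCat.{u} Λ) :=
    ShortComplex.moduleCatMk f g hfg.linearMap_comp_eq_zero
  have hS : S.Exact := (ShortComplex.ShortExact.moduleCat_exact_iff_function_exact S).2 hfg
  have hgE : Epi S.g := (ModuleCat.epi_iff_surjective _).2 hg
  have h := (G_rightExact J Λ U S hS hgE).1
  exact (ShortComplex.ShortExact.moduleCat_exact_iff_function_exact _).1 h

variable (M Q) in
/-- The comparison map `Γ(U, M̲) ⊗ Q → Γ(U, (M ⊗ Q)̲)`. -/
noncomputable def τ : (Γc J Λ U M) ⊗[Λ] Q →ₗ[Λ] Γc J Λ U (M ⊗[Λ] Q) :=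
  TensorProduct.lift
    (LinearMap.mk₂ Λ
      (fun (s : Γc J Λ U M) (q : Q) => Gm J Λ U ((TensorProduct.mk Λ M Q).flip q) s)
      (fun s s' q => map_add _ s s')
      (fun a s q => map_smul _ a s)
      (fun s q q' => by
        rw [map_add, Gm_add]
        rfl)
      (fun a s q => by
        rw [map_smul, Gm_smul]
        rfl))

lemma τ_tmul (s : Γc J Λ U M) (q : Q) :
    τ J Λ U M Q (s ⊗ₜ[Λ] q) = Gm J Λ U ((TensorProduct.mk Λ M Q).flip q) s := rfl

variable (M) in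
lemma τ_nat (h : Q →ₗ[Λ] Q') :
    τ J Λ U M Q' ∘ₗ (h.lTensor (Γc J Λ U M)) = Gm J Λ U (h.lTensor M) ∘ₗ τ J Λ U M Q := by
  apply TensorProduct.ext'
  intro s q
  have hc : (h.lTensor M) ∘ₗ ((TensorProduct.mk Λ M Q).flip q) =
      (TensorProduct.mk Λ M Q').flip (h q) := by
    ext m
    rfl
  show τ J Λ U M Q' ((h.lTensor (Γc J Λ U M)) (s ⊗ₜ[Λ] q)) =
    Gm J Λ U (h.lTensor M) (τ J Λ U M Q (s ⊗ₜ[Λ] q))
  rw [LinearMap.lTensor_tmul, τ_tmul, τ_tmul, ← hc, Gm_comp]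
  rfl

section Free

variable (k : ℕ)

variable (M) in
/-- Coordinate maps `M ⊗ Λ^k → M`. -/
noncomputable def cj (j : Fin k) : M ⊗[Λ] (Fin k → Λ) →ₗ[Λ] M :=
  (TensorProduct.rid Λ M).toLinearMap ∘ₗ
    (LinearMap.proj j : (Fin k → Λ) →ₗ[Λ] Λ).lTensor M

lemma cj_tmul (j : Fin k) (m : M) (v : Fin k → Λ) : cj Λ M k j (m ⊗ₜ[Λ] v) = v j • m := by
  simp [cj]

lemma sum_smul_tmul_single {A : Type*} [AddCommGroup A] [Module Λ A] (s : A) (v : Fin k → Λ) :
    ∑ j, (v j • s) ⊗ₜ[Λ] (Pi.single j (1 : Λ) : Fin k → Λ) = s ⊗ₜ[Λ] v := by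
  have hv : v = ∑ j, v j • (Pi.single j (1 : Λ) : Fin k → Λ) := pi_eq_sum_univ' v
  calc ∑ j, (v j • s) ⊗ₜ[Λ] (Pi.single j (1 : Λ) : Fin k → Λ)
      = ∑ j, s ⊗ₜ[Λ] (v j • (Pi.single j (1 : Λ) : Fin k → Λ)) :=
        Finset.sum_congr rfl fun j _ => TensorProduct.smul_tmul _ _ _
    _ = s ⊗ₜ[Λ] ∑ j, v j • (Pi.single j (1 : Λ) : Fin k → Λ) :=
        (TensorProduct.tmul_sum _ _ _).symm
    _ = s ⊗ₜ[Λ] v := by rw [← hv]

lemma sum_ι_c :
    ∑ j, (((TensorProduct.mk Λ M (Fin k → Λ)).flip (Pi.single j (1 : Λ))) ∘ₗ cj Λ M k j) =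
      LinearMap.id := by
  apply TensorProduct.ext'
  intro m v
  rw [LinearMap.sum_apply, LinearMap.id_apply]
  refine (Finset.sum_congr rfl fun j _ => ?_).trans (sum_smul_tmul_single Λ k m v)
  rw [LinearMap.comp_apply, cj_tmul]
  rfl

lemma c_comp_flip (j : Fin k) (v : Fin k → Λ) :
    cj Λ M k j ∘ₗ (TensorProduct.mk Λ M (Fin k → Λ)).flip v = v j • LinearMap.id := by
  ext m
  rw [LinearMap.comp_apply]
  exact cj_tmul Λ k j m v

variable (M) in
/-- The inverse of `τ` for `Q = Λ^k`. -/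
noncomputable def Rk : Γc J Λ U (M ⊗[Λ] (Fin k → Λ)) →ₗ[Λ] (Γc J Λ U M) ⊗[Λ] (Fin k → Λ) :=
  ∑ j, (TensorProduct.mk Λ (Γc J Λ U M) (Fin k → Λ)).flip (Pi.single j (1 : Λ)) ∘ₗ
    Gm J Λ U (cj Λ M k j)

lemma Rk_apply (t : Γc J Λ U (M ⊗[Λ] (Fin k → Λ))) :
    Rk J Λ U M k t =
      ∑ j, (Gm J Λ U (cj Λ M k j) t) ⊗ₜ[Λ] (Pi.single j (1 : Λ) : Fin k → Λ) := by
  rw [Rk, LinearMap.sum_apply]
  rfl

lemma τ_Rk (t : Γc J Λ U (M ⊗[Λ] (Fin k → Λ))) :
    τ J Λ U M (Fin k → Λ) (Rk J Λ U M k t) = t := by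
  rw [Rk_apply, map_sum]
  have h : ∀ j : Fin k, τ J Λ U M (Fin k → Λ)
      ((Gm J Λ U (cj Λ M k j) t) ⊗ₜ[Λ] (Pi.single j (1 : Λ) : Fin k → Λ)) =
      Gm J Λ U (((TensorProduct.mk Λ M (Fin k → Λ)).flip (Pi.single j (1 : Λ))) ∘ₗ
        cj Λ M k j) t := by
    intro j
    rw [τ_tmul, Gm_comp]
    rfl
  rw [Finset.sum_congr rfl fun j _ => h j, ← LinearMap.sum_apply, ← Gm_sum, sum_ι_c, Gm_id]
  rfl

lemma Rk_τ (x : (Γc J Λ U M) ⊗[Λ] (Fin k → Λ)) :
    Rk J Λ U M k (τ J Λ U M (Fin k → Λ) x) = x := by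
  have key : Rk J Λ U M k ∘ₗ τ J Λ U M (Fin k → Λ) = LinearMap.id := by
    apply TensorProduct.ext'
    intro s v
    show Rk J Λ U M k (τ J Λ U M (Fin k → Λ) (s ⊗ₜ[Λ] v)) = s ⊗ₜ[Λ] v
    rw [τ_tmul, Rk_apply]
    have h : ∀ j : Fin k, Gm J Λ U (cj Λ M k j)
        (Gm J Λ U ((TensorProduct.mk Λ M (Fin k → Λ)).flip v) s) = v j • s := by
      intro j
      have h1 : Gm J Λ U (cj Λ M k j)
          (Gm J Λ U ((TensorProduct.mk Λ M (Fin k → Λ)).flip v) s) =
          (Gm J Λ U (cj Λ M k j) ∘ₗ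
            Gm J Λ U ((TensorProduct.mk Λ M (Fin k → Λ)).flip v)) s := rfl
      rw [h1, ← Gm_comp, c_comp_flip, Gm_smul, Gm_id]
      rfl
    refine (Finset.sum_congr rfl fun j _ => ?_).trans (sum_smul_tmul_single Λ k s v)
    rw [h j]
  exact LinearMap.congr_fun key x

lemma τ_bijective_free : Function.Bijective (τ J Λ U M (Fin k → Λ)) :=
  Function.bijective_iff_has_inverse.2
    ⟨Rk J Λ U M k, Rk_τ J Λ U k, τ_Rk J Λ U k⟩

end Free

variable (M Q) in
theorem τ_bijective [Module.FinitePresentation Λ Q] : Function.Bijective (τ J Λ U M Q) := by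
  obtain ⟨n, m, f, g, hf, hfg⟩ := Module.FinitePresentation.exists_fin' Λ Q
  have hτn := τ_bijective_free J Λ U (M := M) n
  have hτm := τ_bijective_free J Λ U (M := M) m
  have natf' : ∀ x, τ J Λ U M Q (f.lTensor (Γc J Λ U M) x) =
      Gm J Λ U (f.lTensor M) (τ J Λ U M (Fin n → Λ) x) :=
    fun x => LinearMap.congr_fun (τ_nat J Λ U M f) x
  have natg' : ∀ x, τ J Λ U M (Fin n → Λ) (g.lTensor (Γc J Λ U M) x) =
      Gm J Λ U (g.lTensor M) (τ J Λ U M (Fin m → Λ) x) :=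
    fun x => LinearMap.congr_fun (τ_nat J Λ U M g) x
  have topS : Function.Surjective (f.lTensor (Γc J Λ U M)) :=
    LinearMap.lTensor_surjective _ hf
  have topE : Function.Exact (g.lTensor (Γc J Λ U M)) (f.lTensor (Γc J Λ U M)) :=
    lTensor_exact _ hfg hf
  have botS : Function.Surjective (Gm J Λ U (f.lTensor M)) :=
    Gm_surjective J Λ U _ (LinearMap.lTensor_surjective _ hf)
  have botE : Function.Exact (Gm J Λ U (g.lTensor M)) (Gm J Λ U (f.lTensor M)) :=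
    Gm_exact J Λ U _ _ (lTensor_exact _ hfg hf) (LinearMap.lTensor_surjective _ hf)
  constructor
  · rw [injective_iff_map_eq_zero]
    intro x hx
    obtain ⟨x', rfl⟩ := topS x
    rw [natf'] at hx
    obtain ⟨z, hz⟩ := (botE _).1 hx
    obtain ⟨w, rfl⟩ := hτm.2 z
    rw [← natg'] at hz
    have hw := hτn.1 hz
    rw [← hw]
    exact (topE _).2 ⟨w, rfl⟩
  · intro y
    obtain ⟨y', rfl⟩ := botS y
    obtain ⟨x', rfl⟩ := hτn.2 y'
    exact ⟨f.lTensor _ x', natf' x'⟩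

/-- S9118. -/
theorem main9118 (M Q : Type u) [AddCommGroup M] [Module Λ M] [AddCommGroup Q] [Module Λ Q]
    [Module.FinitePresentation Λ Q] :
    ∃ e : ModuleCat.of Λ (TensorProduct Λ (((constantSheaf J (ModuleCat.{u} Λ)).obj
        (ModuleCat.of Λ M)).obj.obj (op U)) Q) ≅
        ((constantSheaf J (ModuleCat.{u} Λ)).obj (ModuleCat.of Λ (TensorProduct Λ M Q))).obj.obj
          (op U),
      ∀ (s : ((constantSheaf J (ModuleCat.{u} Λ)).obj (ModuleCat.of Λ M)).obj.obj (op U))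
        (q : Q),
        e.hom.hom (TensorProduct.tmul Λ s q) =
          (((constantSheaf J (ModuleCat.{u} Λ)).map
            (ModuleCat.ofHom ((TensorProduct.mk Λ M Q).flip q))).hom.app (op U)).hom s :=
  ⟨(LinearEquiv.ofBijective (τ J Λ U M Q) (τ_bijective J Λ U M Q)).toModuleIso,
    fun s q => τ_tmul J Λ U s q⟩

/-- S9119. -/
theorem main9119 (hΛ : ∀ I : Ideal Λ, I.FG → Module.FinitePresentation Λ I)
    (M : Type u) [AddCommGroup M] [Module Λ M] [Module.Flat Λ M] :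
    Module.Flat Λ (((constantSheaf J (ModuleCat.{u} Λ)).obj (ModuleCat.of Λ M)).obj.obj
      (op U)) := by
  rw [Module.Flat.iff_lTensor_injective]
  intro I hI
  haveI := hΛ I hI
  have hnat := τ_nat J Λ U M I.subtype
  have hinj : Function.Injective
      (Gm J Λ U (I.subtype.lTensor M) ∘ₗ τ J Λ U M I) := by
    rw [LinearMap.coe_comp]
    exact (Gm_injective J Λ U _
      (Module.Flat.lTensor_preserves_injective_linearMap _ Subtype.val_injective)).comp
      (τ_bijective J Λ U M I).1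
  rw [← hnat, LinearMap.coe_comp] at hinj
  exact hinj.of_comp

end Linear

end Groth.Agent.Lib.Helper5.ConstSect
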