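import Groth.Agent.Lib.Helper2.CptD.QPres
import Groth.Agent.Lib.Helper2.CptD.Compact
import Mathlib.Algebra.Homology.DerivedCategory.TStructure
import Mathlib.Algebra.Homology.HomologicalComplexLimits

/-!
# Maps from a "cohomologically small" object to uniformly bounded below coproducts in `D(A)`

Abstract dévissage: let `E` be an object of `D(A)` with `E ≤ 0` such that maps from `E` to a
single sheaf placed in a degree `b ≤ 0` commute with coproducts (the "single case").  Then maps
from `E` to a coproduct of a uniformly bounded below family factor through a finite subcoproduct.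
-/

set_option autoImplicit false

universe v u

open CategoryTheory CategoryTheory.Limits HomologicalComplex

namespace Groth.Agent.Lib.Helper5.CptBdd

open Groth.Agent.Lib.Helper2.CptD

variable {A : Type u} [Category.{v} A] [Abelian A]

/-- A degreewise coproduct structure on a complex `X` equipped with a family of endomorphisms
`P t` indexed by finite sets: in each degree `X.X m` is a coproduct and `P t` is the projector
attached to `t`. -/
def DegStr {I : Type v} (X : CochainComplex A ℤ) (P : Finset I → (X ⟶ X)) : Prop :=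
  ∀ m : ℤ, ∃ (Y : I → A) (c : Cofan Y) (hc : IsColimit c) (e : c.pt ≅ X.X m),
    ∀ t, (P t).f m = e.inv ≫ proj c hc t ≫ e.hom

lemma DegStr.comp {I : Type v} {X : CochainComplex A ℤ} {P : Finset I → (X ⟶ X)}
    (hP : DegStr X P) {s t : Finset I} (hst : s ⊆ t) : P s ≫ P t = P s := by
  ext m
  obtain ⟨Y, c, hc, e, h⟩ := hP m
  rw [HomologicalComplex.comp_f, h s, h t]
  simp only [Category.assoc, Iso.hom_inv_id_assoc]
  rw [reassoc_of% (proj_comp_proj c hc hst)]

/-- The canonical map from a complex vanishing in degrees `< b` to its degree `b` term. -/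
noncomputable def toSingle (X : CochainComplex A ℤ) (b : ℤ)
    (hX : ∀ i : ℤ, i < b → IsZero (X.X i)) :
    X ⟶ (single A (ComplexShape.up ℤ) b).obj (X.X b) :=
  mkHomToSingle (𝟙 (X.X b)) (fun i hi => (hX i (by
    have : i + 1 = b := hi
    lia)).eq_of_src _ _)

lemma toSingle_f (X : CochainComplex A ℤ) (b : ℤ) (hX : ∀ i : ℤ, i < b → IsZero (X.X i)) :
    (toSingle X b hX).f b = (singleObjXSelf (ComplexShape.up ℤ) b (X.X b)).inv := by
  rw [toSingle, mkHomToSingle_f, Category.id_comp]

lemma epi_toSingle_f (X : CochainComplex A ℤ) (b : ℤ) (hX : ∀ i : ℤ, i < b → IsZero (X.X i))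
    (i : ℤ) : Epi ((toSingle X b hX).f i) := by
  by_cases h : i = b
  · subst h
    rw [toSingle_f]
    infer_instance
  · exact ⟨fun g g' _ =>
      (isZero_single_obj_X (ComplexShape.up ℤ) b (X.X b) i h).eq_of_src g g'⟩

lemma toSingle_naturality {X X' : CochainComplex A ℤ} (b : ℤ)
    (hX : ∀ i : ℤ, i < b → IsZero (X.X i)) (hX' : ∀ i : ℤ, i < b → IsZero (X'.X i))
    (φ : X ⟶ X') :
    φ ≫ toSingle X' b hX' =
      toSingle X b hX ≫ (single A (ComplexShape.up ℤ) b).map (φ.f b) := by
  apply to_single_hom_ext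
  rw [comp_f, comp_f, toSingle_f, toSingle_f, single_map_f_self, Iso.inv_hom_id_assoc]

variable [HasDerivedCategory.{v} A]

open DerivedCategory

lemma eq_zero_of_pos (E : DerivedCategory A) [E.IsLE 0] (X : CochainComplex A ℤ) (b : ℤ)
    (hb : 0 < b) (hX : ∀ i : ℤ, i < b → IsZero (X.X i)) (f : E ⟶ Q.obj X) : f = 0 := by
  haveI : X.IsStrictlyGE b := (CochainComplex.isStrictlyGE_iff X b).2 (fun i hi => hX i hi)
  exact TStructure.t.zero f 0 b hb

/-- The dévissage. -/
theorem main (E : DerivedCategory A) [E.IsLE 0]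
    (hS : ∀ (b : ℤ), b ≤ 0 → ∀ {I : Type v} (Y : I → A) (c : Cofan Y) (hc : IsColimit c)
      (f : E ⟶ Q.obj ((single A (ComplexShape.up ℤ) b).obj c.pt)),
      ∃ t : Finset I, f ≫ Q.map ((single A (ComplexShape.up ℤ) b).map (proj c hc t)) = f)
    {I : Type v} (n : ℕ) :
    ∀ (b : ℤ), 1 - b ≤ n → ∀ (X : CochainComplex A ℤ) (P : Finset I → (X ⟶ X)),
      (∀ i : ℤ, i < b → IsZero (X.X i)) → DegStr X P → ∀ f : E ⟶ Q.obj X,
      ∃ t : Finset I, f ≫ Q.map (P t) = f := by
  classical
  induction n with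
  | zero =>
    intro b hb X P hX hP f
    refine ⟨∅, ?_⟩
    rw [eq_zero_of_pos E X b (by lia) hX f, zero_comp]
  | succ n ih =>
    intro b hb X P hX hP f
    by_cases hb0 : 0 < b
    · refine ⟨∅, ?_⟩
      rw [eq_zero_of_pos E X b hb0 hX f, zero_comp]
    · have hb' : b ≤ 0 := by lia
      let S := single A (ComplexShape.up ℤ) b
      obtain ⟨π, hπdef⟩ : ∃ π : X ⟶ S.obj (X.X b), π = toSingle X b hX := ⟨_, rfl⟩
      have hπ : ∀ i, Epi (π.f i) := by
        rw [hπdef]
        exact epi_toSingle_f X b hX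
      have hπb : IsIso (π.f b) := by
        rw [hπdef, toSingle_f]
        infer_instance
      have hnat : ∀ t, P t ≫ π = π ≫ S.map ((P t).f b) := by
        intro t
        rw [hπdef]
        exact toSingle_naturality b hX hX (P t)
      have hPKex : ∀ t, ∃ q : kernel π ⟶ kernel π, q ≫ kernel.ι π = kernel.ι π ≫ P t :=
        fun t => ⟨kernel.lift π (kernel.ι π ≫ P t)
          (by rw [Category.assoc, hnat t, kernel.condition_assoc, zero_comp]),
          kernel.lift_ι _ _ _⟩
      choose PK hPK using hPKex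
      have hKzero : IsZero ((kernel π).X b) := isZero_kernel_X π hπ b hπb
      have hKiso : ∀ m : ℤ, m ≠ b → IsIso ((kernel.ι π).f m) := fun m hm =>
        isIso_kernel_ι_f π hπ m (isZero_single_obj_X (ComplexShape.up ℤ) b (X.X b) m hm)
      have hK : ∀ i : ℤ, i < b + 1 → IsZero ((kernel π).X i) := by
        intro i hi
        by_cases hib : i = b
        · subst hib
          exact hKzero
        · haveI := hKiso i hib
          exact IsZero.of_iso (hX i (by lia)) (asIso ((kernel.ι π).f i))
      have hDK : DegStr (kernel π) PK := by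
        intro m
        by_cases hm : m = b
        · subst hm
          refine ⟨fun _ => (kernel π).X m, Cofan.mk ((kernel π).X m) (fun _ => 𝟙 _),
            Cofan.IsColimit.mk _ (fun s => 0) (fun s i => hKzero.eq_of_src _ _)
              (fun s m' hm' => hKzero.eq_of_src _ _), Iso.refl _,
            fun t => hKzero.eq_of_src _ _⟩
        · obtain ⟨Y, c, hc, e, h⟩ := hP m
          haveI := hKiso m hm
          refine ⟨Y, c, hc, e ≪≫ (asIso ((kernel.ι π).f m)).symm, fun t => ?_⟩
          have h1 : (PK t).f m ≫ (kernel.ι π).f m = (kernel.ι π).f m ≫ (P t).f m := by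
            rw [← comp_f, ← comp_f, hPK t]
          rw [← cancel_mono ((kernel.ι π).f m), h1, h t]
          simp
      -- the single case
      obtain ⟨Y, c, hc, e, he⟩ := hP b
      obtain ⟨t₁, ht₁⟩ := hS b hb' Y c hc (f ≫ Q.map π ≫ Q.map (S.map e.inv))
      have key1 : f ≫ Q.map (P t₁) ≫ Q.map π = f ≫ Q.map π := by
        have e1 : Q.map (P t₁) ≫ Q.map π = Q.map π ≫ Q.map (S.map e.inv) ≫
            Q.map (S.map (proj c hc t₁)) ≫ Q.map (S.map e.hom) := by
          rw [← Q.map_comp, hnat t₁, he t₁]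
          simp only [Functor.map_comp]
        have e2 : Q.map (S.map e.inv) ≫ Q.map (S.map e.hom) = 𝟙 _ := by
          rw [← Q.map_comp, ← S.map_comp, e.inv_hom_id, S.map_id, Q.map_id]
        calc f ≫ Q.map (P t₁) ≫ Q.map π
            = ((f ≫ Q.map π ≫ Q.map (S.map e.inv)) ≫ Q.map (S.map (proj c hc t₁))) ≫
                Q.map (S.map e.hom) := by
              rw [e1]
              simp only [Category.assoc]
          _ = (f ≫ Q.map π ≫ Q.map (S.map e.inv)) ≫ Q.map (S.map e.hom) := by rw [ht₁]
          _ = f ≫ Q.map π := by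
              simp only [Category.assoc]
              rw [e2, Category.comp_id]
      have h0 : (f - f ≫ Q.map (P t₁)) ≫ Q.map π = 0 := by
        rw [Preadditive.sub_comp, Category.assoc, key1, sub_self]
      obtain ⟨g, hg⟩ := exists_lift_kernel π hπ (f - f ≫ Q.map (P t₁)) h0
      obtain ⟨t₂, ht₂⟩ := ih (b + 1) (by lia) (kernel π) PK hK hDK g
      refine ⟨t₁ ∪ t₂, ?_⟩
      have hu2 : (f - f ≫ Q.map (P t₁)) ≫ Q.map (P t₂) = f - f ≫ Q.map (P t₁) := by
        rw [← hg, Category.assoc, ← Q.map_comp, ← hPK t₂, Q.map_comp, ← Category.assoc, ht₂]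
      have hu : (f - f ≫ Q.map (P t₁)) ≫ Q.map (P (t₁ ∪ t₂)) = f - f ≫ Q.map (P t₁) := by
        conv_lhs => rw [← hu2]
        rw [Category.assoc, ← Q.map_comp, hP.comp Finset.subset_union_right, hu2]
      rw [Preadditive.sub_comp, Category.assoc, ← Q.map_comp,
        hP.comp Finset.subset_union_left] at hu
      exact sub_left_inj.1 hu

/-- Maps from `E` to a uniformly bounded below coproduct are fixed by a finite projector. -/
theorem exists_fix (E : DerivedCategory A) [E.IsLE 0]
    (hS : ∀ (b : ℤ), b ≤ 0 → ∀ {I : Type v} (Y : I → A) (c : Cofan Y) (hc : IsColimit c)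
      (f : E ⟶ Q.obj ((single A (ComplexShape.up ℤ) b).obj c.pt)),
      ∃ t : Finset I, f ≫ Q.map ((single A (ComplexShape.up ℤ) b).map (proj c hc t)) = f)
    (hQ : QPreservesCofans.{v} (A := A)) {I : Type v} [HasColimitsOfShape (Discrete I) A]
    (M : I → DerivedCategory A) [HasCoproduct M] (a : ℤ) (hM : ∀ i, (M i).IsGE a)
    (f : E ⟶ ∐ M) :
    ∃ t : Finset I, f ≫ proj (sigmaCofan M) (coproductIsCoproduct M) t = f := by
  classical
  have hex : ∀ i, ∃ (K : CochainComplex A ℤ), K.IsStrictlyGE a ∧ Nonempty (M i ≅ Q.obj K) := by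
    intro i
    haveI := hM i
    obtain ⟨K, hK, hK'⟩ := (M i).exists_iso_Q_obj_of_isGE a
    exact ⟨K, hK, hK'⟩
  choose X hX e using hex
  let e' : ∀ i, M i ≅ Q.obj (X i) := fun i => (e i).some
  let c : Cofan X := sigmaCofan X
  have hc : IsColimit c := coproductIsCoproduct X
  have hDeg : DegStr c.pt (fun t => proj c hc t) := by
    intro m
    let G := HomologicalComplex.eval A (ComplexShape.up ℤ) m
    have hcm : IsColimit (Cofan.mk (G.obj c.pt) (fun j => G.map (c.inj j))) :=
      isColimitMapCofanOfPreserves G c hc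
    refine ⟨fun i => (X i).X m, _, hcm, Iso.refl _, fun t => ?_⟩
    have := map_proj c hc G hcm t
    change (proj c hc t).f m = 𝟙 _ ≫ proj _ hcm t ≫ 𝟙 _
    rw [Category.id_comp, Category.comp_id]
    exact this
  have hge : ∀ i : ℤ, i < a → IsZero (c.pt.X i) := by
    intro m hm
    let G := HomologicalComplex.eval A (ComplexShape.up ℤ) m
    have hcm : IsColimit (Cofan.mk (G.obj c.pt) (fun j => G.map (c.inj j))) :=
      isColimitMapCofanOfPreserves G c hc
    rw [IsZero.iff_id_eq_zero]
    refine Cofan.IsColimit.hom_ext hcm _ _ (fun j => ?_)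
    haveI := hX j
    exact ((X j).isZero_of_isStrictlyGE a m hm).eq_of_src _ _
  obtain ⟨hc'⟩ := hQ I X c hc
  let c'' : Cofan M := Cofan.mk (Q.obj c.pt) (fun i => (e' i).hom ≫ Q.map (c.inj i))
  have hc'' : IsColimit c'' :=
    Cofan.IsColimit.mk _ (fun s => Cofan.IsColimit.desc hc' (fun i => (e' i).inv ≫ s.inj i))
      (fun s i => by
        change ((e' i).hom ≫ Q.map (c.inj i)) ≫ _ = _
        rw [Category.assoc]
        have := Cofan.IsColimit.fac hc' (fun i => (e' i).inv ≫ s.inj i) i
        change Q.map (c.inj i) ≫ _ = _ at this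
        rw [this, Iso.hom_inv_id_assoc])
      (fun s m hm => by
        refine Cofan.IsColimit.hom_ext hc' _ _ (fun i => ?_)
        rw [Cofan.IsColimit.fac]
        change Q.map (c.inj i) ≫ m = _
        rw [← hm i]
        change _ = (e' i).inv ≫ ((e' i).hom ≫ Q.map (c.inj i)) ≫ m
        rw [Category.assoc, Iso.inv_hom_id_assoc])
  have hpr1 : ∀ t, Q.map (proj c hc t) = proj _ hc' t := fun t => map_proj c hc Q hc' t
  have hpr2 : ∀ t, proj c'' hc'' t = proj _ hc' t := by
    intro t
    refine Cofan.IsColimit.hom_ext hc'' _ _ (fun i => ?_)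
    by_cases hi : i ∈ t
    · rw [inj_proj_of_mem c'' hc'' hi]
      symm
      change ((e' i).hom ≫ Q.map (c.inj i)) ≫ _ = (e' i).hom ≫ Q.map (c.inj i)
      rw [Category.assoc]
      congr 1
      exact inj_proj_of_mem _ hc' hi
    · rw [inj_proj_of_not_mem c'' hc'' hi]
      symm
      change ((e' i).hom ≫ Q.map (c.inj i)) ≫ _ = 0
      rw [Category.assoc]
      have := inj_proj_of_not_mem _ hc' hi
      change Q.map (c.inj i) ≫ _ = 0 at this
      rw [this, comp_zero]
  obtain ⟨t, ht⟩ := main E hS (1 - a).toNat a (by lia) c.pt (fun t => proj c hc t) hge hDeg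
    (f ≫ (IsColimit.coconePointUniqueUpToIso (coproductIsCoproduct M) hc'').hom)
  refine ⟨t, fix_transport (sigmaCofan M) c'' (coproductIsCoproduct M) hc'' f t ?_⟩
  rw [hpr2 t, ← hpr1 t]
  exact ht

theorem bijective_homSumToHomCoprod (E : DerivedCategory A) [E.IsLE 0]
    (hS : ∀ (b : ℤ), b ≤ 0 → ∀ {I : Type v} (Y : I → A) (c : Cofan Y) (hc : IsColimit c)
      (f : E ⟶ Q.obj ((single A (ComplexShape.up ℤ) b).obj c.pt)),
      ∃ t : Finset I, f ≫ Q.map ((single A (ComplexShape.up ℤ) b).map (proj c hc t)) = f)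
    (hQ : QPreservesCofans.{v} (A := A)) {I : Type v} [HasColimitsOfShape (Discrete I) A]
    (M : I → DerivedCategory A) [HasCoproduct M] (a : ℤ) (hM : ∀ i, (M i).IsGE a) :
    Function.Bijective (CohDer.homSumToHomCoprod E M) :=
  ⟨injective_homSumToHomCoprod E M, fun f => by
    obtain ⟨t, ht⟩ := exists_fix E hS hQ M a hM f
    exact mem_range_homSumToHomCoprod E M f t ht⟩

end Groth.Agent.Lib.Helper5.CptBdd
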