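import Groth.Agent.Lib.Helper5.CptBdd1
import Groth.Agent.Lib.Helper2.CptD.AbColim
import Mathlib.Algebra.Homology.DerivedCategory.Ext.Basic

/-!
# The single case of the dévissage, from `Ext^p(F, -)` commuting with coproducts
-/

set_option autoImplicit false

universe v u

open CategoryTheory CategoryTheory.Limits HomologicalComplex Abelian

namespace Groth.Agent.Lib.Helper5.CptBdd

open Groth.Agent.Lib.Helper2.CptD DerivedCategory

variable {A : Type u} [Category.{v} A] [Abelian A] [HasExt.{v} A] [HasDerivedCategory.{v} A]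

theorem single_case_ext (F : A)
    (h : ∀ (p : ℕ) (I : Type v), PreservesColimitsOfShape (Discrete I) (extFunctorObj F p))
    (b : ℤ) (hb : b ≤ 0) {I : Type v} (Y : I → A) (c : Cofan Y) (hc : IsColimit c)
    (f : (singleFunctor A 0).obj F ⟶ Q.obj ((single A (ComplexShape.up ℤ) b).obj c.pt)) :
    ∃ t : Finset I, f ≫ Q.map ((single A (ComplexShape.up ℤ) b).map (proj c hc t)) = f := by
  classical
  obtain ⟨p, hp⟩ : ∃ p : ℕ, (p : ℤ) + b = 0 := ⟨(-b).toNat, by lia⟩
  let G := extFunctorObj F p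
  haveI := h p I
  have hG : IsColimit (Cofan.mk (G.obj c.pt) (fun i => G.map (c.inj i))) :=
    isColimitMapCofanOfPreserves G c hc
  let iso := (DerivedCategory.singleFunctors A).shiftIso (p : ℤ) b 0 hp
  obtain ⟨f₁, hf₁⟩ : ∃ f₁ : (singleFunctor A 0).obj F ⟶ (singleFunctor A b).obj c.pt, f₁ = f :=
    ⟨f, rfl⟩
  let x : Ext F c.pt p := Ext.homEquiv.symm (f₁ ≫ iso.inv.app c.pt)
  have hx : x.hom = f₁ ≫ iso.inv.app c.pt := Ext.homEquiv.apply_symm_apply _
  obtain ⟨t, ht⟩ := exists_fix_ab _ hG x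
  refine ⟨t, ?_⟩
  rw [← map_proj c hc G hG t] at ht
  have ht' : x.comp (Ext.mk₀ (proj c hc t)) (add_zero p) = x := ht
  have h2 := congrArg Ext.hom ht'
  rw [Ext.comp_hom, Ext.mk₀_hom, ShiftedHom.comp_mk₀, hx] at h2
  have h3 := iso.inv.naturality (proj c hc t)
  rw [Category.assoc] at h2
  change f₁ ≫ iso.inv.app c.pt ≫
    (singleFunctor A 0 ⋙ shiftFunctor _ (p : ℤ)).map (proj c hc t) = _ at h2
  rw [← h3, ← Category.assoc] at h2
  have h4 := (cancel_mono (iso.inv.app c.pt)).1 h2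
  rw [hf₁] at h4
  exact h4

end Groth.Agent.Lib.Helper5.CptBdd
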