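import Groth.Agent.Lib.Helper5.CptBdd1
import Mathlib.Algebra.Homology.Embedding.HomEquiv
import Mathlib.Algebra.Homology.Embedding.StupidTrunc
import Mathlib.Algebra.Homology.Embedding.CochainComplex

/-!
# Compactness in the unbounded derived category from finite cohomological dimension

Continuation of `CptBdd1`: if moreover `Hom(E, L) = 0` for all `L ≤ -d-1`, then maps from `E` to an
arbitrary coproduct factor through a finite subcoproduct, i.e. `E` is a compact object.
-/

set_option autoImplicit false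

universe v u

open CategoryTheory CategoryTheory.Limits HomologicalComplex

namespace Groth.Agent.Lib.Helper5.CptBdd

open Groth.Agent.Lib.Helper2.CptD

variable {A : Type u} [Category.{v} A] [Abelian A]

/-- The chosen coproduct of a family of complexes carries a degreewise coproduct structure. -/
lemma degStr_sigma {I : Type v} [HasColimitsOfShape (Discrete I) A]
    (X : I → CochainComplex A ℤ) :
    DegStr (∐ X) (fun t => proj (sigmaCofan X) (coproductIsCoproduct X) t) := by
  intro m
  let c : Cofan X := sigmaCofan X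
  let hc : IsColimit c := coproductIsCoproduct X
  let G := HomologicalComplex.eval A (ComplexShape.up ℤ) m
  have hcm : IsColimit (Cofan.mk (G.obj c.pt) (fun j => G.map (c.inj j))) :=
    isColimitMapCofanOfPreserves G c hc
  refine ⟨fun i => (X i).X m, _, hcm, Iso.refl _, fun t => ?_⟩
  have := map_proj c hc G hcm t
  change (proj c hc t).f m = 𝟙 _ ≫ proj _ hcm t ≫ 𝟙 _
  rw [Category.id_comp, Category.comp_id]
  exact this

/-- Degreewise coproduct structures pass to the kernel of a degreewise epimorphism which in each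
degree is either an isomorphism or has zero target. -/
lemma degStr_kernel {I : Type v} {X Y : CochainComplex A ℤ} (π : X ⟶ Y)
    (hπ : ∀ i, Epi (π.f i)) (P : Finset I → (X ⟶ X)) (PY : Finset I → (Y ⟶ Y))
    (hnat : ∀ t, P t ≫ π = π ≫ PY t) (hP : DegStr X P)
    (hcase : ∀ m, IsIso (π.f m) ∨ IsZero (Y.X m)) :
    ∃ PK : Finset I → (kernel π ⟶ kernel π),
      (∀ t, PK t ≫ kernel.ι π = kernel.ι π ≫ P t) ∧ DegStr (kernel π) PK := by
  have hPKex : ∀ t, ∃ q : kernel π ⟶ kernel π, q ≫ kernel.ι π = kernel.ι π ≫ P t :=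
    fun t => ⟨kernel.lift π (kernel.ι π ≫ P t)
      (by rw [Category.assoc, hnat t, kernel.condition_assoc, zero_comp]),
      kernel.lift_ι _ _ _⟩
  choose PK hPK using hPKex
  refine ⟨PK, hPK, ?_⟩
  intro m
  rcases hcase m with hm | hm
  · have hKzero : IsZero ((kernel π).X m) := isZero_kernel_X π hπ m hm
    exact ⟨fun _ => (kernel π).X m, Cofan.mk ((kernel π).X m) (fun _ => 𝟙 _),
      Cofan.IsColimit.mk _ (fun s => 0) (fun s i => hKzero.eq_of_src _ _)
        (fun s m' hm' => hKzero.eq_of_src _ _), Iso.refl _,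
      fun t => hKzero.eq_of_src _ _⟩
  · obtain ⟨Y', c, hc, e, h⟩ := hP m
    haveI : IsIso ((kernel.ι π).f m) := isIso_kernel_ι_f π hπ m hm
    refine ⟨Y', c, hc, e ≪≫ (asIso ((kernel.ι π).f m)).symm, fun t => ?_⟩
    have h1 : (PK t).f m ≫ (kernel.ι π).f m = (kernel.ι π).f m ≫ (P t).f m := by
      rw [← comp_f, ← comp_f, hPK t]
    rw [← cancel_mono ((kernel.ι π).f m), h1, h t]
    simp

section StupidLE

variable (X : CochainComplex A ℤ) (m : ℤ)

/-- The stupid truncation `σ≤m X`, in unfolded form. -/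
noncomputable abbrev sigLE : CochainComplex A ℤ :=
  (X.restriction (ComplexShape.embeddingUpIntLE m)).extend (ComplexShape.embeddingUpIntLE m)

/-- functoriality of `sigLE`. -/
noncomputable abbrev sigLEMap {X X' : CochainComplex A ℤ} (φ : X ⟶ X') (m : ℤ) :
    sigLE X m ⟶ sigLE X' m :=
  extendMap (restrictionMap φ (ComplexShape.embeddingUpIntLE m)) (ComplexShape.embeddingUpIntLE m)

lemma hasLift_id :
    (ComplexShape.embeddingUpIntLE m).HasLift
      (𝟙 (X.restriction (ComplexShape.embeddingUpIntLE m))) := by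
  intro j hj
  exfalso
  refine hj.2 (j + 1) ?_
  simp only [ComplexShape.up_Rel, ComplexShape.embeddingUpIntLE_f]
  push_cast
  ring

/-- The projection of a complex onto its stupid truncation `σ≤m`. -/
noncomputable def piLE : X ⟶ sigLE X m :=
  (ComplexShape.embeddingUpIntLE m).liftExtend
    (𝟙 (X.restriction (ComplexShape.embeddingUpIntLE m))) (hasLift_id X m)

lemma piLE_naturality {X X' : CochainComplex A ℤ} (φ : X ⟶ X') (m : ℤ) :
    φ ≫ piLE X' m = piLE X m ≫ sigLEMap φ m := by
  have h1 : (ComplexShape.embeddingUpIntLE m).homRestrict (φ ≫ piLE X' m) =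
      (ComplexShape.embeddingUpIntLE m).homRestrict (piLE X m ≫ sigLEMap φ m) := by
    rw [ComplexShape.Embedding.homRestrict_precomp,
      ComplexShape.Embedding.homRestrict_comp_extendMap, piLE, piLE,
      ComplexShape.Embedding.homRestrict_liftExtend,
      ComplexShape.Embedding.homRestrict_liftExtend, Category.comp_id, Category.id_comp]
  have h2 := (ComplexShape.embeddingUpIntLE m).liftExtend_homRestrict (φ ≫ piLE X' m)
  have h3 := (ComplexShape.embeddingUpIntLE m).liftExtend_homRestrict (piLE X m ≫ sigLEMap φ m)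
  rw [← h2, ← h3]
  congr 1

lemma isIso_piLE_f (i : ℤ) (hi : i ≤ m) : IsIso ((piLE X m).f i) := by
  have hk : (ComplexShape.embeddingUpIntLE m).f (m - i).toNat = i := by
    simp only [ComplexShape.embeddingUpIntLE_f]
    lia
  rw [piLE, (ComplexShape.embeddingUpIntLE m).isIso_liftExtend_f_iff _ _ hk, id_f]
  infer_instance

lemma piLE_case (i : ℤ) :
    IsIso ((piLE X m).f i) ∨ IsZero ((sigLE X m).X i) := by
  by_cases hi : i ≤ m
  · exact Or.inl (isIso_piLE_f X m i hi)
  · right
    exact isZero_extend_X _ _ i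
      ((ComplexShape.notMem_range_embeddingUpIntLE_iff m i).2 (by lia))

lemma epi_piLE_f (i : ℤ) : Epi ((piLE X m).f i) := by
  rcases piLE_case X m i with h | h
  · infer_instance
  · exact ⟨fun g g' _ => h.eq_of_src g g'⟩

end StupidLE

variable [HasDerivedCategory.{v} A]

open DerivedCategory

/-- The unbounded dévissage. -/
theorem main_unbdd (E : DerivedCategory A) [E.IsLE 0]
    (hS : ∀ (b : ℤ), b ≤ 0 → ∀ {I : Type v} (Y : I → A) (c : Cofan Y) (hc : IsColimit c)
      (f : E ⟶ Q.obj ((single A (ComplexShape.up ℤ) b).obj c.pt)),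
      ∃ t : Finset I, f ≫ Q.map ((single A (ComplexShape.up ℤ) b).map (proj c hc t)) = f)
    (d : ℕ) (hV : ∀ L : DerivedCategory A, L.IsLE (-(d : ℤ) - 1) → ∀ f : E ⟶ L, f = 0)
    {I : Type v} (X : CochainComplex A ℤ) (P : Finset I → (X ⟶ X)) (hP : DegStr X P)
    (f : E ⟶ Q.obj X) : ∃ t : Finset I, f ≫ Q.map (P t) = f := by
  classical
  obtain ⟨m, hm⟩ : ∃ m : ℤ, m = -(d : ℤ) - 2 := ⟨_, rfl⟩
  obtain ⟨π, hπdef⟩ : ∃ π : X ⟶ sigLE X m, π = piLE X m := ⟨_, rfl⟩
  have hπ : ∀ i, Epi (π.f i) := by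
    rw [hπdef]
    exact epi_piLE_f X m
  have hcase : ∀ i, IsIso (π.f i) ∨ IsZero ((sigLE X m).X i) := by
    rw [hπdef]
    exact piLE_case X m
  have hπiso : ∀ i : ℤ, i ≤ m → IsIso (π.f i) := by
    rw [hπdef]
    exact isIso_piLE_f X m
  have hnat : ∀ t, P t ≫ π = π ≫ sigLEMap (P t) m := by
    intro t
    rw [hπdef]
    exact piLE_naturality (P t) m
  obtain ⟨PK, hPK, hDK⟩ := degStr_kernel π hπ P _ hnat hP hcase
  have hK : ∀ i : ℤ, i < m + 1 → IsZero ((kernel π).X i) := fun i hi =>
    isZero_kernel_X π hπ i (hπiso i (by lia))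
  have h0 : f ≫ Q.map π = 0 := by
    haveI : CochainComplex.IsStrictlyLE (sigLE X m) m :=
      inferInstanceAs ((sigLE X m).IsStrictlySupported (ComplexShape.embeddingUpIntLE m))
    haveI : (Q.obj (sigLE X m)).IsLE m := inferInstance
    exact hV _ (TStructure.t.isLE_of_le _ m _ (by lia)) _
  obtain ⟨g, hg⟩ := exists_lift_kernel π hπ f h0
  obtain ⟨t, ht⟩ := main E hS (1 - (m + 1)).toNat (m + 1) (by lia) (kernel π) PK hK hDK g
  refine ⟨t, ?_⟩
  rw [← hg, Category.assoc, ← Q.map_comp, ← hPK t, Q.map_comp, ← Category.assoc, ht]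

/-- Reduction of the fixed point statement for a coproduct in `D(A)` to chain level. -/
theorem exists_fix_of (E : DerivedCategory A) (hQ : QPreservesCofans.{v} (A := A)) {I : Type v}
    [HasColimitsOfShape (Discrete I) A] (M : I → DerivedCategory A) [HasCoproduct M]
    (X : I → CochainComplex A ℤ) (e' : ∀ i, M i ≅ Q.obj (X i))
    (hmain : ∀ f' : E ⟶ Q.obj (∐ X), ∃ t : Finset I,
      f' ≫ Q.map (proj (sigmaCofan X) (coproductIsCoproduct X) t) = f')
    (f : E ⟶ ∐ M) :
    ∃ t : Finset I, f ≫ proj (sigmaCofan M) (coproductIsCoproduct M) t = f := by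
  classical
  let c : Cofan X := sigmaCofan X
  let hc : IsColimit c := coproductIsCoproduct X
  obtain ⟨hc'⟩ := hQ I X c hc
  let c'' : Cofan M := Cofan.mk (Q.obj c.pt) (fun i => (e' i).hom ≫ Q.map (c.inj i))
  have hc'' : IsColimit c'' :=
    Cofan.IsColimit.mk _ (fun s => Cofan.IsColimit.desc hc' (fun i => (e' i).inv ≫ s.inj i))
      (fun s i => by
        change ((e' i).hom ≫ Q.map (c.inj i)) ≫ _ = _
        rw [Category.assoc]
        have := Cofan.IsColimit.fac hc' (fun i => (e' i).inv ≫ s.inj i) i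
        change Q.map (c.inj i) ≫ _ = _ at this
        rw [this, Iso.hom_inv_id_assoc])
      (fun s m hm => by
        refine Cofan.IsColimit.hom_ext hc' _ _ (fun i => ?_)
        rw [Cofan.IsColimit.fac]
        change Q.map (c.inj i) ≫ m = _
        rw [← hm i]
        change _ = (e' i).inv ≫ ((e' i).hom ≫ Q.map (c.inj i)) ≫ m
        rw [Category.assoc, Iso.inv_hom_id_assoc])
  have hpr1 : ∀ t, Q.map (proj c hc t) = proj _ hc' t := fun t => map_proj c hc Q hc' t
  have hpr2 : ∀ t, proj c'' hc'' t = proj _ hc' t := by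
    intro t
    refine Cofan.IsColimit.hom_ext hc'' _ _ (fun i => ?_)
    by_cases hi : i ∈ t
    · rw [inj_proj_of_mem c'' hc'' hi]
      symm
      change ((e' i).hom ≫ Q.map (c.inj i)) ≫ _ = (e' i).hom ≫ Q.map (c.inj i)
      rw [Category.assoc]
      congr 1
      exact inj_proj_of_mem _ hc' hi
    · rw [inj_proj_of_not_mem c'' hc'' hi]
      symm
      change ((e' i).hom ≫ Q.map (c.inj i)) ≫ _ = 0
      rw [Category.assoc]
      have := inj_proj_of_not_mem _ hc' hi
      change Q.map (c.inj i) ≫ _ = 0 at this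
      rw [this, comp_zero]
  obtain ⟨t, ht⟩ := hmain
    (f ≫ (IsColimit.coconePointUniqueUpToIso (coproductIsCoproduct M) hc'').hom)
  refine ⟨t, fix_transport (sigmaCofan M) c'' (coproductIsCoproduct M) hc'' f t ?_⟩
  rw [hpr2 t, ← hpr1 t]
  exact ht

/-- `E` is a compact object. -/
theorem isCompactObject (E : DerivedCategory A) [E.IsLE 0]
    (hS : ∀ (b : ℤ), b ≤ 0 → ∀ {I : Type v} (Y : I → A) (c : Cofan Y) (hc : IsColimit c)
      (f : E ⟶ Q.obj ((single A (ComplexShape.up ℤ) b).obj c.pt)),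
      ∃ t : Finset I, f ≫ Q.map ((single A (ComplexShape.up ℤ) b).map (proj c hc t)) = f)
    (hQ : QPreservesCofans.{v} (A := A))
    (d : ℕ) (hV : ∀ L : DerivedCategory A, L.IsLE (-(d : ℤ) - 1) → ∀ f : E ⟶ L, f = 0)
    [HasCoproducts.{v} A] [HasCoproducts.{v} (DerivedCategory A)] :
    CohDer.IsCompactObject E := by
  intro I M
  refine ⟨injective_homSumToHomCoprod E M, fun f => ?_⟩
  obtain ⟨t, ht⟩ := exists_fix_of E hQ M (fun i => Q.objPreimage (M i))
    (fun i => (Q.objObjPreimageIso (M i)).symm)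
    (fun f' => main_unbdd E hS d hV _ _ (degStr_sigma _) f') f
  exact mem_range_homSumToHomCoprod E M f t ht

end Groth.Agent.Lib.Helper5.CptBdd
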