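import Groth.Agent.Lib.Helper17.KInjRes
import Groth.Agent.Lib.Helper17.HDU1
import Mathlib.Algebra.Homology.DerivedCategory.Ext.ExactSequences
import Mathlib.Algebra.Homology.DerivedCategory.Ext.EnoughInjectives
import Mathlib.Algebra.Homology.DerivedCategory.TStructure

/-!
# Vanishing of `Hom(F[0], L)` for `L ≤ -d-1` when `Ext^p(F, -) = 0` for `p > d`

Uses K-injective resolutions (helper17) and dimension shifting along the cycle objects.
-/

set_option autoImplicit false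

universe v u

open CategoryTheory CategoryTheory.Limits HomologicalComplex Abelian

namespace Groth.Agent.Lib.Helper5.CptBdd

variable {A : Type u} [Category.{v} A] [Abelian A] [HasExt.{v} A]

section DimShift

variable (K : CochainComplex A ℤ)

/-- The sequence `Z^i ⟶ K^i ⟶ Z^j` of cycle objects. -/
noncomputable def cycSC (i j k : ℤ) : ShortComplex A :=
  ShortComplex.mk (kernel.ι (K.d i j)) (kernel.lift (K.d j k) (K.d i j) (K.d_comp_d i j k))
    (by rw [← cancel_mono (kernel.ι (K.d j k)), Category.assoc, kernel.lift_ι,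
      kernel.condition, zero_comp])

lemma cycSC_shortExact (i j k : ℤ) (hij : i + 1 = j) (hjk : j + 1 = k) (hex : K.ExactAt j) :
    (cycSC K i j k).ShortExact := by
  have hex' : (K.sc' i j k).Exact :=
    (K.exactAt_iff' i j k (by simp [← hij]) (by simp [← hjk])).1 hex
  have hepi : Epi (kernel.lift (K.d j k) (K.d i j) (K.d_comp_d i j k)) :=
    (ShortComplex.exact_iff_epi_kernel_lift (K.sc' i j k)).1 hex'
  refine ShortComplex.ShortExact.mk' ?_ (inferInstanceAs (Mono (kernel.ι (K.d i j)))) hepi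
  apply ShortComplex.exact_of_f_is_kernel
  refine KernelFork.IsLimit.ofι' (kernel.ι (K.d i j)) _ (fun {W} g hg => ?_)
  have hg' : g ≫ K.d i j = 0 := by
    have h5 : g ≫ kernel.lift (K.d j k) (K.d i j) (K.d_comp_d i j k) = 0 := hg
    rw [← kernel.lift_ι (K.d j k) (K.d i j) (K.d_comp_d i j k), ← Category.assoc, h5, zero_comp]
  exact ⟨kernel.lift _ g hg', kernel.lift_ι _ _ _⟩

lemma ext_cycles_eq_zero (F : A) (d : ℕ)
    (hvan : ∀ (G : A) (p : ℕ), d < p → ∀ x : Ext F G p, x = 0)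
    (hinj : ∀ n, Injective (K.X n)) (k : ℕ) :
    ∀ (n : ℕ) (j j' : ℤ), j + 1 = j' → 1 ≤ n → d < n + k →
      (∀ i : ℤ, j - k < i → i ≤ j → K.ExactAt i) →
      ∀ x : Ext F (kernel (K.d j j')) n, x = 0 := by
  induction k with
  | zero =>
    intro n j j' _ _ hd _ x
    exact hvan _ n (by simpa using hd) x
  | succ k ih =>
    intro n j j' hj hn hd hex x
    have hS := cycSC_shortExact K (j - 1) j j' (by lia) hj (hex j (by push_cast; lia) le_rfl)
    have h0 : x.comp hS.extClass rfl = 0 :=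
      ih (n + 1) (j - 1) j (by lia) (by lia) (by lia)
        (fun i h1 h2 => hex i (by push_cast; lia) (by lia)) _
    obtain ⟨x₂, hx₂⟩ := Ext.covariant_sequence_exact₃ F hS x rfl h0
    obtain ⟨n', rfl⟩ : ∃ n', n = n' + 1 := ⟨n - 1, by lia⟩
    haveI : Injective (cycSC K (j - 1) j j').X₂ := hinj (j - 1)
    have hx0 : x₂ = 0 := Ext.eq_zero_of_injective x₂
    rw [← hx₂, hx0]
    exact Ext.zero_comp F (n' + 1) (Ext.mk₀ (cycSC K (j - 1) j j').g) _ (add_zero (n' + 1))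

lemma exists_lift_cocycle (F : A) (d : ℕ)
    (hvan : ∀ (G : A) (p : ℕ), d < p → ∀ x : Ext F G p, x = 0)
    (hinj : ∀ n, Injective (K.X n))
    (hex : ∀ i : ℤ, -(d : ℤ) - 1 < i → K.ExactAt i)
    (z : F ⟶ K.X 0) (hz : z ≫ K.d 0 (0 + 1) = 0) :
    ∃ g : F ⟶ K.X (0 - 1), g ≫ K.d (0 - 1) 0 = z := by
  have hS := cycSC_shortExact K (0 - 1) 0 (0 + 1) (by lia) rfl (hex 0 (by lia))
  obtain ⟨z', hz'⟩ : ∃ z' : F ⟶ kernel (K.d 0 (0 + 1)), z' ≫ kernel.ι _ = z :=
    ⟨kernel.lift _ z hz, kernel.lift_ι _ _ _⟩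
  have h0 : (Ext.mk₀ z').comp hS.extClass (zero_add 1) = 0 :=
    ext_cycles_eq_zero K F d hvan hinj d 1 (0 - 1) 0 (by lia) le_rfl (by lia)
      (fun i h1 _ => hex i (by lia)) _
  obtain ⟨x₂, hx₂⟩ := Ext.covariant_sequence_exact₃ F hS (Ext.mk₀ z') (zero_add 1) h0
  obtain ⟨g, rfl⟩ := (Ext.mk₀_bijective F (cycSC K (0 - 1) 0 (0 + 1)).X₂).2 x₂
  rw [Ext.mk₀_comp_mk₀] at hx₂
  have h1 := (Ext.mk₀_bijective F _).1 hx₂
  refine ⟨g, ?_⟩
  have h3 := congrArg (fun w => w ≫ kernel.ι (K.d 0 (0 + 1))) h1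
  simp only [cycSC, Category.assoc, kernel.lift_ι, hz'] at h3
  exact h3

end DimShift

section Vanish

variable [IsGrothendieckAbelian.{v} A] [HasDerivedCategory.{v} A]

open DerivedCategory

theorem hom_eq_zero_of_isLE (F : A) (d : ℕ)
    (hvan : ∀ (G : A) (p : ℕ), d < p → ∀ x : Ext F G p, x = 0)
    (L : DerivedCategory A) (hL : L.IsLE (-(d : ℤ) - 1))
    (f : (singleFunctor A 0).obj F ⟶ L) : f = 0 := by
  let M := (Q (C := A)).objPreimage L
  let eM : Q.obj M ≅ L := (Q (C := A)).objObjPreimageIso L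
  obtain ⟨I, φ, hI, hφ, -, hinj⟩ :=
    Groth.Agent.Lib.Helper17.KInjRes.exists_kInjective_resolution M
  haveI := hI
  haveI := hφ
  haveI : IsIso (Q.map φ) := (isIso_Q_map_iff_quasiIso _ φ).2 hφ
  let e : L ≅ Q.obj I := eM.symm ≪≫ asIso (Q.map φ)
  haveI : (Q.obj I).IsLE (-(d : ℤ) - 1) := TStructure.t.isLE_of_iso e _
  haveI hIle : I.IsLE (-(d : ℤ) - 1) := (isLE_Q_obj_iff I _).1 inferInstance
  have hex : ∀ i : ℤ, -(d : ℤ) - 1 < i → I.ExactAt i := fun i hi =>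
    I.exactAt_of_isLE (-(d : ℤ) - 1) i hi
  obtain ⟨f', hf'⟩ : ∃ f' : (singleFunctor A 0).obj F ⟶ (Q.obj I)⟦(0 : ℤ)⟧,
      f' = f ≫ e.hom ≫ (shiftFunctorZero (DerivedCategory A) ℤ).inv.app (Q.obj I) := ⟨_, rfl⟩
  obtain ⟨z, hz, hzf⟩ := Groth.Agent.Lib.Helper17.HDU1.clsD_surjective I 0 f'
  obtain ⟨g, hg⟩ := exists_lift_cocycle I F d hvan hinj hex z hz
  have h0 : f' = 0 := by
    rw [← hzf]
    exact (Groth.Agent.Lib.Helper17.HDU1.clsD_eq_zero_iff I 0 z hz).2 ⟨g, hg⟩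
  rw [hf'] at h0
  exact zero_of_comp_mono _ h0

end Vanish

end Groth.Agent.Lib.Helper5.CptBdd
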