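import Groth.Agent.Lib.Helper5.CptBdd2
import Mathlib.CategoryTheory.Abelian.GrothendieckCategory.EnoughInjectives
import Mathlib.CategoryTheory.Abelian.GrothendieckAxioms.Colim
import Mathlib.Algebra.Homology.DerivedCategory.Ext.ExactSequences
import Mathlib.Algebra.Homology.DerivedCategory.Ext.EnoughInjectives

/-!
# `Ext^p(P, -)` and coproducts: dimension shifting for the finite-projector property

`ExtFix P p`: every class in `Ext^p(P, ∐ Y_i)` is fixed by a finite projector.  In a Grothendieck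
abelian category this propagates from `p = 0` to all `p` as soon as `Ext^{>0}(P, -)` vanishes on
coproducts of injectives.
-/

set_option autoImplicit false

universe v u

open CategoryTheory CategoryTheory.Limits HomologicalComplex Abelian

namespace Groth.Agent.Lib.Helper5.CptBdd

open Groth.Agent.Lib.Helper2.CptD

variable {A : Type u} [Category.{v} A] [Abelian A] [HasExt.{v} A]

/-- Every class in `Ext^p(P, ∐ Y)` is fixed by a finite projector. -/
def ExtFix (P : A) (p : ℕ) : Prop :=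
  ∀ {I : Type v} (Y : I → A) (c : Cofan Y) (hc : IsColimit c) (x : Ext P c.pt p),
    ∃ t : Finset I, x.comp (Ext.mk₀ (proj c hc t)) (add_zero p) = x

lemma extFix_zero (P : A)
    (hZ : ∀ {I : Type v} (Y : I → A) (c : Cofan Y) (hc : IsColimit c) (g : P ⟶ c.pt),
      ∃ t : Finset I, g ≫ proj c hc t = g) : ExtFix P 0 := by
  intro I Y c hc x
  obtain ⟨g, rfl⟩ := (Ext.mk₀_bijective P c.pt).2 x
  obtain ⟨t, ht⟩ := hZ Y c hc g
  exact ⟨t, by rw [Ext.mk₀_comp_mk₀, ht]⟩

theorem extFix_succ [IsGrothendieckAbelian.{v} A] (P : A)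
    (hV : ∀ {I : Type v} (Y : I → A), (∀ i, Injective (Y i)) →
      ∀ (p : ℕ) (x : Ext P (∐ Y) (p + 1)), x = 0)
    (p : ℕ) (ih : ExtFix P p) : ExtFix P (p + 1) := by
  classical
  intro I Y c hc x
  let E : I → A := fun i => Injective.under (Y i)
  let Qo : I → A := fun i => cokernel (Injective.ι (Y i))
  let cE : Cofan E := sigmaCofan E
  let hcE : IsColimit cE := coproductIsCoproduct E
  let cQ : Cofan Qo := sigmaCofan Qo
  let hcQ : IsColimit cQ := coproductIsCoproduct Qo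
  obtain ⟨α, hα⟩ : ∃ α : c.pt ⟶ ∐ E, ∀ i, c.inj i ≫ α = Injective.ι (Y i) ≫ Sigma.ι E i :=
    ⟨Cofan.IsColimit.desc hc (fun i => Injective.ι (Y i) ≫ Sigma.ι E i),
      fun i => Cofan.IsColimit.fac hc _ i⟩
  obtain ⟨β, hβ⟩ : ∃ β : ∐ E ⟶ ∐ Qo,
      ∀ i, Sigma.ι E i ≫ β = cokernel.π (Injective.ι (Y i)) ≫ Sigma.ι Qo i :=
    ⟨Sigma.desc (fun i => cokernel.π (Injective.ι (Y i)) ≫ Sigma.ι Qo i),
      fun i => Sigma.ι_desc _ _⟩
  have hαβ : α ≫ β = 0 := by
    refine Cofan.IsColimit.hom_ext hc _ _ (fun i => ?_)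
    rw [reassoc_of% (hα i), hβ i, cokernel.condition_assoc, zero_comp, comp_zero]
  have hmono : Mono α := by
    let φ : Discrete.functor Y ⟶ Discrete.functor E :=
      Discrete.natTrans (fun i => Injective.ι (Y i.as))
    haveI : ∀ j, Mono (φ.app j) := fun j => inferInstanceAs (Mono (Injective.ι (Y j.as)))
    haveI : Mono φ := NatTrans.mono_of_mono_app φ
    exact colim.map_mono' φ hc hcE α (fun j => hα j.as)
  have hepi : Epi β := ⟨fun {W} g h hgh => Sigma.hom_ext _ _ (fun i => by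
    have h1 : cokernel.π (Injective.ι (Y i)) ≫ Sigma.ι Qo i ≫ g =
        cokernel.π (Injective.ι (Y i)) ≫ Sigma.ι Qo i ≫ h := by
      rw [← reassoc_of% (hβ i), ← reassoc_of% (hβ i), hgh]
    exact (cancel_epi _).1 h1)⟩
  let S : ShortComplex A := ShortComplex.mk α β hαβ
  have hS : S.ShortExact := by
    refine ShortComplex.ShortExact.mk' ?_ hmono hepi
    apply ShortComplex.exact_of_g_is_cokernel
    refine CokernelCofork.IsColimit.ofπ' β hαβ (fun {W} k hk => ?_)
    have hk' : ∀ i, Injective.ι (Y i) ≫ (Sigma.ι E i ≫ k) = 0 := fun i => by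
      rw [← Category.assoc, ← hα i, Category.assoc, hk, comp_zero]
    refine ⟨Sigma.desc (fun i => cokernel.desc _ _ (hk' i)), ?_⟩
    refine Sigma.hom_ext _ _ (fun i => ?_)
    rw [reassoc_of% (hβ i), Sigma.ι_desc, cokernel.π_desc]
  have hx0 : x.comp (Ext.mk₀ S.f) (add_zero (p + 1)) = 0 :=
    hV E (fun i => inferInstanceAs (Injective (Injective.under (Y i)))) p _
  obtain ⟨y, hy⟩ := Ext.covariant_sequence_exact₁ P hS x hx0 rfl
  obtain ⟨t, ht⟩ := ih Qo cQ hcQ y
  refine ⟨t, ?_⟩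
  have c1 : proj c hc t ≫ α = α ≫ proj cE hcE t := by
    refine Cofan.IsColimit.hom_ext hc _ _ (fun i => ?_)
    by_cases hi : i ∈ t
    · have h1 : Sigma.ι E i ≫ proj cE hcE t = Sigma.ι E i := inj_proj_of_mem cE hcE hi
      rw [inj_proj_of_mem_assoc c hc hi, reassoc_of% (hα i), h1, hα i]
    · have h1 : Sigma.ι E i ≫ proj cE hcE t = 0 := inj_proj_of_not_mem cE hcE hi
      rw [inj_proj_of_not_mem_assoc c hc hi, zero_comp, reassoc_of% (hα i), h1, comp_zero]
  have c2 : proj cE hcE t ≫ β = β ≫ proj cQ hcQ t := by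
    refine Sigma.hom_ext _ _ (fun i => ?_)
    by_cases hi : i ∈ t
    · have h1 : Sigma.ι E i ≫ proj cE hcE t = Sigma.ι E i := inj_proj_of_mem cE hcE hi
      have h2 : Sigma.ι Qo i ≫ proj cQ hcQ t = Sigma.ι Qo i := inj_proj_of_mem cQ hcQ hi
      rw [reassoc_of% h1, reassoc_of% (hβ i), h2, hβ i]
    · have h1 : Sigma.ι E i ≫ proj cE hcE t = 0 := inj_proj_of_not_mem cE hcE hi
      have h2 : Sigma.ι Qo i ≫ proj cQ hcQ t = 0 := inj_proj_of_not_mem cQ hcQ hi
      rw [reassoc_of% h1, zero_comp, reassoc_of% (hβ i), h2, comp_zero]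
  let φ : S ⟶ S :=
    { τ₁ := proj c hc t
      τ₂ := proj cE hcE t
      τ₃ := proj cQ hcQ t
      comm₁₂ := c1
      comm₂₃ := c2 }
  have hnat := ShortComplex.ShortExact.extClass_naturality hS hS φ
  have e1 : (y.comp hS.extClass rfl).comp (Ext.mk₀ φ.τ₁) (add_zero (p + 1)) =
      (y.comp (Ext.mk₀ φ.τ₃) (add_zero p)).comp hS.extClass rfl := by
    rw [Ext.comp_assoc y hS.extClass (Ext.mk₀ φ.τ₁) rfl (add_zero 1) (by omega), hnat,
      Ext.comp_assoc y (Ext.mk₀ φ.τ₃) hS.extClass (add_zero p) (zero_add 1) (by omega)]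
  have ht' : y.comp (Ext.mk₀ φ.τ₃) (add_zero p) = y := ht
  rw [ht', hy] at e1
  exact e1

theorem extFix_all [IsGrothendieckAbelian.{v} A] (P : A)
    (hZ : ∀ {I : Type v} (Y : I → A) (c : Cofan Y) (hc : IsColimit c) (g : P ⟶ c.pt),
      ∃ t : Finset I, g ≫ proj c hc t = g)
    (hV : ∀ {I : Type v} (Y : I → A), (∀ i, Injective (Y i)) →
      ∀ (p : ℕ) (x : Ext P (∐ Y) (p + 1)), x = 0) : ∀ p, ExtFix P p
  | 0 => extFix_zero P hZ
  | p + 1 => extFix_succ P hV p (extFix_all P hZ hV p)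

variable [HasDerivedCategory.{v} A]

open DerivedCategory

theorem single_case_of_extFix (F : A) (h : ∀ p, ExtFix F p)
    (b : ℤ) (hb : b ≤ 0) {I : Type v} (Y : I → A) (c : Cofan Y) (hc : IsColimit c)
    (f : (singleFunctor A 0).obj F ⟶ Q.obj ((single A (ComplexShape.up ℤ) b).obj c.pt)) :
    ∃ t : Finset I, f ≫ Q.map ((single A (ComplexShape.up ℤ) b).map (proj c hc t)) = f := by
  classical
  obtain ⟨p, hp⟩ : ∃ p : ℕ, (p : ℤ) + b = 0 := ⟨(-b).toNat, by lia⟩
  let iso := (DerivedCategory.singleFunctors A).shiftIso (p : ℤ) b 0 hp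
  obtain ⟨f₁, hf₁⟩ : ∃ f₁ : (singleFunctor A 0).obj F ⟶ (singleFunctor A b).obj c.pt, f₁ = f :=
    ⟨f, rfl⟩
  let x : Ext F c.pt p := Ext.homEquiv.symm (f₁ ≫ iso.inv.app c.pt)
  have hx : x.hom = f₁ ≫ iso.inv.app c.pt := Ext.homEquiv.apply_symm_apply _
  obtain ⟨t, ht'⟩ := h p Y c hc x
  refine ⟨t, ?_⟩
  have h2 := congrArg Ext.hom ht'
  rw [Ext.comp_hom, Ext.mk₀_hom, ShiftedHom.comp_mk₀, hx] at h2
  have h3 := iso.inv.naturality (proj c hc t)
  rw [Category.assoc] at h2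
  change f₁ ≫ iso.inv.app c.pt ≫
    (singleFunctor A 0 ⋙ shiftFunctor _ (p : ℤ)).map (proj c hc t) = _ at h2
  rw [← h3, ← Category.assoc] at h2
  have h4 := (cancel_mono (iso.inv.app c.pt)).1 h2
  rw [hf₁] at h4
  exact h4

end Groth.Agent.Lib.Helper5.CptBdd
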