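import Groth.Agent.Lib.Helper5.CptBdd5
import Groth.Agent.Lib.Helper5.Deg0
import Groth.Agent.Lib.Helper5.PushAcyclic
import Groth.Agent.Lib.Helper2.QcSite.FinCover
import Groth.Agent.Lib.Helper22.ColimCoh.ExtInd
import Groth.Agent.Lib.Helper17.ModSiteColim
import Groth.Agent.S0484

/-!
# `j_{U!} O_U` and coproducts in `D^+(O)`, for `U` in a good collection `B`

* `finCover_of_collection`: objects of `B` have the finite subcover property.
* `exists_fix_freeOn_of_finCover`: maps `j_{U!} O_U ⟶ ∐ F_i` are fixed by a finite projector.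
* `nonempty_ext_freeOn_addEquiv`: `Ext^n_O(j_{U!} O_U, M) ≃ Ext^n_ℤ(ℤ_U, M)`.
* `ext_sigma_eq_zero`: for `U ∈ B`, if `H^{p+1}(U, A_i) = 0` for all `i`, then `H^{p+1}(U, ∐ A_i) = 0`.
* `ext_freeOn_sigma_injective_eq_zero`: `Ext^{p+1}_O(j_{U!} O_U, ∐ Y_i) = 0` for injective modules `Y_i`.
-/

set_option autoImplicit false

universe w' w v u' u

open CategoryTheory CategoryTheory.Limits Opposite Abelian

namespace Groth.Agent.Lib.Helper5.CptBdd

open Groth.Agent.Lib.Helper2.CptD Groth.Agent.Lib.Helper2.QcSite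

section General

variable {A : Type u'} [Category.{v} A] [Abelian A] [HasExt.{w} A]

/-- `Ext^n(P, -)` vanishes on a finite coproduct as soon as it vanishes on the summands. -/
lemma ext_eq_zero_of_finite_cofan (P : A) (n : ℕ) {κ : Type w'} [Finite κ] (Y : κ → A)
    (c : Cofan Y) (hc : IsColimit c) (hY : ∀ k (x : Ext P (Y k) n), x = 0) (x : Ext P c.pt n) :
    x = 0 := by
  classical
  haveI := Fintype.ofFinite κ
  have h1 : proj c hc Finset.univ = 𝟙 c.pt :=
    Cofan.IsColimit.hom_ext hc _ _ (fun j => by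
      rw [inj_proj_of_mem c hc (Finset.mem_univ j), Category.comp_id])
  let φ : (c.pt ⟶ c.pt) →+ Ext P c.pt n :=
    (x.precomp c.pt (add_zero n)).comp
      (Ext.addEquiv₀ (X := c.pt) (Y := c.pt)).symm.toAddMonoidHom
  have hφ : ∀ f : c.pt ⟶ c.pt, φ f = x.comp (Ext.mk₀ f) (add_zero n) := fun f => rfl
  have h2 : x = φ (𝟙 c.pt) := by rw [hφ, Ext.comp_mk₀_id]
  rw [h2, ← h1, proj_eq_sum, map_sum]
  refine Finset.sum_eq_zero (fun i _ => ?_)
  rw [hφ, ← Ext.mk₀_comp_mk₀,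
    ← Ext.comp_assoc x (Ext.mk₀ (cπ c hc i)) (Ext.mk₀ (c.inj i)) (add_zero n) (add_zero 0)
      (by omega),
    hY i (x.comp (Ext.mk₀ (cπ c hc i)) (add_zero n)), Ext.zero_comp]

end General

section Cover

variable {C : Type u} [SmallCategory C] [HasPullbacks C] {J : GrothendieckTopology C}
  {B : Set C} {Cov : ∀ (U : C) (ι : Type u), (ι → Over U) → Prop}

/-- Objects of a good collection have the finite subcover property. -/
lemma finCover_of_collection
    (h1 : ∀ (U : C) (ι : Type u) (Y : ι → Over U), Cov U ι Y → Finite ι ∧ U ∈ B ∧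
      Sieve.ofArrows (fun i => (Y i).left) (fun i => (Y i).hom) ∈ J U ∧
      ∀ (p : ℕ) (a : Fin (p + 1) → ι), (∏ᶜ fun k => Y (a k)).left ∈ B)
    (h2 : ∀ U ∈ B, ∀ T ∈ J U, ∃ (ι : Type u) (Y : ι → Over U), Cov U ι Y ∧
      ∀ i, T.arrows (Y i).hom)
    (U : C) (hU : U ∈ B) : FinCover J U := by
  classical
  intro I V g hcov
  obtain ⟨ι, Y, hY, hYT⟩ := h2 U hU _ hcov
  obtain ⟨hfin, -, hYcov, -⟩ := h1 U ι Y hY
  haveI := hfin
  have hk : ∀ i : ι, ∃ (k : I) (a : (Y i).left ⟶ V k), (Y i).hom = a ≫ g k := fun i =>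
    (Sieve.mem_ofArrows_iff _ _ _).1 (hYT i)
  choose k a hka using hk
  haveI := Fintype.ofFinite ι
  refine ⟨Finset.univ.image k, ?_⟩
  refine J.superset_covering ?_ hYcov
  intro W f hf
  obtain ⟨i, b, hb⟩ := (Sieve.mem_ofArrows_iff _ _ _).1 hf
  refine (Sieve.mem_ofArrows_iff _ _ _).2
    ⟨⟨k i, Finset.mem_image_of_mem k (Finset.mem_univ i)⟩, b ≫ a i, ?_⟩
  rw [hb, hka i, Category.assoc]

/-- For `U` in a good collection, `H^{p+1}(U, -)` vanishes on a coproduct as soon as it vanishes on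
the summands. -/
theorem ext_sigma_eq_zero
    (h1 : ∀ (U : C) (ι : Type u) (Y : ι → Over U), Cov U ι Y → Finite ι ∧ U ∈ B ∧
      Sieve.ofArrows (fun i => (Y i).left) (fun i => (Y i).hom) ∈ J U ∧
      ∀ (p : ℕ) (a : Fin (p + 1) → ι), (∏ᶜ fun k => Y (a k)).left ∈ B)
    (h2 : ∀ U ∈ B, ∀ T ∈ J U, ∃ (ι : Type u) (Y : ι → Over U), Cov U ι Y ∧
      ∀ i, T.arrows (Y i).hom)
    (U : C) (hU : U ∈ B) (p : ℕ) {ι : Type u} (A : ι → Sheaf J AddCommGrpCat.{u})
    (hA : ∀ i (x : Ext (CohCx.freeSheaf J U) (A i) (p + 1)), x = 0)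
    (x : Ext (CohCx.freeSheaf J U) (∐ A) (p + 1)) : x = 0 := by
  classical
  let F : Finset (Discrete ι) ⥤ Sheaf J AddCommGrpCat.{u} :=
    CoproductsFromFiniteFiltered.liftToFinsetObj (Discrete.functor A)
  let cF : Cocone F := CoproductsFromFiniteFiltered.finiteSubcoproductsCocone A
  let hcF : IsColimit cF := CoproductsFromFiniteFiltered.isColimitFiniteSubproductsCocone A
  let e : colimit F ≅ ∐ A := (colimit.isColimit F).coconePointUniqueUpToIso hcF
  have hcomm : Groth.Agent.Lib.Helper22.ColimCoh.Comm (J := J) (Finset (Discrete ι)) B (p + 1) :=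
    Groth.Agent.Lib.Helper22.ColimCoh.comm (fun U ι Y h => (h1 U ι Y h).2) h2
      (fun U ι Y h => (h1 U ι Y h).1) (p + 1)
  obtain ⟨S, y, hy⟩ := hcomm.rep F U hU (x.comp (Ext.mk₀ e.inv) (add_zero _))
  have hy0 : y = 0 :=
    ext_eq_zero_of_finite_cofan (CohCx.freeSheaf J U) (p + 1)
      (fun s : S => (Discrete.functor A).obj s.1)
      (Cofan.mk (∐ fun s : S => (Discrete.functor A).obj s.1) (Sigma.ι _))
      (coproductIsCoproduct _) (fun k z => hA k.1.as z) y
  have hx0 : x.comp (Ext.mk₀ e.inv) (add_zero _) = 0 := by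
    rw [← hy, hy0]
    exact map_zero _
  have hx : x = (x.comp (Ext.mk₀ e.inv) (add_zero _)).comp (Ext.mk₀ e.hom) (add_zero _) := by
    rw [Ext.comp_assoc_of_third_deg_zero, Ext.mk₀_comp_mk₀, e.inv_hom_id, Ext.comp_mk₀_id]
  rw [hx, hx0, Ext.zero_comp]

end Cover

section Compare

variable {C : Type u} [SmallCategory C] {J : GrothendieckTopology C}
  (O : Sheaf J CommRingCat.{u})

/-- Maps `j_{U!} O_U ⟶ ∐ F_i` are fixed by a finite projector if `U` has the finite subcover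
property. -/
theorem exists_fix_freeOn_of_finCover {U : C} (hU : FinCover J U) {ι : Type u}
    (F : ι → ModSite.Mod O) (c : Cofan F) (hc : IsColimit c) (g : ModSite.freeOn O U ⟶ c.pt) :
    ∃ t : Finset ι, g ≫ proj c hc t = g := by
  let s : (Γ O U).obj c.pt := Groth.Agent.Lib.Helper17.FreeOn.freeOnHomEquiv c.pt U g
  obtain ⟨t, ht⟩ := exists_fix_of_finCover O hU F c hc s
  refine ⟨t, ?_⟩
  apply (Groth.Agent.Lib.Helper17.FreeOn.freeOnHomEquiv c.pt U).injective
  rw [Groth.Agent.Lib.Helper17.FreeOn.freeOnHomEquiv_comp]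
  exact ht

variable (U : C)

/-- The underlying abelian sheaf functor. -/
noncomputable abbrev ΦO : ModSite.Mod O ⥤ Sheaf J AddCommGrpCat.{u} :=
  SheafOfModules.toSheaf (ModSite.ringSh O)

/-- The canonical map `ℤ_U ⟶ j_{U!} O_U` of abelian sheaves. -/
noncomputable def ιU : CohCx.freeSheaf J U ⟶ (ΦO O).obj (ModSite.freeOn O U) :=
  (CohFree.homEquivSect J U ((ΦO O).obj (ModSite.freeOn O U))).symm
    (Groth.Agent.Lib.Helper17.FreeOn.freeOnHomEquiv (ModSite.freeOn O U) U (𝟙 _))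

lemma homEquivSect_ιU_comp {G : ModSite.Mod O} (f : ModSite.freeOn O U ⟶ G) :
    CohFree.homEquivSect J U ((ΦO O).obj G) (ιU O U ≫ (ΦO O).map f) =
      Groth.Agent.Lib.Helper17.FreeOn.freeOnHomEquiv G U f := by
  have h1 := Groth.Agent.Lib.Helper17.FreeOn.freeOnHomEquiv_comp U (𝟙 (ModSite.freeOn O U)) f
  rw [Category.id_comp] at h1
  rw [h1]
  have h2 : CohFree.homEquivSect J U ((ΦO O).obj (ModSite.freeOn O U)) (ιU O U) =
      Groth.Agent.Lib.Helper17.FreeOn.freeOnHomEquiv (ModSite.freeOn O U) U (𝟙 _) :=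
    AddEquiv.apply_symm_apply _ _
  rw [Groth.Agent.Lib.Helper22.Cech.Site.homEquivSect_naturality_right, h2]
  rfl

lemma bij_ιU (G : ModSite.Mod O) :
    Function.Bijective (fun f : ModSite.freeOn O U ⟶ G => ιU O U ≫ (ΦO O).map f) := by
  constructor
  · intro f f' hff
    have hff' : ιU O U ≫ (ΦO O).map f = ιU O U ≫ (ΦO O).map f' := hff
    have h := congrArg (CohFree.homEquivSect J U ((ΦO O).obj G)) hff'
    rw [homEquivSect_ιU_comp, homEquivSect_ιU_comp] at h
    exact (Groth.Agent.Lib.Helper17.FreeOn.freeOnHomEquiv G U).injective h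
  · intro φ
    refine ⟨(Groth.Agent.Lib.Helper17.FreeOn.freeOnHomEquiv G U).symm
      (CohFree.homEquivSect J U ((ΦO O).obj G) φ), ?_⟩
    apply (CohFree.homEquivSect J U ((ΦO O).obj G)).injective
    show CohFree.homEquivSect J U ((ΦO O).obj G) (ιU O U ≫ (ΦO O).map _) = _
    rw [homEquivSect_ιU_comp, Equiv.apply_symm_apply]

variable [HasExt.{u} (ModSite.Mod O)]

/-- `Ext^n_O(j_{U!} O_U, M) ≃ Ext^n_ℤ(ℤ_U, M)`. -/
theorem nonempty_ext_freeOn_addEquiv (M : ModSite.Mod O) (n : ℕ) :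
    Nonempty (Ext (ModSite.freeOn O U) M n ≃+ Ext (CohCx.freeSheaf J U) ((ΦO O).obj M) n) := by
  haveI : EnoughInjectives (ModSite.Mod O) := Groth.Agent.S0485.result J (ModSite.ringSh O)
  haveI := Groth.Agent.Lib.Helper17.ModSiteExact.toSheaf_preservesFiniteColimits (ModSite.ringSh O)
  exact Groth.Agent.Lib.Helper22.ExtCompare.nonempty_ext_addEquiv
    (Groth.Agent.Lib.Helper5.Deg0.deg0OfBij (ΦO O) (ιU O U) (bij_ιU O U))
    (fun _ => True)
    (fun F _ => (Groth.Agent.Lib.Helper22.ExtCompare.injSC_shortExact F).map_of_exact (ΦO O))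
    (fun _ _ => trivial)
    (fun F _ n x => (Groth.Agent.Lib.Helper5.PushAcyclic.subsingleton_ext_freeSheaf J _
      (Groth.Agent.Lib.Helper5.ModAcyclic.isTotallyAcyclic_toSheaf (ModSite.ringSh O)
        (Groth.Agent.Lib.Helper22.ExtCompare.injSC F).X₂) U n).elim _ _) n M trivial

end Compare

section Main

variable {C : Type u} [SmallCategory C] [HasPullbacks C] {J : GrothendieckTopology C}
  {B : Set C} {Cov : ∀ (U : C) (ι : Type u), (ι → Over U) → Prop}

/-- `Ext^{p+1}_O(j_{U!} O_U, -)` vanishes on coproducts of injective modules, for `U` in a good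
collection. -/
theorem ext_freeOn_sigma_injective_eq_zero
    (h1 : ∀ (U : C) (ι : Type u) (Y : ι → Over U), Cov U ι Y → Finite ι ∧ U ∈ B ∧
      Sieve.ofArrows (fun i => (Y i).left) (fun i => (Y i).hom) ∈ J U ∧
      ∀ (p : ℕ) (a : Fin (p + 1) → ι), (∏ᶜ fun k => Y (a k)).left ∈ B)
    (h2 : ∀ U ∈ B, ∀ T ∈ J U, ∃ (ι : Type u) (Y : ι → Over U), Cov U ι Y ∧
      ∀ i, T.arrows (Y i).hom)
    (O : Sheaf J CommRingCat.{u}) [HasExt.{u} (ModSite.Mod O)] (U : C) (hU : U ∈ B)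
    {I : Type u} (Y : I → ModSite.Mod O) [HasCoproduct Y] (hY : ∀ i, Injective (Y i)) (p : ℕ)
    (x : Ext (ModSite.freeOn O U) (∐ Y) (p + 1)) : x = 0 := by
  obtain ⟨e⟩ := nonempty_ext_freeOn_addEquiv O U (∐ Y) (p + 1)
  apply e.injective
  rw [map_zero]
  haveI := Groth.Agent.Lib.Helper17.ModSiteColim.toSheaf_preservesColimits (ModSite.ringSh O)
  let iso : (ΦO O).obj (∐ Y) ≅ ∐ (fun i => (ΦO O).obj (Y i)) := PreservesCoproduct.iso (ΦO O) Y
  generalize e x = z
  have hz : z.comp (Ext.mk₀ iso.hom) (add_zero _) = 0 :=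
    ext_sigma_eq_zero h1 h2 U hU p (fun i => (ΦO O).obj (Y i)) (fun i w => by
      haveI := hY i
      exact (Groth.Agent.Lib.Helper5.PushAcyclic.subsingleton_ext_freeSheaf J _
        (Groth.Agent.Lib.Helper5.ModAcyclic.isTotallyAcyclic_toSheaf (ModSite.ringSh O) (Y i))
        U p).elim _ _) _
  have hz' : z = (z.comp (Ext.mk₀ iso.hom) (add_zero _)).comp (Ext.mk₀ iso.inv) (add_zero _) := by
    rw [Ext.comp_assoc_of_third_deg_zero, Ext.mk₀_comp_mk₀, iso.hom_inv_id, Ext.comp_mk₀_id]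
  rw [hz', hz, Ext.zero_comp]

end Main

end Groth.Agent.Lib.Helper5.CptBdd
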