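import Mathlib.Topology.Separation.Hausdorff
import Mathlib.Topology.Compactness.Compact

/-!
# Compact subsets whose points are separated in the ambient space

Separation lemmas for a quasi-compact subset `K` of a topological space `X` any two points of
which have disjoint open neighbourhoods in `X`, and an induction principle.
-/

set_option autoImplicit false

open Set Topology

namespace Groth.Agent.Lib.Helper5.CptSep

variable {X : Type*} [TopologicalSpace X]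

/-- the points of `K` are pairwise separated by disjoint opens of the ambient space -/
def RelT2 (K : Set X) : Prop :=
  ∀ x ∈ K, ∀ y ∈ K, x ≠ y →
    ∃ U V : Set X, IsOpen U ∧ IsOpen V ∧ x ∈ U ∧ y ∈ V ∧ Disjoint U V

lemma RelT2.mono {K K' : Set X} (h : RelT2 K) (hK : K' ⊆ K) : RelT2 K' :=
  fun x hx y hy hxy => h x (hK hx) y (hK hy) hxy

lemma relT2_of_t2 [T2Space X] (K : Set X) : RelT2 K := fun x _ y _ hxy => by
  obtain ⟨U, V, hU, hV, hx, hy, hd⟩ := t2_separation hxy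
  exact ⟨U, V, hU, hV, hx, hy, hd⟩

lemma t2Space_of_relT2 {K : Set X} (h : RelT2 K) : T2Space K :=
  ⟨fun x y hxy => by
    obtain ⟨U, V, hU, hV, hx, hy, hd⟩ := h x.1 x.2 y.1 y.2 (fun e => hxy (Subtype.ext e))
    exact ⟨Subtype.val ⁻¹' U, Subtype.val ⁻¹' V, hU.preimage continuous_subtype_val,
      hV.preimage continuous_subtype_val, hx, hy, hd.preimage _⟩⟩

theorem sep_point {K B : Set X} (hK : RelT2 K) (hB : IsCompact B) (hBK : B ⊆ K) {a : X}
    (ha : a ∈ K) (haB : a ∉ B) :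
    ∃ U V : Set X, IsOpen U ∧ IsOpen V ∧ a ∈ U ∧ B ⊆ V ∧ Disjoint U V := by
  refine hB.induction_on
    (p := fun s => ∃ U V : Set X, IsOpen U ∧ IsOpen V ∧ a ∈ U ∧ s ⊆ V ∧ Disjoint U V) ?_ ?_ ?_ ?_
  · exact ⟨Set.univ, ∅, isOpen_univ, isOpen_empty, Set.mem_univ _, subset_rfl,
      Set.disjoint_empty _⟩
  · rintro s t hst ⟨U, V, hU, hV, haU, htV, hd⟩
    exact ⟨U, V, hU, hV, haU, hst.trans htV, hd⟩
  · rintro s t ⟨U₁, V₁, hU₁, hV₁, ha₁, hs₁, hd₁⟩ ⟨U₂, V₂, hU₂, hV₂, ha₂, hs₂, hd₂⟩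
    refine ⟨U₁ ∩ U₂, V₁ ∪ V₂, hU₁.inter hU₂, hV₁.union hV₂, ⟨ha₁, ha₂⟩,
      Set.union_subset_union hs₁ hs₂, ?_⟩
    rw [Set.disjoint_union_right]
    exact ⟨hd₁.mono_left Set.inter_subset_left, hd₂.mono_left Set.inter_subset_right⟩
  · intro b hb
    have hab : a ≠ b := fun h => haB (h ▸ hb)
    obtain ⟨U, V, hU, hV, haU, hbV, hd⟩ := hK a ha b (hBK hb) hab
    exact ⟨V, mem_nhdsWithin_of_mem_nhds (hV.mem_nhds hbV), U, V, hU, hV, haU, subset_rfl, hd⟩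

theorem sep_compact {K A B : Set X} (hK : RelT2 K) (hA : IsCompact A) (hAK : A ⊆ K)
    (hB : IsCompact B) (hBK : B ⊆ K) (hAB : Disjoint A B) :
    ∃ U V : Set X, IsOpen U ∧ IsOpen V ∧ A ⊆ U ∧ B ⊆ V ∧ Disjoint U V := by
  refine hA.induction_on
    (p := fun s => ∃ U V : Set X, IsOpen U ∧ IsOpen V ∧ s ⊆ U ∧ B ⊆ V ∧ Disjoint U V) ?_ ?_ ?_ ?_
  · exact ⟨∅, Set.univ, isOpen_empty, isOpen_univ, subset_rfl, Set.subset_univ _,
      Set.empty_disjoint _⟩
  · rintro s t hst ⟨U, V, hU, hV, htU, hBV, hd⟩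
    exact ⟨U, V, hU, hV, hst.trans htU, hBV, hd⟩
  · rintro s t ⟨U₁, V₁, hU₁, hV₁, hs₁, hB₁, hd₁⟩ ⟨U₂, V₂, hU₂, hV₂, hs₂, hB₂, hd₂⟩
    refine ⟨U₁ ∪ U₂, V₁ ∩ V₂, hU₁.union hU₂, hV₁.inter hV₂, Set.union_subset_union hs₁ hs₂,
      Set.subset_inter hB₁ hB₂, ?_⟩
    rw [Set.disjoint_union_left]
    exact ⟨hd₁.mono_right Set.inter_subset_left, hd₂.mono_right Set.inter_subset_right⟩
  · intro a ha
    have haB : a ∉ B := fun h => Set.disjoint_left.1 hAB ha h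
    obtain ⟨U, V, hU, hV, haU, hBV, hd⟩ := sep_point hK hB hBK (hAK ha) haB
    exact ⟨U, mem_nhdsWithin_of_mem_nhds (hU.mem_nhds haU), U, V, hU, hV, subset_rfl, hBV, hd⟩

/-- regularity relative to the compact set -/
theorem exists_open_closure_subset {A : Set X} (hA : IsCompact A) (hrel : RelT2 A) {a : X}
    (ha : a ∈ A) {N : Set X} (hN : IsOpen N) (haN : a ∈ N) :
    ∃ O : Set X, IsOpen O ∧ a ∈ O ∧ A ∩ closure O ⊆ N := by
  have hB : IsCompact (A \ N) := hA.diff hN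
  obtain ⟨U, V, hU, hV, haU, hBV, hd⟩ :=
    sep_point hrel hB Set.sdiff_subset ha (fun h => h.2 haN)
  refine ⟨U, hU, haU, ?_⟩
  rintro x ⟨hxA, hxU⟩
  by_contra hxN
  have hxV : x ∈ V := hBV ⟨hxA, hxN⟩
  have hcl : closure U ⊆ Vᶜ :=
    closure_minimal (Set.subset_compl_iff_disjoint_right.2 hd) hV.isClosed_compl
  exact hcl hxU hxV

/-- separating the parts of two compact sets away from a neighbourhood of their intersection -/
theorem exists_disjoint_opens_diff {A C₁ C₂ : Set X} (hrel : RelT2 A) (h₁ : IsCompact C₁)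
    (h₂ : IsCompact C₂) (h₁A : C₁ ⊆ A) (h₂A : C₂ ⊆ A) {N : Set X} (hN : IsOpen N)
    (hNC : C₁ ∩ C₂ ⊆ N) :
    ∃ O₁ O₂ : Set X, IsOpen O₁ ∧ IsOpen O₂ ∧ C₁ \ N ⊆ O₁ ∧ C₂ \ N ⊆ O₂ ∧ Disjoint O₁ O₂ := by
  refine sep_compact hrel (h₁.diff hN) (Set.sdiff_subset.trans h₁A) (h₂.diff hN)
    (Set.sdiff_subset.trans h₂A) ?_
  rw [Set.disjoint_left]
  rintro x ⟨hx1, hxN⟩ ⟨hx2, _⟩
  exact hxN (hNC ⟨hx1, hx2⟩)

/-- an induction principle for properties of subsets of a compact set -/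
theorem induction_closure {A : Set X} (hA : IsCompact A) (Q : Set X → Prop) (he : Q ∅)
    (hm : ∀ C C' : Set X, C ⊆ C' → Q C' → Q C)
    (hu : ∀ C₁ C₂ : Set X, IsCompact C₁ → IsCompact C₂ → C₁ ⊆ A → C₂ ⊆ A → Q C₁ → Q C₂ →
      Q (C₁ ∪ C₂))
    (hl : ∀ a ∈ A, ∃ O : Set X, IsOpen O ∧ a ∈ O ∧ Q (A ∩ closure O)) : Q A := by
  have h := hA.induction_on (p := fun B => Q (A ∩ closure B)) (by simpa using he) ?_ ?_ ?_
  · have e : A ∩ closure A = A := Set.inter_eq_left.2 subset_closure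
    rwa [e] at h
  · intro s t hst h
    exact hm _ _ (Set.inter_subset_inter_right _ (closure_mono hst)) h
  · intro s t hs ht
    have e : A ∩ closure (s ∪ t) = (A ∩ closure s) ∪ (A ∩ closure t) := by
      rw [closure_union, Set.inter_union_distrib_left]
    rw [e]
    exact hu _ _ (hA.inter_right isClosed_closure) (hA.inter_right isClosed_closure)
      Set.inter_subset_left Set.inter_subset_left hs ht
  · intro a ha
    obtain ⟨O, hO, haO, hQ⟩ := hl a ha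
    exact ⟨O, mem_nhdsWithin_of_mem_nhds (hO.mem_nhds haO), hQ⟩

end Groth.Agent.Lib.Helper5.CptSep
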