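import Groth.Agent.Lib.Helper5.BasisFlasque
import Groth.Agent.Lib.Helper5.CptSep

/-!
# Sections of an inverse image near a compact set with separated points

For a subspace `K` of `X`, a sheaf `F` on `X` and a compact subset `A ⊆ K` whose points are
separated in `X`, every section of `F|_K` defined near `A` comes from a section of `F` over an
open neighbourhood of `A` in `X`.
-/

set_option autoImplicit false
set_option linter.unusedSectionVars false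

universe u

open CategoryTheory CategoryTheory.Limits TopologicalSpace Opposite TopCat

namespace Groth.Agent.Lib.Helper5.CptSect

open Groth.Agent.Lib.Helper5.PullStalk Groth.Agent.Lib.Helper5.SubspaceSect
  Groth.Agent.Lib.Helper5.CptSep

section glue

variable {T : TopCat.{u}}

lemma inf_le_of_disjoint (U₁ U₂ N O₁ O₂ : Opens T) (hd : Disjoint O₁ O₂) :
    (U₁ ⊓ O₁ ⊔ N) ⊓ (U₂ ⊓ O₂ ⊔ N) ≤ N := by
  rintro x ⟨h1, h2⟩
  rcases Opens.mem_sup.1 h1 with h1 | h1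
  · rcases Opens.mem_sup.1 h2 with h2 | h2
    · exact (hd.le_bot ⟨h1.2, h2.2⟩ : x ∈ (⊥ : Opens T)).elim
    · exact h2
  · exact h1

/-- gluing two sections which agree near the intersection of two compact sets -/
lemma glue_near (G : CohTop.Ab T) (U₁ U₂ N O₁ O₂ : Opens T) (hN₁ : N ≤ U₁) (hN₂ : N ≤ U₂)
    (hd : Disjoint O₁ O₂) (s₁ : G.obj.obj (op U₁)) (s₂ : G.obj.obj (op U₂))
    (h : rs G hN₁ s₁ = rs G hN₂ s₂) :
    ∃ s : G.obj.obj (op ((U₁ ⊓ O₁ ⊔ N) ⊔ (U₂ ⊓ O₂ ⊔ N))),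
      rs G (le_sup_left : U₁ ⊓ O₁ ⊔ N ≤ (U₁ ⊓ O₁ ⊔ N) ⊔ (U₂ ⊓ O₂ ⊔ N)) s =
        rs G (sup_le inf_le_left hN₁) s₁ ∧
      rs G (le_sup_right : U₂ ⊓ O₂ ⊔ N ≤ (U₁ ⊓ O₁ ⊔ N) ⊔ (U₂ ⊓ O₂ ⊔ N)) s =
        rs G (sup_le inf_le_left hN₂) s₂ := by
  have hA : U₁ ⊓ O₁ ⊔ N ≤ U₁ := sup_le inf_le_left hN₁
  have hB : U₂ ⊓ O₂ ⊔ N ≤ U₂ := sup_le inf_le_left hN₂
  have hAB := inf_le_of_disjoint U₁ U₂ N O₁ O₂ hd
  refine SectSupp.exists_glue₂ G (U₁ ⊓ O₁ ⊔ N) (U₂ ⊓ O₂ ⊔ N) (rs G hA s₁) (rs G hB s₂) ?_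
  have e1 : rs G (inf_le_left : (U₁ ⊓ O₁ ⊔ N) ⊓ (U₂ ⊓ O₂ ⊔ N) ≤ U₁ ⊓ O₁ ⊔ N) (rs G hA s₁) =
      rs G hAB (rs G hN₁ s₁) := (rs_rs G _ _ _).trans (rs_rs G _ _ _).symm
  have e2 : rs G (inf_le_right : (U₁ ⊓ O₁ ⊔ N) ⊓ (U₂ ⊓ O₂ ⊔ N) ≤ U₂ ⊓ O₂ ⊔ N) (rs G hB s₂) =
      rs G hAB (rs G hN₂ s₂) := (rs_rs G _ _ _).trans (rs_rs G _ _ _).symm
  exact e1.trans ((congrArg (fun z => rs G hAB z) h).trans e2.symm)

/-- equality of sections over a union of two opens -/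
lemma eq_of_two (G : CohTop.Ab T) (P₁ P₂ : Opens T) (s t : G.obj.obj (op (P₁ ⊔ P₂)))
    (h₁ : rs G (le_sup_left : P₁ ≤ P₁ ⊔ P₂) s = rs G le_sup_left t)
    (h₂ : rs G (le_sup_right : P₂ ≤ P₁ ⊔ P₂) s = rs G le_sup_right t) : s = t := by
  refine eq_of_locally G (fun b : Bool => if b then P₁ else P₂) (P₁ ⊔ P₂)
    (fun b => by cases b; exact le_sup_right; exact le_sup_left) ?_ s t ?_
  · rintro x hx
    rcases Opens.mem_sup.1 hx with hx | hx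
    · exact Opens.mem_iSup.2 ⟨true, hx⟩
    · exact Opens.mem_iSup.2 ⟨false, hx⟩
  · intro b
    cases b
    · exact h₂
    · exact h₁

end glue

variable {X : TopCat.{u}}

section cmp

variable (Z : Set X) (F : CohTop.Ab X)

lemma cmp_rs' {N N' : Opens X} {W' : Opens (TopCat.of Z)} (hN : N' ≤ N) (h' : W' ≤ pre Z N')
    (s : F.obj.obj (op N)) :
    cmp Z F h' (rs F hN s) = cmp Z F (h'.trans (pre_mono Z hN)) s :=
  (cmp_res Z F (h'.trans (pre_mono Z hN)) h' hN le_rfl s).trans (rs_self _ _ _)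

lemma rs_cmp {N : Opens X} {W' W'' : Opens (TopCat.of Z)} (h : W' ≤ pre Z N) (hW : W'' ≤ W')
    (s : F.obj.obj (op N)) :
    rs (Gs Z F) hW (cmp Z F h s) = cmp Z F (hW.trans h) s :=
  (cmp_res Z F h (hW.trans h) le_rfl hW s).symm.trans
    (congrArg (fun z => cmp Z F (hW.trans h) z) (rs_self F le_rfl s))

/-- a section of `F` whose image in `F|_Z` vanishes near the points of `B` vanishes on a
neighbourhood of `B` -/
theorem exists_rs_eq_zero_near (B : Set X) (hBZ : B ⊆ Z) (U : Opens X) (s : F.obj.obj (op U))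
    (W' : Opens (TopCat.of Z)) (h : W' ≤ pre Z U)
    (hB : ∀ a (ha : a ∈ Z), a ∈ B → (⟨a, ha⟩ : TopCat.of Z) ∈ W')
    (h0 : cmp Z F h s = 0) :
    ∃ (N : Opens X) (hN : N ≤ U), B ⊆ (N : Set X) ∧ rs F hN s = 0 := by
  have key : ∀ a : X, a ∈ B → ∃ (V' : Opens X) (hV' : V' ≤ U), a ∈ V' ∧ rs F hV' s = 0 := by
    intro a ha
    have hx : (⟨a, hBZ ha⟩ : TopCat.of Z) ∈ W' := hB a (hBZ ha) ha
    exact exists_res_eq_zero (incl Z) F (⟨a, hBZ ha⟩ : TopCat.of Z) U s (h hx) W' hx h h0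
  choose V' hV' hz hs0 using key
  let N : Opens X := ⨆ z : {z : X // z ∈ B}, V' z.1 z.2
  have hN : N ≤ U := iSup_le fun z => hV' z.1 z.2
  refine ⟨N, hN, fun a ha => Opens.mem_iSup.2 ⟨⟨a, ha⟩, hz a ha⟩, ?_⟩
  apply eq_zero_of_locally F (fun z : {z : X // z ∈ B} => V' z.1 z.2) N
    (fun z => le_iSup (fun z : {z : X // z ∈ B} => V' z.1 z.2) z) le_rfl
  intro z
  rw [rs_rs]
  exact hs0 z.1 z.2

end cmp

section rep

variable (K : Set X) (F : CohTop.Ab X)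

/-- `t` is represented by a section of `F` near `B` -/
def Rep (W : Opens (TopCat.of K)) (t : (Gs K F).obj.obj (op W)) (B : Set X) : Prop :=
  ∃ (U : Opens X) (s : F.obj.obj (op U)) (W' : Opens (TopCat.of K)) (h1 : W' ≤ W)
    (h2 : W' ≤ pre K U),
    B ⊆ (U : Set X) ∧ (∀ a (ha : a ∈ K), a ∈ B → (⟨a, ha⟩ : TopCat.of K) ∈ W') ∧
      rs (Gs K F) h1 t = cmp K F h2 s

variable {K F}

lemma Rep.mono {W : Opens (TopCat.of K)} {t : (Gs K F).obj.obj (op W)} {B B' : Set X}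
    (hBB : B ⊆ B') (h : Rep K F W t B') : Rep K F W t B := by
  obtain ⟨U, s, W', h1, h2, hBU, hpts, e⟩ := h
  exact ⟨U, s, W', h1, h2, hBB.trans hBU, fun a ha haB => hpts a ha (hBB haB), e⟩

lemma rep_empty (W : Opens (TopCat.of K)) (t : (Gs K F).obj.obj (op W)) : Rep K F W t ∅ :=
  ⟨⊥, 0, ⊥, bot_le, bot_le, Set.empty_subset _, fun _ _ h => h.elim,
    BasisFlasque.subsingleton_bot _ _ _⟩

lemma rep_union {A : Set X} (hrel : RelT2 A) (hAK : A ⊆ K) (W : Opens (TopCat.of K))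
    (t : (Gs K F).obj.obj (op W)) (C₁ C₂ : Set X) (hC₁ : IsCompact C₁) (hC₂ : IsCompact C₂)
    (h₁A : C₁ ⊆ A) (h₂A : C₂ ⊆ A) (H₁ : Rep K F W t C₁) (H₂ : Rep K F W t C₂) :
    Rep K F W t (C₁ ∪ C₂) := by
  obtain ⟨U₁, s₁, W₁, h1₁, h2₁, hC₁U, hpts₁, e₁⟩ := H₁
  obtain ⟨U₂, s₂, W₂, h1₂, h2₂, hC₂U, hpts₂, e₂⟩ := H₂
  -- the two sections agree near `C₁ ∩ C₂`
  let d : F.obj.obj (op (U₁ ⊓ U₂)) :=
    rs F (inf_le_left : U₁ ⊓ U₂ ≤ U₁) s₁ - rs F (inf_le_right : U₁ ⊓ U₂ ≤ U₂) s₂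
  have hW12 : W₁ ⊓ W₂ ≤ pre K (U₁ ⊓ U₂) := fun x hx => ⟨h2₁ hx.1, h2₂ hx.2⟩
  have hd0 : cmp K F hW12 d = 0 := by
    have ea : cmp K F hW12 (rs F (inf_le_left : U₁ ⊓ U₂ ≤ U₁) s₁) =
        rs (Gs K F) ((inf_le_left : W₁ ⊓ W₂ ≤ W₁).trans h1₁) t := by
      refine (cmp_rs' K F _ _ s₁).trans ?_
      refine (rs_cmp K F h2₁ (inf_le_left : W₁ ⊓ W₂ ≤ W₁) s₁).symm.trans ?_
      refine (congrArg (fun z => rs (Gs K F) (inf_le_left : W₁ ⊓ W₂ ≤ W₁) z) e₁.symm).trans ?_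
      exact rs_rs _ _ _ _
    have eb : cmp K F hW12 (rs F (inf_le_right : U₁ ⊓ U₂ ≤ U₂) s₂) =
        rs (Gs K F) ((inf_le_left : W₁ ⊓ W₂ ≤ W₁).trans h1₁) t := by
      refine (cmp_rs' K F _ _ s₂).trans ?_
      refine (rs_cmp K F h2₂ (inf_le_right : W₁ ⊓ W₂ ≤ W₂) s₂).symm.trans ?_
      refine (congrArg (fun z => rs (Gs K F) (inf_le_right : W₁ ⊓ W₂ ≤ W₂) z) e₂.symm).trans ?_
      exact rs_rs _ _ _ _
    change cmp K F hW12 (rs F (inf_le_left : U₁ ⊓ U₂ ≤ U₁) s₁ -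
      rs F (inf_le_right : U₁ ⊓ U₂ ≤ U₂) s₂) = 0
    rw [map_sub, ea, eb, sub_self]
  obtain ⟨N, hN, hCN, hdN⟩ := exists_rs_eq_zero_near K F (C₁ ∩ C₂)
    (fun a ha => hAK (h₁A ha.1)) (U₁ ⊓ U₂) d (W₁ ⊓ W₂) hW12
    (fun a ha haC => ⟨hpts₁ a ha haC.1, hpts₂ a ha haC.2⟩) hd0
  have hN₁ : N ≤ U₁ := hN.trans inf_le_left
  have hN₂ : N ≤ U₂ := hN.trans inf_le_right
  have hs12 : rs F hN₁ s₁ = rs F hN₂ s₂ := by
    have e : rs F hN d = rs F hN₁ s₁ - rs F hN₂ s₂ := by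
      change rs F hN (rs F (inf_le_left : U₁ ⊓ U₂ ≤ U₁) s₁ -
        rs F (inf_le_right : U₁ ⊓ U₂ ≤ U₂) s₂) = _
      rw [map_sub, rs_rs, rs_rs]
    rw [e] at hdN
    exact sub_eq_zero.1 hdN
  -- separate the rest
  obtain ⟨O₁s, O₂s, hO₁, hO₂, hCO₁, hCO₂, hdis⟩ :=
    exists_disjoint_opens_diff hrel hC₁ hC₂ h₁A h₂A N.2 hCN
  let O₁ : Opens X := ⟨O₁s, hO₁⟩
  let O₂ : Opens X := ⟨O₂s, hO₂⟩
  have hd : Disjoint O₁ O₂ := by
    rw [disjoint_iff_inf_le]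
    rintro x ⟨hx1, hx2⟩
    exact (Set.disjoint_left.1 hdis hx1 hx2).elim
  obtain ⟨s, hs₁, hs₂⟩ := glue_near F U₁ U₂ N O₁ O₂ hN₁ hN₂ hd s₁ s₂ hs12
  let U₁' : Opens X := U₁ ⊓ O₁ ⊔ N
  let U₂' : Opens X := U₂ ⊓ O₂ ⊔ N
  have hU₁' : U₁' ≤ U₁ := sup_le inf_le_left hN₁
  have hU₂' : U₂' ≤ U₂ := sup_le inf_le_left hN₂
  let P₁ : Opens (TopCat.of K) := W₁ ⊓ pre K U₁'
  let P₂ : Opens (TopCat.of K) := W₂ ⊓ pre K U₂'
  have hP₁W : P₁ ≤ W := (inf_le_left : P₁ ≤ W₁).trans h1₁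
  have hP₂W : P₂ ≤ W := (inf_le_left : P₂ ≤ W₂).trans h1₂
  have h1 : P₁ ⊔ P₂ ≤ W := sup_le hP₁W hP₂W
  have hP₁U : P₁ ≤ pre K (U₁' ⊔ U₂') :=
    (inf_le_right : P₁ ≤ pre K U₁').trans (pre_mono K le_sup_left)
  have hP₂U : P₂ ≤ pre K (U₁' ⊔ U₂') :=
    (inf_le_right : P₂ ≤ pre K U₂').trans (pre_mono K le_sup_right)
  have h2 : P₁ ⊔ P₂ ≤ pre K (U₁' ⊔ U₂') := sup_le hP₁U hP₂U
  refine ⟨U₁' ⊔ U₂', s, P₁ ⊔ P₂, h1, h2, ?_, ?_, ?_⟩
  · rintro a (ha | ha)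
    · by_cases haN : a ∈ N
      · exact Opens.mem_sup.2 (Or.inl (Opens.mem_sup.2 (Or.inr haN)))
      · exact Opens.mem_sup.2 (Or.inl (Opens.mem_sup.2 (Or.inl ⟨hC₁U ha, hCO₁ ⟨ha, haN⟩⟩)))
    · by_cases haN : a ∈ N
      · exact Opens.mem_sup.2 (Or.inl (Opens.mem_sup.2 (Or.inr haN)))
      · exact Opens.mem_sup.2 (Or.inr (Opens.mem_sup.2 (Or.inl ⟨hC₂U ha, hCO₂ ⟨ha, haN⟩⟩)))
  · rintro a haK (ha | ha)
    · refine Opens.mem_sup.2 (Or.inl ⟨hpts₁ a haK ha, ?_⟩)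
      by_cases haN : a ∈ N
      · exact Opens.mem_sup.2 (Or.inr haN)
      · exact Opens.mem_sup.2 (Or.inl ⟨hC₁U ha, hCO₁ ⟨ha, haN⟩⟩)
    · refine Opens.mem_sup.2 (Or.inr ⟨hpts₂ a haK ha, ?_⟩)
      by_cases haN : a ∈ N
      · exact Opens.mem_sup.2 (Or.inr haN)
      · exact Opens.mem_sup.2 (Or.inl ⟨hC₂U ha, hCO₂ ⟨ha, haN⟩⟩)
  · apply eq_of_two (Gs K F) P₁ P₂
    · -- on `P₁`
      refine (rs_rs _ _ _ _).trans ?_
      refine Eq.trans ?_ (rs_cmp K F h2 le_sup_left s).symm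
      have e3 : cmp K F hP₁U s = cmp K F (inf_le_right : P₁ ≤ pre K U₁') (rs F le_sup_left s) :=
        (cmp_rs' K F (le_sup_left : U₁' ≤ U₁' ⊔ U₂') (inf_le_right : P₁ ≤ pre K U₁') s).symm
      refine Eq.trans ?_ e3.symm
      refine Eq.trans ?_
        (congrArg (fun z => cmp K F (inf_le_right : P₁ ≤ pre K U₁') z) hs₁.symm)
      refine Eq.trans ?_ (cmp_rs' K F hU₁' (inf_le_right : P₁ ≤ pre K U₁') s₁).symm
      refine Eq.trans ?_ (rs_cmp K F h2₁ (inf_le_left : P₁ ≤ W₁) s₁)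
      refine Eq.trans ?_ (congrArg (fun z => rs (Gs K F) (inf_le_left : P₁ ≤ W₁) z) e₁)
      exact (rs_rs _ _ _ _).symm
    · -- on `P₂`
      refine (rs_rs _ _ _ _).trans ?_
      refine Eq.trans ?_ (rs_cmp K F h2 le_sup_right s).symm
      have e3 : cmp K F hP₂U s = cmp K F (inf_le_right : P₂ ≤ pre K U₂') (rs F le_sup_right s) :=
        (cmp_rs' K F (le_sup_right : U₂' ≤ U₁' ⊔ U₂') (inf_le_right : P₂ ≤ pre K U₂') s).symm
      refine Eq.trans ?_ e3.symm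
      refine Eq.trans ?_
        (congrArg (fun z => cmp K F (inf_le_right : P₂ ≤ pre K U₂') z) hs₂.symm)
      refine Eq.trans ?_ (cmp_rs' K F hU₂' (inf_le_right : P₂ ≤ pre K U₂') s₂).symm
      refine Eq.trans ?_ (rs_cmp K F h2₂ (inf_le_left : P₂ ≤ W₂) s₂)
      refine Eq.trans ?_ (congrArg (fun z => rs (Gs K F) (inf_le_left : P₂ ≤ W₂) z) e₂)
      exact (rs_rs _ _ _ _).symm

/-- **Sections of the inverse image near a compact set come from the ambient space.** -/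
theorem rep_of_isCompact {A : Set X} (hA : IsCompact A) (hrel : RelT2 A) (hAK : A ⊆ K)
    (W : Opens (TopCat.of K)) (hAW : ∀ a (ha : a ∈ K), a ∈ A → (⟨a, ha⟩ : TopCat.of K) ∈ W)
    (t : (Gs K F).obj.obj (op W)) : Rep K F W t A := by
  refine induction_closure hA (Rep K F W t) (rep_empty W t) (fun C C' h => Rep.mono h)
    (fun C₁ C₂ h₁ h₂ h₁A h₂A => rep_union hrel hAK W t C₁ C₂ h₁ h₂ h₁A h₂A) ?_
  intro a ha
  have hx : (⟨a, hAK ha⟩ : TopCat.of K) ∈ W := hAW a (hAK ha) ha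
  obtain ⟨V, hV, s, W', hxW', h1, h2, e⟩ :=
    exists_local_rep (incl K) F (⟨a, hAK ha⟩ : TopCat.of K) W t hx
  obtain ⟨N', hN'o, hN'⟩ := isOpen_induced_iff.1 W'.2
  have haN' : a ∈ N' := by
    have : (⟨a, hAK ha⟩ : K) ∈ Subtype.val ⁻¹' N' := by
      rw [hN']
      exact hxW'
    exact this
  obtain ⟨O, hO, haO, hsub⟩ := exists_open_closure_subset hA hrel ha (hN'o.inter V.2)
    ⟨haN', hV⟩
  refine ⟨O, hO, haO, V, s, W', h1, h2, fun b hb => (hsub hb).2, ?_, e⟩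
  intro b hbK hb
  have : (⟨b, hbK⟩ : K) ∈ Subtype.val ⁻¹' N' := (hsub hb).1
  rw [hN'] at this
  exact this

end rep

section top

variable (K : Set X) (F : CohTop.Ab X)

/-- global sections of the inverse image on a compact set come from a neighbourhood -/
theorem exists_cmp_eq_top (hK : IsCompact K) (hrel : RelT2 K)
    (t : (Gs K F).obj.obj (op ⊤)) :
    ∃ (U : Opens X) (hU : K ⊆ (U : Set X)) (s : F.obj.obj (op U)),
      cmp K F (show (⊤ : Opens (TopCat.of K)) ≤ pre K U from fun x _ => hU x.2) s = t := by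
  obtain ⟨U, s, W', h1, h2, hKU, hpts, e⟩ := rep_of_isCompact hK hrel subset_rfl ⊤
    (fun _ _ _ => trivial) t
  have hW' : (⊤ : Opens (TopCat.of K)) ≤ W' := fun x _ => hpts x.1 x.2 x.2
  refine ⟨U, hKU, s, ?_⟩
  refine (rs_cmp K F h2 hW' s).symm.trans ?_
  refine (congrArg (fun z => rs (Gs K F) hW' z) e.symm).trans ?_
  refine (rs_rs _ _ _ _).trans ?_
  exact rs_self _ _ _

/-- a section near `K` which dies on `K` dies on a neighbourhood -/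
theorem exists_rs_eq_zero_top (U : Opens X) (hU : K ⊆ (U : Set X)) (s : F.obj.obj (op U))
    (h0 : cmp K F (show (⊤ : Opens (TopCat.of K)) ≤ pre K U from fun x _ => hU x.2) s = 0) :
    ∃ (N : Opens X) (hN : N ≤ U), K ⊆ (N : Set X) ∧ rs F hN s = 0 :=
  exists_rs_eq_zero_near K F K subset_rfl U s ⊤ _ (fun _ _ _ => trivial) h0

end top

end Groth.Agent.Lib.Helper5.CptSect
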