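import Groth.Agent.Lib.Helper5.CskStep

/-!
# The explicit coskeleton and the coskeleton functor

The explicit coskeleton of a simplicial space over `S` is a pointwise right Kan extension of its
truncation, hence it is identified with the value of the coskeleton functor, compatibly with the
unit of the adjunction.
-/

set_option autoImplicit false

universe u

open CategoryTheory CategoryTheory.Limits Opposite TopologicalSpace Topology Simplicial
open FibDesc

noncomputable section

namespace Groth.Agent.Lib.Helper5.CskKan

open Groth.Agent.Lib.Helper5.CskTower Groth.Agent.Lib.Helper5.CskTower.SimpS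
  Groth.Agent.Lib.Helper5.UnivDesc

variable {S : TopCat.{u}} (K : SimplicialObject (Over S))

/-- the simplicial space over `S` attached to a simplicial object of `Over S` -/
def ofK : SimpS S where
  Y := K ⋙ Over.forget S
  π a := (K.obj (op a)).hom
  hπ ψ w := ConcreteCategory.congr_hom (Over.w (K.map ψ.op)) w

variable (n : ℕ) (p : SimplexCategory)

/-- the index attached to an object of the truncated simplex category -/
abbrev ixOf (b : SimplexCategory.Truncated n) : Ix (n + 1) := ⟨b.obj, Nat.lt_succ_of_le b.property⟩

/-- the object of the truncated simplex category attached to an index -/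
abbrev trOf (a : Ix (n + 1)) : SimplexCategory.Truncated n := ⟨a.1, Nat.le_of_lt_succ a.2⟩

/-- the shape of the limit computing the coskeleton -/
abbrev SA : Type := StructuredArrow (op p) (SimplexCategory.Truncated.inclusion n).op

/-- the structured arrow attached to a simplex of low dimension -/
abbrev mkSA (a : Ix (n + 1)) (f : a.1 ⟶ p) : SA n p :=
  StructuredArrow.mk (Y := op (trOf n a)) f.op

/-- the diagram computing the coskeleton -/
abbrev diag : SA n p ⥤ Over S :=
  StructuredArrow.proj (op p) (SimplexCategory.Truncated.inclusion n).op ⋙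
    (SimplicialObject.truncation n).obj K

/-- the vertex of the explicit cone -/
def expPt : Over S := Over.mk (((ofK K).Csk (n + 1)).π p)

/-- the legs of the explicit cone -/
def expLeg (g : SA n p) : expPt K n p ⟶ (diag K n p).obj g :=
  Over.homMk (TopCat.ofHom ⟨fun x => ((x : (ofK K).CskPt (n + 1) p)).1.2 (ixOf n g.right.unop)
      g.hom.unop, continuous_coord (n + 1) p (ixOf n g.right.unop) g.hom.unop⟩)
    (by
      refine ConcreteCategory.hom_ext _ _ (fun x => ?_)
      exact (x : (ofK K).CskPt (n + 1) p).2.1 (ixOf n g.right.unop) g.hom.unop)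

/-- the explicit cone -/
def expCone : Cone (diag K n p) where
  pt := expPt K n p
  π :=
    { app := expLeg K n p
      naturality := by
        intro g g' φ
        apply Over.OverMorphism.ext
        refine ConcreteCategory.hom_ext _ _ (fun x => ?_)
        have h1 := (x : (ofK K).CskPt (n + 1) p).2.2 (ixOf n g.right.unop) (ixOf n g'.right.unop)
          φ.right.unop.hom g.hom.unop
        have h2 : φ.right.unop.hom ≫ g.hom.unop = g'.hom.unop :=
          congrArg Quiver.Hom.unop (StructuredArrow.w φ)
        rw [h2] at h1
        exact h1.symm }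

variable {K n p}

lemma lift_base (s : Cone (diag K n p)) (t : s.pt.left) (a : Ix (n + 1)) (f : a.1 ⟶ p) :
    (ofK K).π a.1 ((s.π.app (mkSA n p a f)).left t) = s.pt.hom t :=
  ConcreteCategory.congr_hom (Over.w (s.π.app (mkSA n p a f))) t

lemma lift_compat (s : Cone (diag K n p)) (t : s.pt.left) (a b : Ix (n + 1)) (ψ : b.1 ⟶ a.1)
    (f : a.1 ⟶ p) :
    (ofK K).mp ψ ((s.π.app (mkSA n p a f)).left t) = (s.π.app (mkSA n p b (ψ ≫ f))).left t := by
  let φ : mkSA n p a f ⟶ mkSA n p b (ψ ≫ f) :=
    StructuredArrow.homMk (Quiver.Hom.op (ObjectProperty.homMk ψ : trOf n b ⟶ trOf n a)) rfl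
  have h := s.w φ
  exact ConcreteCategory.congr_hom (congrArg (fun k => k.left) h) t

/-- the lift of a cone to the explicit cone -/
def liftFun (s : Cone (diag K n p)) (t : s.pt.left) : (ofK K).CskPt (n + 1) p :=
  ⟨(s.pt.hom t, fun a f => (s.π.app (mkSA n p a f)).left t), fun a f => lift_base s t a f,
    fun a b ψ f => lift_compat s t a b ψ f⟩

lemma continuous_liftFun (s : Cone (diag K n p)) : Continuous (liftFun s) :=
  continuous_mk (liftFun s) s.pt.hom.hom.continuous
    (fun a f => (s.π.app (mkSA n p a f)).left.hom.continuous)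

/-- the lift of a cone to the explicit cone -/
def expLift (s : Cone (diag K n p)) : s.pt ⟶ expPt K n p :=
  Over.homMk (TopCat.ofHom ⟨liftFun s, continuous_liftFun s⟩) rfl

variable (K n p)

/-- the explicit cone is a limit cone -/
def expIsLimit : IsLimit (expCone K n p) where
  lift s := expLift s
  fac s g := by
    apply Over.OverMorphism.ext
    refine ConcreteCategory.hom_ext _ _ (fun t => ?_)
    rfl
  uniq s m hm := by
    apply Over.OverMorphism.ext
    refine ConcreteCategory.hom_ext _ _ (fun t => ?_)
    refine csk_ext (X := ofK K) (m := n + 1) (p := p) _ _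
      (ConcreteCategory.congr_hom (Over.w m) t) (fun a f => ?_)
    exact ConcreteCategory.congr_hom (congrArg (fun k => k.left) (hm (mkSA n p a f))) t

variable [∀ (n : ℕ) (G : (SimplexCategory.Truncated n)ᵒᵖ ⥤ Over S),
  (SimplexCategory.Truncated.inclusion n).op.HasRightKanExtension G]

/-- the value of the coskeleton functor is a limit of the same diagram -/
def kanIsLimit : IsLimit ((Functor.RightExtension.mk ((SimplicialObject.cosk n).obj K)
    ((SimplicialObject.coskAdj n).counit.app ((SimplicialObject.truncation n).obj K))).coneAt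
      (op p)) :=
  Functor.isPointwiseRightKanExtensionOfIsRightKanExtension ((SimplicialObject.cosk n).obj K)
    ((SimplicialObject.coskAdj n).counit.app ((SimplicialObject.truncation n).obj K)) (op p)

/-- the comparison of the value of the coskeleton functor with the explicit coskeleton -/
def kanIso : ((SimplicialObject.cosk n).obj K).obj (op p) ≅ (expCone K n p).pt :=
  IsLimit.conePointUniqueUpToIso (kanIsLimit K n p) (expIsLimit K n p)

/-- the map to the explicit coskeleton, as a morphism over the base -/
def toCskOver : K.obj (op p) ⟶ (expCone K n p).pt :=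
  Over.homMk ((ofK K).toCsk (n + 1) p) rfl

lemma unit_kanIso :
    ((SimplicialObject.coskAdj n).unit.app K).app (op p) ≫ (kanIso K n p).hom =
      toCskOver K n p := by
  refine (expIsLimit K n p).hom_ext (fun g => ?_)
  have e1 : (kanIso K n p).hom ≫ (expCone K n p).π.app g =
      ((SimplicialObject.cosk n).obj K).map g.hom ≫
        ((SimplicialObject.coskAdj n).counit.app ((SimplicialObject.truncation n).obj K)).app
          g.right :=
    IsLimit.conePointUniqueUpToIso_hom_comp (kanIsLimit K n p) (expIsLimit K n p) g
  have h1 : ((SimplicialObject.coskAdj n).unit.app K).app (op p) ≫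
      ((SimplicialObject.cosk n).obj K).map g.hom =
      K.map g.hom ≫ ((SimplicialObject.coskAdj n).unit.app K).app _ :=
    (((SimplicialObject.coskAdj n).unit.app K).naturality g.hom).symm
  have h2 : ((SimplicialObject.coskAdj n).unit.app K).app
        ((SimplexCategory.Truncated.inclusion n).op.obj g.right) ≫
      ((SimplicialObject.coskAdj n).counit.app ((SimplicialObject.truncation n).obj K)).app
        g.right = 𝟙 _ :=
    congrArg (fun k => k.app g.right) ((SimplicialObject.coskAdj n).left_triangle_components K)
  have e2 : (((SimplicialObject.coskAdj n).unit.app K).app (op p) ≫ (kanIso K n p).hom) ≫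
      (expCone K n p).π.app g = K.map g.hom := by
    rw [Category.assoc, e1]
    exact (Category.assoc _ _ _).symm.trans ((congrArg (fun k => k ≫
      ((SimplicialObject.coskAdj n).counit.app ((SimplicialObject.truncation n).obj K)).app
        g.right) h1).trans ((Category.assoc _ _ _).trans
          ((congrArg (fun k => K.map g.hom ≫ k) h2).trans (Category.comp_id _))))
  refine e2.trans ?_
  apply Over.OverMorphism.ext
  refine ConcreteCategory.hom_ext _ _ (fun w => ?_)
  rfl

lemma isUnivCohDescentMap_iso {A B : TopCat.{u}} (e : A ≅ B) : IsUnivCohDescentMap e.hom :=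
  Groth.Agent.Lib.Helper5.SecCech.isUnivCohDescentMap_of_section e.hom e.inv e.inv_hom_id

/-- **the map to the explicit coskeleton is universally of cohomological descent if the unit of
the coskeleton adjunction is** -/
theorem isUnivCohDescentMap_toCsk_succ
    (hn : IsUnivCohDescentMap
      (((SimplicialObject.coskAdj n).unit.app K).app (op ⦋n + 1⦌)).left) :
    IsUnivCohDescentMap ((ofK K).toCsk (n + 1) ⦋n + 1⦌) := by
  have h1 : (((SimplicialObject.coskAdj n).unit.app K).app (op ⦋n + 1⦌)).left ≫
      ((Over.forget S).mapIso (kanIso K n ⦋n + 1⦌)).hom = (ofK K).toCsk (n + 1) ⦋n + 1⦌ :=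
    congrArg (fun k => k.left) (unit_kanIso K n ⦋n + 1⦌)
  rw [← h1]
  exact isUnivCohDescentMap_comp _ _ hn (isUnivCohDescentMap_iso _)

omit [∀ (n : ℕ) (G : (SimplexCategory.Truncated n)ᵒᵖ ⥤ Over S),
  (SimplexCategory.Truncated.inclusion n).op.HasRightKanExtension G] in
/-- the case of the coskeleton of order zero -/
theorem isUnivCohDescentMap_toCsk_zero (X : SimpS S) (h0 : IsUnivCohDescentMap (X.π ⦋0⦌)) :
    IsUnivCohDescentMap (X.toCsk 0 ⦋0⦌) := by
  let sec : S ⟶ X.CskT 0 ⦋0⦌ := TopCat.ofHom
    ⟨fun s => (⟨(s, fun a _ => absurd a.2 (Nat.not_lt_zero _)),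
        fun a _ => absurd a.2 (Nat.not_lt_zero _),
        fun a _ _ _ => absurd a.2 (Nat.not_lt_zero _)⟩ : X.CskPt 0 ⦋0⦌),
      continuous_mk _ continuous_id (fun a _ => absurd a.2 (Nat.not_lt_zero _))⟩
  have h1 : (X.Csk 0).π ⦋0⦌ ≫ sec = 𝟙 _ := by
    refine ConcreteCategory.hom_ext _ _ (fun x => ?_)
    exact csk_ext (X := X) (m := 0) (p := ⦋0⦌) _ _ rfl
      (fun a _ => absurd a.2 (Nat.not_lt_zero _))
  have h2 : X.toCsk 0 ⦋0⦌ = X.π ⦋0⦌ ≫ sec := by
    refine ConcreteCategory.hom_ext _ _ (fun w => ?_)
    exact csk_ext (X := X) (m := 0) (p := ⦋0⦌) _ _ rfl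
      (fun a _ => absurd a.2 (Nat.not_lt_zero _))
  rw [h2]
  exact isUnivCohDescentMap_comp _ _ h0
    (Groth.Agent.Lib.Helper5.SecCech.isUnivCohDescentMap_of_section sec ((X.Csk 0).π ⦋0⦌) h1)

/-- **a hypercovering for the topology of universal cohomological descent satisfies the
hypotheses on the explicit coskeleta** -/
theorem isUnivCohDescentMap_toCsk
    (h0 : IsUnivCohDescentMap (K.obj (op ⦋0⦌)).hom)
    (hn : ∀ n : ℕ, IsUnivCohDescentMap
      (((SimplicialObject.coskAdj n).unit.app K).app (op ⦋n + 1⦌)).left) (m : ℕ) :
    IsUnivCohDescentMap ((ofK K).toCsk m ⦋m⦌) := by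
  cases m with
  | zero => exact isUnivCohDescentMap_toCsk_zero (ofK K) h0
  | succ n => exact isUnivCohDescentMap_toCsk_succ K n (hn n)

end Groth.Agent.Lib.Helper5.CskKan
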