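import Groth.Agent.Lib.Helper5.CskUniv

/-!
# Cohomological descent of the coskeleta of a hypercovering

If all the maps `X_m ⟶ (cosk_{m-1} X)_m` are universally of cohomological descent, all the
coskeleta of `X` are of cohomological descent over the base.
-/

set_option autoImplicit false
set_option backward.isDefEq.respectTransparency false
set_option backward.isDefEq.respectTransparency.types false

universe u

open CategoryTheory CategoryTheory.Limits Opposite TopologicalSpace Topology Simplicial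
open FibDesc

noncomputable section

namespace Groth.Agent.Lib.Helper5.CskTower

open Groth.Agent.Lib.Helper5.DSite Groth.Agent.Lib.Helper5.DPull
  Groth.Agent.Lib.Helper5.DeltaSite Groth.Agent.Lib.Helper5.UnivDesc
  Groth.Agent.Lib.Helper5.CechDiag Groth.Agent.Lib.Helper5.CechBi
  Groth.Agent.Lib.Helper5.DBiMain Groth.Agent.Lib.Helper5.BiCech
  Groth.Agent.Lib.Helper5.ProperDescent Groth.Agent.Lib.Helper5.DeltaCmp
  Groth.Agent.Lib.Helper5.FDCech Groth.Agent.Lib.Helper5.DRetract

namespace SimpS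

variable {S : TopCat.{u}} (X : SimpS S) (m : ℕ)

/-- the transition maps of the tower, as a morphism of diagrams -/
def cskToD : (X.Csk (m + 1)).toD.Y ⟶ (X.Csk m).toD.Y where
  app i := X.cskTo m (AsSmall.down.obj i.unop)
  naturality i j θ := ConcreteCategory.hom_ext _ _ (fun x => rfl)

/-- the maps to the coskeleta, as a morphism of diagrams -/
def toCskD : X.toD.Y ⟶ (X.Csk m).toD.Y where
  app i := X.toCsk m (AsSmall.down.obj i.unop)
  naturality i j θ := ConcreteCategory.hom_ext _ _
    (fun w => X.toCsk_nat m (AsSmall.down.map θ.unop) w)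

/-! ### the first vertex retraction -/

section retraction

variable (p : SimplexCategory)

/-- the first vertex of a simplex -/
abbrev v0 {a : SimplexCategory} (f : a ⟶ p) : Fin (p.len + 1) := f.toOrderHom 0

lemma base_eq (w : Xc (X.cskTo m p) (p.len + 1)) (k : Fin (p.len + 1)) :
    ((w.1.2 k : X.CskPt (m + 1) p)).1.1 = ((w.1.1 : X.CskPt m p)).1.1 :=
  congrArg (fun y : X.CskPt m p => y.1.1) (w.2 k)

lemma cskTo_eq (w : Xc (X.cskTo m p) (p.len + 1)) (k k' : Fin (p.len + 1)) :
    X.cskToFun m p (w.1.2 k) = X.cskToFun m p (w.1.2 k') :=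
  (w.2 k).trans (w.2 k').symm

lemma coord_eq (w : Xc (X.cskTo m p) (p.len + 1)) (k k' : Fin (p.len + 1)) (b : Ix (m + 1))
    (g : b.1 ⟶ p) (h : b.1.len < m ∨ ¬ Mono g) :
    ((w.1.2 k : X.CskPt (m + 1) p)).1.2 b g = ((w.1.2 k' : X.CskPt (m + 1) p)).1.2 b g := by
  by_cases hb : b.1.len < m
  · exact congrArg (fun y : X.CskPt m p => y.1.2 ⟨b.1, hb⟩ g) (cskTo_eq X m p w k k')
  · exact eq_of_not_mono X m p _ _ (cskTo_eq X m p w k k') b.1 b.2 g (h.resolve_left hb)

/-- the first vertex retraction -/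
def ρFun (w : Xc (X.cskTo m p) (p.len + 1)) : X.CskPt (m + 1) p :=
  ⟨(((w.1.1 : X.CskPt m p)).1.1,
      fun a f => ((w.1.2 (v0 p f) : X.CskPt (m + 1) p)).1.2 a f),
    fun a f => ((w.1.2 (v0 p f) : X.CskPt (m + 1) p).2.1 a f).trans (base_eq X m p w _),
    fun a b ψ f => by
      refine ((w.1.2 (v0 p f) : X.CskPt (m + 1) p).2.2 a b ψ f).trans ?_
      by_cases h : b.1.len < m ∨ ¬ Mono (ψ ≫ f)
      · exact coord_eq X m p w _ _ b (ψ ≫ f) h
      · rw [not_or, not_not] at h
        obtain ⟨h1, h2⟩ := h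
        have : Mono ψ := mono_of_mono ψ f
        have h3 := SimplexCategory.len_le_of_mono ψ
        have h4 := a.2
        obtain ⟨a, ha⟩ := a
        obtain ⟨b, hb⟩ := b
        have hab : b = a := SimplexCategory.ext (by
          change b.len = a.len
          change b.len ≤ a.len at h3
          change ¬ b.len < m at h1
          change a.len < m + 1 at h4
          omega)
        subst hab
        have hψ : ψ = 𝟙 _ := SimplexCategory.eq_id_of_mono ψ
        subst hψ
        rw [Category.id_comp]⟩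

lemma continuous_ρFun : Continuous (X.ρFun m p) := by
  have h1 : Continuous (fun w : Xc (X.cskTo m p) (p.len + 1) => (w.1.1 : X.CskPt m p)) :=
    continuous_fst.comp continuous_subtype_val
  have h2 : ∀ k, Continuous (fun w : Xc (X.cskTo m p) (p.len + 1) =>
      (w.1.2 k : X.CskPt (m + 1) p)) := fun k =>
    (continuous_apply k).comp (continuous_snd.comp continuous_subtype_val)
  refine continuous_mk (X.ρFun m p) ((continuous_base m p).comp h1) (fun a f => ?_)
  change Continuous (fun w : Xc (X.cskTo m p) (p.len + 1) =>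
    ((w.1.2 (v0 p f) : X.CskPt (m + 1) p)).1.2 a f)
  exact (continuous_coord (m + 1) p a f).comp (h2 (v0 p f))

end retraction

/-- the first vertex retraction -/
def ρD (i : 𝕀.{u}) : Wt (X.cskToD m) i i ⟶ Sp (X.Csk (m + 1)).toD.Y i :=
  TopCat.ofHom ⟨X.ρFun m (AsSmall.down.obj i), X.continuous_ρFun m (AsSmall.down.obj i)⟩

/-- **the inductive step** -/
theorem cd_csk_succ (hv : IsUnivCohDescentMap (X.toCsk m ⦋m⦌)) (hB : CD (X.Csk m).toD) :
    CD (X.Csk (m + 1)).toD := by
  refine cd_step (X.cskToD m) (X.ρD m) ?_ ?_ ?_ ?_ hB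
  · intro i j α w
    refine csk_ext (X := X) (m := m + 1) (p := AsSmall.down.obj i) _ _ rfl (fun a f => ?_)
    rfl
  · intro i z
    refine csk_ext (X := X) (m := m + 1) (p := AsSmall.down.obj i) _ _ rfl (fun a f => ?_)
    rfl
  · intro i w
    rfl
  · intro i
    have h1 : IsUnivCohDescentMap (X.cskTo m (AsSmall.down.obj i)) :=
      X.isUnivCohDescentMap_cskTo m _ hv
    exact isCohDescentMap_of_pullback_id _ (h1 _ (𝟙 _))

/-! ### the coskeleton of order zero -/

/-- the points of the coskeleton of order zero -/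
def csk0Fun (p : SimplexCategory) (w : Xc (𝟙 S) (p.len + 1)) : X.CskPt 0 p :=
  ⟨(w.1.1, fun a _ => absurd a.2 (Nat.not_lt_zero _)),
    fun a _ => absurd a.2 (Nat.not_lt_zero _), fun a _ _ _ => absurd a.2 (Nat.not_lt_zero _)⟩

lemma continuous_csk0Fun (p : SimplexCategory) : Continuous (X.csk0Fun p) := by
  have h1 : Continuous (fun w : Xc (𝟙 S) (p.len + 1) => (w.1.1 : S)) :=
    continuous_fst.comp continuous_subtype_val
  exact continuous_mk (X.csk0Fun p) h1 (fun a _ => absurd a.2 (Nat.not_lt_zero _))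

/-- the coskeleton of order zero is the constant diagram, that is the Čech diagram of the
identity -/
def csk0Iso : (X.Csk 0).toD.Y ≅ (DΔ (Df (𝟙 S))).Y :=
  NatIso.ofComponents (fun i =>
    { hom := TopCat.ofHom ⟨fun x => mkXc (𝟙 S) ((x : X.CskPt 0 _)).1.1
          (fun _ => ((x : X.CskPt 0 _)).1.1) (fun _ => rfl),
        Continuous.subtype_mk ((continuous_base 0 _).prodMk
          (continuous_pi fun _ => continuous_base 0 _)) _⟩
      inv := TopCat.ofHom ⟨X.csk0Fun (AsSmall.down.obj i.unop),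
        X.continuous_csk0Fun (AsSmall.down.obj i.unop)⟩
      hom_inv_id := by
        refine ConcreteCategory.hom_ext _ _ (fun x => ?_)
        exact csk_ext (X := X) (m := 0) (p := AsSmall.down.obj i.unop) _ _ rfl
          (fun a _ => absurd a.2 (Nat.not_lt_zero _))
      inv_hom_id := by
        refine ConcreteCategory.hom_ext _ _ (fun w => ?_)
        apply Xc_ext
        · rfl
        · intro k
          exact (w.2 k).symm })
    (by
      intro i j θ
      refine ConcreteCategory.hom_ext _ _ (fun x => ?_)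
      rfl)

lemma csk0Iso_π (k : 𝕀.{u}) (w : Sp (X.Csk 0).toD.Y k) :
    (DΔ (Df (𝟙 S))).π k ((X.csk0Iso).hom.app (op k) w) = (X.Csk 0).toD.π k w := by
  rfl

theorem cd_csk_zero : CD (X.Csk 0).toD := by
  have h1 : IsCohDescentMap (𝟙 S) :=
    Groth.Agent.Lib.Helper5.SecCech.isCohDescentMap_of_section (𝟙 S) (𝟙 S) (Category.id_comp _)
  have h2 : CD (DΔ (Df (𝟙 S))) := cd_of_cmp (cmpCech (𝟙 S)) h1
  exact cd_of_iso (X.Csk 0).toD (DΔ (Df (𝟙 S))) (X.csk0Iso) (X.csk0Iso_π) h2

/-- **all the coskeleta of a hypercovering are of cohomological descent** -/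
theorem cd_csk (hv : ∀ m, IsUnivCohDescentMap (X.toCsk m ⦋m⦌)) (m : ℕ) : CD (X.Csk m).toD := by
  induction m with
  | zero => exact X.cd_csk_zero
  | succ m ih => exact X.cd_csk_succ m (hv m) ih

/-! ### the map to the coskeleton is an isomorphism in low degrees -/

lemma isIso_toCsk (p : SimplexCategory) (hp : p.len < m) : IsIso (X.toCsk m p) := by
  let inv : X.CskT m p ⟶ X.Lv p :=
    TopCat.ofHom ⟨fun x => ((x : X.CskPt m p)).1.2 ⟨p, hp⟩ (𝟙 p), continuous_coord m p ⟨p, hp⟩ (𝟙 p)⟩
  refine ⟨inv, ?_, ?_⟩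
  · refine ConcreteCategory.hom_ext _ _ (fun w => ?_)
    exact X.mp_id p w
  · refine ConcreteCategory.hom_ext _ _ (fun x => ?_)
    refine csk_ext (X := X) (m := m) (p := p) _ _ ((x : X.CskPt m p).2.1 ⟨p, hp⟩ (𝟙 p))
      (fun a f => ?_)
    refine ((x : X.CskPt m p).2.2 ⟨p, hp⟩ a f (𝟙 p)).trans ?_
    exact congrArg (fun g => ((x : X.CskPt m p)).1.2 a g) (Category.comp_id f)

lemma isIso_toCskD (k : ℕ) (hk : k < m) : IsIso ((X.toCskD m).app (op (up ⦋k⦌))) :=
  X.isIso_toCsk m ⦋k⦌ hk

end SimpS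

end Groth.Agent.Lib.Helper5.CskTower
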