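import Groth.Agent.Lib.Helper5.SecDiag
import Groth.Agent.Lib.Helper5.FDCech

/-!
# Cohomological descent for maps with a section

A continuous map with a continuous section is universally of cohomological descent.
-/

set_option autoImplicit false
set_option backward.isDefEq.respectTransparency false
set_option backward.isDefEq.respectTransparency.types false

universe u

open CategoryTheory CategoryTheory.Limits Opposite TopologicalSpace Simplicial
open FibDesc FibSite

noncomputable section

namespace Groth.Agent.Lib.Helper5.SecCech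

open Groth.Agent.Lib.Helper5.DSite Groth.Agent.Lib.Helper5.DPull
  Groth.Agent.Lib.Helper5.DeltaSite Groth.Agent.Lib.Helper5.LimPush Groth.Agent.Lib.Helper5.FDSite
  Groth.Agent.Lib.Helper5.LimAdj Groth.Agent.Lib.Helper5.CechDiag Groth.Agent.Lib.Helper5.LHTuple
  Groth.Agent.Lib.Helper5.ProperDescent Groth.Agent.Lib.Helper5.DeltaCmp
  Groth.Agent.Lib.Helper5.SecDiag Groth.Agent.Lib.Helper5.FDCech Groth.Agent.Lib.Helper5.DEps

variable {X S : TopCat.{u}} (f : X ⟶ S) (s : S ⟶ X) (hs : s ≫ f = 𝟙 S)

include s hs in
/-- vanishing of the higher direct images for the simplicial Čech diagram -/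
theorem isZero_RD_pull_sec (F : CohTop.Ab S) (q : ℕ) :
    IsZero (((limPush (DΔ (Df f))).rightDerived (q + 1)).obj ((pullS (DΔ (Df f))).obj F)) := by
  have h0 := SecDiag.isZero_RDeps f s hs F q
  have e1 := RDresIso (Df f) (q + 1) ((pullS (Df f)).obj F)
  have e2 := ((limPush (DΔ (Df f))).rightDerived (q + 1)).mapIso
    ((pullSRestrNatIso (Df f)).app F)
  exact IsZero.of_iso h0 (e2 ≪≫ e1.symm)

/-- the section, with values in the fibre power of order `1` -/
def σ1 : S ⟶ XcT f 1 := (isoXc0 f).inv ≫ reidxS f s hs (fun _ => none)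

lemma πc_σ1 (z : S) : πc f 1 (σ1 f s hs z) = z := rfl

include s hs in
/-- the unit is an isomorphism for the simplicial Čech diagram -/
theorem isIso_unit_sec : IsIso (adjL (DΔ (Df f))).unit := by
  refine DUnit2.isIso_unit_adjL (Df f) ?_ ?_ ?_
  · intro z
    exact ⟨σ1 f s hs z, rfl⟩
  · intro z U hU
    refine ⟨(Opens.map (σ1 f s hs)).obj U, hU _ (πc_σ1 f s hs z), ?_⟩
    intro y hy
    exact ⟨σ1 f s hs y, hy, rfl⟩
  · intro w w' hww'
    let w₁ : XcT f 1 := w
    let w₁' : XcT f 1 := w'
    have hπ : πc f 1 w₁ = πc f 1 w₁' := hww'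
    refine ⟨mkXc f (πc f 1 w₁)
      (Fin.cons (prc f 1 0 w₁') (fun _ => prc f 1 0 w₁) : Fin (1 + 1) → X) ?_, ?_, ?_⟩
    · intro i
      refine Fin.cases ?_ (fun i' => ?_) i
      · exact (f_prc f 1 0 w₁').trans hπ.symm
      · exact f_prc f 1 0 w₁
    · apply Xc_ext (f := f) (n := 1)
      · rfl
      · intro k
        have hk : k = 0 := Fin.ext (Nat.lt_one_iff.1 k.isLt)
        subst hk
        rfl
    · apply Xc_ext (f := f) (n := 1)
      · exact hπ
      · intro k
        have hk : k = 0 := Fin.ext (Nat.lt_one_iff.1 k.isLt)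
        subst hk
        rfl

include s hs in
/-- a map with a section is of cohomological descent -/
theorem isCohDescentMap_of_section : IsCohDescentMap f :=
  FDMain.isCohDescentTop (cmpCech f) (isIso_unit_sec f s hs) (isZero_RD_pull_sec f s hs)

include s hs in
/-- **a map with a section is universally of cohomological descent** -/
theorem isUnivCohDescentMap_of_section : IsUnivCohDescentMap f := by
  intro S' g
  exact isCohDescentMap_of_section (pullback.snd f g)
    (pullback.lift (g ≫ s) (𝟙 S') (by rw [Category.assoc, hs, Category.comp_id, Category.id_comp]))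
    (pullback.lift_snd _ _ _)

end Groth.Agent.Lib.Helper5.SecCech
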