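import Groth.Agent.Lib.Helper5.BiCech
import Groth.Agent.Lib.Helper5.SecCech

/-!
# Formal properties of maps universally of cohomological descent

Invariance under isomorphisms over the base, base change, localisation along a map universally of
cohomological descent, composition, and products.
-/

set_option autoImplicit false
set_option backward.isDefEq.respectTransparency false
set_option backward.isDefEq.respectTransparency.types false

universe u

open CategoryTheory CategoryTheory.Limits Opposite TopologicalSpace Topology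
open FibDesc FibSite

noncomputable section

namespace Groth.Agent.Lib.Helper5.UnivDesc

open Groth.Agent.Lib.Helper5.DSite Groth.Agent.Lib.Helper5.DPull
  Groth.Agent.Lib.Helper5.DeltaSite Groth.Agent.Lib.Helper5.LimPush Groth.Agent.Lib.Helper5.FDSite
  Groth.Agent.Lib.Helper5.LimAdj Groth.Agent.Lib.Helper5.CechDiag Groth.Agent.Lib.Helper5.LHTuple
  Groth.Agent.Lib.Helper5.ProperDescent Groth.Agent.Lib.Helper5.DeltaCmp
  Groth.Agent.Lib.Helper5.DRestr Groth.Agent.Lib.Helper5.FDCech
  Groth.Agent.Lib.Helper5.DBiMain Groth.Agent.Lib.Helper5.BiCech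

attribute [local instance] HasDerivedCategory.standard

/-! ### invariance under isomorphisms over the base -/

section iso

variable {X₁ X₂ S : TopCat.{u}} (f₁ : X₁ ⟶ S) (f₂ : X₂ ⟶ S)

/-- the map of fibre powers induced by a map over the base -/
def mapXcFun (φ : X₁ ⟶ X₂) (hφ : φ ≫ f₂ = f₁) (n : ℕ) (w : XcT f₁ n) : XcT f₂ n :=
  mkXc f₂ w.1.1 (fun i => φ (w.1.2 i))
    (fun i => (ConcreteCategory.congr_hom hφ (w.1.2 i)).trans (w.2 i))

lemma continuous_mapXcFun (φ : X₁ ⟶ X₂) (hφ : φ ≫ f₂ = f₁) (n : ℕ) :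
    Continuous (mapXcFun f₁ f₂ φ hφ n) := by
  have h1 : Continuous (fun w : XcT f₁ n => (w.1.1 : S)) :=
    continuous_fst.comp continuous_subtype_val
  have h2 : ∀ i, Continuous (fun w : XcT f₁ n => (φ (w.1.2 i) : X₂)) := fun i =>
    φ.hom.continuous.comp ((continuous_apply i).comp (continuous_snd.comp continuous_subtype_val))
  exact Continuous.subtype_mk (h1.prodMk (continuous_pi h2)) _

/-- the map of fibre powers induced by a map over the base -/
def mapXc (φ : X₁ ⟶ X₂) (hφ : φ ≫ f₂ = f₁) (n : ℕ) : XcT f₁ n ⟶ XcT f₂ n :=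
  TopCat.ofHom ⟨mapXcFun f₁ f₂ φ hφ n, continuous_mapXcFun f₁ f₂ φ hφ n⟩

lemma mapXc_mapXc (φ : X₁ ⟶ X₂) (hφ : φ ≫ f₂ = f₁) (ψ : X₂ ⟶ X₁) (hψ : ψ ≫ f₁ = f₂)
    (h : φ ≫ ψ = 𝟙 X₁) (n : ℕ) (w : XcT f₁ n) :
    mapXc f₂ f₁ ψ hψ n (mapXc f₁ f₂ φ hφ n w) = w := by
  apply Xc_ext
  · rfl
  · intro k
    exact ConcreteCategory.congr_hom h (w.1.2 k)

/-- the isomorphism of the Čech diagrams induced by an isomorphism over the base -/
def YfIso (e : X₁ ≅ X₂) (he : e.hom ≫ f₂ = f₁) : Yf f₁ ≅ Yf f₂ :=
  have he' : e.inv ≫ f₁ = f₂ := by rw [← he, Iso.inv_hom_id_assoc]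
  NatIso.ofComponents (fun a =>
    { hom := mapXc f₁ f₂ e.hom he (a.unop.n + 1)
      inv := mapXc f₂ f₁ e.inv he' (a.unop.n + 1)
      hom_inv_id := ConcreteCategory.hom_ext _ _
        (mapXc_mapXc f₁ f₂ e.hom he e.inv he' e.hom_inv_id _)
      inv_hom_id := ConcreteCategory.hom_ext _ _
        (mapXc_mapXc f₂ f₁ e.inv he' e.hom he e.inv_hom_id _) })
    (by
      intro a b θ
      exact ConcreteCategory.hom_ext _ _ (fun w => rfl))

variable {f₁ f₂}

/-- **cohomological descent is invariant under isomorphisms over the base** -/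
theorem isCohDescentMap_of_iso (e : X₁ ≅ X₂) (he : e.hom ≫ f₂ = f₁) (h : IsCohDescentMap f₁) :
    IsCohDescentMap f₂ := by
  have c : Cmp (cechAug f₁) (DΔ (Df f₂)) :=
    cmpTrans (cmpCech f₁) (Functor.isoWhiskerLeft jΔ.op (YfIso f₁ f₂ e he)) (fun _ _ => rfl)
  exact isCohDescentTop_of_cd (cmpCech f₂) (cd_of_cmp (Y := cechAug f₁) c h)

end iso

/-! ### base change -/

section pullback

variable {P X T S : TopCat.{u}} {fst : P ⟶ X} {snd : P ⟶ T} {f : X ⟶ S} {t : T ⟶ S}

theorem isCohDescentMap_iff_of_isPullback (sq : IsPullback fst snd f t) :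
    IsCohDescentMap snd ↔ IsCohDescentMap (pullback.snd f t) :=
  ⟨isCohDescentMap_of_iso sq.isoPullback sq.isoPullback_hom_snd,
    isCohDescentMap_of_iso sq.isoPullback.symm sq.isoPullback_inv_snd⟩

/-- **a base change of a map universally of cohomological descent is universally of cohomological
descent** -/
theorem isUnivCohDescentMap_of_isPullback (sq : IsPullback fst snd f t)
    (hf : IsUnivCohDescentMap f) : IsUnivCohDescentMap snd := by
  intro T' t'
  have sq' : IsPullback (pullback.fst snd t' ≫ fst) (pullback.snd snd t') f (t' ≫ t) :=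
    (IsPullback.of_hasPullback snd t').paste_horiz sq
  exact (isCohDescentMap_iff_of_isPullback sq').2 (hf T' (t' ≫ t))

end pullback

/-! ### localisation along a map universally of cohomological descent -/

section localisation

variable {X S S' : TopCat.{u}} (f : X ⟶ S) (g : S' ⟶ S)

theorem isCohDescentMap_of_factor (hf' : IsUnivCohDescentMap (pullback.snd f g))
    {P A : TopCat.{u}} {fst : P ⟶ X} {snd : P ⟶ A} {b : A ⟶ S}
    (sq : IsPullback fst snd f b) (r : A ⟶ S') (hr : r ≫ g = b) : IsCohDescentMap snd := by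
  subst hr
  have sq₂ : IsPullback (pullback.fst (pullback.snd f g) r ≫ pullback.fst f g)
      (pullback.snd (pullback.snd f g) r) f (r ≫ g) :=
    (IsPullback.of_hasPullback (pullback.snd f g) r).paste_horiz (IsPullback.of_hasPullback f g)
  exact (isCohDescentMap_iff_of_isPullback sq).2
    ((isCohDescentMap_iff_of_isPullback sq₂).1 (hf' A r))

/-- **universal cohomological descent can be checked after a base change universally of
cohomological descent** -/
theorem isUnivCohDescentMap_iff_pullback (hg : IsUnivCohDescentMap g) :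
    IsUnivCohDescentMap f ↔ IsUnivCohDescentMap (pullback.snd f g) := by
  constructor
  · exact isUnivCohDescentMap_of_isPullback (IsPullback.of_hasPullback f g)
  · intro hf' T t
    have hv : IsUnivCohDescentMap (pullback.snd g t) :=
      isUnivCohDescentMap_of_isPullback (IsPullback.of_hasPullback g t) hg
    refine BiCech.isCohDescentMap_of_baseChange_cech (pullback.snd f t) (pullback.snd g t) hv
      (fun n => ?_)
    have sq₁ : IsPullback
        (pullback.fst (pullback.snd f t) (ap (pullback.snd g t) n) ≫ pullback.fst f t)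
        (pullback.snd (pullback.snd f t) (ap (pullback.snd g t) n)) f
        (ap (pullback.snd g t) n ≫ t) :=
      (IsPullback.of_hasPullback (pullback.snd f t) (ap (pullback.snd g t) n)).paste_horiz
        (IsPullback.of_hasPullback f t)
    refine isCohDescentMap_of_factor f g hf' sq₁
      (pr (pullback.snd g t) n 0 ≫ pullback.fst g t) ?_
    rw [Category.assoc, pullback.condition, ← Category.assoc]
    congr 1
    exact WidePullback.π_arrow _ _

end localisation

/-! ### composition -/

section comp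

variable {X Y S : TopCat.{u}} (f : X ⟶ Y) (g : Y ⟶ S)

/-- **if a composite is universally of cohomological descent, so is the second map** -/
theorem isUnivCohDescentMap_of_comp (h : IsUnivCohDescentMap (f ≫ g)) :
    IsUnivCohDescentMap g := by
  have hs : IsUnivCohDescentMap (pullback.snd g (f ≫ g)) :=
    Groth.Agent.Lib.Helper5.SecCech.isUnivCohDescentMap_of_section (pullback.snd g (f ≫ g))
      (pullback.lift f (𝟙 X) (by simp)) (by simp)
  exact (isUnivCohDescentMap_iff_pullback g (f ≫ g) h).2 hs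

/-- **a composite of maps universally of cohomological descent is universally of cohomological
descent** -/
theorem isUnivCohDescentMap_comp (hf : IsUnivCohDescentMap f) (hg : IsUnivCohDescentMap g) :
    IsUnivCohDescentMap (f ≫ g) := by
  rw [isUnivCohDescentMap_iff_pullback (f ≫ g) g hg]
  have e : pullback.lift (𝟙 X) f (by simp) ≫ pullback.snd (f ≫ g) g = f :=
    pullback.lift_snd _ _ _
  refine isUnivCohDescentMap_of_comp (pullback.lift (𝟙 X) f (by simp))
    (pullback.snd (f ≫ g) g) ?_
  rw [e]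
  exact hf

end comp

/-! ### products -/

section prod

variable {X X' Y Y' S : TopCat.{u}} (pX : X' ⟶ S) (pY : Y' ⟶ S) (f : X ⟶ X') (g : Y ⟶ Y')

/-- **a fibre product of maps universally of cohomological descent is universally of cohomological
descent** -/
theorem isUnivCohDescentMap_pullback_map (hf : IsUnivCohDescentMap f)
    (hg : IsUnivCohDescentMap g) :
    IsUnivCohDescentMap
      (pullback.map (f ≫ pX) (g ≫ pY) pX pY f g (𝟙 S) (Category.comp_id _)
        (Category.comp_id _)) := by
  let m₁ : pullback (f ≫ pX) (g ≫ pY) ⟶ pullback pX (g ≫ pY) :=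
    pullback.map (f ≫ pX) (g ≫ pY) pX (g ≫ pY) f (𝟙 Y) (𝟙 S) (Category.comp_id _) (by simp)
  let m₂ : pullback pX (g ≫ pY) ⟶ pullback pX pY :=
    pullback.map pX (g ≫ pY) pX pY (𝟙 X') g (𝟙 S) (by simp) (Category.comp_id _)
  have hm : pullback.map (f ≫ pX) (g ≫ pY) pX pY f g (𝟙 S) (Category.comp_id _)
      (Category.comp_id _) = m₁ ≫ m₂ := by
    apply pullback.hom_ext <;> simp [m₁, m₂, pullback.map]
  have e₁ : m₁ ≫ pullback.snd pX (g ≫ pY) = pullback.snd (f ≫ pX) (g ≫ pY) := by
    simp [m₁, pullback.map]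
  have p₁ : pullback.fst (f ≫ pX) (g ≫ pY) ≫ f = m₁ ≫ pullback.fst pX (g ≫ pY) := by
    simp [m₁, pullback.map]
  have s₁ : IsPullback (pullback.fst (f ≫ pX) (g ≫ pY)) (m₁ ≫ pullback.snd pX (g ≫ pY))
      (f ≫ pX) (g ≫ pY) := by
    rw [e₁]
    exact IsPullback.of_hasPullback _ _
  have sq₁ : IsPullback (pullback.fst (f ≫ pX) (g ≫ pY)) m₁ f (pullback.fst pX (g ≫ pY)) :=
    IsPullback.of_bot s₁ p₁ (IsPullback.of_hasPullback pX (g ≫ pY))
  have e₂ : m₂ ≫ pullback.fst pX pY = pullback.fst pX (g ≫ pY) := by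
    simp [m₂, pullback.map]
  have p₂ : pullback.snd pX (g ≫ pY) ≫ g = m₂ ≫ pullback.snd pX pY := by
    simp [m₂, pullback.map]
  have s₂ : IsPullback (pullback.snd pX (g ≫ pY)) (m₂ ≫ pullback.fst pX pY) (g ≫ pY) pX := by
    rw [e₂]
    exact (IsPullback.of_hasPullback _ _).flip
  have sq₂ : IsPullback (pullback.snd pX (g ≫ pY)) m₂ g (pullback.snd pX pY) :=
    IsPullback.of_bot s₂ p₂ (IsPullback.of_hasPullback pX pY).flip
  rw [hm]
  exact isUnivCohDescentMap_comp m₁ m₂ (isUnivCohDescentMap_of_isPullback sq₁ hf)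
    (isUnivCohDescentMap_of_isPullback sq₂ hg)

end prod

end Groth.Agent.Lib.Helper5.UnivDesc
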