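import Groth.Agent.Lib.Helper5.CechBi
import Groth.Agent.Lib.Helper5.UnivDesc

/-!
# Explicit coskeleta of a simplicial space over a base

For a simplicial space `X` over `S` the points of the `m`-th coskeleton at `p` are the compatible
families of points of the `X_a`, `a` of dimension `< m`, indexed by the maps `a ⟶ p`, all lying
over the same point of `S`.
-/

set_option autoImplicit false

universe u

open CategoryTheory CategoryTheory.Limits Opposite TopologicalSpace Topology Simplicial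
open FibDesc

noncomputable section

namespace Groth.Agent.Lib.Helper5.CskTower

open Groth.Agent.Lib.Helper5.DSite Groth.Agent.Lib.Helper5.DPull
  Groth.Agent.Lib.Helper5.DeltaSite

/-- a simplicial space over a base -/
structure SimpS (S : TopCat.{u}) where
  /-- the simplicial space -/
  Y : SimplexCategoryᵒᵖ ⥤ TopCat.{u}
  /-- the structure maps -/
  π : ∀ a : SimplexCategory, Y.obj (op a) ⟶ S
  hπ : ∀ {a b : SimplexCategory} (ψ : a ⟶ b) (w : Y.obj (op b)), π a (Y.map ψ.op w) = π b w

namespace SimpS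

variable {S : TopCat.{u}} (X : SimpS S)

/-- the levels -/
abbrev Lv (a : SimplexCategory) : TopCat.{u} := X.Y.obj (op a)

/-- the transition maps -/
abbrev mp {a b : SimplexCategory} (ψ : a ⟶ b) : X.Lv b ⟶ X.Lv a := X.Y.map ψ.op

lemma mp_comp {a b c : SimplexCategory} (ψ : a ⟶ b) (ψ' : b ⟶ c) (w : X.Lv c) :
    X.mp (ψ ≫ ψ') w = X.mp ψ (X.mp ψ' w) := by
  change X.Y.map (ψ ≫ ψ').op w = _
  rw [op_comp, X.Y.map_comp]
  rfl

lemma mp_id (a : SimplexCategory) (w : X.Lv a) : X.mp (𝟙 a) w = w := by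
  change X.Y.map (𝟙 a).op w = w
  rw [op_id, X.Y.map_id]
  rfl

lemma mp_congr {a b : SimplexCategory} {ψ ψ' : a ⟶ b} (h : ψ = ψ') (w : X.Lv b) :
    X.mp ψ w = X.mp ψ' w := by
  subst h
  rfl

/-- the diagram of spaces over the base -/
def toD : OverS 𝕀.{u} S where
  Y := AsSmall.down.op ⋙ X.Y
  π i := X.π (AsSmall.down.obj i)
  hπ α w := X.hπ (AsSmall.down.map α) w

/-! ### the points of the coskeleta -/

/-- the simplices of dimension `< m` -/
abbrev Ix (m : ℕ) : Type := {a : SimplexCategory // a.len < m}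

/-- the inclusion of the index sets -/
abbrev ixS {m : ℕ} (a : Ix m) : Ix (m + 1) := ⟨a.1, Nat.lt_succ_of_lt a.2⟩

/-- families of points indexed by the simplices of dimension `< m` of `p` -/
abbrev Fam (m : ℕ) (p : SimplexCategory) : Type u :=
  ∀ a : Ix m, (a.1 ⟶ p) → X.Lv a.1

/-- the points of the `m`-th coskeleton at `p` -/
abbrev CskPt (m : ℕ) (p : SimplexCategory) : Type u :=
  {x : S × X.Fam m p // (∀ (a : Ix m) (f : a.1 ⟶ p), X.π a.1 (x.2 a f) = x.1) ∧
    ∀ (a b : Ix m) (ψ : b.1 ⟶ a.1) (f : a.1 ⟶ p), X.mp ψ (x.2 a f) = x.2 b (ψ ≫ f)}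

/-- the space of points of the `m`-th coskeleton at `p` -/
abbrev CskT (m : ℕ) (p : SimplexCategory) : TopCat.{u} := TopCat.of (X.CskPt m p)

variable {X}

lemma csk_ext {m : ℕ} {p : SimplexCategory} (x y : X.CskPt m p) (h1 : x.1.1 = y.1.1)
    (h2 : ∀ a f, x.1.2 a f = y.1.2 a f) : x = y :=
  Subtype.ext (Prod.ext h1 (funext fun a => funext fun f => h2 a f))

lemma continuous_base (m : ℕ) (p : SimplexCategory) :
    Continuous (fun x : X.CskPt m p => (x.1.1 : S)) :=
  continuous_fst.comp continuous_subtype_val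

lemma continuous_coord (m : ℕ) (p : SimplexCategory) (a : Ix m)
    (f : a.1 ⟶ p) : Continuous (fun x : X.CskPt m p => (x.1.2 a f : X.Lv a.1)) :=
  (continuous_apply f).comp ((continuous_apply a).comp
    (continuous_snd.comp continuous_subtype_val))

lemma continuous_mk {T : Type u} [TopologicalSpace T] {m : ℕ} {p : SimplexCategory}
    (g : T → X.CskPt m p) (h1 : Continuous (fun t => ((g t).1.1 : S)))
    (h2 : ∀ a f, Continuous (fun t => ((g t).1.2 a f : X.Lv a.1))) : Continuous g :=
  Continuous.subtype_mk (h1.prodMk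
    (continuous_pi fun a => continuous_pi fun f => h2 a f)) _

variable (X)

/-- reindexing along a map of simplices -/
def reFun (m : ℕ) {p p' : SimplexCategory} (θ : p' ⟶ p) (x : X.CskPt m p) : X.CskPt m p' :=
  ⟨(x.1.1, fun a f => x.1.2 a (f ≫ θ)), fun a f => x.2.1 a (f ≫ θ),
    fun a b ψ f => (x.2.2 a b ψ (f ≫ θ)).trans
      (congrArg (fun g => x.1.2 b g) (Category.assoc ψ f θ).symm)⟩

lemma continuous_reFun (m : ℕ) {p p' : SimplexCategory} (θ : p' ⟶ p) :
    Continuous (X.reFun m θ) :=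
  continuous_mk _ (continuous_base m p) (fun a f => continuous_coord m p a (f ≫ θ))

/-- the coskeleton -/
def Csk (m : ℕ) : SimpS S where
  Y :=
    { obj := fun p => X.CskT m p.unop
      map := fun θ => TopCat.ofHom ⟨X.reFun m θ.unop, X.continuous_reFun m θ.unop⟩
      map_id := fun p => by
        refine ConcreteCategory.hom_ext _ _ (fun x => ?_)
        refine csk_ext _ _ rfl (fun a f => ?_)
        exact congrArg (fun g => x.1.2 a g) (Category.comp_id f)
      map_comp := fun θ θ' => by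
        refine ConcreteCategory.hom_ext _ _ (fun x => ?_)
        refine csk_ext _ _ rfl (fun a f => ?_)
        exact congrArg (fun g => x.1.2 a g) (Category.assoc f θ'.unop θ.unop).symm }
  π p := TopCat.ofHom ⟨fun x => x.1.1, continuous_base m p⟩
  hπ _ _ := rfl

lemma csk_mp_base (m : ℕ) {p p' : SimplexCategory} (θ : p' ⟶ p) (x : X.CskPt m p) :
    (((X.Csk m).mp θ x : X.CskPt m p')).1.1 = x.1.1 := rfl

lemma csk_mp_coord (m : ℕ) {p p' : SimplexCategory} (θ : p' ⟶ p) (x : X.CskPt m p)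
    (a : Ix m) (f : a.1 ⟶ p') :
    (((X.Csk m).mp θ x : X.CskPt m p')).1.2 a f = x.1.2 a (f ≫ θ) := rfl

/-- the map to the coskeleton -/
def toCskFun (m : ℕ) (p : SimplexCategory) (w : X.Lv p) : X.CskPt m p :=
  ⟨(X.π p w, fun _ f => X.mp f w), fun _ f => X.hπ f w,
    fun _ _ ψ f => (X.mp_comp ψ f w).symm⟩

lemma continuous_toCskFun (m : ℕ) (p : SimplexCategory) : Continuous (X.toCskFun m p) :=
  continuous_mk _ (X.π p).hom.continuous (fun _ f => (X.mp f).hom.continuous)

/-- the map to the coskeleton -/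
def toCsk (m : ℕ) (p : SimplexCategory) : X.Lv p ⟶ X.CskT m p :=
  TopCat.ofHom ⟨X.toCskFun m p, X.continuous_toCskFun m p⟩

lemma toCsk_base (m : ℕ) (p : SimplexCategory) (w : X.Lv p) :
    ((X.toCsk m p w : X.CskPt m p)).1.1 = X.π p w := rfl

lemma toCsk_coord (m : ℕ) (p : SimplexCategory) (w : X.Lv p) (a : Ix m) (f : a.1 ⟶ p) :
    ((X.toCsk m p w : X.CskPt m p)).1.2 a f = X.mp f w := rfl

lemma toCsk_nat (m : ℕ) {p p' : SimplexCategory} (θ : p' ⟶ p) (w : X.Lv p) :
    X.toCsk m p' (X.mp θ w) = (X.Csk m).mp θ (X.toCsk m p w) := by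
  refine csk_ext (X := X) (m := m) (p := p') _ _ (X.hπ θ w) (fun a f => ?_)
  exact (X.mp_comp f θ w).symm

/-- the transition maps of the tower of coskeleta -/
def cskToFun (m : ℕ) (p : SimplexCategory) (x : X.CskPt (m + 1) p) : X.CskPt m p :=
  ⟨(x.1.1, fun a f => x.1.2 (ixS a) f), fun a f => x.2.1 (ixS a) f,
    fun a b ψ f => x.2.2 (ixS a) (ixS b) ψ f⟩

lemma continuous_cskToFun (m : ℕ) (p : SimplexCategory) : Continuous (X.cskToFun m p) :=
  continuous_mk _ (continuous_base (m + 1) p)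
    (fun a f => continuous_coord (m + 1) p (ixS a) f)

/-- the transition maps of the tower of coskeleta -/
def cskTo (m : ℕ) (p : SimplexCategory) : X.CskT (m + 1) p ⟶ X.CskT m p :=
  TopCat.ofHom ⟨X.cskToFun m p, X.continuous_cskToFun m p⟩

lemma cskTo_nat (m : ℕ) {p p' : SimplexCategory} (θ : p' ⟶ p) (x : X.CskPt (m + 1) p) :
    X.cskTo m p' ((X.Csk (m + 1)).mp θ x) = (X.Csk m).mp θ (X.cskTo m p x) := rfl

lemma cskTo_toCsk (m : ℕ) (p : SimplexCategory) (w : X.Lv p) :
    X.cskTo m p (X.toCsk (m + 1) p w) = X.toCsk m p w := rfl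

/-! ### degenerate simplices are determined by the lower coskeleton -/

lemma mono_of_len_zero {a p : SimplexCategory} (h : a.len = 0) (g : a ⟶ p) : Mono g := by
  rw [SimplexCategory.mono_iff_injective]
  intro x y _
  have : Subsingleton (Fin (a.len + 1)) := Fin.subsingleton_iff_le_one.2 (by omega)
  exact Subsingleton.elim x y

lemma eq_of_not_mono (m : ℕ) (p : SimplexCategory) (z z' : X.CskPt (m + 1) p)
    (h : X.cskToFun m p z = X.cskToFun m p z') (a : SimplexCategory) (ha : a.len < m + 1)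
    (g : a ⟶ p) (hg : ¬ Mono g) : z.1.2 ⟨a, ha⟩ g = z'.1.2 ⟨a, ha⟩ g := by
  induction a using SimplexCategory.rec with
  | _ n =>
    cases n with
    | zero => exact absurd (mono_of_len_zero rfl g) hg
    | succ n =>
      rw [SimplexCategory.mono_iff_injective] at hg
      obtain ⟨i, g', rfl⟩ := SimplexCategory.eq_σ_comp_of_not_injective g hg
      have hn : (⦋n⦌ : SimplexCategory).len < m := by
        have h1 : (⦋n + 1⦌ : SimplexCategory).len = n + 1 := rfl
        have h2 : (⦋n⦌ : SimplexCategory).len = n := rfl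
        omega
      have e1 := z.2.2 (ixS ⟨⦋n⦌, hn⟩) ⟨⦋n + 1⦌, ha⟩ (SimplexCategory.σ i) g'
      have e2 := z'.2.2 (ixS ⟨⦋n⦌, hn⟩) ⟨⦋n + 1⦌, ha⟩ (SimplexCategory.σ i) g'
      have e3 : z.1.2 (ixS ⟨⦋n⦌, hn⟩) g' = z'.1.2 (ixS ⟨⦋n⦌, hn⟩) g' :=
        congrArg (fun y : X.CskPt m p => y.1.2 ⟨⦋n⦌, hn⟩ g') h
      rw [← e1, ← e2, e3]

/-! ### the canonical value of a compatible family at a map factoring through low dimension -/

lemma len_image_le {a p : SimplexCategory} (f : a ⟶ p) : (image f).len ≤ a.len :=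
  SimplexCategory.len_le_of_epi (factorThruImage f)

lemma len_image_le' {a p : SimplexCategory} (f : a ⟶ p) : (image f).len ≤ p.len :=
  SimplexCategory.len_le_of_mono (image.ι f)

lemma len_image_lt {a p : SimplexCategory} (f : a ⟶ p) (hf : ¬ Mono f) :
    (image f).len < a.len := by
  refine lt_of_le_of_ne (len_image_le f) (fun h => hf ?_)
  have h1 : IsIso (factorThruImage f) := (SimplexCategory.isIso_iff_of_epi _).2 h.symm
  have h2 : f = factorThruImage f ≫ image.ι f := (image.fac f).symm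
  rw [h2]
  infer_instance

lemma len_image_eq_of_mono {a p : SimplexCategory} (f : a ⟶ p) [Mono f] :
    (image f).len = a.len := by
  have : Mono (factorThruImage f ≫ image.ι f) := by
    rw [image.fac]
    infer_instance
  have : Mono (factorThruImage f) := mono_of_mono _ (image.ι f)
  exact le_antisymm (len_image_le f) (SimplexCategory.len_le_of_mono (factorThruImage f))

variable {X}

/-- the value at an epi-mono factorisation only depends on the composite -/
lemma cn_eq {m : ℕ} {p : SimplexCategory} (b : X.CskPt m p) {a d : SimplexCategory} (φ : a ⟶ p)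
    (e : a ⟶ d) [Epi e] (i : d ⟶ p) [Mono i] (fac : e ≫ i = φ) (hd : d.len < m) :
    ∃ h : (image φ).len < m,
      X.mp e (b.1.2 ⟨d, hd⟩ i) =
        X.mp (factorThruImage φ) (b.1.2 ⟨image φ, h⟩ (image.ι φ)) := by
  have h := SimplexCategory.image_eq fac
  subst h
  refine ⟨hd, ?_⟩
  rw [SimplexCategory.image_ι_eq fac, SimplexCategory.factorThruImage_eq fac]

/-- the value at any factorisation through low dimension only depends on the composite -/
lemma cn_eq' {m : ℕ} {p : SimplexCategory} (b : X.CskPt m p) {a d : SimplexCategory} (φ : a ⟶ p)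
    (e : a ⟶ d) (i : d ⟶ p) (fac : e ≫ i = φ) (hd : d.len < m) :
    ∃ h : (image φ).len < m,
      X.mp e (b.1.2 ⟨d, hd⟩ i) =
        X.mp (factorThruImage φ) (b.1.2 ⟨image φ, h⟩ (image.ι φ)) := by
  have h1 : (image i).len < m := lt_of_le_of_lt (len_image_le i) hd
  have e1 : b.1.2 ⟨d, hd⟩ i =
      X.mp (factorThruImage i) (b.1.2 ⟨image i, h1⟩ (image.ι i)) := by
    rw [b.2.2 ⟨image i, h1⟩ ⟨d, hd⟩ (factorThruImage i) (image.ι i)]
    exact congrArg (fun g => b.1.2 ⟨d, hd⟩ g) (image.fac i).symm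
  let k : a ⟶ image i := e ≫ factorThruImage i
  have h2 : (image k).len < m := lt_of_le_of_lt (len_image_le' k) h1
  have e2 : X.mp e (b.1.2 ⟨d, hd⟩ i) =
      X.mp (factorThruImage k) (b.1.2 ⟨image k, h2⟩ (image.ι k ≫ image.ι i)) := by
    rw [e1, ← X.mp_comp e (factorThruImage i),
      X.mp_congr (image.fac k).symm, X.mp_comp (factorThruImage k) (image.ι k),
      b.2.2 ⟨image i, h1⟩ ⟨image k, h2⟩ (image.ι k) (image.ι i)]
  have fac' : factorThruImage k ≫ (image.ι k ≫ image.ι i) = φ := by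
    rw [← Category.assoc, image.fac k, Category.assoc, image.fac i, fac]
  obtain ⟨h, e3⟩ := cn_eq b φ (factorThruImage k) (image.ι k ≫ image.ι i) fac' h2
  exact ⟨h, e2.trans e3⟩

end SimpS

end Groth.Agent.Lib.Helper5.CskTower
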