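import Groth.Agent.Lib.Helper5.CskTower

/-!
# The transition maps of the tower of coskeleta are universally of cohomological descent

If `X_m ⟶ (cosk_{m-1} X)_m` is universally of cohomological descent, then so are all the maps
`(cosk_m X)_p ⟶ (cosk_{m-1} X)_p`: an iterated fibre product of base changes of the former maps to
the source over the target.
-/

set_option autoImplicit false

universe u

open CategoryTheory CategoryTheory.Limits Opposite TopologicalSpace Topology Simplicial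
open FibDesc

noncomputable section

namespace Groth.Agent.Lib.Helper5.CskTower

open Groth.Agent.Lib.Helper5.DSite Groth.Agent.Lib.Helper5.DPull
  Groth.Agent.Lib.Helper5.DeltaSite Groth.Agent.Lib.Helper5.UnivDesc

namespace SimpS

variable {S : TopCat.{u}} (X : SimpS S) (m : ℕ) (p : SimplexCategory)

lemma isUnivCohDescentMap_id (T : TopCat.{u}) : IsUnivCohDescentMap (𝟙 T) :=
  Groth.Agent.Lib.Helper5.SecCech.isUnivCohDescentMap_of_section (𝟙 T) (𝟙 T) (Category.id_comp _)

/-- the iterated fibre product of the base changes -/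
lemma exists_PL (hv : IsUnivCohDescentMap (X.toCsk m ⦋m⦌)) (L : List (⦋m⦌ ⟶ p)) :
    ∃ (P : TopCat.{u}) (q : P ⟶ X.CskT m p) (c : ∀ f, f ∈ L → (P ⟶ X.Lv ⦋m⦌)),
      IsUnivCohDescentMap q ∧
        ∀ f (hf : f ∈ L), c f hf ≫ X.toCsk m ⦋m⦌ = q ≫ (X.Csk m).mp f := by
  classical
  induction L with
  | nil =>
    exact ⟨X.CskT m p, 𝟙 _, fun f hf => absurd hf List.not_mem_nil, isUnivCohDescentMap_id _,
      fun f hf => absurd hf List.not_mem_nil⟩
  | cons f₀ L ih =>
    obtain ⟨P, q, c, hq, hc⟩ := ih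
    let t₀ : P ⟶ X.CskT m ⦋m⦌ := q ≫ (X.Csk m).mp f₀
    have h1 : IsUnivCohDescentMap (pullback.snd (X.toCsk m ⦋m⦌) t₀) :=
      isUnivCohDescentMap_of_isPullback (IsPullback.of_hasPullback (X.toCsk m ⦋m⦌) t₀) hv
    refine ⟨pullback (X.toCsk m ⦋m⦌) t₀, pullback.snd (X.toCsk m ⦋m⦌) t₀ ≫ q,
      fun f hf => if h : f = f₀ then pullback.fst (X.toCsk m ⦋m⦌) t₀
        else pullback.snd (X.toCsk m ⦋m⦌) t₀ ≫ c f ((List.mem_cons.1 hf).resolve_left h),
      isUnivCohDescentMap_comp _ _ h1 hq, ?_⟩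
    intro f hf
    dsimp only
    by_cases h : f = f₀
    · subst h
      rw [dif_pos rfl, Category.assoc]
      exact pullback.condition
    · rw [dif_neg h, Category.assoc, Category.assoc, hc]
      rfl

section lift

variable {X m p}
variable {P : TopCat.{u}} (q : P ⟶ X.CskT m p) (c : (⦋m⦌ ⟶ p) → (P ⟶ X.Lv ⦋m⦌))
  (hc : ∀ f, c f ≫ X.toCsk m ⦋m⦌ = q ≫ (X.Csk m).mp f)

include hc in
lemma c_base (f : ⦋m⦌ ⟶ p) (t : P) : X.π ⦋m⦌ (c f t) = ((q t : X.CskPt m p)).1.1 :=
  congrArg (fun y : X.CskPt m ⦋m⦌ => y.1.1) (ConcreteCategory.congr_hom (hc f) t)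

include hc in
lemma c_coord (f : ⦋m⦌ ⟶ p) (t : P) (a' : Ix m) (ψ : a'.1 ⟶ ⦋m⦌) :
    X.mp ψ (c f t) = ((q t : X.CskPt m p)).1.2 a' (ψ ≫ f) :=
  congrArg (fun y : X.CskPt m ⦋m⦌ => y.1.2 a' ψ) (ConcreteCategory.congr_hom (hc f) t)

lemma eq_mk_of_len {a : SimplexCategory} (h : a.len = m) : a = ⦋m⦌ :=
  SimplexCategory.ext h

/-- the new simplices, indexed by all objects of dimension `m` -/
def cAt (a : SimplexCategory) (h : a.len = m) (f : a ⟶ p) : P ⟶ X.Lv a :=
  c (eqToHom (eq_mk_of_len h).symm ≫ f) ≫ X.mp (eqToHom (eq_mk_of_len h))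

include hc in
lemma cAt_base (a : SimplexCategory) (h : a.len = m) (f : a ⟶ p) (t : P) :
    X.π a (cAt c a h f t) = ((q t : X.CskPt m p)).1.1 := by
  obtain rfl := eq_mk_of_len h
  exact (X.hπ _ _).trans (c_base q c hc _ t)

include hc in
lemma cAt_coord (a : SimplexCategory) (h : a.len = m) (f : a ⟶ p) (t : P) (a' : Ix m)
    (ψ : a'.1 ⟶ a) : X.mp ψ (cAt c a h f t) = ((q t : X.CskPt m p)).1.2 a' (ψ ≫ f) := by
  obtain rfl := eq_mk_of_len h
  have e1 : cAt c ⦋m⦌ h f t = c f t := by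
    change X.mp (eqToHom _) (c (eqToHom _ ≫ f) t) = c f t
    rw [eqToHom_refl, X.mp_id, Category.id_comp]
  rw [e1]
  exact c_coord q c hc f t a' ψ

lemma lt_low (a : Ix (m + 1)) (f : a.1 ⟶ p) (hM : ¬ (Mono f ∧ a.1.len = m)) :
    (image f).len < m := by
  have ha := a.2
  by_cases hf : Mono f
  · have h1 : a.1.len ≠ m := fun h => hM ⟨hf, h⟩
    have h2 := len_image_le f
    omega
  · have h2 := len_image_lt f hf
    omega

open Classical in
/-- the family of simplices attached to a point of the iterated fibre product -/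
def famG (t : P) (a : Ix (m + 1)) (f : a.1 ⟶ p) : X.Lv a.1 :=
  if hM : Mono f ∧ a.1.len = m then cAt c a.1 hM.2 f t
  else X.mp (factorThruImage f)
    (((q t : X.CskPt m p)).1.2 ⟨image f, lt_low a f hM⟩ (image.ι f))

lemma famG_pos (t : P) (a : Ix (m + 1)) (f : a.1 ⟶ p) (hM : Mono f ∧ a.1.len = m) :
    famG q c t a f = cAt c a.1 hM.2 f t := dif_pos hM

lemma famG_neg (t : P) (a : Ix (m + 1)) (f : a.1 ⟶ p) (hM : ¬ (Mono f ∧ a.1.len = m)) :
    famG q c t a f = X.mp (factorThruImage f)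
      (((q t : X.CskPt m p)).1.2 ⟨image f, lt_low a f hM⟩ (image.ι f)) := dif_neg hM

lemma famG_low (t : P) (a : Ix (m + 1)) (f : a.1 ⟶ p) (h : (image f).len < m) :
    famG q c t a f = X.mp (factorThruImage f)
      (((q t : X.CskPt m p)).1.2 ⟨image f, h⟩ (image.ι f)) := by
  have hM : ¬ (Mono f ∧ a.1.len = m) := by
    rintro ⟨h1, h2⟩
    have := len_image_eq_of_mono f
    omega
  exact famG_neg q c t a f hM

include hc in
lemma famG_base (t : P) (a : Ix (m + 1)) (f : a.1 ⟶ p) :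
    X.π a.1 (famG q c t a f) = ((q t : X.CskPt m p)).1.1 := by
  by_cases hM : Mono f ∧ a.1.len = m
  · rw [famG_pos q c t a f hM]
    exact cAt_base q c hc a.1 hM.2 f t
  · rw [famG_neg q c t a f hM]
    exact (X.hπ _ _).trans ((q t : X.CskPt m p).2.1 ⟨image f, lt_low a f hM⟩ (image.ι f))

include hc in
lemma famG_compat (t : P) (a b : Ix (m + 1)) (ψ : b.1 ⟶ a.1) (f : a.1 ⟶ p) :
    X.mp ψ (famG q c t a f) = famG q c t b (ψ ≫ f) := by
  by_cases hM : Mono f ∧ a.1.len = m
  · rw [famG_pos q c t a f hM]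
    by_cases hM' : Mono (ψ ≫ f) ∧ b.1.len = m
    · obtain ⟨a, ha⟩ := a
      obtain ⟨b, hb⟩ := b
      have hab : b = a := SimplexCategory.ext (hM'.2.trans hM.2.symm)
      subst hab
      have := hM'.1
      have : Mono ψ := mono_of_mono ψ f
      have hψ : ψ = 𝟙 _ := SimplexCategory.eq_id_of_mono ψ
      subst hψ
      rw [X.mp_id, famG_pos q c t ⟨b, hb⟩ (𝟙 _ ≫ f) hM']
      exact congrArg (fun g => (cAt c b hM.2 g) t) (Category.id_comp f).symm
    · have := hM.1
      have hlow : (image ψ).len < m := by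
        have hb := b.2
        by_cases hψ : Mono ψ
        · have h1 : b.1.len ≠ m := fun h => hM' ⟨mono_comp ψ f, h⟩
          have h2 := len_image_le ψ
          omega
        · have h2 := len_image_lt ψ hψ
          omega
      have e1 : X.mp ψ (cAt c a.1 hM.2 f t) =
          X.mp (factorThruImage ψ)
            (((q t : X.CskPt m p)).1.2 ⟨image ψ, hlow⟩ (image.ι ψ ≫ f)) := by
        rw [X.mp_congr (image.fac ψ).symm, X.mp_comp,
          cAt_coord q c hc a.1 hM.2 f t ⟨image ψ, hlow⟩ (image.ι ψ)]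
      obtain ⟨h, e2⟩ := cn_eq' (q t : X.CskPt m p) (ψ ≫ f) (factorThruImage ψ)
        (image.ι ψ ≫ f) (by rw [← Category.assoc, image.fac]) hlow
      rw [e1, e2, famG_low q c t b (ψ ≫ f) h]
  · rw [famG_neg q c t a f hM, ← X.mp_comp]
    obtain ⟨h, e2⟩ := cn_eq' (q t : X.CskPt m p) (ψ ≫ f) (ψ ≫ factorThruImage f)
      (image.ι f) (by rw [Category.assoc, image.fac]) (lt_low a f hM)
    rw [e2, famG_low q c t b (ψ ≫ f) h]

/-- the lift to the next coskeleton -/
def gFun (t : P) : X.CskPt (m + 1) p :=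
  ⟨(((q t : X.CskPt m p)).1.1, famG q c t), fun a f => famG_base q c hc t a f,
    fun a b ψ f => famG_compat q c hc t a b ψ f⟩

lemma continuous_gFun : Continuous (gFun q c hc) := by
  refine continuous_mk _ ((continuous_base m p).comp q.hom.continuous) (fun a f => ?_)
  by_cases hM : Mono f ∧ a.1.len = m
  · have e : (fun t => ((gFun q c hc t).1.2 a f : X.Lv a.1)) = fun t => cAt c a.1 hM.2 f t :=
      funext fun t => famG_pos q c t a f hM
    rw [e]
    exact (cAt c a.1 hM.2 f).hom.continuous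
  · have e : (fun t => ((gFun q c hc t).1.2 a f : X.Lv a.1)) = fun t =>
        X.mp (factorThruImage f)
          (((q t : X.CskPt m p)).1.2 ⟨image f, lt_low a f hM⟩ (image.ι f)) :=
      funext fun t => famG_neg q c t a f hM
    rw [e]
    exact (X.mp (factorThruImage f)).hom.continuous.comp
      ((continuous_coord m p ⟨image f, lt_low a f hM⟩ (image.ι f)).comp q.hom.continuous)

/-- the lift to the next coskeleton -/
def gLift : P ⟶ X.CskT (m + 1) p := TopCat.ofHom ⟨gFun q c hc, continuous_gFun q c hc⟩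

lemma gLift_cskTo : gLift q c hc ≫ X.cskTo m p = q := by
  refine ConcreteCategory.hom_ext _ _ (fun t => ?_)
  refine csk_ext (X := X) (m := m) (p := p) _ _ rfl (fun a f => ?_)
  have hM : ¬ (Mono f ∧ (ixS a).1.len = m) := by
    rintro ⟨-, h2⟩
    have h3 := a.2
    have h4 : (ixS a).1.len = a.1.len := rfl
    omega
  change famG q c t (ixS a) f = _
  rw [famG_neg q c t (ixS a) f hM]
  have h1 : (image f).len < m := lt_low (ixS a) f hM
  rw [(q t : X.CskPt m p).2.2 ⟨image f, h1⟩ a (factorThruImage f) (image.ι f)]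
  exact congrArg (fun g => ((q t : X.CskPt m p)).1.2 a g) (image.fac f)

end lift

instance finite_hom (a b : SimplexCategory) : Finite (a ⟶ b) :=
  Finite.of_injective (fun f : a ⟶ b => (f.toOrderHom : Fin (a.len + 1) → Fin (b.len + 1)))
    (fun f g h => SimplexCategory.Hom.ext _ _ (OrderHom.ext _ _ h))

/-- **the transition maps of the tower of coskeleta are universally of cohomological descent** -/
theorem isUnivCohDescentMap_cskTo (hv : IsUnivCohDescentMap (X.toCsk m ⦋m⦌)) :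
    IsUnivCohDescentMap (X.cskTo m p) := by
  obtain ⟨L, -, hL⟩ := Finite.exists_univ_list (⦋m⦌ ⟶ p)
  obtain ⟨P, q, c, hq, hc⟩ := X.exists_PL m p hv L
  have hc' : ∀ f, c f (hL f) ≫ X.toCsk m ⦋m⦌ = q ≫ (X.Csk m).mp f := fun f => hc f (hL f)
  refine isUnivCohDescentMap_of_comp (gLift q (fun f => c f (hL f)) hc') (X.cskTo m p) ?_
  rw [gLift_cskTo]
  exact hq

end SimpS

end Groth.Agent.Lib.Helper5.CskTower
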