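import Groth.Prelude.Def_DeltaF
import Mathlib.Algebra.Homology.HomologySequenceLemmas

/-!
# The δ-functor attached to an exact functor into cochain complexes

If `Φ : A ⥤ CochainComplex B ℤ` is additive and sends short exact sequences to short exact
sequences of complexes, then `n ↦ H^n ∘ Φ` is a cohomological δ-functor.
-/

set_option autoImplicit false

universe v u v' u'

open CategoryTheory CategoryTheory.Limits

noncomputable section

namespace Groth.Agent.Lib.Helper5.CxDelta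

variable {A : Type u} [Category.{v} A] [Abelian A] {B : Type u'} [Category.{v'} B] [Abelian B]
  (Φ : A ⥤ CochainComplex B ℤ) [Φ.Additive]
  (hΦ : ∀ S : ShortComplex A, S.ShortExact → (S.map Φ).ShortExact)

/-- The δ-functor `n ↦ H^n ∘ Φ`. -/
def cxDelta : DeltaF.CohDeltaFunctor A B ℕ where
  F n := Φ ⋙ HomologicalComplex.homologyFunctor B (ComplexShape.up ℤ) (n : ℤ)
  additive n := inferInstance
  δ S hS n₀ n₁ h := (hΦ S hS).δ (n₀ : ℤ) (n₁ : ℤ) (by subst h; simp)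
  δ_natural {S S'} hS hS' φ n₀ n₁ h :=
    (HomologicalComplex.HomologySequence.δ_naturality (Φ.mapShortComplex.map φ) (hΦ S hS)
      (hΦ S' hS') (n₀ : ℤ) (n₁ : ℤ) (by subst h; simp)).symm
  exact₂ S hS n := (hΦ S hS).homology_exact₂ (n : ℤ)
  comp_δ S hS n₀ n₁ h := (hΦ S hS).comp_δ (n₀ : ℤ) (n₁ : ℤ) (by subst h; simp)
  exact₃ S hS n₀ n₁ h := (hΦ S hS).homology_exact₃ (n₀ : ℤ) (n₁ : ℤ) (by subst h; simp)
  δ_comp S hS n₀ n₁ h := (hΦ S hS).δ_comp (n₀ : ℤ) (n₁ : ℤ) (by subst h; simp)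
  exact₁ S hS n₀ n₁ h := (hΦ S hS).homology_exact₁ (n₀ : ℤ) (n₁ : ℤ) (by subst h; simp)

lemma cxDelta_F (n : ℕ) : (cxDelta Φ hΦ).F n =
    Φ ⋙ HomologicalComplex.homologyFunctor B (ComplexShape.up ℤ) (n : ℤ) := rfl

end Groth.Agent.Lib.Helper5.CxDelta
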