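import Groth.Agent.Lib.Helper5.SubspaceSect
import Groth.Agent.Lib.Helper5.TopSS
import Groth.Agent.Lib.Lead.ExactB

/-!
# Sections of products of abelian sheaves, local criteria, locally finite products

* `secπ`, `sec_ext`, `exists_sec`: sections of a product of sheaves are families of sections;
* `LocIm f t`: the section `t` is locally in the image of `f`; `epi_of_locIm`, `exact_of_locIm` and
  their converses;
* `locIm_pi_map`: for a locally finite family of sheaves, a section of the product is locally in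
  the image of a product map as soon as its components are.
-/

set_option autoImplicit false

universe u

open CategoryTheory CategoryTheory.Limits TopologicalSpace Opposite

noncomputable section

namespace Groth.Agent.Lib.Helper5.LFProd

open Groth.Agent.Lib.Helper5.PullStalk Groth.Agent.Lib.Helper5.SubspaceSect

variable {X : TopCat.{u}}

/-- the action of a morphism of sheaves on sections -/
abbrev ap {A B : CohTop.Ab X} (f : A ⟶ B) (V : Opens X) :
    A.obj.obj (op V) →+ B.obj.obj (op V) :=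
  (f.hom.app (op V)).hom

lemma ap_comp {A B C : CohTop.Ab X} (f : A ⟶ B) (g : B ⟶ C) (V : Opens X)
    (s : A.obj.obj (op V)) : ap (f ≫ g) V s = ap g V (ap f V s) := rfl

lemma ap_id {A : CohTop.Ab X} (V : Opens X) (s : A.obj.obj (op V)) : ap (𝟙 A) V s = s := rfl

lemma ap_rs {A B : CohTop.Ab X} (f : A ⟶ B) {W V : Opens X} (h : W ≤ V)
    (s : A.obj.obj (op V)) : ap f W (rs A h s) = rs B h (ap f V s) :=
  ConcreteCategory.congr_hom (f.hom.naturality (homOfLE h).op) s

/-- the action on sections, as an additive map in the morphism -/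
def apHom (A B : CohTop.Ab X) (V : Opens X) :
    (A ⟶ B) →+ (A.obj.obj (op V) →+ B.obj.obj (op V)) where
  toFun f := ap f V
  map_zero' := rfl
  map_add' _ _ := rfl

lemma apHom_apply {A B : CohTop.Ab X} (V : Opens X) (f : A ⟶ B) : apHom A B V f = ap f V := rfl

lemma ap_sum {A B : CohTop.Ab X} {κ : Type*} (s : Finset κ) (f : κ → (A ⟶ B)) (V : Opens X)
    (a : A.obj.obj (op V)) : ap (∑ k ∈ s, f k) V a = ∑ k ∈ s, ap (f k) V a := by
  rw [← apHom_apply, map_sum, AddMonoidHom.finset_sum_apply]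
  rfl

lemma ap_zsmul {A B : CohTop.Ab X} (n : ℤ) (f : A ⟶ B) (V : Opens X)
    (a : A.obj.obj (op V)) : ap (n • f) V a = n • ap f V a := by
  rw [← apHom_apply, map_zsmul, AddMonoidHom.smul_apply]
  rfl

lemma ap_zero {A B : CohTop.Ab X} (V : Opens X) (a : A.obj.obj (op V)) :
    ap (0 : A ⟶ B) V a = 0 := rfl

lemma hom_ext_ap {A B : CohTop.Ab X} (f g : A ⟶ B)
    (h : ∀ (V : Opens X) (s : A.obj.obj (op V)), ap f V s = ap g V s) : f = g := by
  apply CategoryTheory.Sheaf.hom_ext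
  ext V s
  exact h V.unop s

lemma mono_of_injective {A B : CohTop.Ab X} (f : A ⟶ B)
    (h : ∀ V : Opens X, Function.Injective (ap f V)) : Mono f := by
  haveI : ∀ V : (Opens X)ᵒᵖ, Mono (f.hom.app V) := fun V =>
    (AddCommGrpCat.mono_iff_injective _).2 (h V.unop)
  haveI : Mono f.hom := NatTrans.mono_of_mono_app _
  exact Sheaf.Hom.mono_of_presheaf_mono _ _ f

/-! ### Local images -/

/-- the section `t` is locally in the image of `f` -/
def LocIm {A B : CohTop.Ab X} (f : A ⟶ B) {V : Opens X} (t : B.obj.obj (op V)) : Prop :=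
  ∀ x ∈ V, ∃ (W : Opens X) (hW : W ≤ V), x ∈ W ∧ ∃ a : A.obj.obj (op W), ap f W a = rs B hW t

lemma epi_of_locIm {A B : CohTop.Ab X} (f : A ⟶ B)
    (h : ∀ (V : Opens X) (t : B.obj.obj (op V)), LocIm f t) : Epi f := by
  refine (TopCat.Sheaf.isLocallySurjective_iff_epi f).mp ?_
  rw [TopCat.Presheaf.isLocallySurjective_iff]
  intro V t x hx
  obtain ⟨W, hW, hxW, a, ha⟩ := h V t x hx
  exact ⟨W, hW, ⟨a, ha⟩, hxW⟩

lemma locIm_of_epi {A B : CohTop.Ab X} (f : A ⟶ B) [Epi f] {V : Opens X}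
    (t : B.obj.obj (op V)) : LocIm f t := by
  have hls := (TopCat.Presheaf.isLocallySurjective_iff f.hom).mp
    ((TopCat.Sheaf.isLocallySurjective_iff_epi f).mpr ‹Epi f›)
  intro x hx
  obtain ⟨W, hW, ⟨a, ha⟩, hxW⟩ := hls V t x hx
  exact ⟨W, hW, hxW, a, ha⟩

theorem exact_of_locIm (S : ShortComplex (CohTop.Ab X))
    (h : ∀ (V : Opens X) (t : S.X₂.obj.obj (op V)), ap S.g V t = 0 → LocIm S.f t) :
    S.Exact := by
  apply Groth.Agent.Lib.Lead.ExactB.exact_of_locExact
  intro V y hy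
  let R : Sieve V :=
    { arrows := fun W a => ∃ x : S.X₁.obj.obj (op W),
        S.f.hom.app (op W) x = S.X₂.obj.map a.op y
      downward_closed := by
        rintro W W' a ⟨x, hx⟩ b
        refine ⟨S.X₁.obj.map b.op x, ?_⟩
        rw [NatTrans.naturality_apply S.f.hom b.op x, hx, op_comp, Functor.map_comp]
        rfl }
  refine ⟨R, ?_, fun W a ha => ha⟩
  intro x hx
  obtain ⟨W, hW, hxW, a, ha⟩ := h V y hy x hx
  exact ⟨W, homOfLE hW, ⟨a, ha⟩, hxW⟩

theorem locIm_of_exact (S : ShortComplex (CohTop.Ab X)) (hS : S.Exact) {V : Opens X}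
    (t : S.X₂.obj.obj (op V)) (ht : ap S.g V t = 0) : LocIm S.f t := by
  haveI : Epi S.toCycles := S.exact_iff_epi_toCycles.1 hS
  obtain ⟨z, hz⟩ := Groth.Agent.Lib.Lead.ExactB.exists_cycle S (op V) t ht
  intro x hx
  obtain ⟨W, hW, hxW, a, ha⟩ := locIm_of_epi S.toCycles z x hx
  refine ⟨W, hW, hxW, a, ?_⟩
  have h1 : ap S.f W a = ap S.iCycles W (ap S.toCycles W a) := by
    rw [← ap_comp, S.toCycles_i]
  rw [h1, ha, ap_rs]
  exact congrArg _ hz

/-! ### Sections of products -/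

section Prod

variable {ι : Type u} (A : ι → CohTop.Ab X)

/-- the components of a section of a product -/
abbrev secπ (V : Opens X) (σ : ι) : (∏ᶜ A).obj.obj (op V) →+ (A σ).obj.obj (op V) :=
  ap (Pi.π A σ) V

lemma sec_ext {V : Opens X} (s t : (∏ᶜ A).obj.obj (op V))
    (h : ∀ σ, secπ A V σ s = secπ A V σ t) : s = t := by
  have hl := isLimitOfPreserves (TopSS.ΓV V) (productIsProduct A)
  refine Concrete.isLimit_ext _ hl s t ?_
  rintro ⟨σ⟩
  exact h σ

lemma exists_sec {V : Opens X} (s : ∀ σ, (A σ).obj.obj (op V)) :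
    ∃ t : (∏ᶜ A).obj.obj (op V), ∀ σ, secπ A V σ t = s σ := by
  have hl := isLimitOfPreserves (TopSS.ΓV V) (productIsProduct A)
  let c : Cone (Discrete.functor A ⋙ TopSS.ΓV V) :=
    { pt := AddCommGrpCat.of (∀ σ, (A σ).obj.obj (op V))
      π := Discrete.natTrans (fun σ => AddCommGrpCat.ofHom (Pi.evalAddMonoidHom _ σ.as)) }
  refine ⟨(hl.lift c).hom s, fun σ => ?_⟩
  exact ConcreteCategory.congr_hom (hl.fac c ⟨σ⟩) s

lemma secπ_rs {W V : Opens X} (h : W ≤ V) (σ : ι) (s : (∏ᶜ A).obj.obj (op V)) :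
    secπ A W σ (rs _ h s) = rs _ h (secπ A V σ s) := ap_rs _ h s

variable {A}

lemma secπ_map {B : ι → CohTop.Ab X} (f : ∀ σ, A σ ⟶ B σ) (V : Opens X) (σ : ι)
    (s : (∏ᶜ A).obj.obj (op V)) :
    secπ B V σ (ap (Limits.Pi.map f) V s) = ap (f σ) V (secπ A V σ s) := by
  rw [← ap_comp, ← ap_comp, Limits.Pi.map_π]

lemma secπ_lift {C : CohTop.Ab X} (f : ∀ σ, C ⟶ A σ) (V : Opens X) (σ : ι)
    (s : C.obj.obj (op V)) :
    secπ A V σ (ap (Limits.Pi.lift f) V s) = ap (f σ) V s := by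
  rw [← ap_comp, Limits.Pi.lift_π]

end Prod

/-! ### Finite intersections of opens -/

/-- a finite intersection of opens -/
def finInter {κ : Type*} (S : Set κ) (hS : S.Finite) (N : κ → Opens X) : Opens X :=
  ⟨⋂ σ ∈ S, (N σ : Set X), hS.isOpen_biInter fun σ _ => (N σ).isOpen⟩

lemma mem_finInter {κ : Type*} {S : Set κ} {hS : S.Finite} {N : κ → Opens X} {x : X} :
    x ∈ finInter S hS N ↔ ∀ σ ∈ S, x ∈ N σ := Set.mem_iInter₂

lemma finInter_le {κ : Type*} {S : Set κ} {hS : S.Finite} {N : κ → Opens X} {σ : κ}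
    (hσ : σ ∈ S) : finInter S hS N ≤ N σ := fun _ hx => mem_finInter.1 hx σ hσ

/-! ### Locally finite families -/

/-- `B` has no nonzero sections over opens contained in `W` -/
def TrivOn (B : CohTop.Ab X) (W : Opens X) : Prop :=
  ∀ V : Opens X, V ≤ W → Subsingleton (B.obj.obj (op V))

/-- a locally finite family of sheaves -/
def LocFin {ι : Type u} (B : ι → CohTop.Ab X) : Prop :=
  ∀ x : X, ∃ W : Opens X, x ∈ W ∧ {σ | ¬ TrivOn (B σ) W}.Finite

theorem locIm_pi_map {ι : Type u} {A B : ι → CohTop.Ab X} (f : ∀ σ, A σ ⟶ B σ)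
    (hB : LocFin B) {V : Opens X} (t : (∏ᶜ B).obj.obj (op V))
    (h : ∀ σ, LocIm (f σ) (secπ B V σ t)) : LocIm (Limits.Pi.map f) t := by
  classical
  intro x hx
  obtain ⟨W, hxW, hfin⟩ := hB x
  choose Wσ hWσ hxWσ aσ haσ using fun σ => h σ x hx
  let V' : Opens X := W ⊓ V ⊓ finInter _ hfin Wσ
  have hV'V : V' ≤ V := inf_le_left.trans inf_le_right
  have hV'W : V' ≤ W := inf_le_left.trans inf_le_left
  have hV'σ : ∀ σ, σ ∈ {σ | ¬ TrivOn (B σ) W} → V' ≤ Wσ σ := fun σ hσ =>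
    inf_le_right.trans (finInter_le hσ)
  obtain ⟨a, ha⟩ := exists_sec A (V := V') (fun σ =>
    if hσ : σ ∈ {σ | ¬ TrivOn (B σ) W} then rs (A σ) (hV'σ σ hσ) (aσ σ) else 0)
  refine ⟨V', hV'V, ⟨⟨hxW, hx⟩, mem_finInter.2 fun σ _ => hxWσ σ⟩, a, ?_⟩
  apply sec_ext
  intro σ
  rw [secπ_map, ha, secπ_rs]
  by_cases hσ : σ ∈ {σ | ¬ TrivOn (B σ) W}
  · rw [dif_pos hσ, ap_rs, haσ, rs_rs]
  · have htriv : TrivOn (B σ) W := not_not.1 hσ
    haveI := htriv V' hV'W
    exact Subsingleton.elim _ _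

theorem epi_pi_map {ι : Type u} {A B : ι → CohTop.Ab X} (f : ∀ σ, A σ ⟶ B σ)
    (hB : LocFin B) (hf : ∀ σ, Epi (f σ)) : Epi (Limits.Pi.map f) :=
  epi_of_locIm _ fun _ t => locIm_pi_map f hB t fun σ => locIm_of_epi (f σ) _

theorem exact_pi_map {ι : Type u} (S : ι → ShortComplex (CohTop.Ab X))
    (hB : LocFin fun σ => (S σ).X₂) (hS : ∀ σ, (S σ).Exact) :
    (ShortComplex.mk (Limits.Pi.map fun σ => (S σ).f) (Limits.Pi.map fun σ => (S σ).g)
      (by
        apply Limits.Pi.hom_ext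
        intro σ
        simp)).Exact := by
  apply exact_of_locIm
  intro V t ht
  refine locIm_pi_map (fun σ => (S σ).f) hB t fun σ => ?_
  apply locIm_of_exact (S σ) (hS σ)
  have h1 := congrArg (secπ (fun σ => (S σ).X₃) V σ) ht
  rw [map_zero] at h1
  rw [← h1]
  exact (secπ_map (fun σ => (S σ).g) V σ t).symm

end Groth.Agent.Lib.Helper5.LFProd
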