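import Groth.Agent.Lib.Helper5.ColimTopGen
import Groth.Agent.Lib.Helper5.LFProd

/-!
# The class of abelian sheaves with vanishing cohomology above a given degree

* `V d F`: `H^p(X, F) = 0` for all `p > d`; closure under isomorphisms, extensions, quotients by
  members (two-out-of-three in the long exact sequence) and filtered colimits (on a compact
  quasi-separated prespectral space);
* `W d F`: every quotient of `F` belongs to `V d`; closure under quotients, extensions, finite
  biproducts.
-/

set_option autoImplicit false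

universe u

open CategoryTheory CategoryTheory.Limits TopologicalSpace Opposite CategoryTheory.Abelian

noncomputable section

namespace Groth.Agent.Lib.Helper5.VClass

variable {X : TopCat.{u}}

/-- cohomology vanishes above degree `d` -/
def V (d : ℕ) (F : CohTop.Ab X) : Prop := ∀ p : ℕ, d < p → Subsingleton (CohTop.H F p)

variable {d : ℕ}

lemma V_of_iso {F G : CohTop.Ab X} (e : F ≅ G) (h : V d F) : V d G := by
  intro p hp
  have := h p hp
  refine subsingleton_of_forall_eq 0 fun x => ?_
  have h1 : x = Sheaf.H.map e.hom p (Sheaf.H.map e.inv p x) := by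
    rw [← Sheaf.H.map_comp_apply, e.inv_hom_id, Sheaf.H.map_id_apply]
  rw [h1, Subsingleton.elim (Sheaf.H.map e.inv p x) 0, map_zero]

lemma V_of_isZero {F : CohTop.Ab X} (h : IsZero F) : V d F := by
  intro p hp
  refine subsingleton_of_forall_eq 0 fun x => ?_
  have h1 : x = Sheaf.H.map (𝟙 F) p x := (Sheaf.H.map_id_apply x).symm
  rw [h1, h.eq_of_src (𝟙 F) 0, Sheaf.H.map_apply, Ext.mk₀_zero, Ext.comp_zero]

lemma V_of_shortExact₂ {S : ShortComplex (CohTop.Ab X)} (hS : S.ShortExact)
    (h1 : V d S.X₁) (h3 : V d S.X₃) : V d S.X₂ := by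
  intro p hp
  have := h1 p hp
  have := h3 p hp
  refine subsingleton_of_forall_eq 0 fun x => ?_
  have hx : x.comp (Ext.mk₀ S.g) (add_zero p) = 0 := Subsingleton.elim _ _
  obtain ⟨y, rfl⟩ := Ext.covariant_sequence_exact₂ _ hS x hx
  rw [Subsingleton.elim y 0, Ext.zero_comp]

lemma V_of_shortExact₃ {S : ShortComplex (CohTop.Ab X)} (hS : S.ShortExact)
    (h1 : V d S.X₁) (h2 : V d S.X₂) : V d S.X₃ := by
  intro p hp
  have := h1 (p + 1) (by omega)
  have := h2 p hp
  refine subsingleton_of_forall_eq 0 fun x => ?_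
  have hx : x.comp hS.extClass (rfl : p + 1 = p + 1) = 0 := Subsingleton.elim _ _
  obtain ⟨y, rfl⟩ := Ext.covariant_sequence_exact₃ _ hS x rfl hx
  rw [Subsingleton.elim y 0, Ext.zero_comp]

lemma V_of_isColimit [CompactSpace X] [QuasiSeparatedSpace X] [PrespectralSpace X]
    {K : Type u} [SmallCategory K] [IsFiltered K] {F : K ⥤ CohTop.Ab X} (c : Cocone F)
    (hc : IsColimit c) (h : ∀ i, V d (F.obj i)) : V d c.pt := by
  intro p hp
  refine subsingleton_of_forall_eq 0 fun x => ?_
  obtain ⟨i, y, rfl⟩ := Groth.Agent.Lib.Helper5.ColimTopGen.H_rep c hc p x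
  have := h i p hp
  rw [Subsingleton.elim y 0, map_zero]

/-! ### Sheaves all of whose quotients have vanishing cohomology above degree `d` -/

/-- every quotient of `F` has vanishing cohomology above degree `d` -/
def W (d : ℕ) (F : CohTop.Ab X) : Prop :=
  ∀ (G : CohTop.Ab X) (q : F ⟶ G), Epi q → V d G

lemma W.toV {F : CohTop.Ab X} (h : W d F) : V d F := h F (𝟙 F) inferInstance

lemma W_of_epi {F F' : CohTop.Ab X} (π : F ⟶ F') [Epi π] (h : W d F) : W d F' :=
  fun G q hq => by
    have := hq
    exact h G (π ≫ q) (epi_comp _ _)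

lemma W_of_isZero {F : CohTop.Ab X} (h : IsZero F) : W d F := by
  intro G q hq
  have := hq
  apply V_of_isZero
  rw [IsZero.iff_id_eq_zero, ← cancel_epi q, Category.comp_id, comp_zero]
  exact h.eq_of_src _ _

lemma W_ext {S : ShortComplex (CohTop.Ab X)} (hS : S.ShortExact)
    (h1 : W d S.X₁) (h3 : W d S.X₃) : W d S.X₂ := by
  intro G q hq
  have := hq
  have := hS.epi_g
  let φ : S.X₁ ⟶ G := S.f ≫ q
  let ι : Abelian.image φ ⟶ G := Abelian.image.ι φ
  let e : S.X₁ ⟶ Abelian.image φ := Abelian.factorThruImage φ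
  have he : e ≫ ι = φ := Abelian.image.fac φ
  have hV1 : V d (Abelian.image φ) := h1 _ e inferInstance
  let pq : G ⟶ cokernel ι := cokernel.π ι
  have hk : S.f ≫ (q ≫ pq) = 0 := by
    rw [← Category.assoc]
    change φ ≫ pq = 0
    calc φ ≫ pq = (e ≫ ι) ≫ pq := by rw [he]
      _ = 0 := by rw [Category.assoc, cokernel.condition, comp_zero]
  let r : S.X₃ ⟶ cokernel ι := hS.exact.desc (q ≫ pq) hk
  have hr : S.g ≫ r = q ≫ pq := hS.exact.g_desc _ hk
  have : Epi r := epi_of_epi_fac hr
  have hV3 : V d (cokernel ι) := h3 _ r inferInstance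
  have hT : (ShortComplex.mk ι pq (cokernel.condition ι)).ShortExact :=
    ShortComplex.ShortExact.mk' (ShortComplex.exact_cokernel ι) (inferInstance : Mono ι)
      (inferInstance : Epi pq)
  exact V_of_shortExact₂ hT hV1 hV3

lemma W_biprod {A B : CohTop.Ab X} (hA : W d A) (hB : W d B) : W d (A ⊞ B) :=
  W_ext (ShortComplex.Splitting.ofHasBinaryBiproduct A B).shortExact hA hB

end Groth.Agent.Lib.Helper5.VClass
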