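import Groth.Agent.Lib.Helper5.ZUSect
import Groth.Agent.Lib.Helper5.VClass
import Groth.Agent.Lib.Helper5.ColonArith

/-!
# Finitely presented cyclic quotients of `ℤ_U`

For an open `U` and a list `g` of generators `(V, n)` (an open and a multiplicity), `Cg U g` is
the quotient of `ℤ_U` by the subsheaf generated by the sections `n • 1` over `V ∩ U`.

* `ker_char`: the section `m • 1` over `W ≤ U` dies in `Cg U g` iff `Gx g x ∣ m` for all `x ∈ W`,
  where `Gx g x` is the gcd of the multiplicities of the generators whose open contains `x`;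
* `step`, `Cg_mem_V`: if `H^p(X, ℤ_U) = 0` for `p > d` and all quasi-compact opens `U` (of a
  quasi-separated space), the same holds for `Cg U g` with `U` and the opens of `g` quasi-compact.
-/

set_option autoImplicit false

universe u

open CategoryTheory CategoryTheory.Limits TopologicalSpace Opposite

noncomputable section

namespace Groth.Agent.Lib.Helper5.CycQuot

open Groth.Agent.Lib.Helper22.CohTop Groth.Agent.Lib.Helper5.PullStalk
  Groth.Agent.Lib.Helper5.SubspaceSect Groth.Agent.Lib.Helper5.LFProd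
  Groth.Agent.Lib.Helper5.ZUSect Groth.Agent.Lib.Helper5.VClass
  Groth.Agent.Lib.Helper5.ColonArith

variable {X : TopCat.{u}}

/-- a generator: an open and a multiplicity -/
abbrev Gen (X : TopCat.{u}) : Type u := Opens X × ℕ

/-- multiplication by `a.2` from `ℤ_{a.1 ∩ U}` to `ℤ_U` -/
def gm (U : Opens X) (a : Gen X) : ZU (a.1 ⊓ U) ⟶ ZU U :=
  (a.2 : ℤ) • zm (inf_le_right : a.1 ⊓ U ≤ U)

lemma ap_gm_uu (U : Opens X) (a : Gen X) (W : Opens X) (hW : W ≤ a.1 ⊓ U) :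
    ap (gm U a) W (uu (a.1 ⊓ U) W hW) = (a.2 : ℤ) • uu U W (hW.trans inf_le_right) := by
  unfold gm
  rw [ap_zsmul, ap_zm_uu]

lemma gm_comp_eq_zero_iff (U : Opens X) (a : Gen X) {G : CohTop.Ab X} (f : ZU U ⟶ G) :
    gm U a ≫ f = 0 ↔ ap f (a.1 ⊓ U) ((a.2 : ℤ) • uu U (a.1 ⊓ U) inf_le_right) = 0 := by
  have key : ap (gm U a ≫ f) (a.1 ⊓ U) (unitSec (a.1 ⊓ U)) =
      ap f (a.1 ⊓ U) ((a.2 : ℤ) • uu U (a.1 ⊓ U) inf_le_right) := by
    rw [ap_comp, ← uu_self, ap_gm_uu]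
  constructor
  · intro h
    rw [← key, h]
    rfl
  · intro h
    apply hom_ext_ZU
    rw [key, h]
    rfl

/-- a quotient of `ℤ_U` -/
structure Quo (U : Opens X) where
  /-- the quotient sheaf -/
  obj : CohTop.Ab X
  /-- the quotient map -/
  π : ZU U ⟶ obj

/-- the quotient of `ℤ_U` by the subsheaf generated by a list of generators -/
def Cg (U : Opens X) : List (Gen X) → Quo U
  | [] => ⟨ZU U, 𝟙 _⟩
  | a :: g => ⟨cokernel (gm U a ≫ (Cg U g).π), (Cg U g).π ≫ cokernel.π (gm U a ≫ (Cg U g).π)⟩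

lemma epi_π (U : Opens X) : ∀ g : List (Gen X), Epi (Cg U g).π
  | [] => (inferInstance : Epi (𝟙 (ZU U)))
  | a :: g => by
    have := epi_π U g
    exact (epi_comp _ _ : Epi ((Cg U g).π ≫ cokernel.π (gm U a ≫ (Cg U g).π)))

lemma kills (U : Opens X) : ∀ (g : List (Gen X)) (a : Gen X), a ∈ g → gm U a ≫ (Cg U g).π = 0
  | [], a, h => absurd h List.not_mem_nil
  | b :: g, a, h => by
    change gm U a ≫ (Cg U g).π ≫ cokernel.π (gm U b ≫ (Cg U g).π) = 0
    rcases List.mem_cons.1 h with rfl | h'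
    · rw [← Category.assoc, cokernel.condition]
    · rw [← Category.assoc, kills U g a h', zero_comp]

lemma desc (U : Opens X) {T : CohTop.Ab X} : ∀ (g : List (Gen X)) (f : ZU U ⟶ T),
    (∀ a ∈ g, gm U a ≫ f = 0) → ∃ f' : (Cg U g).obj ⟶ T, (Cg U g).π ≫ f' = f
  | [], f, _ => ⟨f, Category.id_comp f⟩
  | b :: g, f, h => by
    obtain ⟨f₀, hf₀⟩ := desc U g f (fun a ha => h a (List.mem_cons_of_mem _ ha))
    have hk : (gm U b ≫ (Cg U g).π) ≫ f₀ = 0 := by
      rw [Category.assoc, hf₀]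
      exact h b List.mem_cons_self
    refine ⟨cokernel.desc _ f₀ hk, ?_⟩
    change ((Cg U g).π ≫ cokernel.π _) ≫ cokernel.desc _ f₀ hk = f
    rw [Category.assoc, cokernel.π_desc, hf₀]

/-! ### The local gcd of a list of generators -/

open Classical in
/-- the gcd of the multiplicities of the generators whose open contains `x` -/
def Gx : List (Gen X) → X → ℕ
  | [], _ => 0
  | a :: g, x => if x ∈ a.1 then Nat.gcd (Gx g x) a.2 else Gx g x

lemma Gx_nil (x : X) : Gx ([] : List (Gen X)) x = 0 := rfl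

open Classical in
lemma Gx_cons_of_mem {a : Gen X} {g : List (Gen X)} {x : X} (h : x ∈ a.1) :
    Gx (a :: g) x = Nat.gcd (Gx g x) a.2 := by
  change (if x ∈ a.1 then Nat.gcd (Gx g x) a.2 else Gx g x) = _
  rw [if_pos h]

open Classical in
lemma Gx_cons_of_not_mem {a : Gen X} {g : List (Gen X)} {x : X} (h : x ∉ a.1) :
    Gx (a :: g) x = Gx g x := by
  change (if x ∈ a.1 then Nat.gcd (Gx g x) a.2 else Gx g x) = _
  rw [if_neg h]

lemma Gx_cons_dvd (a : Gen X) (g : List (Gen X)) (x : X) : Gx (a :: g) x ∣ Gx g x := by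
  by_cases h : x ∈ a.1
  · rw [Gx_cons_of_mem h]
    exact Nat.gcd_dvd_left _ _
  · rw [Gx_cons_of_not_mem h]

lemma Gx_nbhd : ∀ (g : List (Gen X)) (x : X),
    ∃ N : Opens X, x ∈ N ∧ ∀ y ∈ N, Gx g y ∣ Gx g x
  | [], x => ⟨⊤, trivial, fun y _ => dvd_rfl⟩
  | a :: g, x => by
    obtain ⟨N, hxN, hN⟩ := Gx_nbhd g x
    by_cases h : x ∈ a.1
    · refine ⟨N ⊓ a.1, ⟨hxN, h⟩, fun y hy => ?_⟩
      rw [Gx_cons_of_mem h, Gx_cons_of_mem hy.2]
      exact Nat.gcd_dvd_gcd_of_dvd_left _ (hN y hy.1)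
    · refine ⟨N, hxN, fun y hy => ?_⟩
      rw [Gx_cons_of_not_mem h]
      exact (Gx_cons_dvd a g y).trans (hN y hy)

/-- the colon of a generator by `n` -/
def colonGen (n : ℕ) (b : Gen X) : Gen X := (b.1, colon n b.2)

lemma Gx_map_colon {n : ℕ} (hn : n ≠ 0) : ∀ (g : List (Gen X)) (x : X),
    Gx (g.map (colonGen n)) x = colon n (Gx g x)
  | [], x => (colon_zero n).symm
  | b :: g, x => by
    rw [List.map_cons]
    by_cases h : x ∈ b.1
    · have h' : x ∈ (colonGen n b).1 := h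
      rw [Gx_cons_of_mem h', Gx_cons_of_mem h, Gx_map_colon hn g x]
      exact colon_gcd hn _ _
    · have h' : x ∉ (colonGen n b).1 := h
      rw [Gx_cons_of_not_mem h', Gx_cons_of_not_mem h, Gx_map_colon hn g x]

/-! ### The kernel of the quotient map -/

theorem ker_char (U : Opens X) : ∀ (g : List (Gen X)) (W : Opens X) (hW : W ≤ U) (m : ℤ),
    ap (Cg U g).π W (m • uu U W hW) = 0 ↔ ∀ x ∈ W, ((Gx g x : ℕ) : ℤ) ∣ m
  | [], W, hW, m => by
    constructor
    · intro h x hx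
      have h' : m • uu U W hW = 0 := h
      rw [zsmul_uu_eq_zero U W hW m x hx h']
      exact dvd_zero _
    · intro h
      apply eq_zero_of_pointwise
      intro x hx
      refine ⟨W, le_rfl, hx, ?_⟩
      have hm : m = 0 := by
        have h1 := h x hx
        rw [Gx_nil, Nat.cast_zero, zero_dvd_iff] at h1
        exact h1
      rw [hm, zero_smul, map_zero, map_zero]
  | a :: g, W, hW, m => by
    have IH := ker_char U g
    have hπ : (Cg U (a :: g)).π = (Cg U g).π ≫ cokernel.π (gm U a ≫ (Cg U g).π) := rfl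
    have hcond : ∀ (W' : Opens X) (z : (ZU (a.1 ⊓ U)).obj.obj (op W')),
        ap (cokernel.π (gm U a ≫ (Cg U g).π)) W' (ap (gm U a ≫ (Cg U g).π) W' z) = 0 := by
      intro W' z
      rw [← ap_comp, cokernel.condition]
      rfl
    constructor
    · intro h x hx
      have ht : ap (cokernel.π (gm U a ≫ (Cg U g).π)) W (ap (Cg U g).π W (m • uu U W hW)) = 0 := h
      obtain ⟨W₁, hW₁, hx₁, b, hb⟩ := locIm_of_exact
        (ShortComplex.mk (gm U a ≫ (Cg U g).π) (cokernel.π (gm U a ≫ (Cg U g).π))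
          (cokernel.condition _)) (ShortComplex.exact_cokernel _) _ ht x hx
      obtain ⟨W₂, hW₂, hx₂, hcase⟩ := ZU_local (a.1 ⊓ U) b x hx₁
      have h₂ : W₂ ≤ U := (hW₂.trans hW₁).trans hW
      have star : ap (gm U a ≫ (Cg U g).π) W₂ (rs (ZU (a.1 ⊓ U)) hW₂ b) =
          ap (Cg U g).π W₂ (m • uu U W₂ h₂) := by
        have hb' : ap (gm U a ≫ (Cg U g).π) W₁ b =
            rs (Cg U g).obj hW₁ (ap (Cg U g).π W (m • uu U W hW)) := hb
        rw [ap_rs, hb', rs_rs, ← ap_rs, rs_zsmul_uu]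
      rcases hcase with h0 | ⟨hU₂, k, hk⟩
      · rw [h0, map_zero] at star
        have h1 := (IH W₂ h₂ m).1 star.symm x hx₂
        exact (Int.natCast_dvd_natCast.2 (Gx_cons_dvd a g x)).trans h1
      · have hxa : x ∈ a.1 := (hU₂ hx₂).1
        have e2 : ap (gm U a ≫ (Cg U g).π) W₂ (k • uu (a.1 ⊓ U) W₂ hU₂) =
            ap (Cg U g).π W₂ ((k * (a.2 : ℤ)) • uu U W₂ h₂) := by
          rw [ap_comp, map_zsmul, ap_gm_uu, smul_smul]
        rw [hk, e2] at star
        have h3 : ap (Cg U g).π W₂ ((m - k * (a.2 : ℤ)) • uu U W₂ h₂) = 0 := by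
          rw [sub_smul, map_sub, ← star, sub_self]
        have h4 := (IH W₂ h₂ _).1 h3 x hx₂
        rw [Gx_cons_of_mem hxa]
        have e : m = (m - k * (a.2 : ℤ)) + k * (a.2 : ℤ) := by ring
        rw [e]
        exact dvd_add ((Int.natCast_dvd_natCast.2 (Nat.gcd_dvd_left _ _)).trans h4)
          (Dvd.dvd.mul_left (Int.natCast_dvd_natCast.2 (Nat.gcd_dvd_right _ _)) k)
    · intro h
      apply eq_zero_of_pointwise
      intro x hx
      obtain ⟨N, hxN, hN⟩ := Gx_nbhd g x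
      by_cases hxa : x ∈ a.1
      · have hW' : W ⊓ N ⊓ a.1 ≤ W := inf_le_left.trans inf_le_left
        have h' : W ⊓ N ⊓ a.1 ≤ U := hW'.trans hW
        have h'' : W ⊓ N ⊓ a.1 ≤ a.1 ⊓ U := le_inf inf_le_right h'
        refine ⟨W ⊓ N ⊓ a.1, hW', ⟨⟨hx, hxN⟩, hxa⟩, ?_⟩
        have hd := h x hx
        rw [Gx_cons_of_mem hxa] at hd
        obtain ⟨q, hq⟩ := hd
        have hbez := Nat.gcd_eq_gcd_ab (Gx g x) a.2
        have e : m = ((Gx g x : ℕ) : ℤ) * (Nat.gcdA (Gx g x) a.2 * q) +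
            (Nat.gcdB (Gx g x) a.2 * q) * (a.2 : ℤ) := by
          rw [hq, hbez]
          ring
        have z1 : ap (Cg U g).π (W ⊓ N ⊓ a.1)
            ((((Gx g x : ℕ) : ℤ) * (Nat.gcdA (Gx g x) a.2 * q)) • uu U (W ⊓ N ⊓ a.1) h') = 0 := by
          rw [IH]
          intro y hy
          exact Dvd.dvd.mul_right (Int.natCast_dvd_natCast.2 (hN y hy.1.2)) _
        have z2 : ap (gm U a ≫ (Cg U g).π) (W ⊓ N ⊓ a.1)
              ((Nat.gcdB (Gx g x) a.2 * q) • uu (a.1 ⊓ U) (W ⊓ N ⊓ a.1) h'') =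
            ap (Cg U g).π (W ⊓ N ⊓ a.1)
              (((Nat.gcdB (Gx g x) a.2 * q) * (a.2 : ℤ)) • uu U (W ⊓ N ⊓ a.1) h') := by
          rw [ap_comp, map_zsmul, ap_gm_uu, smul_smul]
        have e0 : rs (Cg U (a :: g)).obj hW' (ap (Cg U (a :: g)).π W (m • uu U W hW)) =
            ap (Cg U (a :: g)).π (W ⊓ N ⊓ a.1) (m • uu U (W ⊓ N ⊓ a.1) h') := by
          rw [← ap_rs, rs_zsmul_uu]
        have e0' : ap (Cg U (a :: g)).π (W ⊓ N ⊓ a.1) (m • uu U (W ⊓ N ⊓ a.1) h') =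
            ap (cokernel.π (gm U a ≫ (Cg U g).π)) (W ⊓ N ⊓ a.1)
              (ap (Cg U g).π (W ⊓ N ⊓ a.1) (m • uu U (W ⊓ N ⊓ a.1) h')) := rfl
        rw [e0, e0', e, add_smul, map_add, z1, zero_add, ← z2, hcond]
        rfl
      · have hW' : W ⊓ N ≤ W := inf_le_left
        have h' : W ⊓ N ≤ U := hW'.trans hW
        refine ⟨W ⊓ N, hW', ⟨hx, hxN⟩, ?_⟩
        have hd := h x hx
        rw [Gx_cons_of_not_mem hxa] at hd
        have z1 : ap (Cg U g).π (W ⊓ N) (m • uu U (W ⊓ N) h') = 0 := by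
          rw [IH]
          intro y hy
          exact (Int.natCast_dvd_natCast.2 (hN y hy.2)).trans hd
        have e0 : rs (Cg U (a :: g)).obj hW' (ap (Cg U (a :: g)).π W (m • uu U W hW)) =
            ap (Cg U (a :: g)).π (W ⊓ N) (m • uu U (W ⊓ N) h') := by
          rw [← ap_rs, rs_zsmul_uu]
        have e0' : ap (Cg U (a :: g)).π (W ⊓ N) (m • uu U (W ⊓ N) h') =
            ap (cokernel.π (gm U a ≫ (Cg U g).π)) (W ⊓ N)
              (ap (Cg U g).π (W ⊓ N) (m • uu U (W ⊓ N) h')) := rfl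
        rw [e0, e0', z1, map_zero]
        rfl

/-! ### The dévissage step -/

variable (d : ℕ)

lemma cokernel_zero_V {A B : CohTop.Ab X} (f : A ⟶ B) (hf : f = 0) (hB : V d B) :
    V d (cokernel f) :=
  V_of_iso (cokernelZeroIsoTarget.symm ≪≫ cokernelIsoOfEq hf.symm) hB

theorem step (U : Opens X) (a : Gen X) (g₀ : List (Gen X)) (hn : a.2 ≠ 0)
    (hD : V d (Cg (a.1 ⊓ U) (g₀.map (colonGen a.2))).obj) (hC : V d (Cg U g₀).obj) :
    V d (Cg U (a :: g₀)).obj := by
  have hρepi : Epi (Cg (a.1 ⊓ U) (g₀.map (colonGen a.2))).π := epi_π _ _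
  have hE : ∀ (W : Opens X) (hW : W ≤ a.1 ⊓ U) (m : ℤ),
      ap (Cg (a.1 ⊓ U) (g₀.map (colonGen a.2))).π W (m • uu (a.1 ⊓ U) W hW) = 0 ↔
        ap (gm U a ≫ (Cg U g₀).π) W (m • uu (a.1 ⊓ U) W hW) = 0 := by
    intro W hW m
    have h1 : ap (gm U a ≫ (Cg U g₀).π) W (m • uu (a.1 ⊓ U) W hW) =
        ap (Cg U g₀).π W ((m * (a.2 : ℤ)) • uu U W (hW.trans inf_le_right)) := by
      rw [ap_comp, map_zsmul, ap_gm_uu, smul_smul]
    rw [h1, ker_char (a.1 ⊓ U) _ W hW m, ker_char U g₀ W _ (m * (a.2 : ℤ))]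
    refine forall₂_congr (fun x _ => ?_)
    rw [Gx_map_colon hn g₀ x, colon_dvd_iff_int hn]
  have hkill : ∀ b ∈ g₀.map (colonGen a.2),
      gm (a.1 ⊓ U) b ≫ (gm U a ≫ (Cg U g₀).π) = 0 := by
    intro b hb
    rw [gm_comp_eq_zero_iff, ← hE, ← gm_comp_eq_zero_iff]
    exact kills (a.1 ⊓ U) _ b hb
  obtain ⟨θ, hθ⟩ := desc (a.1 ⊓ U) _ (gm U a ≫ (Cg U g₀).π) hkill
  have hmono : Mono θ := by
    apply mono_of_injective
    intro W
    rw [injective_iff_map_eq_zero]
    intro t ht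
    apply eq_zero_of_pointwise
    intro x hx
    obtain ⟨W₁, hW₁, hx₁, b, hb⟩ :=
      locIm_of_epi (Cg (a.1 ⊓ U) (g₀.map (colonGen a.2))).π t x hx
    obtain ⟨W₂, hW₂, hx₂, hcase⟩ := ZU_local (a.1 ⊓ U) b x hx₁
    refine ⟨W₂, hW₂.trans hW₁, hx₂, ?_⟩
    have e1 : rs _ (hW₂.trans hW₁) t =
        ap (Cg (a.1 ⊓ U) (g₀.map (colonGen a.2))).π W₂ (rs (ZU (a.1 ⊓ U)) hW₂ b) := by
      rw [ap_rs, hb, rs_rs]
    rcases hcase with h0 | ⟨hU₂, k, hk⟩
    · rw [e1, h0, map_zero]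
    · have e3 : ap (gm U a ≫ (Cg U g₀).π) W₂ (k • uu (a.1 ⊓ U) W₂ hU₂) =
          ap θ W₂ (rs _ (hW₂.trans hW₁) t) := by
        rw [e1, hk, ← ap_comp, hθ]
      rw [e1, hk, hE, e3, ap_rs, ht, map_zero]
  have hzero : θ ≫ cokernel.π (gm U a ≫ (Cg U g₀).π) = 0 := by
    rw [← cancel_epi (Cg (a.1 ⊓ U) (g₀.map (colonGen a.2))).π, ← Category.assoc, hθ,
      cokernel.condition, comp_zero]
  have hex : (ShortComplex.mk θ (cokernel.π (gm U a ≫ (Cg U g₀).π)) hzero).Exact := by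
    apply exact_of_locIm
    intro V₁ t ht
    have hl := locIm_of_exact
      (ShortComplex.mk (gm U a ≫ (Cg U g₀).π) (cokernel.π (gm U a ≫ (Cg U g₀).π))
        (cokernel.condition _)) (ShortComplex.exact_cokernel _) t ht
    intro x hx
    obtain ⟨W, hW, hxW, b, hb⟩ := hl x hx
    refine ⟨W, hW, hxW, ap (Cg (a.1 ⊓ U) (g₀.map (colonGen a.2))).π W b, ?_⟩
    change ap θ W (ap (Cg (a.1 ⊓ U) (g₀.map (colonGen a.2))).π W b) = _
    rw [← ap_comp, hθ]
    exact hb
  have hSE : (ShortComplex.mk θ (cokernel.π (gm U a ≫ (Cg U g₀).π)) hzero).ShortExact :=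
    ShortComplex.ShortExact.mk' hex hmono inferInstance
  exact V_of_shortExact₃ hSE hD hC

theorem Cg_mem_V [QuasiSeparatedSpace X]
    (h : ∀ U : Opens X, IsCompact (U : Set X) → V d (ZU U)) :
    ∀ (r : ℕ) (U : Opens X) (g : List (Gen X)), g.length = r → IsCompact (U : Set X) →
      (∀ a ∈ g, IsCompact ((a.1 : Opens X) : Set X)) → V d (Cg U g).obj := by
  intro r
  induction r with
  | zero =>
    intro U g hg hU _
    rw [List.length_eq_zero_iff] at hg
    subst hg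
    exact h U hU
  | succ r ih =>
    intro U g hg hU hgc
    match g, hg, hgc with
    | a :: g₀, hg, hgc =>
      have hg₀ : g₀.length = r := by simpa using hg
      have hC := ih U g₀ hg₀ hU (fun b hb => hgc b (List.mem_cons_of_mem _ hb))
      by_cases hn : a.2 = 0
      · have hψ : gm U a ≫ (Cg U g₀).π = 0 := by
          unfold gm
          rw [hn, Nat.cast_zero, zero_smul, zero_comp]
        exact cokernel_zero_V d _ hψ hC
      · have hU' : IsCompact ((a.1 ⊓ U : Opens X) : Set X) :=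
          QuasiSeparatedSpace.inter_isCompact _ _ a.1.isOpen (hgc a List.mem_cons_self)
            U.isOpen hU
        have hD := ih (a.1 ⊓ U) (g₀.map (colonGen a.2))
          (by rw [List.length_map]; exact hg₀) hU' (by
            intro b hb
            obtain ⟨b₀, hb₀, rfl⟩ := List.mem_map.1 hb
            exact hgc b₀ (List.mem_cons_of_mem _ hb₀))
        exact step d U a g₀ hn hD hC

end Groth.Agent.Lib.Helper5.CycQuot
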