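import Groth.Agent.Lib.Helper5.CycQuot
import Groth.Agent.Lib.Helper5.RpushColim

/-!
# Vanishing of cohomology from vanishing on the sheaves `ℤ_U`

On a quasi-compact quasi-separated prespectral space, if `H^p(X, ℤ_U) = 0` for all `p > d` and
all quasi-compact opens `U`, then `H^p(X, F) = 0` for all `p > d` and all abelian sheaves `F`.

* `isColimit_of_pointwise`: pointwise form of the local criterion for colimits of sheaves;
* `cyclic_V`: quotients of `ℤ_U` (filtered colimits of finitely presented cyclic quotients);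
* `main`: arbitrary sheaves (filtered colimits of finitely generated subsheaves, which are
  successive extensions of cyclic sheaves).
-/

set_option autoImplicit false

universe u

open CategoryTheory CategoryTheory.Limits TopologicalSpace Opposite

noncomputable section

namespace Groth.Agent.Lib.Helper5.CycVanish

open Groth.Agent.Lib.Helper22.CohTop Groth.Agent.Lib.Helper5.PullStalk
  Groth.Agent.Lib.Helper5.SubspaceSect Groth.Agent.Lib.Helper5.LFProd
  Groth.Agent.Lib.Helper5.ZUSect Groth.Agent.Lib.Helper5.VClass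
  Groth.Agent.Lib.Helper5.CycQuot

variable {X : TopCat.{u}}

lemma app_injective_of_mono {F G : CohTop.Ab X} (f : F ⟶ G) [Mono f] (V : Opens X) :
    Function.Injective (ap f V) := by
  have : Mono ((sheafToPresheaf _ _ ⋙ (evaluation _ _).obj (op V)).map f) := inferInstance
  exact (AddCommGrpCat.mono_iff_injective (f.hom.app (op V))).1 this

/-- pointwise form of the local criterion for a cocone of sheaves to be a colimit -/
theorem isColimit_of_pointwise {K : Type u} [SmallCategory K] [IsFiltered K]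
    {D : K ⥤ CohTop.Ab X} (c : Cocone D)
    (ha : ∀ (V : Opens X) (s : c.pt.obj.obj (op V)) (x : X), x ∈ V →
      ∃ (W : Opens X) (hW : W ≤ V), x ∈ W ∧
        ∃ (i : K) (t : (D.obj i).obj.obj (op W)), ap (c.ι.app i) W t = rs c.pt hW s)
    (hb : ∀ (V : Opens X) (i : K) (t : (D.obj i).obj.obj (op V)), ap (c.ι.app i) V t = 0 →
      ∀ x ∈ V, ∃ (W : Opens X) (hW : W ≤ V), x ∈ W ∧
        ∃ (j : K) (g : i ⟶ j), ap (D.map g) W (rs (D.obj i) hW t) = 0) :
    Nonempty (IsColimit c) := by
  refine Groth.Agent.Lib.Helper22.ColimCohU.isColimit_of_local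
    (J := Opens.grothendieckTopology X) Groth.Agent.Lib.Helper5.RpushColim.hshz c ?_ ?_
  · intro U s
    let T : Sieve U :=
      { arrows := fun V' g => ∃ (i : K) (t : (D.obj i).obj.obj (op V')),
          (c.ι.app i).hom.app (op V') t = c.pt.obj.map g.op s
        downward_closed := by
          rintro V' V'' g ⟨i, t, ht⟩ h
          refine ⟨i, (D.obj i).obj.map h.op t, ?_⟩
          have e1 := NatTrans.naturality_apply (c.ι.app i).hom h.op t
          rw [e1, ht, op_comp, Functor.map_comp]
          rfl }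
    refine ⟨T, ?_, fun V' g hg => hg⟩
    intro y hy
    obtain ⟨V', hV', hyV', i, t, ht⟩ := ha U s y hy
    exact ⟨V', homOfLE hV', ⟨i, t, ht⟩, hyV'⟩
  · intro U i t ht
    let T : Sieve U :=
      { arrows := fun V' g => ∃ (j : K) (a : i ⟶ j),
          (D.map a).hom.app (op V') ((D.obj i).obj.map g.op t) = 0
        downward_closed := by
          rintro V' V'' g ⟨j, a, ha⟩ h
          refine ⟨j, a, ?_⟩
          have e1 := NatTrans.naturality_apply (D.map a).hom h.op ((D.obj i).obj.map g.op t)
          rw [op_comp, Functor.map_comp]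
          change (D.map a).hom.app (op V'')
            ((D.obj i).obj.map h.op ((D.obj i).obj.map g.op t)) = 0
          rw [e1, ha, map_zero] }
    refine ⟨T, ?_, fun V' g hg => hg⟩
    intro y hy
    obtain ⟨V', hV', hyV', j, a, ha⟩ := hb U i t ht y hy
    exact ⟨V', homOfLE hV', ⟨j, a, ha⟩, hyV'⟩

lemma exists_compact_open [PrespectralSpace X] (W : Opens X) (x : X) (hx : x ∈ W) :
    ∃ W' : Opens X, IsCompact (W' : Set X) ∧ x ∈ W' ∧ W' ≤ W := by
  obtain ⟨S, ⟨hSo, hSc⟩, hxS, hSW⟩ :=
    (PrespectralSpace.isTopologicalBasis (X := X)).exists_subset_of_mem_open hx W.isOpen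
  exact ⟨⟨S, hSo⟩, hSc, hxS, hSW⟩

/-! ### Quotients of `ℤ_U` -/

section Cyclic

open Classical

variable (U : Opens X) {F : CohTop.Ab X} (π : ZU U ⟶ F)

/-- the generators with quasi-compact open killed by `π` -/
abbrev KT : Type u := {a : Gen X // IsCompact ((a.1 : Opens X) : Set X) ∧ gm U a ≫ π = 0}

/-- the list of generators of a finite set of generators -/
def lst (B : Finset (KT U π)) : List (Gen X) := B.toList.map Subtype.val

variable {U π}

lemma mem_lst {B : Finset (KT U π)} {a : Gen X} : a ∈ lst U π B ↔ ∃ t ∈ B, t.1 = a := by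
  unfold lst
  rw [List.mem_map]
  constructor
  · rintro ⟨t, ht, rfl⟩
    exact ⟨t, Finset.mem_toList.1 ht, rfl⟩
  · rintro ⟨t, ht, rfl⟩
    exact ⟨t, Finset.mem_toList.2 ht, rfl⟩

variable (U π)

/-- the finitely presented quotient attached to a finite set of generators -/
abbrev stage (B : Finset (KT U π)) : Quo U := Cg U (lst U π B)

instance (B : Finset (KT U π)) : Epi (stage U π B).π := epi_π U _

lemma exists_q (B : Finset (KT U π)) : ∃ q : (stage U π B).obj ⟶ F, (stage U π B).π ≫ q = π :=
  desc U (lst U π B) π (fun a ha => by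
    obtain ⟨t, _, rfl⟩ := mem_lst.1 ha
    exact t.2.2)

/-- the map from a stage to `F` -/
def q (B : Finset (KT U π)) : (stage U π B).obj ⟶ F := (exists_q U π B).choose

lemma q_spec (B : Finset (KT U π)) : (stage U π B).π ≫ q U π B = π := (exists_q U π B).choose_spec

lemma exists_τ {B B' : Finset (KT U π)} (h : B ≤ B') :
    ∃ τ : (stage U π B).obj ⟶ (stage U π B').obj, (stage U π B).π ≫ τ = (stage U π B').π :=
  desc U (lst U π B) (stage U π B').π (fun a ha => by
    obtain ⟨t, ht, e⟩ := mem_lst.1 ha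
    exact kills U (lst U π B') a (mem_lst.2 ⟨t, h ht, e⟩))

/-- the transition maps -/
def τ {B B' : Finset (KT U π)} (h : B ≤ B') : (stage U π B).obj ⟶ (stage U π B').obj :=
  (exists_τ U π h).choose

lemma τ_spec {B B' : Finset (KT U π)} (h : B ≤ B') :
    (stage U π B).π ≫ τ U π h = (stage U π B').π := (exists_τ U π h).choose_spec

/-- the diagram of finitely presented quotients -/
def DF : Finset (KT U π) ⥤ CohTop.Ab X where
  obj B := (stage U π B).obj
  map {B B'} f := τ U π (leOfHom f)
  map_id B := by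
    rw [← cancel_epi (stage U π B).π, τ_spec, Category.comp_id]
  map_comp {B B' B''} f g := by
    rw [← cancel_epi (stage U π B).π, τ_spec, ← Category.assoc, τ_spec, τ_spec]

/-- the cocone of the diagram of finitely presented quotients -/
def DC : Cocone (DF U π) where
  pt := F
  ι :=
    { app := fun B => q U π B
      naturality := fun B B' f => by
        change τ U π (leOfHom f) ≫ q U π B' = q U π B ≫ 𝟙 F
        rw [← cancel_epi (stage U π B).π, ← Category.assoc, τ_spec, q_spec, Category.comp_id,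
          q_spec] }

variable [PrespectralSpace X]

lemma ap_rs_zero {A B : CohTop.Ab X} (f : A ⟶ B) {W V : Opens X} (h : W ≤ V) :
    ap f W (rs A h 0) = 0 := by
  rw [map_zero, map_zero]

lemma DC_hb (V : Opens X) (B : Finset (KT U π)) (t : (stage U π B).obj.obj.obj (op V))
    (ht : ap (q U π B) V t = 0) (x : X) (hx : x ∈ V) :
    ∃ (W : Opens X) (hW : W ≤ V), x ∈ W ∧ ∃ (B' : Finset (KT U π)) (hBB' : B ≤ B'),
      ap (τ U π hBB') W (rs (stage U π B).obj hW t) = 0 := by
  obtain ⟨W₁, hW₁, hx₁, b, hb⟩ := locIm_of_epi (stage U π B).π t x hx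
  obtain ⟨W₂, hW₂, hx₂, hcase⟩ := ZU_local U b x hx₁
  rcases hcase with h0 | ⟨hU₂, k, hk⟩
  · refine ⟨W₂, hW₂.trans hW₁, hx₂, B, le_rfl, ?_⟩
    have e1 : rs (stage U π B).obj (hW₂.trans hW₁) t = 0 := by
      rw [← rs_rs _ hW₁ hW₂, ← hb, ← ap_rs, h0, map_zero]
    rw [e1, map_zero]
  · obtain ⟨W₃, hW₃c, hx₃, hW₃⟩ := exists_compact_open W₂ x hx₂
    obtain ⟨n, hkn⟩ := Int.eq_nat_or_neg k
    have h₄₂ : W₃ ⊓ U ≤ W₂ := inf_le_left.trans hW₃
    have h₄ : W₃ ⊓ U ≤ V := (h₄₂.trans hW₂).trans hW₁
    have hx₄ : x ∈ W₃ ⊓ U := ⟨hx₃, hU₂ hx₂⟩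
    -- the restriction of `t` is the image of `k • uu`
    have dag : ap (stage U π B).π (W₃ ⊓ U) (k • uu U (W₃ ⊓ U) inf_le_right) =
        rs (stage U π B).obj h₄ t := by
      rw [← rs_rs _ hW₁ (h₄₂.trans hW₂), ← hb, ← ap_rs, ← rs_rs _ hW₂ h₄₂, hk, rs_zsmul_uu]
    have hA : ap π (W₃ ⊓ U) (k • uu U (W₃ ⊓ U) inf_le_right) = 0 := by
      have e2 : ap π (W₃ ⊓ U) (k • uu U (W₃ ⊓ U) inf_le_right) =
          ap (q U π B) (W₃ ⊓ U) (ap (stage U π B).π (W₃ ⊓ U)
            (k • uu U (W₃ ⊓ U) inf_le_right)) := by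
        rw [← ap_comp, q_spec]
      rw [e2, dag, ap_rs, ht, map_zero]
    have hsign : ∀ {G : CohTop.Ab X} (f : ZU U ⟶ G),
        ap f (W₃ ⊓ U) (k • uu U (W₃ ⊓ U) inf_le_right) = 0 ↔
          ap f (W₃ ⊓ U) ((n : ℤ) • uu U (W₃ ⊓ U) inf_le_right) = 0 := by
      intro G f
      rcases hkn with e | e
      · rw [e]
      · rw [e, neg_smul, map_neg, neg_eq_zero]
    have hkill : gm U ((W₃, n) : Gen X) ≫ π = 0 := by
      rw [gm_comp_eq_zero_iff]
      exact (hsign π).1 hA
    let a' : KT U π := ⟨(W₃, n), hW₃c, hkill⟩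
    refine ⟨W₃ ⊓ U, h₄, hx₄, insert a' B, Finset.subset_insert a' B, ?_⟩
    rw [← dag, ← ap_comp, τ_spec, hsign]
    have hk' : gm U ((W₃, n) : Gen X) ≫ (stage U π (insert a' B)).π = 0 :=
      kills U _ _ (mem_lst.2 ⟨a', Finset.mem_insert_self a' B, rfl⟩)
    rw [gm_comp_eq_zero_iff] at hk'
    exact hk'

theorem isColimit_DC [Epi π] : Nonempty (IsColimit (DC U π)) := by
  apply isColimit_of_pointwise
  · intro V s x hx
    obtain ⟨W, hW, hxW, b, hb⟩ := locIm_of_epi π s x hx
    refine ⟨W, hW, hxW, ∅, ap (stage U π ∅).π W b, ?_⟩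
    change ap (q U π ∅) W (ap (stage U π ∅).π W b) = _
    rw [← ap_comp, q_spec]
    exact hb
  · intro V B t ht x hx
    obtain ⟨W, hW, hxW, B', hBB', h⟩ := DC_hb U π V B t ht x hx
    exact ⟨W, hW, hxW, B', homOfLE hBB', h⟩

variable [CompactSpace X] [QuasiSeparatedSpace X] (d : ℕ)

/-- quotients of `ℤ_U`, `U` quasi-compact, have vanishing cohomology above degree `d` -/
theorem cyclic_V (h : ∀ U : Opens X, IsCompact (U : Set X) → V d (ZU U))
    (hU : IsCompact (U : Set X)) [Epi π] : V d F := by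
  obtain ⟨hc⟩ := isColimit_DC U π
  refine V_of_isColimit (DC U π) hc (fun B => ?_)
  exact Cg_mem_V d h _ U (lst U π B) rfl hU (fun a ha => by
    obtain ⟨t, _, rfl⟩ := mem_lst.1 ha
    exact t.2.1)

theorem W_ZU (h : ∀ U : Opens X, IsCompact (U : Set X) → V d (ZU U))
    (hU : IsCompact (U : Set X)) : W d (ZU U) := by
  intro G f hf
  have := hf
  exact cyclic_V U f d h hU

end Cyclic

/-! ### Arbitrary sheaves -/

section General

open Classical ZeroObject

variable (F : CohTop.Ab X)

/-- a section of `F` over a quasi-compact open -/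
structure Sec where
  /-- the open -/
  U : Opens X
  /-- it is quasi-compact -/
  hU : IsCompact (U : Set X)
  /-- the section -/
  s : F.obj.obj (op U)

/-- an object over `F` -/
structure Src where
  /-- the source -/
  obj : CohTop.Ab X
  /-- the map to `F` -/
  hom : obj ⟶ F

/-- the direct sum of the sheaves `ℤ_U` over a list of sections, with its map to `F` -/
def PS : List (Sec F) → Src F
  | [] => ⟨0, 0⟩
  | z :: l => ⟨ZU z.U ⊞ (PS l).obj, biprod.desc (secHom z.s) (PS l).hom⟩

lemma factor : ∀ (l : List (Sec F)) (z : Sec F), z ∈ l →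
    ∃ j : ZU z.U ⟶ (PS F l).obj, j ≫ (PS F l).hom = secHom z.s
  | [], z, h => absurd h List.not_mem_nil
  | z' :: l, z, h => by
    rcases List.mem_cons.1 h with rfl | h'
    · exact ⟨biprod.inl, biprod.inl_desc _ _⟩
    · obtain ⟨j, hj⟩ := factor l z h'
      refine ⟨j ≫ biprod.inr, ?_⟩
      change (j ≫ biprod.inr) ≫ biprod.desc (secHom z'.s) (PS F l).hom = _
      rw [Category.assoc, biprod.inr_desc, hj]

lemma factorList : ∀ (l l' : List (Sec F)), (∀ z ∈ l, z ∈ l') →
    ∃ j : (PS F l).obj ⟶ (PS F l').obj, j ≫ (PS F l').hom = (PS F l).hom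
  | [], l', _ => ⟨0, by rw [zero_comp]; rfl⟩
  | z :: l, l', h => by
    obtain ⟨j₁, hj₁⟩ := factor F l' z (h z List.mem_cons_self)
    obtain ⟨j₂, hj₂⟩ := factorList l l' (fun w hw => h w (List.mem_cons_of_mem _ hw))
    refine ⟨biprod.desc j₁ j₂, ?_⟩
    change biprod.desc j₁ j₂ ≫ (PS F l').hom = biprod.desc (secHom z.s) (PS F l).hom
    apply biprod.hom_ext'
    · rw [biprod.inl_desc_assoc, biprod.inl_desc, hj₁]
    · rw [biprod.inr_desc_assoc, biprod.inr_desc, hj₂]

/-- the subsheaf generated by a finite set of sections -/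
abbrev im (A : Finset (Sec F)) : CohTop.Ab X := Abelian.image (PS F A.toList).hom

/-- the inclusion of the subsheaf generated by a finite set of sections -/
abbrev imι (A : Finset (Sec F)) : im F A ⟶ F := Abelian.image.ι (PS F A.toList).hom

lemma exists_κ {A A' : Finset (Sec F)} (h : A ≤ A') :
    ∃ κ : im F A ⟶ im F A', κ ≫ imι F A' = imι F A := by
  obtain ⟨j, hj⟩ := factorList F A.toList A'.toList
    (fun z hz => Finset.mem_toList.2 (h (Finset.mem_toList.1 hz)))
  have h0 : imι F A ≫ cokernel.π (PS F A'.toList).hom = 0 := by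
    have e : Abelian.factorThruImage (PS F A.toList).hom ≫ imι F A = (PS F A.toList).hom :=
      Abelian.image.fac _
    rw [← cancel_epi (Abelian.factorThruImage (PS F A.toList).hom), comp_zero,
      ← Category.assoc, e, ← hj, Category.assoc, cokernel.condition, comp_zero]
  exact ⟨kernel.lift _ (imι F A) h0, kernel.lift_ι _ _ _⟩

/-- the transition maps between finitely generated subsheaves -/
def κ {A A' : Finset (Sec F)} (h : A ≤ A') : im F A ⟶ im F A' := (exists_κ F h).choose

lemma κ_spec {A A' : Finset (Sec F)} (h : A ≤ A') : κ F h ≫ imι F A' = imι F A :=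
  (exists_κ F h).choose_spec

/-- the diagram of finitely generated subsheaves -/
def DI : Finset (Sec F) ⥤ CohTop.Ab X where
  obj A := im F A
  map {A A'} f := κ F (leOfHom f)
  map_id A := by
    rw [← cancel_mono (imι F A), κ_spec, Category.id_comp]
  map_comp {A A' A''} f g := by
    rw [← cancel_mono (imι F A''), Category.assoc, κ_spec, κ_spec, κ_spec]

/-- the cocone of finitely generated subsheaves -/
def DIC : Cocone (DI F) where
  pt := F
  ι :=
    { app := fun A => imι F A
      naturality := fun A A' f => by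
        change κ F (leOfHom f) ≫ imι F A' = imι F A ≫ 𝟙 F
        rw [κ_spec, Category.comp_id] }

variable [PrespectralSpace X]

theorem isColimit_DIC : Nonempty (IsColimit (DIC F)) := by
  apply isColimit_of_pointwise
  · intro V s x hx
    obtain ⟨W, hWc, hxW, hW⟩ := exists_compact_open V x hx
    let z : Sec F := ⟨W, hWc, rs F hW s⟩
    obtain ⟨j, hj⟩ := factor F ({z} : Finset (Sec F)).toList z
      (Finset.mem_toList.2 (Finset.mem_singleton_self z))
    refine ⟨W, hW, hxW, {z}, ap (j ≫ Abelian.factorThruImage (PS F ({z} : Finset (Sec F)).toList).hom)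
      W (unitSec W), ?_⟩
    change ap (imι F {z}) W (ap (j ≫ Abelian.factorThruImage (PS F ({z} : Finset (Sec F)).toList).hom)
      W (unitSec W)) = _
    rw [← ap_comp, Category.assoc, Abelian.image.fac, hj, ap_secHom]
    rfl
  · intro V A t ht x hx
    have ht' : ap (imι F A) V t = 0 := ht
    have h0 : t = 0 :=
      app_injective_of_mono (imι F A) V (ht'.trans (map_zero (ap (imι F A) V)).symm)
    subst h0
    exact ⟨V, le_rfl, hx, A, 𝟙 A, ap_rs_zero _ _⟩

variable [CompactSpace X] [QuasiSeparatedSpace X] (d : ℕ)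

lemma PS_W (h : ∀ U : Opens X, IsCompact (U : Set X) → V d (ZU U)) :
    ∀ l : List (Sec F), W d (PS F l).obj
  | [] => W_of_isZero (isZero_zero _)
  | z :: l => W_biprod (W_ZU z.U d h z.hU) (PS_W h l)

/-- **Vanishing from vanishing on extensions by zero.** -/
theorem main_V (h : ∀ U : Opens X, IsCompact (U : Set X) → V d (ZU U)) : V d F := by
  obtain ⟨hc⟩ := isColimit_DIC F
  refine V_of_isColimit (DIC F) hc (fun A => ?_)
  exact PS_W F d h A.toList (im F A) (Abelian.factorThruImage _) inferInstance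

end General

/-- **Vanishing from vanishing on extensions by zero.** -/
theorem main [CompactSpace X] [PrespectralSpace X] [QuasiSeparatedSpace X] (d : ℕ)
    (h : ∀ (U : Opens X), IsCompact (U : Set X) → ∀ p : ℕ, d < p →
      Subsingleton (CohTop.H (ZU U) p))
    (F : CohTop.Ab X) (p : ℕ) (hp : d < p) : Subsingleton (CohTop.H F p) :=
  main_V F d h p hp

end Groth.Agent.Lib.Helper5.CycVanish
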