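import Groth.Agent.Lib.Helper5.DPull

/-!
# Composition of inverse images on diagram sites

For a diagram `D` over `S` and a morphism of diagrams `κ : Y' ⟶ D.Y`, the inverse image along `κ`
of the inverse image of a sheaf `F` on `S` to the site of `D` is the inverse image of `F` to the
site of the composite diagram `D.comp κ`.
-/

set_option autoImplicit false

universe u

open CategoryTheory CategoryTheory.Limits Opposite TopologicalSpace

noncomputable section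

namespace Groth.Agent.Lib.Helper5.DCmp

open Groth.Agent.Lib.Helper5.DSite Groth.Agent.Lib.Helper5.GermFam Groth.Agent.Lib.Helper5.DPull

/-! ### maps out of stalks -/

section stalkDesc

variable {Z : TopCat.{u}} (Q : (Opens Z)ᵒᵖ ⥤ AddCommGrpCat.{u}) (y : Z) (A : Type u)
  [AddCommGroup A] (φ : ∀ U : Opens Z, y ∈ U → (Q.obj (op U) →+ A))
  (hφ : ∀ (U V : Opens Z) (hU : y ∈ U) (hV : y ∈ V) (h : V ≤ U) (t : Q.obj (op U)),
    φ V hV ((Q.map (homOfLE h).op).hom t) = φ U hU t)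

/-- the cocone attached to a compatible family of maps -/
def descCocone : Cocone ((OpenNhds.inclusion y).op ⋙ Q) where
  pt := AddCommGrpCat.of A
  ι :=
    { app := fun V => AddCommGrpCat.ofHom (φ V.unop.1 V.unop.2)
      naturality := fun V W g => by
        ext t
        exact hφ V.unop.1 W.unop.1 V.unop.2 W.unop.2
          (leOfHom ((OpenNhds.inclusion y).map g.unop)) t }

/-- the map out of the stalk attached to a compatible family of maps -/
def stalkDesc : St Q y →+ A := (colimit.desc _ (descCocone Q y A φ hφ)).hom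

lemma stalkDesc_gmP (U : Opens Z) (hU : y ∈ U) (t : Q.obj (op U)) :
    stalkDesc Q y A φ hφ (gmP Q U y hU t) = φ U hU t := by
  have h := colimit.ι_desc (descCocone Q y A φ hφ) (op ⟨U, hU⟩)
  have h2 := ConcreteCategory.congr_hom h t
  refine Eq.trans ?_ h2
  rfl

end stalkDesc

variable {I : Type u} [Category.{u} I] {S : TopCat.{u}} (D : OverS I S)

/-- the composite diagram over `S` -/
def _root_.Groth.Agent.Lib.Helper5.DPull.OverS.comp {Y' : Iᵒᵖ ⥤ TopCat.{u}} (κ : Y' ⟶ D.Y) :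
    OverS I S where
  Y := Y'
  π i := κa κ i ≫ D.π i
  hπ α w := by
    change D.π _ (κa κ _ (tr Y' α w)) = D.π _ (κa κ _ w)
    rw [κ_nat, D.hπ]

variable (P : (Opens S)ᵒᵖ ⥤ AddCommGrpCat.{u})

/-! ### evaluation of germs of families -/

/-- the value at a point of the germ of a family -/
def evst (i : I) (y' : Sp D.Y i) (y : S) (h : y = D.π i y') :
    St (lev D.Y (preS D P) i) y' →+ St P y :=
  stalkDesc (lev D.Y (preS D P) i) y' (St P y)
    (fun U hU =>
      { toFun := fun σ => (σ : sec (D.π i) P U).1 ⟨y', y, hU, h⟩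
        map_zero' := rfl
        map_add' := fun _ _ => rfl })
    (by
      intro U V hU hV hle σ
      exact congrArg (fun τ : sec (D.π i) P V => τ.1 ⟨y', y, hV, h⟩) (lev_preS_map D P hle σ))

lemma evst_gm (i : I) (y' : Sp D.Y i) (y : S) (h : y = D.π i y') (U : Opens (Sp D.Y i))
    (hU : y' ∈ U) (σ : sec (D.π i) P U) :
    evst D P i y' y h (gmP (lev D.Y (preS D P) i) U y' hU σ) = σ.1 ⟨y', y, hU, h⟩ := by
  unfold evst
  exact stalkDesc_gmP (lev D.Y (preS D P) i) y' (St P y) _ _ U hU σ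

lemma evst_injective (i : I) (y' : Sp D.Y i) (y : S) (h : y = D.π i y') :
    Function.Injective (evst D P i y' y h) := by
  rw [injective_iff_map_eq_zero]
  intro a ha
  obtain ⟨U, hU, σ', rfl⟩ := exists_gmP_eq (lev D.Y (preS D P) i) y' a
  let σ : sec (D.π i) P U := σ'
  have ha' : σ.1 ⟨y', y, hU, h⟩ = 0 := (evst_gm D P i y' y h U hU σ).symm.trans ha
  obtain ⟨V, t, U₁, hp, hrep⟩ := σ.2 ⟨y', y, hU, h⟩
  obtain ⟨hV, e⟩ := hrep ⟨y', y, hU, h⟩ hp
  have h0 : gmP P V y hV t = gmP P V y hV 0 := by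
    rw [map_zero, ← e]
    exact ha'
  obtain ⟨V', hyV', h1, h2, e'⟩ := gmP_eq P y hV hV t 0 h0
  let U' : Opens (Sp D.Y i) := (U₁ ⊓ U) ⊓ (Opens.map (D.π i)).obj V'
  have hy'U' : y' ∈ U' := ⟨⟨hp, hU⟩, by
    change D.π i y' ∈ V'
    rw [← h]
    exact hyV'⟩
  have hle : U' ≤ U := inf_le_left.trans inf_le_right
  have hres : resHom (D.π i) P hle σ = 0 := by
    apply sec_ext
    intro q
    obtain ⟨hVq, eq⟩ := hrep (q.res hle) q.hw.1.1
    have hq' : q.y ∈ V' := by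
      rw [q.hy]
      exact q.hw.2
    change σ.1 (q.res hle) = 0
    rw [eq, ← gmP_res P h1 q.y hq' t, e', map_zero, map_zero]
  have e1 : gmP (lev D.Y (preS D P) i) U y' hU σ' =
      gmP (lev D.Y (preS D P) i) U' y' hy'U'
        (((lev D.Y (preS D P) i).map (homOfLE hle).op).hom σ') :=
    (gmP_res (lev D.Y (preS D P) i) hle y' hy'U' σ').symm
  rw [e1]
  have e2 : ((lev D.Y (preS D P) i).map (homOfLE hle).op).hom σ' = 0 :=
    (lev_preS_map D P hle σ).trans hres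
  rw [e2, map_zero]

lemma evst_surjective (i : I) (y' : Sp D.Y i) (y : S) (h : y = D.π i y') :
    Function.Surjective (evst D P i y' y h) := by
  intro b
  obtain ⟨V, hV, t, rfl⟩ := exists_gmP_eq P y b
  have hy' : y' ∈ (Opens.map (D.π i)).obj V := by
    change D.π i y' ∈ V
    rw [← h]
    exact hV
  refine ⟨gmP (lev D.Y (preS D P) i) ((Opens.map (D.π i)).obj V) y' hy'
    (gf (D.π i) P (V := V) (W := (Opens.map (D.π i)).obj V) (fun _ hw => hw) t), ?_⟩
  rw [evst_gm]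
  rfl

/-- evaluation of germs of families, as an isomorphism -/
def evstEquiv (i : I) (y' : Sp D.Y i) (y : S) (h : y = D.π i y') :
    St (lev D.Y (preS D P) i) y' ≃+ St P y :=
  AddEquiv.ofBijective (evst D P i y' y h) ⟨evst_injective D P i y' y h, evst_surjective D P i y' y h⟩

lemma evstEquiv_apply (i : I) (y' : Sp D.Y i) (y : S) (h : y = D.π i y')
    (a : St (lev D.Y (preS D P) i) y') : evstEquiv D P i y' y h a = evst D P i y' y h a := rfl

/-! ### the comparison map -/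

variable {Y' : Iᵒᵖ ⥤ TopCat.{u}} (κ : Y' ⟶ D.Y)

/-- the comparison map on sections -/
def cmpHom (i : I) (W : Opens (Sp Y' i)) :
    sec (κa κ i) (lev D.Y (preS D P) i) W →+ sec ((D.comp κ).π i) P W where
  toFun s := ⟨fun p => evst D P i (κa κ i p.w) p.y p.hy (s.1 ⟨p.w, κa κ i p.w, p.hw, rfl⟩), by
    intro p
    obtain ⟨U', σ', W₁, hp, hrep⟩ := s.2 ⟨p.w, κa κ i p.w, p.hw, rfl⟩
    let σ : sec (D.π i) P U' := σ'
    obtain ⟨hU', -⟩ := hrep ⟨p.w, κa κ i p.w, p.hw, rfl⟩ hp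
    obtain ⟨V, t, U₁, hp₁, hrep₁⟩ := σ.2 ⟨κa κ i p.w, p.y, hU', p.hy⟩
    refine ⟨V, t, W₁ ⊓ (Opens.map (κa κ i)).obj U₁, ⟨hp, hp₁⟩, fun p' hp' => ?_⟩
    obtain ⟨hU'', e''⟩ := hrep ⟨p'.w, κa κ i p'.w, p'.hw, rfl⟩ hp'.1
    obtain ⟨hV, e₁⟩ := hrep₁ ⟨κa κ i p'.w, p'.y, hU'', p'.hy⟩ hp'.2
    refine ⟨hV, ?_⟩
    change evst D P i (κa κ i p'.w) p'.y p'.hy (s.1 ⟨p'.w, κa κ i p'.w, p'.hw, rfl⟩) = _
    rw [e'', evst_gm]
    exact e₁⟩
  map_zero' := Subtype.ext (funext fun p => map_zero _)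
  map_add' a b := Subtype.ext (funext fun p => map_add _ _ _)

lemma cmpHom_val (i : I) (W : Opens (Sp Y' i)) (s : sec (κa κ i) (lev D.Y (preS D P) i) W)
    (p : Pt ((D.comp κ).π i) W) :
    (cmpHom D P κ i W s).1 p =
      evst D P i (κa κ i p.w) p.y p.hy (s.1 ⟨p.w, κa κ i p.w, p.hw, rfl⟩) := rfl

lemma cmpHom_injective (i : I) (W : Opens (Sp Y' i)) :
    Function.Injective (cmpHom D P κ i W) := by
  rw [injective_iff_map_eq_zero]
  intro s hs
  apply sec_ext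
  intro q
  obtain ⟨w, y', hw, hy'⟩ := q
  subst hy'
  have h1 := congrArg (fun r : sec ((D.comp κ).π i) P W => r.1 ⟨w, D.π i (κa κ i w), hw, rfl⟩) hs
  have h2 : evst D P i (κa κ i w) (D.π i (κa κ i w)) rfl (s.1 ⟨w, κa κ i w, hw, rfl⟩) = 0 := h1
  exact (injective_iff_map_eq_zero _).1 (evst_injective D P i (κa κ i w) (D.π i (κa κ i w)) rfl)
    _ h2

lemma cmpHom_surjective (i : I) (W : Opens (Sp Y' i)) :
    Function.Surjective (cmpHom D P κ i W) := by
  intro r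
  have hpt : ∀ q : Pt (κa κ i) W, D.π i q.y = (D.comp κ).π i q.w := fun q => by
    rw [q.hy]
    rfl
  let s : Raw (κa κ i) (lev D.Y (preS D P) i) W := fun q =>
    (evstEquiv D P i q.y (D.π i q.y) rfl).symm (r.1 ⟨q.w, D.π i q.y, q.hw, hpt q⟩)
  have hs : IsRep s := by
    intro q
    obtain ⟨V, t, W₁, hp, hrep⟩ := r.2 ⟨q.w, D.π i q.y, q.hw, hpt q⟩
    refine ⟨(Opens.map (D.π i)).obj V,
      gf (D.π i) P (V := V) (W := (Opens.map (D.π i)).obj V) (fun _ hw => hw) t, W₁, hp,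
      fun q' hq' => ?_⟩
    obtain ⟨hV, e⟩ := hrep ⟨q'.w, D.π i q'.y, q'.hw, hpt q'⟩ hq'
    refine ⟨hV, ?_⟩
    change (evstEquiv D P i q'.y (D.π i q'.y) rfl).symm (r.1 ⟨q'.w, D.π i q'.y, q'.hw, hpt q'⟩) = _
    rw [AddEquiv.symm_apply_eq, evstEquiv_apply, evst_gm, e]
    rfl
  refine ⟨⟨s, hs⟩, ?_⟩
  apply sec_ext
  intro p
  obtain ⟨w, y, hw, hy⟩ := p
  subst hy
  change evst D P i (κa κ i w) _ rfl
    ((evstEquiv D P i (κa κ i w) (D.π i (κa κ i w)) rfl).symm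
      (r.1 ⟨w, D.π i (κa κ i w), hw, _⟩)) = _
  rw [← evstEquiv_apply, AddEquiv.apply_symm_apply]
  rfl

/-- the comparison morphism of presheaves -/
def cmpNat : preD κ (preS D P) ⟶ preS (D.comp κ) P where
  app B := AddCommGrpCat.ofHom (cmpHom D P κ B.unop.i B.unop.U)
  naturality A B m := by
    ext s'
    let s : sec (κa κ A.unop.i) (lev D.Y (preS D P) A.unop.i) A.unop.U := s'
    change cmpHom D P κ B.unop.i B.unop.U (trnD κ (preS D P) m.unop s) =
      trnS (D.comp κ) P m.unop (cmpHom D P κ A.unop.i A.unop.U s)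
    apply sec_ext
    intro p
    change (cmpHom D P κ B.unop.i B.unop.U (trnD κ (preS D P) m.unop s)).1 p =
      (trnS (D.comp κ) P m.unop (cmpHom D P κ A.unop.i A.unop.U s)).1 p
    obtain ⟨U', σ', W₁, hp, hrep⟩ := s.2 (ptD κ m.unop ⟨p.w, κa κ B.unop.i p.w, p.hw, rfl⟩)
    let σ : sec (D.π A.unop.i) P U' := σ'
    obtain ⟨h₁, e₁⟩ := hrep _ hp
    obtain ⟨h₂, e₂⟩ := hrep ⟨tr Y' m.unop.α p.w, κa κ A.unop.i (tr Y' m.unop.α p.w),
      m.unop.mem _ p.hw, rfl⟩ hp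
    have hL : evst D P B.unop.i (κa κ B.unop.i p.w) p.y p.hy
        ((trnD κ (preS D P) m.unop s).1 ⟨p.w, κa κ B.unop.i p.w, p.hw, rfl⟩) =
        σ.1 ⟨tr D.Y m.unop.α (κa κ B.unop.i p.w), p.y, h₁,
          p.hy.trans (D.hπ m.unop.α (κa κ B.unop.i p.w)).symm⟩ := by
      rw [trnD_val_rep κ (preS D P) m.unop s ⟨p.w, κa κ B.unop.i p.w, p.hw, rfl⟩ U' σ' h₁ e₁,
        evst_gm]
      rfl
    have hR : evst D P A.unop.i (κa κ A.unop.i (tr Y' m.unop.α p.w)) p.y
        (ptS (D.comp κ) m.unop p).hy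
        (s.1 ⟨tr Y' m.unop.α p.w, κa κ A.unop.i (tr Y' m.unop.α p.w), m.unop.mem _ p.hw, rfl⟩) =
        σ.1 ⟨κa κ A.unop.i (tr Y' m.unop.α p.w), p.y, h₂, (ptS (D.comp κ) m.unop p).hy⟩ := by
      rw [e₂, evst_gm]
    exact hL.trans ((val_congr (D.π A.unop.i) P σ _ _ (κ_nat κ m.unop.α p.w).symm _ _ _ _ _).trans
      hR.symm)

lemma cmpNat_app_apply (B : Obj Y') (s : sec (κa κ B.i) (lev D.Y (preS D P) B.i) B.U) :
    ((cmpNat D P κ).app (op B)).hom s = cmpHom D P κ B.i B.U s := rfl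

instance isIso_cmpNat : IsIso (cmpNat D P κ) := by
  haveI : ∀ B, IsIso ((cmpNat D P κ).app B) := fun B =>
    (ConcreteCategory.isIso_iff_bijective _).2
      ⟨cmpHom_injective D P κ B.unop.i B.unop.U, cmpHom_surjective D P κ B.unop.i B.unop.U⟩
  exact NatIso.isIso_of_isIso_app _

/-- presheaf-level composition iso -/
def cmpIsoP : preD κ (preS D P) ≅ preS (D.comp κ) P :=
  @asIso _ _ _ _ (cmpNat D P κ) (isIso_cmpNat D P κ)

/-- **composition of inverse images** -/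
def cmpIso (F : CohTop.Ab S) :
    (pullD κ).obj ((pullS D).obj F) ≅ (pullS (D.comp κ)).obj F :=
  (fullyFaithfulSheafToPresheaf _ _).preimageIso (cmpIsoP D F.obj κ)

end Groth.Agent.Lib.Helper5.DCmp
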