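import Groth.Agent.Lib.Helper5.DPull

/-!
# Restriction of sheaves on a diagram site along a functor of index categories

For a diagram `D` over `S` indexed by `I` and a functor `φ : I' ⥤ I`, the restricted diagram
`D.restr φ`, the restriction functor `resSh φ D` from sheaves on the site of `D` to sheaves on the
site of `D.restr φ` (exact, and the identity on the levels), and its compatibility with the inverse
images from the base.
-/

set_option autoImplicit false

universe u

open CategoryTheory CategoryTheory.Limits Opposite TopologicalSpace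

noncomputable section

namespace Groth.Agent.Lib.Helper5.DRestr

open Groth.Agent.Lib.Helper5.DSite Groth.Agent.Lib.Helper5.GermFam Groth.Agent.Lib.Helper5.DPull

variable {I I' : Type u} [Category.{u} I] [Category.{u} I'] (φ : I' ⥤ I) {S : TopCat.{u}}
  (D : OverS I S)

/-- the restricted diagram -/
def _root_.Groth.Agent.Lib.Helper5.DPull.OverS.restr : OverS I' S where
  Y := φ.op ⋙ D.Y
  π i' := D.π (φ.obj i')
  hπ α w := D.hπ (φ.map α) w

/-- the functor between the sites -/
def φs : Obj (D.restr φ).Y ⥤ Obj D.Y where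
  obj B := ⟨φ.obj B.i, B.U⟩
  map m := ⟨φ.map m.α, m.mem⟩
  map_id B := DSite.hom_ext (φ.map_id _)
  map_comp m m' := DSite.hom_ext (φ.map_comp _ _)

@[simp] lemma φs_map_α {A B : Obj (D.restr φ).Y} (m : A ⟶ B) :
    ((φs φ D).map m).α = φ.map m.α := rfl

/-- restriction of presheaves -/
abbrev resP (G : (Obj D.Y)ᵒᵖ ⥤ AddCommGrpCat.{u}) : (Obj (D.restr φ).Y)ᵒᵖ ⥤ AddCommGrpCat.{u} :=
  (φs φ D).op ⋙ G

/-- the levels of the restriction -/
def levIsoR (G : (Obj D.Y)ᵒᵖ ⥤ AddCommGrpCat.{u}) (i' : I') :
    lev (D.restr φ).Y (resP φ D G) i' ≅ lev D.Y G (φ.obj i') :=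
  NatIso.ofComponents (fun U => Iso.refl _) (by
    intro U U' h
    have key : (lev (D.restr φ).Y (resP φ D G) i').map h = (lev D.Y G (φ.obj i')).map h := by
      change G.map ((φs φ D).map ((ι (D.restr φ).Y i').map h.unop)).op =
        G.map ((ι D.Y (φ.obj i')).map h.unop).op
      exact congrArg (fun m => G.map (Quiver.Hom.op m)) (DSite.hom_ext (φ.map_id _))
    exact (Category.comp_id _).trans (key.trans (Category.id_comp _).symm))

/-- **restriction of sheaves** -/
def resSh : Sh D.Y ⥤ Sh (D.restr φ).Y :=
  ObjectProperty.lift _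
    (sheafToPresheaf (J D.Y) AddCommGrpCat.{u} ⋙
      (Functor.whiskeringLeft _ _ AddCommGrpCat.{u}).obj (φs φ D).op)
    (fun G => isSheaf_of_levelwise (D.restr φ).Y _ (fun i' =>
      TopCat.Presheaf.isSheaf_of_iso (levIsoR φ D G.obj i').symm
        ((ev D.Y (φ.obj i')).obj G).property))

lemma resSh_obj_obj (G : Sh D.Y) : ((resSh φ D).obj G).obj = resP φ D G.obj := rfl

instance : (resSh φ D).Additive where
  map_add := by
    intro G G' θ θ'
    apply CategoryTheory.Sheaf.hom_ext
    ext B s
    rfl

/-- the levels of the restriction -/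
def resLevIso (i' : I') :
    (resSh φ D ⋙ ev (D.restr φ).Y i' : Sh D.Y ⥤ CohTop.Ab (Sp D.Y (φ.obj i'))) ≅
      ev D.Y (φ.obj i') :=
  NatIso.ofComponents (fun G =>
    { hom := ⟨(levIsoR φ D G.obj i').hom⟩
      inv := ⟨(levIsoR φ D G.obj i').inv⟩
      hom_inv_id := by
        apply CategoryTheory.Sheaf.hom_ext
        exact (levIsoR φ D G.obj i').hom_inv_id
      inv_hom_id := by
        apply CategoryTheory.Sheaf.hom_ext
        exact (levIsoR φ D G.obj i').inv_hom_id })
    (by
      intro G G' θ
      apply CategoryTheory.Sheaf.hom_ext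
      ext W s
      rfl)

lemma pfl_lev (i' : I') : PreservesFiniteLimits (resSh φ D ⋙ ev (D.restr φ).Y i') := by
  have h : PreservesFiniteLimits
      (resSh φ D ⋙ ev (D.restr φ).Y i' : Sh D.Y ⥤ CohTop.Ab (Sp D.Y (φ.obj i'))) :=
    preservesFiniteLimits_of_natIso (resLevIso φ D i').symm
  exact h

lemma pfc_lev (i' : I') : PreservesFiniteColimits (resSh φ D ⋙ ev (D.restr φ).Y i') := by
  have h : PreservesFiniteColimits
      (resSh φ D ⋙ ev (D.restr φ).Y i' : Sh D.Y ⥤ CohTop.Ab (Sp D.Y (φ.obj i'))) :=
    preservesFiniteColimits_of_natIso (resLevIso φ D i').symm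
  exact h

lemma exact_resSh : PreservesFiniteLimits (resSh φ D) ∧ PreservesFiniteColimits (resSh φ D) :=
  exact_of_ev (resSh φ D) (pfl_lev φ D) (pfc_lev φ D)

instance : PreservesFiniteLimits (resSh φ D) := (exact_resSh φ D).1

instance : PreservesFiniteColimits (resSh φ D) := (exact_resSh φ D).2

/-! ### compatibility with the inverse image from the base -/

/-- the restriction of the inverse image is the inverse image to the restricted diagram -/
def preSRestrIso (P : (Opens S)ᵒᵖ ⥤ AddCommGrpCat.{u}) :
    preS (D.restr φ) P ≅ resP φ D (preS D P) :=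
  NatIso.ofComponents (fun B => Iso.refl _) (by
    intro A B m
    have key : (preS (D.restr φ) P).map m = (resP φ D (preS D P)).map m := rfl
    exact (Category.comp_id _).trans (key.trans (Category.id_comp _).symm))

/-- the restriction of the inverse image is the inverse image to the restricted diagram -/
def pullSRestrIso (F : CohTop.Ab S) :
    (pullS (D.restr φ)).obj F ≅ (resSh φ D).obj ((pullS D).obj F) :=
  (fullyFaithfulSheafToPresheaf _ _).preimageIso (preSRestrIso φ D F.obj)

end Groth.Agent.Lib.Helper5.DRestr
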