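import Groth.Agent.Lib.Helper5.LimAdj
import Groth.Agent.Lib.Helper5.DRestr
import Groth.Agent.Lib.Helper5.DCmp

/-!
# Diagrams of spaces indexed by a product category, over a diagram indexed by the first factor

For a diagram `B` over `S` indexed by `I₁` and a diagram `Y'` indexed by `I₁ × I₂` with a morphism
`κ` to the restriction of `B` along the first projection, the total diagram `ZZ B κ` over `S`, the
columns `col B κ m` (diagrams over the spaces `B_m`), the relative direct image `relPush B κ` from
sheaves on the site of `Y'` to sheaves on the site of `B` (compatible families in the second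
index), and the iterated description of the direct image: `limPush (ZZ B κ)` is the composite of
`relPush B κ` and `limPush B`.
-/

set_option autoImplicit false

universe u

open CategoryTheory CategoryTheory.Limits Opposite TopologicalSpace

noncomputable section

namespace Groth.Agent.Lib.Helper5.DBi

open Groth.Agent.Lib.Helper5.DSite Groth.Agent.Lib.Helper5.DPull Groth.Agent.Lib.Helper5.GermFam
  Groth.Agent.Lib.Helper5.LimPush Groth.Agent.Lib.Helper5.LimAdj Groth.Agent.Lib.Helper5.DRestr
  Groth.Agent.Lib.Helper5.DCmp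

/-! ### monomorphisms and left exactness are levelwise -/

section levelwise

variable {I : Type u} [Category.{u} I] {Y : Iᵒᵖ ⥤ TopCat.{u}}

lemma mono_of_ev {G G' : Sh Y} (f : G ⟶ G') (h : ∀ i, Mono ((ev Y i).map f)) : Mono f := by
  have h1 : ∀ A : (Obj Y)ᵒᵖ, Mono (f.hom.app A) := by
    intro A
    obtain ⟨⟨i, U⟩⟩ := A
    have := h i
    have h2 : Mono ((ev Y i).map f).hom :=
      (inferInstance : Mono ((sheafToPresheaf _ AddCommGrpCat.{u}).map ((ev Y i).map f)))
    exact (inferInstance : Mono (((ev Y i).map f).hom.app (op U)))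
  have h3 : Mono f.hom := NatTrans.mono_of_mono_app _
  exact (sheafToPresheaf (J Y) AddCommGrpCat.{u}).mono_of_mono_map h3

/-- an additive functor to sheaves on the site is left exact if it is left exact on every level -/
theorem pfl_of_ev {𝒜 : Type (u + 1)} [Category.{u} 𝒜] [Abelian 𝒜] (Φ : 𝒜 ⥤ Sh Y) [Φ.Additive]
    (h1 : ∀ i, PreservesFiniteLimits (Φ ⋙ ev Y i)) : PreservesFiniteLimits Φ := by
  rw [Functor.preservesFiniteLimits_iff_forall_exact_map_and_mono]
  intro S hS
  have hk : ∀ i, (S.map (Φ ⋙ ev Y i)).Exact ∧ Mono ((Φ ⋙ ev Y i).map S.f) := fun i =>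
    (Functor.preservesFiniteLimits_iff_forall_exact_map_and_mono (Φ ⋙ ev Y i)).1 (h1 i) S hS
  constructor
  · rw [ShortComplex.exact_iff_isZero_homology]
    apply isZero_of_ev
    intro i
    have hex' : ((S.map Φ).map (ev Y i)).Exact := (hk i).1
    exact ((ShortComplex.exact_iff_isZero_homology _).1 hex').of_iso
      ((S.map Φ).mapHomologyIso (ev Y i)).symm
  · exact mono_of_ev _ (fun i => (hk i).2)

end levelwise

variable {I₁ I₂ : Type u} [Category.{u} I₁] [Category.{u} I₂] {S : TopCat.{u}} (B : OverS I₁ S)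
  {Y' : (I₁ × I₂)ᵒᵖ ⥤ TopCat.{u}} (κ : Y' ⟶ (CategoryTheory.Prod.fst I₁ I₂).op ⋙ B.Y)

/-- the total diagram over the base -/
abbrev ZZ : OverS (I₁ × I₂) S :=
  { Y := Y'
    π := fun i => κ.app (op i) ≫ B.π i.1
    hπ := by
      intro i j α w
      change B.π i.1 (κ.app (op i) (tr Y' α w)) = B.π j.1 (κ.app (op j) w)
      have h := κ_nat κ α w
      exact (congrArg (B.π i.1) h).trans (B.hπ α.1 _) }

/-- the components of the projection -/
abbrev κc (m : I₁) (n : I₂) : Sp Y' (m, n) ⟶ Sp B.Y m := κ.app (op (m, n))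

lemma κc_nat {m m' : I₁} {n n' : I₂} (α : m ⟶ m') (β : n ⟶ n') (w : Sp Y' (m', n')) :
    κc B κ m n (tr Y' (CategoryTheory.Prod.mkHom α β) w) = tr B.Y α (κc B κ m' n' w) :=
  κ_nat κ (CategoryTheory.Prod.mkHom α β) w

/-- the column of index `m`, as a diagram over the base -/
abbrev colR (m : I₁) : OverS I₂ S := (ZZ B κ).restr (CategoryTheory.Prod.sectR m I₂)

/-- the column of index `m`, as a diagram over the space `B_m` -/
abbrev col (m : I₁) : OverS I₂ (Sp B.Y m) :=
  { Y := (colR B κ m).Y
    π := fun n => κc B κ m n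
    hπ := by
      intro n n' β w
      have h := κc_nat B κ (𝟙 m) β w
      exact h.trans (tr_id_apply B.Y m _) }

/-- restriction of presheaves to the column of index `m` -/
abbrev resC (m : I₁) (G : (Obj Y')ᵒᵖ ⥤ AddCommGrpCat.{u}) :
    (Obj (col B κ m).Y)ᵒᵖ ⥤ AddCommGrpCat.{u} :=
  resP (CategoryTheory.Prod.sectR m I₂) (ZZ B κ) G

/-- the objects of the total site over an object of the site of `B` -/
abbrev relO (A : Obj B.Y) (n : I₂) : Obj Y' := ⟨(A.i, n), (Opens.map (κc B κ A.i n)).obj A.U⟩

/-- the morphisms of the total site over a morphism of the site of `B` -/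
def relHom {A' A : Obj B.Y} (g : A' ⟶ A) (n : I₂) : relO B κ A' n ⟶ relO B κ A n :=
  mkHom (A := relO B κ A' n) (B := relO B κ A n) (CategoryTheory.Prod.mkHom g.α (𝟙 n)) (fun w hw => by
    change κc B κ A.i n (tr Y' (CategoryTheory.Prod.mkHom g.α (𝟙 n)) w) ∈ A.U
    rw [κc_nat]
    exact g.mem _ hw)

@[simp] lemma relHom_α {A' A : Obj B.Y} (g : A' ⟶ A) (n : I₂) :
    (relHom B κ g n).α = CategoryTheory.Prod.mkHom g.α (𝟙 n) := rfl

/-- the morphisms of the total site inside a column -/
abbrev colHom (A : Obj B.Y) {n n' : I₂} (β : n ⟶ n') : relO B κ A n' ⟶ relO B κ A n :=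
  (φs (CategoryTheory.Prod.sectR A.i I₂) (ZZ B κ)).map (homBVg (col B κ A.i) β (le_refl A.U))

lemma colHom_α (A : Obj B.Y) {n n' : I₂} (β : n ⟶ n') :
    (colHom B κ A β).α = CategoryTheory.Prod.mkHom (𝟙 A.i) β := rfl

lemma rel_col_comm {A' A : Obj B.Y} (g : A' ⟶ A) {n n' : I₂} (β : n ⟶ n') :
    colHom B κ A' β ≫ relHom B κ g n = relHom B κ g n' ≫ colHom B κ A β :=
  DSite.hom_ext (CategoryTheory.Prod.hom_ext ((Category.comp_id _).trans (Category.id_comp _).symm)
    ((Category.id_comp _).trans (Category.comp_id _).symm))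

/-! ### the relative direct image -/

section presheaf

variable (G : (Obj Y')ᵒᵖ ⥤ AddCommGrpCat.{u})

/-- the compatible families in a column over an object of the site of `B` -/
abbrev RelObj (A : Obj B.Y) : AddSubgroup (∀ n : I₂, G.obj (op (relO B κ A n))) :=
  LPobj (col B κ A.i) (resC B κ A.i G) A.U

lemma RelObj_compat (A : Obj B.Y) (x : RelObj B κ G A) {n n' : I₂} (β : n ⟶ n') :
    (G.map (colHom B κ A β).op).hom (x.1 n) = x.1 n' :=
  LPobj_compat (col B κ A.i) (resC B κ A.i G) A.U x β

/-- the transition maps of the relative direct image -/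
def relRes {A' A : Obj B.Y} (g : A' ⟶ A) : RelObj B κ G A →+ RelObj B κ G A' where
  toFun x := ⟨fun n => (G.map (relHom B κ g n).op).hom (x.1 n), by
    intro n n' β
    change (G.map (colHom B κ A' β).op).hom ((G.map (relHom B κ g n).op).hom (x.1 n)) =
      (G.map (relHom B κ g n').op).hom (x.1 n')
    have h2 : (G.map (relHom B κ g n').op).hom (x.1 n') =
        (G.map (relHom B κ g n').op).hom ((G.map (colHom B κ A β).op).hom (x.1 n)) :=
      congrArg (fun z => (G.map (relHom B κ g n').op).hom z) (RelObj_compat B κ G A x β).symm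
    refine Eq.trans ?_ h2.symm
    exact (map_comp_apply G (colHom B κ A' β) (relHom B κ g n) (x.1 n)).trans
      ((map_congr G (rel_col_comm B κ g β) (x.1 n)).trans
        (map_comp_apply G (relHom B κ g n') (colHom B κ A β) (x.1 n)).symm)⟩
  map_zero' := Subtype.ext (funext fun n => map_zero _)
  map_add' a b := Subtype.ext (funext fun n => map_add _ _ _)

lemma relRes_val {A' A : Obj B.Y} (g : A' ⟶ A) (x : RelObj B κ G A) (n : I₂) :
    (relRes B κ G g x).1 n = (G.map (relHom B κ g n).op).hom (x.1 n) := rfl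

/-- the presheaf of compatible families in the columns -/
def relPre : (Obj B.Y)ᵒᵖ ⥤ AddCommGrpCat.{u} where
  obj A := AddCommGrpCat.of (RelObj B κ G A.unop)
  map f := AddCommGrpCat.ofHom (relRes B κ G f.unop)
  map_id A := by
    refine AddCommGrpCat.hom_ext (AddMonoidHom.ext fun x => Subtype.ext (funext fun n => ?_))
    exact map_id_apply G _ rfl (x.1 n)
  map_comp f f' := by
    refine AddCommGrpCat.hom_ext (AddMonoidHom.ext fun x => Subtype.ext (funext fun n => ?_))
    change (G.map (relHom B κ (f'.unop ≫ f.unop) n).op).hom (x.1 n) =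
      (G.map (relHom B κ f'.unop n).op).hom ((G.map (relHom B κ f.unop n).op).hom (x.1 n))
    have e : relHom B κ (f'.unop ≫ f.unop) n = relHom B κ f'.unop n ≫ relHom B κ f.unop n :=
      DSite.hom_ext (CategoryTheory.Prod.hom_ext rfl (Category.comp_id _).symm)
    rw [map_comp_apply]
    exact map_congr G e (x.1 n)

lemma relPre_map_apply {A' A : Obj B.Y} (g : A' ⟶ A) (x : RelObj B κ G A) :
    ((relPre B κ G).map g.op).hom x = relRes B κ G g x := rfl

/-- the levels of the presheaf of compatible families -/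
def levIsoRel (m : I₁) : lev B.Y (relPre B κ G) m ≅ limPre (col B κ m) (resC B κ m G) :=
  NatIso.ofComponents (fun U => Iso.refl _) (by
    intro U U' h
    have key : (lev B.Y (relPre B κ G) m).map h = (limPre (col B κ m) (resC B κ m G)).map h := by
      refine AddCommGrpCat.hom_ext (AddMonoidHom.ext fun x => Subtype.ext (funext fun n => ?_))
      exact map_congr G (DSite.hom_ext rfl) _
    exact (Category.comp_id _).trans (key.trans (Category.id_comp _).symm))

variable {G}

/-- functoriality in the presheaf -/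
def relPreMap {G' : (Obj Y')ᵒᵖ ⥤ AddCommGrpCat.{u}} (θ : G ⟶ G') :
    relPre B κ G ⟶ relPre B κ G' where
  app A := AddCommGrpCat.ofHom (LPmap (col B κ A.unop.i) A.unop.U
    (Functor.whiskerLeft (φs (CategoryTheory.Prod.sectR A.unop.i I₂) (ZZ B κ)).op θ))
  naturality A A' f := by
    refine AddCommGrpCat.hom_ext (AddMonoidHom.ext fun x => Subtype.ext (funext fun n => ?_))
    exact NatTrans.naturality_apply θ (relHom B κ f.unop n).op (x.1 n)

lemma relPreMap_app_val {G' : (Obj Y')ᵒᵖ ⥤ AddCommGrpCat.{u}} (θ : G ⟶ G') (A : Obj B.Y)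
    (x : RelObj B κ G A) (n : I₂) :
    (((relPreMap B κ θ).app (op A)).hom x : RelObj B κ G' A).1 n =
      (θ.app (op (relO B κ A n))).hom (x.1 n) := rfl

end presheaf

/-- restriction of sheaves to the column of index `m` -/
abbrev resCol (m : I₁) : Sh Y' ⥤ Sh (col B κ m).Y := resSh (CategoryTheory.Prod.sectR m I₂) (ZZ B κ)

lemma isSheaf_relPre (G : Sh Y') : Presheaf.IsSheaf (J B.Y) (relPre B κ G.obj) :=
  isSheaf_of_levelwise B.Y _ (fun m =>
    TopCat.Presheaf.isSheaf_of_iso (levIsoRel B κ G.obj m).symm
      (isSheaf_limPre (col B κ m) ((resCol B κ m).obj G)))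

/-- **the relative direct image** -/
def relPush : Sh Y' ⥤ Sh B.Y where
  obj G := ⟨relPre B κ G.obj, isSheaf_relPre B κ G⟩
  map θ := ⟨relPreMap B κ θ.hom⟩
  map_id G := by
    apply CategoryTheory.Sheaf.hom_ext
    ext A x
    rfl
  map_comp θ θ' := by
    apply CategoryTheory.Sheaf.hom_ext
    ext A x
    rfl

lemma relPush_obj_obj (G : Sh Y') : ((relPush B κ).obj G).obj = relPre B κ G.obj := rfl

instance : (relPush B κ).Additive where
  map_add := by
    intro G G' θ θ'
    apply CategoryTheory.Sheaf.hom_ext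
    ext A x
    rfl

/-- the levels of the relative direct image are the direct images of the columns -/
def evRel (m : I₁) : relPush B κ ⋙ ev B.Y m ≅ resCol B κ m ⋙ limPush (col B κ m) :=
  NatIso.ofComponents (fun G =>
    { hom := ⟨(levIsoRel B κ G.obj m).hom⟩
      inv := ⟨(levIsoRel B κ G.obj m).inv⟩
      hom_inv_id := by
        apply CategoryTheory.Sheaf.hom_ext
        exact (levIsoRel B κ G.obj m).hom_inv_id
      inv_hom_id := by
        apply CategoryTheory.Sheaf.hom_ext
        exact (levIsoRel B κ G.obj m).inv_hom_id })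
    (by
      intro G G' θ
      apply CategoryTheory.Sheaf.hom_ext
      ext U x
      rfl)

lemma pfl_limPush {I : Type u} [Category.{u} I] {T : TopCat.{u}} (D : OverS I T) :
    PreservesFiniteLimits (limPush D) :=
  have : PreservesLimitsOfSize.{0, 0} (limPush D) := (adjL D).rightAdjoint_preservesLimits
  PreservesLimitsOfSize.preservesFiniteLimits _

instance : PreservesFiniteLimits (relPush B κ) :=
  pfl_of_ev (relPush B κ) (fun m => by
    have h1 : PreservesFiniteLimits (limPush (col B κ m)) := pfl_limPush (col B κ m)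
    have h2 : PreservesFiniteLimits (resCol B κ m) :=
      (exact_resSh (CategoryTheory.Prod.sectR m I₂) (ZZ B κ)).1
    have h3 : PreservesFiniteLimits (resCol B κ m ⋙ limPush (col B κ m)) :=
      comp_preservesFiniteLimits _ _
    exact preservesFiniteLimits_of_natIso (evRel B κ m).symm)

/-! ### the iterated description of the direct image -/

section fubini

variable (G : (Obj Y')ᵒᵖ ⥤ AddCommGrpCat.{u}) (V : Opens S)

/-- the morphism of the total site over a morphism of the index category -/
abbrev totHom {i j : I₁ × I₂} (f : i ⟶ j) : BVg (ZZ B κ) V j ⟶ BVg (ZZ B κ) V i :=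
  homBVg (ZZ B κ) f (le_refl V)

/-- a compatible family over the total diagram defines a compatible family of compatible
families -/
def toIter : LPobj (ZZ B κ) G V →+ LPobj B (relPre B κ G) V where
  toFun z := ⟨fun m => (⟨fun n => z.1 (m, n), by
      intro n n' β
      exact LPobj_compat (ZZ B κ) G V z (CategoryTheory.Prod.mkHom (𝟙 m) β)⟩ : RelObj B κ G (BVg B V m)), by
    intro m m' α
    refine Subtype.ext (funext fun n => ?_)
    have h := LPobj_compat (ZZ B κ) G V z (CategoryTheory.Prod.mkHom α (𝟙 n))
    refine Eq.trans ?_ h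
    exact map_congr G (DSite.hom_ext rfl) _⟩
  map_zero' := rfl
  map_add' _ _ := rfl

lemma toIter_val (z : LPobj (ZZ B κ) G V) (m : I₁) (n : I₂) :
    ((toIter B κ G V z).1 m : RelObj B κ G (BVg B V m)).1 n = z.1 (m, n) := rfl

/-- a compatible family of compatible families defines a compatible family over the total
diagram -/
def ofIter : LPobj B (relPre B κ G) V →+ LPobj (ZZ B κ) G V where
  toFun X := ⟨fun i => ((X.1 i.1 : RelObj B κ G (BVg B V i.1)).1 i.2), by
    rintro ⟨m, n⟩ ⟨m', n'⟩ ⟨α, β⟩
    have h1 := LPobj_compat B (relPre B κ G) V X α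
    have h2 : (G.map (relHom B κ (homBVg B α (le_refl V)) n).op).hom
        ((X.1 m : RelObj B κ G (BVg B V m)).1 n) =
        (X.1 m' : RelObj B κ G (BVg B V m')).1 n :=
      congrArg (fun y : RelObj B κ G (BVg B V m') => y.1 n) h1
    have h3 := RelObj_compat B κ G (BVg B V m') (X.1 m') β
    change (G.map (totHom B κ V (CategoryTheory.Prod.mkHom α β)).op).hom
      ((X.1 m : RelObj B κ G (BVg B V m)).1 n) = (X.1 m' : RelObj B κ G (BVg B V m')).1 n'
    refine Eq.trans ?_ h3
    have h4 : (G.map (colHom B κ (BVg B V m') β).op).hom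
        ((X.1 m' : RelObj B κ G (BVg B V m')).1 n) =
        (G.map (colHom B κ (BVg B V m') β).op).hom
          ((G.map (relHom B κ (homBVg B α (le_refl V)) n).op).hom
            ((X.1 m : RelObj B κ G (BVg B V m)).1 n)) :=
      congrArg (fun y => (G.map (colHom B κ (BVg B V m') β).op).hom y) h2.symm
    refine Eq.trans ?_ h4.symm
    refine Eq.trans ?_ (map_comp_apply G (colHom B κ (BVg B V m') β)
      (relHom B κ (homBVg B α (le_refl V)) n) _).symm
    exact map_congr G (DSite.hom_ext (CategoryTheory.Prod.hom_ext (Category.comp_id _).symm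
      (Category.id_comp _).symm)) _⟩
  map_zero' := rfl
  map_add' _ _ := rfl

lemma ofIter_val (X : LPobj B (relPre B κ G) V) (m : I₁) (n : I₂) :
    (ofIter B κ G V X).1 (m, n) = (X.1 m : RelObj B κ G (BVg B V m)).1 n := rfl

/-- compatible families over the total diagram are the compatible families of compatible
families -/
def iterEquiv : LPobj B (relPre B κ G) V ≃+ LPobj (ZZ B κ) G V where
  toFun := ofIter B κ G V
  invFun := toIter B κ G V
  left_inv X := by
    apply LPobj_ext
    intro m
    exact Subtype.ext (funext fun n => rfl)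
  right_inv z := by
    refine LPobj_ext (ZZ B κ) G _ _ ?_
    rintro ⟨m, n⟩
    rfl
  map_add' a b := map_add (ofIter B κ G V) a b

end fubini

/-- the iterated description of the direct image, for one sheaf -/
def fubObj (G : Sh Y') :
    (limPush B).obj ((relPush B κ).obj G) ≅ (limPush (ZZ B κ)).obj G :=
  (fullyFaithfulSheafToPresheaf _ _).preimageIso
    (NatIso.ofComponents (fun V => (iterEquiv B κ G.obj V.unop).toAddCommGrpIso) (by
      intro V V' h
      refine AddCommGrpCat.hom_ext (AddMonoidHom.ext fun X => Subtype.ext (funext fun i => ?_))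
      obtain ⟨m, n⟩ := i
      exact map_congr G.obj (DSite.hom_ext rfl) _))

lemma fubObj_hom_val (G : Sh Y') (V : Opens S) (X : LPobj B (relPre B κ G.obj) V) (m : I₁)
    (n : I₂) :
    (((fubObj B κ G).hom.hom.app (op V)).hom X : LPobj (ZZ B κ) G.obj V).1 (m, n) =
      (X.1 m : RelObj B κ G.obj (BVg B V m)).1 n := rfl

/-- **the direct image of the total diagram is the iterated direct image** -/
def fub : relPush B κ ⋙ limPush B ≅ limPush (ZZ B κ) :=
  NatIso.ofComponents (fun G => fubObj B κ G) (by
    intro G G' θ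
    apply CategoryTheory.Sheaf.hom_ext
    ext V X
    refine Subtype.ext (funext fun i => ?_)
    obtain ⟨m, n⟩ := i
    rfl)

end Groth.Agent.Lib.Helper5.DBi
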