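import Groth.Agent.Lib.Helper5.DBi
import Groth.Agent.Lib.Helper5.DeltaAcyc

/-!
# Bisimplicial diagrams of spaces: acyclicity

For a simplicial diagram `B` over `S` and a bisimplicial diagram `Y'` over it, the restriction of
an injective sheaf on the total site to a column is acyclic for the direct image of the column, and
its relative direct image is acyclic for the direct image of `B`.
-/

set_option autoImplicit false

universe u

open CategoryTheory CategoryTheory.Limits Opposite TopologicalSpace Simplicial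

noncomputable section

namespace Groth.Agent.Lib.Helper5.DBiAcyc

open Groth.Agent.Lib.Helper5.DSite Groth.Agent.Lib.Helper5.DPull Groth.Agent.Lib.Helper5.GermFam
  Groth.Agent.Lib.Helper5.LimPush Groth.Agent.Lib.Helper5.LimAdj Groth.Agent.Lib.Helper5.DRestr
  Groth.Agent.Lib.Helper5.DBi Groth.Agent.Lib.Helper5.DeltaSite Groth.Agent.Lib.Helper5.DeltaAcyc
  Groth.Agent.Lib.Helper5.DYoneda Groth.Agent.Lib.Helper22

/-! ### retracts -/

lemma isZero_homology_of_retract {𝒜 : Type (u + 1)} [Category.{u} 𝒜] {𝒮 : Type (u + 1)}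
    [Category.{u} 𝒮] [Abelian 𝒮] (T : 𝒜 ⥤ CochainComplex 𝒮 ℕ) {G G' : 𝒜} (i : G ⟶ G')
    (r : G' ⟶ G) (h : i ≫ r = 𝟙 G) (k : ℕ) (hz : IsZero ((T.obj G').homology k)) :
    IsZero ((T.obj G).homology k) := by
  rw [IsZero.iff_id_eq_zero]
  have h1 : HomologicalComplex.homologyMap (T.map i) k ≫
      HomologicalComplex.homologyMap (T.map r) k = 𝟙 _ := by
    rw [← HomologicalComplex.homologyMap_comp, ← T.map_comp, h, CategoryTheory.Functor.map_id,
      HomologicalComplex.homologyMap_id]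
  rw [← h1, hz.eq_of_tgt (HomologicalComplex.homologyMap (T.map i) k) 0, zero_comp]

/-! ### the shifts of the two indices -/

/-- the shift of the second index -/
def σ₂ : 𝕀.{u} × 𝕀.{u} ⥤ 𝕀.{u} × 𝕀.{u} := (𝟭 𝕀.{u}).prod σΔ.{u}

/-- the natural transformation to the shift of the second index -/
def ι₂ : 𝟭 (𝕀.{u} × 𝕀.{u}) ⟶ σ₂.{u} where
  app X := (⟨𝟙 X.1, ιΔ.{u}.app X.2⟩ : X ⟶ σ₂.{u}.obj X)
  naturality X X' f := CategoryTheory.Prod.hom_ext
    ((Category.comp_id _).trans (Category.id_comp _).symm) (ιΔ.{u}.naturality f.2)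

/-- the retraction of the shift of the second index -/
def ρ₂ (X : 𝕀.{u} × 𝕀.{u}) : σ₂.{u}.obj X ⟶ X := (⟨𝟙 X.1, ρΔ X.2⟩ : σ₂.{u}.obj X ⟶ X)

lemma hρ₂ (X : 𝕀.{u} × 𝕀.{u}) : ι₂.{u}.app X ≫ ρ₂ X = 𝟙 X :=
  CategoryTheory.Prod.hom_ext (Category.comp_id _) (hρΔ X.2)

/-- the shift of the first index -/
def σ₁ : 𝕀.{u} × 𝕀.{u} ⥤ 𝕀.{u} × 𝕀.{u} := σΔ.{u}.prod (𝟭 𝕀.{u})

/-- the natural transformation to the shift of the first index -/
def ι₁ : 𝟭 (𝕀.{u} × 𝕀.{u}) ⟶ σ₁.{u} where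
  app X := (⟨ιΔ.{u}.app X.1, 𝟙 X.2⟩ : X ⟶ σ₁.{u}.obj X)
  naturality X X' f := CategoryTheory.Prod.hom_ext (ιΔ.{u}.naturality f.1)
    ((Category.comp_id _).trans (Category.id_comp _).symm)

/-- the retraction of the shift of the first index -/
def ρ₁ (X : 𝕀.{u} × 𝕀.{u}) : σ₁.{u}.obj X ⟶ X := (⟨ρΔ X.1, 𝟙 X.2⟩ : σ₁.{u}.obj X ⟶ X)

lemma hρ₁ (X : 𝕀.{u} × 𝕀.{u}) : ι₁.{u}.app X ≫ ρ₁ X = 𝟙 X :=
  CategoryTheory.Prod.hom_ext (hρΔ X.1) (Category.comp_id _)

lemma exists_retr {I : Type u} [Category.{u} I] {S : TopCat.{u}} (D : OverS I S) (σ : I ⥤ I)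
    (ι : 𝟭 I ⟶ σ) (ρ : ∀ X, σ.obj X ⟶ X) (hρ : ∀ X, ι.app X ≫ ρ X = 𝟙 X) (Q : Sh D.Y)
    (hQ : Injective Q) :
    ∃ r : DecObj D σ ι Q ⟶ Q, toDec D σ ι Q ≫ r = 𝟙 Q := by
  have : Mono (toDec D σ ι Q) := mono_toDec D σ ι ρ hρ Q
  exact ⟨Injective.factorThru (𝟙 Q) _, Injective.comp_factorThru (𝟙 Q) _⟩

variable {S : TopCat.{u}} (B : OverS 𝕀.{u} S) {Y' : (𝕀.{u} × 𝕀.{u})ᵒᵖ ⥤ TopCat.{u}}
  (κ : Y' ⟶ (CategoryTheory.Prod.fst 𝕀.{u} 𝕀.{u}).op ⋙ B.Y)

/-! ### the restriction of an injective sheaf to a column -/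

lemma hex_resCol (Q : Sh Y') (hQ : Injective Q) (m : 𝕀.{u}) (k : ℕ) :
    IsZero (((TΔ (col B κ m)).obj ((resCol B κ m).obj Q)).homology (k + 1)) := by
  obtain ⟨r, hr⟩ := exists_retr (ZZ B κ) σ₂ ι₂ ρ₂ hρ₂ Q hQ
  refine isZero_homology_of_retract (resCol B κ m ⋙ TΔ (col B κ m))
    (toDec (ZZ B κ) σ₂ ι₂ Q) r hr (k + 1) ?_
  have e : (CosimpLim.Φ (CohTop.Ab (Sp B.Y m))).obj
      (CosimpLim.dec ((PcΔ (col B κ m)).obj ((resCol B κ m).obj Q))) ≅
      (TΔ (col B κ m)).obj (DecObj (col B κ m) σΔ ιΔ ((resCol B κ m).obj Q)) :=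
    (CosimpLim.Φ (CohTop.Ab (Sp B.Y m))).mapIso (decIso (col B κ m) ((resCol B κ m).obj Q))
  have hz := IsZero.of_iso (CosimpLim.isZero_homology_dec
    ((PcΔ (col B κ m)).obj ((resCol B κ m).obj Q)) k)
      ((HomologicalComplex.homologyFunctor (CohTop.Ab (Sp B.Y m)) (ComplexShape.up ℕ)
        (k + 1)).mapIso e.symm)
  exact hz

lemma additive_limPush' {I : Type u} [Category.{u} I] {T : TopCat.{u}} (D : OverS I T) :
    (limPush D).Additive := inferInstance

instance (m : 𝕀.{u}) : (limPush (col B κ m)).Additive := additive_limPush' _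

lemma isFlasque_ev_resCol (Q : Sh Y') (hQ : Injective Q) (m i : 𝕀.{u}) :
    TopCat.Sheaf.IsFlasque ((ev (col B κ m).Y i).obj ((resCol B κ m).obj Q)) where
  epi {V W} h := by
    have := injective_obj Y' Q
    rw [AddCommGrpCat.epi_iff_surjective]
    refine map_surjective_of_injective Q.obj
      ((φs (CategoryTheory.Prod.sectR m 𝕀.{u}) (ZZ B κ)).map
        ((DSite.ι (col B κ m).Y i).map h.unop)) ?_
    intro A g g' e
    apply DSite.hom_ext
    have e' := congrArg DSite.Hom.α e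
    change (CategoryTheory.Prod.sectR m 𝕀.{u}).map (𝟙 i) ≫ g.α =
      (CategoryTheory.Prod.sectR m 𝕀.{u}).map (𝟙 i) ≫ g'.α at e'
    rwa [CategoryTheory.Functor.map_id, Category.id_comp, Category.id_comp] at e'

/-- **the restriction of an injective sheaf to a column is acyclic for the direct image of the
column** -/
theorem isZero_RD_resCol (Q : Sh Y') (hQ : Injective Q) (m : 𝕀.{u}) (n : ℕ) :
    IsZero (((limPush (col B κ m)).rightDerived (n + 1)).obj ((resCol B κ m).obj Q)) :=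
  isZero_RD_limPush (col B κ m) ((resCol B κ m).obj Q)
    (fun p => isFlasque_ev_resCol B κ Q hQ m (up ⦋p⦌)) (fun k => hex_resCol B κ Q hQ m k) n

/-! ### the relative direct image of the shift of the first index -/

section relDec

/-- comparison of the objects over the shift -/
def e₁ (A : Obj B.Y) (n : 𝕀.{u}) :
    relO B κ ((decO B σΔ ιΔ).obj A) n ⟶ (decO (ZZ B κ) σ₁ ι₁).obj (relO B κ A n) :=
  mkHom (A := relO B κ ((decO B σΔ ιΔ).obj A) n)
    (B := (decO (ZZ B κ) σ₁ ι₁).obj (relO B κ A n)) (𝟙 _) (fun w hw => by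
      refine mem_of_tr_id (ZZ B κ) ((decO (ZZ B κ) σ₁ ι₁).obj (relO B κ A n)).U w ?_
      change κc B κ A.i n (tr Y' (CategoryTheory.Prod.mkHom (ιΔ.app A.i) (𝟙 n)) w) ∈ A.U
      rw [κc_nat]
      exact hw)

/-- comparison of the objects over the shift -/
def e₁' (A : Obj B.Y) (n : 𝕀.{u}) :
    (decO (ZZ B κ) σ₁ ι₁).obj (relO B κ A n) ⟶ relO B κ ((decO B σΔ ιΔ).obj A) n :=
  mkHom (A := (decO (ZZ B κ) σ₁ ι₁).obj (relO B κ A n))
    (B := relO B κ ((decO B σΔ ιΔ).obj A) n) (𝟙 _) (fun w hw => by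
      refine mem_of_tr_id (ZZ B κ) (relO B κ ((decO B σΔ ιΔ).obj A) n).U w ?_
      have h1 : κc B κ A.i n (tr Y' (CategoryTheory.Prod.mkHom (ιΔ.app A.i) (𝟙 n)) w) ∈ A.U := hw
      rw [κc_nat] at h1
      exact h1)

variable (Q : Sh Y')

/-- the relative direct image of the shift is the shift of the relative direct image, on
sections -/
def relDecEquiv (A : Obj B.Y) :
    RelObj B κ (DecObj (ZZ B κ) σ₁ ι₁ Q).obj A ≃+ RelObj B κ Q.obj ((decO B σΔ ιΔ).obj A) where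
  toFun x := ⟨fun n => (Q.obj.map (e₁ B κ A n).op).hom (x.1 n), by
    intro n n' β
    change (Q.obj.map (colHom B κ ((decO B σΔ ιΔ).obj A) β).op).hom
      ((Q.obj.map (e₁ B κ A n).op).hom (x.1 n)) = (Q.obj.map (e₁ B κ A n').op).hom (x.1 n')
    have h1 := RelObj_compat B κ (DecObj (ZZ B κ) σ₁ ι₁ Q).obj A x β
    have h2 : (Q.obj.map ((decO (ZZ B κ) σ₁ ι₁).map (colHom B κ A β)).op).hom (x.1 n) =
        x.1 n' := h1
    rw [← h2, map_comp_apply, map_comp_apply]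
    refine map_congr Q.obj (DSite.hom_ext (CategoryTheory.Prod.hom_ext ?_ ?_)) _
    · change 𝟙 _ ≫ 𝟙 _ = σΔ.map (𝟙 A.i) ≫ 𝟙 _
      rw [CategoryTheory.Functor.map_id]
    · exact (Category.id_comp _).trans (Category.comp_id _).symm⟩
  invFun y := ⟨fun n => (Q.obj.map (e₁' B κ A n).op).hom (y.1 n), by
    intro n n' β
    change (Q.obj.map ((decO (ZZ B κ) σ₁ ι₁).map (colHom B κ A β)).op).hom
      ((Q.obj.map (e₁' B κ A n).op).hom (y.1 n)) = (Q.obj.map (e₁' B κ A n').op).hom (y.1 n')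
    have h1 := RelObj_compat B κ Q.obj ((decO B σΔ ιΔ).obj A) y β
    rw [← h1, map_comp_apply, map_comp_apply]
    refine map_congr Q.obj (DSite.hom_ext (CategoryTheory.Prod.hom_ext ?_ ?_)) _
    · change 𝟙 (σΔ.obj A.i) ≫ σΔ.map (𝟙 A.i) = 𝟙 (σΔ.obj A.i) ≫ 𝟙 (σΔ.obj A.i)
      rw [CategoryTheory.Functor.map_id]
    · exact (Category.id_comp _).trans (Category.comp_id _).symm⟩
  left_inv x := by
    refine Subtype.ext (funext fun n => ?_)
    change (Q.obj.map (e₁' B κ A n).op).hom ((Q.obj.map (e₁ B κ A n).op).hom (x.1 n)) = x.1 n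
    rw [map_comp_apply]
    exact map_id_apply Q.obj _ (Category.comp_id _) _
  right_inv y := by
    refine Subtype.ext (funext fun n => ?_)
    change (Q.obj.map (e₁ B κ A n).op).hom ((Q.obj.map (e₁' B κ A n).op).hom (y.1 n)) = y.1 n
    rw [map_comp_apply]
    exact map_id_apply Q.obj _ (Category.comp_id _) _
  map_add' a b := Subtype.ext (funext fun n => map_add _ _ _)

/-- the relative direct image of the shift is the shift of the relative direct image -/
def relDec : (relPush B κ).obj (DecObj (ZZ B κ) σ₁ ι₁ Q) ≅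
    DecObj B σΔ ιΔ ((relPush B κ).obj Q) :=
  (fullyFaithfulSheafToPresheaf _ _).preimageIso
    (NatIso.ofComponents (fun A => (relDecEquiv B κ Q A.unop).toAddCommGrpIso) (by
      intro A A' g
      refine AddCommGrpCat.hom_ext (AddMonoidHom.ext fun x => Subtype.ext (funext fun n => ?_))
      change (Q.obj.map (e₁ B κ A'.unop n).op).hom
          ((Q.obj.map ((decO (ZZ B κ) σ₁ ι₁).map (relHom B κ g.unop n)).op).hom (x.1 n)) =
        (Q.obj.map (relHom B κ ((decO B σΔ ιΔ).map g.unop) n).op).hom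
          ((Q.obj.map (e₁ B κ A.unop n).op).hom (x.1 n))
      rw [map_comp_apply, map_comp_apply]
      refine map_congr Q.obj (DSite.hom_ext (CategoryTheory.Prod.hom_ext ?_ ?_)) _
      · exact (Category.comp_id _).trans (Category.id_comp _).symm
      · exact (Category.comp_id _).trans (Category.id_comp _).symm))

end relDec

lemma hex_relPush (Q : Sh Y') (hQ : Injective Q) (k : ℕ) :
    IsZero (((TΔ B).obj ((relPush B κ).obj Q)).homology (k + 1)) := by
  obtain ⟨r, hr⟩ := exists_retr (ZZ B κ) σ₁ ι₁ ρ₁ hρ₁ Q hQ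
  refine isZero_homology_of_retract (relPush B κ ⋙ TΔ B)
    (toDec (ZZ B κ) σ₁ ι₁ Q) r hr (k + 1) ?_
  have e : (CosimpLim.Φ (CohTop.Ab S)).obj
      (CosimpLim.dec ((PcΔ B).obj ((relPush B κ).obj Q))) ≅
      (TΔ B).obj (DecObj B σΔ ιΔ ((relPush B κ).obj Q)) :=
    (CosimpLim.Φ (CohTop.Ab S)).mapIso (decIso B ((relPush B κ).obj Q))
  have hz := IsZero.of_iso (CosimpLim.isZero_homology_dec
    ((PcΔ B).obj ((relPush B κ).obj Q)) k)
      ((HomologicalComplex.homologyFunctor (CohTop.Ab S) (ComplexShape.up ℕ)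
        (k + 1)).mapIso e.symm)
  exact IsZero.of_iso hz ((HomologicalComplex.homologyFunctor (CohTop.Ab S) (ComplexShape.up ℕ)
    (k + 1)).mapIso ((TΔ B).mapIso (relDec B κ Q)))

/-! ### the levels of the relative direct image of an injective sheaf are flasque -/

section flasque

/-- the index of level zero -/
abbrev n₀ : 𝕀.{u} := up ⦋0⦌

/-- the new vertex of the shift -/
def v0 (n : 𝕀.{u}) : n₀.{u} ⟶ σΔ.{u}.obj n :=
  AsSmall.up.map (SimplexCategory.const ⦋0⦌ (CosimpLim.Sh.obj (AsSmall.down.obj n)) 0)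

lemma v0_comp {n n' : 𝕀.{u}} (β : n ⟶ n') : v0 n ≫ σΔ.{u}.map β = v0 n' := rfl

/-- the morphism to the object of level zero given by the new vertex -/
def vHom (A : Obj B.Y) (n : 𝕀.{u}) :
    (decO (ZZ B κ) σ₂ ι₂).obj (relO B κ A n) ⟶ relO B κ A n₀ :=
  mkHom (A := (decO (ZZ B κ) σ₂ ι₂).obj (relO B κ A n)) (B := relO B κ A n₀)
    (CategoryTheory.Prod.mkHom (𝟙 A.i) (v0 n)) (fun w hw => by
      have h1 : κc B κ A.i n (tr Y' (CategoryTheory.Prod.mkHom (𝟙 A.i) (ιΔ.app n)) w) ∈ A.U := hw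
      rw [κc_nat, tr_id_apply] at h1
      change κc B κ A.i n₀ (tr Y' (CategoryTheory.Prod.mkHom (𝟙 A.i) (v0 n)) w) ∈ A.U
      rw [κc_nat, tr_id_apply]
      exact h1)

/-- the morphism to the object of the shifted level -/
def wHom (A : Obj B.Y) (n : 𝕀.{u}) :
    (decO (ZZ B κ) σ₂ ι₂).obj (relO B κ A n) ⟶ relO B κ A (σΔ.obj n) :=
  mkHom (A := (decO (ZZ B κ) σ₂ ι₂).obj (relO B κ A n)) (B := relO B κ A (σΔ.obj n))
    (𝟙 _) (fun w hw => by
      refine mem_of_tr_id (ZZ B κ) (relO B κ A (σΔ.obj n)).U w ?_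
      have h1 : κc B κ A.i n (tr Y' (CategoryTheory.Prod.mkHom (𝟙 A.i) (ιΔ.app n)) w) ∈ A.U := hw
      rw [κc_nat, tr_id_apply] at h1
      exact h1)

lemma surjective_relRes (Q : Sh Y') (hQ : Injective Q) (m : 𝕀.{u}) {U' U : Opens (Sp B.Y m)}
    (h : U' ≤ U) : Function.Surjective (relRes B κ Q.obj (homOfLE' B.Y m h)) := by
  intro x'
  obtain ⟨r, hr⟩ := exists_retr (ZZ B κ) σ₂ ι₂ ρ₂ hρ₂ Q hQ
  let A : Obj B.Y := ⟨m, U⟩
  let A' : Obj B.Y := ⟨m, U'⟩
  let g : A' ⟶ A := homOfLE' B.Y m h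
  have := injective_obj Y' Q
  obtain ⟨z₀, hz₀⟩ := map_surjective_of_injective Q.obj (relHom B κ g n₀) (by
    intro V a a' e
    apply DSite.hom_ext
    have e' := congrArg DSite.Hom.α e
    change 𝟙 (m, n₀) ≫ a.α = 𝟙 (m, n₀) ≫ a'.α at e'
    rwa [Category.id_comp, Category.id_comp] at e') (x'.1 n₀)
  let y : RelObj B κ (DecObj (ZZ B κ) σ₂ ι₂ Q).obj A :=
    ⟨fun n => (Q.obj.map (vHom B κ A n).op).hom z₀, by
      intro n n' β
      change (Q.obj.map ((decO (ZZ B κ) σ₂ ι₂).map (colHom B κ A β)).op).hom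
        ((Q.obj.map (vHom B κ A n).op).hom z₀) = (Q.obj.map (vHom B κ A n').op).hom z₀
      rw [map_comp_apply]
      refine map_congr Q.obj (DSite.hom_ext (CategoryTheory.Prod.hom_ext ?_ ?_)) _
      · exact Category.comp_id _
      · exact v0_comp β⟩
  refine ⟨((relPreMap B κ r.hom).app (op A)).hom y, ?_⟩
  refine Subtype.ext (funext fun n => ?_)
  change (Q.obj.map (relHom B κ g n).op).hom ((r.hom.app (op (relO B κ A n))).hom (y.1 n)) =
    x'.1 n
  have hnat := NatTrans.naturality_apply r.hom (relHom B κ g n).op (y.1 n)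
  refine hnat.symm.trans ?_
  have hy : ((DecObj (ZZ B κ) σ₂ ι₂ Q).obj.map (relHom B κ g n).op).hom (y.1 n) =
      ((toDec (ZZ B κ) σ₂ ι₂ Q).hom.app (op (relO B κ A' n))).hom (x'.1 n) := by
    rw [toDec_app_apply]
    change (Q.obj.map ((decO (ZZ B κ) σ₂ ι₂).map (relHom B κ g n)).op).hom
      ((Q.obj.map (vHom B κ A n).op).hom z₀) = _
    rw [map_comp_apply]
    have e1 : (decO (ZZ B κ) σ₂ ι₂).map (relHom B κ g n) ≫ vHom B κ A n =
        vHom B κ A' n ≫ relHom B κ g n₀ :=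
      DSite.hom_ext (CategoryTheory.Prod.hom_ext rfl
        ((congrArg (fun z => v0 n ≫ z) (σΔ.map_id n)).trans
          ((Category.comp_id _).trans (Category.id_comp _).symm)))
    rw [map_congr Q.obj e1, ← map_comp_apply, hz₀]
    have e2 : vHom B κ A' n = wHom B κ A' n ≫ colHom B κ A' (v0 n) :=
      DSite.hom_ext (Category.comp_id _).symm
    have e3 : decN (ZZ B κ) σ₂ ι₂ (relO B κ A' n) = wHom B κ A' n ≫ colHom B κ A' (ιΔ.app n) :=
      DSite.hom_ext (Category.comp_id _).symm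
    have c1 : (Q.obj.map (colHom B κ A' (v0 n)).op).hom (x'.1 n₀) = x'.1 (σΔ.obj n) :=
      RelObj_compat B κ Q.obj A' x' (v0 n)
    have c2 : (Q.obj.map (colHom B κ A' (ιΔ.app n)).op).hom (x'.1 n) = x'.1 (σΔ.obj n) :=
      RelObj_compat B κ Q.obj A' x' (ιΔ.app n)
    refine (map_congr Q.obj e2 _).trans ?_
    refine (map_comp_apply Q.obj (wHom B κ A' n) (colHom B κ A' (v0 n)) _).symm.trans ?_
    refine (congrArg (fun z => (Q.obj.map (wHom B κ A' n).op).hom z) c1).trans ?_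
    refine (congrArg (fun z => (Q.obj.map (wHom B κ A' n).op).hom z) c2.symm).trans ?_
    refine (map_comp_apply Q.obj (wHom B κ A' n) (colHom B κ A' (ιΔ.app n)) _).trans ?_
    exact (map_congr Q.obj e3 _).symm
  rw [hy]
  have h3 := congrArg (fun φ => (φ.hom.app (op (relO B κ A' n))).hom (x'.1 n)) hr
  exact h3

lemma isFlasque_ev_relPush (Q : Sh Y') (hQ : Injective Q) (m : 𝕀.{u}) :
    TopCat.Sheaf.IsFlasque ((ev B.Y m).obj ((relPush B κ).obj Q)) where
  epi {V W} h := by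
    rw [AddCommGrpCat.epi_iff_surjective]
    exact surjective_relRes B κ Q hQ m (leOfHom h.unop)

end flasque

/-- **the relative direct image of an injective sheaf is acyclic for the direct image** -/
theorem isZero_RD_relPush (Q : Sh Y') (hQ : Injective Q) (n : ℕ) :
    IsZero (((limPush B).rightDerived (n + 1)).obj ((relPush B κ).obj Q)) :=
  isZero_RD_limPush B ((relPush B κ).obj Q)
    (fun p => isFlasque_ev_relPush B κ Q hQ (up ⦋p⦌)) (fun k => hex_relPush B κ Q hQ k) n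

end Groth.Agent.Lib.Helper5.DBiAcyc
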