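import Groth.Agent.Lib.Helper5.DOpen

/-!
# Restriction to an open subset of the base: the inverse images and the unit

For a diagram of spaces `D` over `S` and its part `D'` over an open subset `V` of `S`, the
restriction of the inverse image of a sheaf `F` on `S` is the inverse image of the restriction of
`F`, compatibly with the units of the adjunctions.
-/

set_option autoImplicit false

universe u

open CategoryTheory CategoryTheory.Limits Opposite TopologicalSpace Topology

noncomputable section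

namespace Groth.Agent.Lib.Helper5.DOpenPull

open Groth.Agent.Lib.Helper5.DSite Groth.Agent.Lib.Helper5.DPull Groth.Agent.Lib.Helper5.GermFam
  Groth.Agent.Lib.Helper5.LimPush Groth.Agent.Lib.Helper5.LimAdj Groth.Agent.Lib.Helper5.DOpen
  Groth.Agent.Lib.Helper22.CohTop

/-! ### isomorphisms of sheaves on a diagram site are detected on the levels -/

section levels

variable {I : Type u} [Category.{u} I] (Y : Iᵒᵖ ⥤ TopCat.{u})

lemma isIso_of_ev {G G' : Sh Y} (θ : G ⟶ G') (h : ∀ i, IsIso ((ev Y i).map θ)) : IsIso θ := by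
  have h1 : ∀ A : (Obj Y)ᵒᵖ, IsIso (θ.hom.app A) := by
    intro A
    obtain ⟨⟨i, U⟩⟩ := A
    have := h i
    have h2 : IsIso ((ev Y i).map θ).hom :=
      (inferInstance : IsIso ((sheafToPresheaf _ AddCommGrpCat.{u}).map ((ev Y i).map θ)))
    exact (inferInstance : IsIso (((ev Y i).map θ).hom.app (op U)))
  have h3 : IsIso θ.hom := NatIso.isIso_of_isIso_app _
  have h4 : IsIso ((sheafToPresheaf (J Y) AddCommGrpCat.{u}).map θ) := h3
  exact isIso_of_reflects_iso θ (sheafToPresheaf (J Y) AddCommGrpCat.{u})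

end levels

/-! ### germs of the restriction of a presheaf to an open subset -/

section germs

variable {S : TopCat.{u}} {V : Opens S} (P : (Opens S)ᵒᵖ ⥤ AddCommGrpCat.{u})

lemma gmP_eq_zero_of_eq {U : Opens S} {y y' : S} (e : y = y') (hy : y ∈ U) (hy' : y' ∈ U)
    (t : P.obj (op U)) (h : gmP P U y hy t = 0) : gmP P U y' hy' t = 0 := by
  subst e
  exact h

/-- the restriction of a presheaf to an open subset -/
abbrev rP : (Opens (TopCat.of V))ᵒᵖ ⥤ AddCommGrpCat.{u} := (ιU V).op ⋙ P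

lemma gmP_rP_eq_zero (N' : Opens (TopCat.of V)) (y' : (TopCat.of V : TopCat.{u})) (hy : y' ∈ N')
    (t : P.obj (op ((ιU V).obj N')))
    (h0 : gmP P ((ιU V).obj N') y'.1 ((mem_ιU_obj V).2 hy) t = 0) :
    gmP (rP (V := V) P) N' y' hy t = 0 := by
  have h1 : gmP P ((ιU V).obj N') y'.1 ((mem_ιU_obj V).2 hy) t =
      gmP P ((ιU V).obj N') y'.1 ((mem_ιU_obj V).2 hy) 0 := h0.trans (map_zero _).symm
  obtain ⟨N, hN, h1', h2', e⟩ := gmP_eq P y'.1 _ _ t 0 h1
  let N'' : Opens (TopCat.of V) := (Opens.map V.inclusion').obj N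
  have hy'' : y' ∈ N'' := hN
  have hle : N'' ≤ N' := fun z hz => (mem_ιU_obj V).1 (h1' hz)
  have hιle : (ιU V).obj N'' ≤ N := by
    rintro _ ⟨z, hz, rfl⟩
    exact hz
  have e2 : ((rP (V := V) P).map (homOfLE hle).op).hom t = 0 := by
    have e3 : (ιU V).map (homOfLE hle) = homOfLE hιle ≫ homOfLE h1' := Subsingleton.elim _ _
    change (P.map ((ιU V).map (homOfLE hle)).op).hom t = 0
    rw [e3, op_comp, P.map_comp]
    change (P.map (homOfLE hιle).op).hom ((P.map (homOfLE h1').op).hom t) = 0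
    rw [e, map_zero, map_zero]
  rw [← gmP_res (rP (V := V) P) hle y' hy'' t, e2, map_zero]

end germs

variable {I : Type u} [Category.{u} I] {S : TopCat.{u}} {V : Opens S}
  {D' : OverS I (TopCat.of V)} {D : OverS I S} (o : OpenSub D' D) (F : CohTop.Ab S)

/-- the restriction of the unit, as a morphism to the direct image of the restriction -/
def ψ : (CohTop.restrFunctor V).obj F ⟶ (limPush D').obj ((resD o).obj ((pullS D).obj F)) :=
  (CohTop.restrFunctor V).map (unitL D F) ≫ (cObj o ((pullS D).obj F)).inv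

/-- the comparison of the inverse image of the restriction and the restriction of the inverse
image -/
def θ : (pullS D').obj ((CohTop.restrFunctor V).obj F) ⟶ (resD o).obj ((pullS D).obj F) :=
  φS (ψ o F)

lemma unit_θ : unitL D' ((CohTop.restrFunctor V).obj F) ≫ (limPush D').map (θ o F) = ψ o F := by
  have h := (homEquivL D' ((CohTop.restrFunctor V).obj F)
    ((resD o).obj ((pullS D).obj F))).apply_symm_apply (ψ o F)
  rw [homEquivL_apply] at h
  exact h

lemma ψ_val (N' : Opens (TopCat.of V)) (t : F.obj.obj (op ((ιU V).obj N'))) (i : I) :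
    (((ψ o F).hom.app (op N')).hom t :
      LPobj D' ((resD o).obj ((pullS D).obj F)).obj N').1 i =
      ((preS D F.obj).map (bvTo o N' i).op).hom
        (gf (D.π i) F.obj (V := (ιU V).obj N')
          (W := (Opens.map (D.π i)).obj ((ιU V).obj N')) (fun _ hw => hw) t) := rfl

lemma himg {i : I} {N' : Opens (TopCat.of V)} {W : Opens (Sp D'.Y i)}
    (h : ∀ w, w ∈ W → D'.π i w ∈ N') :
    ∀ z, z ∈ (img o i).obj W → D.π i z ∈ (ιU V).obj N' := by
  rintro _ ⟨w, hw, rfl⟩
  rw [o.hπ]
  exact (mem_ιU_obj V).2 (h w hw)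

/-- the comparison morphism sends families of germs of a section to the families of germs of the
same section -/
lemma θ_gf (i : I) (N' : Opens (TopCat.of V)) (W : Opens (Sp D'.Y i))
    (h : ∀ w, w ∈ W → D'.π i w ∈ N') (t : F.obj.obj (op ((ιU V).obj N'))) :
    ((θ o F).hom.app (op ⟨i, W⟩)).hom (gf (D'.π i) ((CohTop.restrFunctor V).obj F).obj h t) =
      gf (D.π i) F.obj (himg o h) t := by
  have h1 := φlev_gf (ψ o F) i N' W h t
  refine h1.trans ?_
  rw [ψ_val]
  apply sec_ext
  intro q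
  rfl

lemma θ_app_injective (i : I) (W : Opens (Sp D'.Y i)) :
    Function.Injective ((θ o F).hom.app (op ⟨i, W⟩)).hom := by
  rw [injective_iff_map_eq_zero]
  intro s hs
  let s' : sec (D'.π i) ((CohTop.restrFunctor V).obj F).obj W := s
  change s' = 0
  apply sec_ext
  intro p
  obtain ⟨N', t, W₁, hx, h1, h2, e⟩ :=
    exists_gf_eq (D'.π i) ((CohTop.restrFunctor V).obj F).obj s' p.w p.hw
  have hn := NatTrans.naturality_apply (θ o F).hom (inclO D'.Y ⟨i, W⟩ W₁ h1).op s'
  have e1 : (((pullS D').obj ((CohTop.restrFunctor V).obj F)).obj.map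
      (inclO D'.Y ⟨i, W⟩ W₁ h1).op).hom s' =
      resHom (D'.π i) ((CohTop.restrFunctor V).obj F).obj h1 s' :=
    lev_preS_map D' ((CohTop.restrFunctor V).obj F).obj h1 s'
  have a1 : ((θ o F).hom.app (op ⟨i, W₁⟩)).hom
      (resHom (D'.π i) ((CohTop.restrFunctor V).obj F).obj h1 s') =
      (((resD o).obj ((pullS D).obj F)).obj.map (inclO D'.Y ⟨i, W⟩ W₁ h1).op).hom
        (((θ o F).hom.app (op ⟨i, W⟩)).hom s') :=
    (congrArg (fun z => ((θ o F).hom.app (op ⟨i, W₁⟩)).hom z) e1.symm).trans hn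
  have a2 : ((θ o F).hom.app (op ⟨i, W₁⟩)).hom
      (resHom (D'.π i) ((CohTop.restrFunctor V).obj F).obj h1 s') =
      gf (D.π i) F.obj (himg o h2) t :=
    (congrArg (fun z => ((θ o F).hom.app (op ⟨i, W₁⟩)).hom z) e).trans (θ_gf o F i N' W₁ h2 t)
  have a3 : (((resD o).obj ((pullS D).obj F)).obj.map (inclO D'.Y ⟨i, W⟩ W₁ h1).op).hom
      (((θ o F).hom.app (op ⟨i, W⟩)).hom s') = 0 :=
    (congrArg (fun z => (((resD o).obj ((pullS D).obj F)).obj.map
      (inclO D'.Y ⟨i, W⟩ W₁ h1).op).hom z) hs).trans (map_zero _)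
  have a4 : gf (D.π i) F.obj (himg o h2) t = 0 := a2.symm.trans (a1.trans a3)
  have h3 := (gf_eq_zero_iff (D.π i) F.obj (himg o h2) t).1 a4 (o.e i p.w) ((e_mem_img o).2 hx)
  have h4 : s'.1 p = (resHom (D'.π i) ((CohTop.restrFunctor V).obj F).obj h1 s').1
      ⟨p.w, p.y, hx, p.hy⟩ := rfl
  rw [h4, e]
  obtain ⟨w, y, hw, hy⟩ := p
  subst hy
  refine gmP_rP_eq_zero F.obj N' (D'.π i w) (h2 w hx) t ?_
  exact gmP_eq_zero_of_eq F.obj (o.hπ i w) _ _ t h3

lemma θ_locally_surj (i : I) (W : Opens (Sp D'.Y i))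
    (s : sec (D.π i) F.obj ((img o i).obj W)) (w₀ : Sp D'.Y i) (hw₀ : w₀ ∈ W) :
    ∃ (W₁ : Opens (Sp D'.Y i)) (h1 : W₁ ≤ W), w₀ ∈ W₁ ∧
      ∃ s' : sec (D'.π i) ((CohTop.restrFunctor V).obj F).obj W₁,
        ((θ o F).hom.app (op ⟨i, W₁⟩)).hom s' =
          resHom (D.π i) F.obj (leOfHom ((img o i).map (homOfLE h1))) s := by
  obtain ⟨N, t, W₂, hx, h1, h2, e⟩ :=
    exists_gf_eq (D.π i) F.obj s (o.e i w₀) ((e_mem_img o).2 hw₀)
  let N' : Opens (TopCat.of V) := (Opens.map V.inclusion').obj N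
  have hιle : (ιU V).obj N' ≤ N := by
    rintro _ ⟨z, hz, rfl⟩
    exact hz
  let t' : F.obj.obj (op ((ιU V).obj N')) := (F.obj.map (homOfLE hιle).op).hom t
  let W₁ : Opens (Sp D'.Y i) := W ⊓ (Opens.map (o.e i)).obj W₂
  have hW₁ : W₁ ≤ W := inf_le_left
  have h' : ∀ w, w ∈ W₁ → D'.π i w ∈ N' := fun w hw => by
    change (D'.π i w).1 ∈ N
    rw [← o.hπ]
    exact h2 _ hw.2
  refine ⟨W₁, hW₁, ⟨hw₀, hx⟩, gf (D'.π i) ((CohTop.restrFunctor V).obj F).obj h' t', ?_⟩
  rw [θ_gf]
  have hle2 : (img o i).obj W₁ ≤ W₂ := by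
    rintro _ ⟨w, hw, rfl⟩
    exact hw.2
  have e2 : resHom (D.π i) F.obj (leOfHom ((img o i).map (homOfLE hW₁))) s =
      resHom (D.π i) F.obj hle2 (resHom (D.π i) F.obj h1 s) := rfl
  rw [e2, e, res_gf]
  exact gf_map (D.π i) F.obj hιle _ t

lemma isIso_ev_θ (i : I) : IsIso ((ev D'.Y i).map (θ o F)) := by
  have hmono : Mono ((ev D'.Y i).map (θ o F)) := by
    have h1 : ∀ W : (Opens (Sp D'.Y i))ᵒᵖ, Mono (((ev D'.Y i).map (θ o F)).hom.app W) := by
      intro W
      rw [AddCommGrpCat.mono_iff_injective]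
      exact θ_app_injective o F i W.unop
    have h2 : Mono ((ev D'.Y i).map (θ o F)).hom := NatTrans.mono_of_mono_app _
    exact (sheafToPresheaf _ AddCommGrpCat.{u}).mono_of_mono_map h2
  have hepi : Epi ((ev D'.Y i).map (θ o F)) := by
    refine (TopCat.Sheaf.isLocallySurjective_iff_epi _).mp ?_
    rw [TopCat.Presheaf.isLocallySurjective_iff]
    intro W s w₀ hw₀
    obtain ⟨W₁, h1, hw₁, s', hs'⟩ := θ_locally_surj o F i W s w₀ hw₀
    refine ⟨W₁, h1, ⟨s', hs'.trans ?_⟩, hw₁⟩
    exact (lev_preS_map D F.obj (leOfHom ((img o i).map (homOfLE h1))) s).symm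
  exact isIso_of_mono_of_epi _

/-- **the restriction of the inverse image is the inverse image of the restriction** -/
theorem isIso_θ : IsIso (θ o F) := isIso_of_ev D'.Y (θ o F) (fun i => isIso_ev_θ o F i)

/-- the restriction of the unit -/
lemma restr_unit : (CohTop.restrFunctor V).map (unitL D F) =
    unitL D' ((CohTop.restrFunctor V).obj F) ≫ (limPush D').map (θ o F) ≫
      (cObj o ((pullS D).obj F)).hom := by
  have h := unit_θ o F
  rw [← Category.assoc, h, ψ, Category.assoc, Iso.inv_hom_id, Category.comp_id]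

include o in
/-- **the restriction of the unit is an isomorphism if the unit of the restriction is** -/
theorem isIso_restr_unit (h : IsIso (unitL D' ((CohTop.restrFunctor V).obj F))) :
    IsIso ((CohTop.restrFunctor V).map (unitL D F)) := by
  rw [restr_unit o F]
  have := isIso_θ o F
  infer_instance

end Groth.Agent.Lib.Helper5.DOpenPull
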