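import Groth.Agent.Lib.Helper5.LimAdj

/-!
# A diagram of spaces over a space over a base

For a diagram of spaces `D` over `T` and a continuous map `p : T ⟶ S`, the diagram `D.over p` over
`S`.  Its direct image is the composite of the direct image of `D` and the direct image along `p`;
hence its inverse image is the composite of the inverse images.  The canonical morphism from the
inverse image `p^* F` to the direct image of the inverse image of `F` to `D.over p` is the unit of
`D` at `p^* F` up to this identification.
-/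

set_option autoImplicit false

universe u

open CategoryTheory CategoryTheory.Limits Opposite TopologicalSpace

noncomputable section

namespace Groth.Agent.Lib.Helper5.DOverP

open Groth.Agent.Lib.Helper5.DSite Groth.Agent.Lib.Helper5.DPull Groth.Agent.Lib.Helper5.GermFam
  Groth.Agent.Lib.Helper5.LimPush Groth.Agent.Lib.Helper5.LimAdj

variable {I : Type u} [Category.{u} I] {T S : TopCat.{u}} (D : OverS I T) (p : T ⟶ S)

/-- the diagram over the base of the base -/
abbrev ovr : OverS I S :=
  { Y := D.Y
    π := fun i => D.π i ≫ p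
    hπ := by
      intro i j α w
      change p (D.π i (tr D.Y α w)) = p (D.π j w)
      rw [D.hπ] }

/-! ### the direct images -/

/-- the compatible families over the inverse image of an open subset -/
def eqv (P : (Obj D.Y)ᵒᵖ ⥤ AddCommGrpCat.{u}) (V : Opens S) :
    LPobj D P ((Opens.map p).obj V) ≃+ LPobj (ovr D p) P V where
  toFun x := ⟨fun i => x.1 i, fun i j α => x.2 i j α⟩
  invFun y := ⟨fun i => y.1 i, fun i j α => y.2 i j α⟩
  left_inv _ := rfl
  right_inv _ := rfl
  map_add' _ _ := rfl

/-- the direct image to the base, for one sheaf -/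
def eRobj (G : Sh D.Y) :
    (CohTop.push p).obj ((limPush D).obj G) ≅ (limPush (ovr D p)).obj G :=
  (fullyFaithfulSheafToPresheaf _ _).preimageIso
    (NatIso.ofComponents (fun V => (eqv D p G.obj V.unop).toAddCommGrpIso) (by
      intro V V' h
      refine AddCommGrpCat.hom_ext (AddMonoidHom.ext fun x => Subtype.ext (funext fun i => ?_))
      exact map_congr G.obj (DSite.hom_ext rfl) _))

lemma eRobj_hom_val (G : Sh D.Y) (V : Opens S) (x : LPobj D G.obj ((Opens.map p).obj V))
    (i : I) :
    (((eRobj D p G).hom.hom.app (op V)).hom x : LPobj (ovr D p) G.obj V).1 i = x.1 i := rfl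

lemma eRobj_inv_val (G : Sh D.Y) (V : Opens S) (y : LPobj (ovr D p) G.obj V) (i : I) :
    (((eRobj D p G).inv.hom.app (op V)).hom y : LPobj D G.obj ((Opens.map p).obj V)).1 i =
      y.1 i := rfl

/-- **the direct image to the base is the composite of the direct images** -/
def eR : limPush D ⋙ CohTop.push p ≅ limPush (ovr D p) :=
  NatIso.ofComponents (fun G => eRobj D p G) (by
    intro G G' θ
    apply CategoryTheory.Sheaf.hom_ext
    ext V x
    rfl)

/-! ### the inverse images -/

/-- the composite adjunction -/
def adj₁ : GFsh p ⋙ pullS D ⊣ limPush D ⋙ CohTop.push p := (adjGF p).comp (adjL D)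

/-- the adjunction of the diagram over the base -/
def adj₂ : pullS (ovr D p) ⊣ limPush D ⋙ CohTop.push p :=
  (adjL (ovr D p)).ofNatIsoRight (eR D p).symm

/-- **the inverse image from the base is the composite of the inverse images** -/
def θ : GFsh p ⋙ pullS D ≅ pullS (ovr D p) := (adj₁ D p).leftAdjointUniq (adj₂ D p)

lemma adj₁_unit_app (F : CohTop.Ab S) :
    (adj₁ D p).unit.app F =
      (adjGF p).unit.app F ≫ (CohTop.push p).map (unitL D ((GFsh p).obj F)) := by
  have h := Adjunction.comp_unit_app (adjGF p) (adjL D) F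
  rw [adjL_unit_app] at h
  exact h

lemma adj₂_unit_app (F : CohTop.Ab S) :
    (adj₂ D p).unit.app F = unitL (ovr D p) F ≫ (eRobj D p ((pullS (ovr D p)).obj F)).inv := by
  have h1 : (adj₂ D p).unit.app F = (adj₂ D p).homEquiv _ _ (𝟙 _) :=
    ((adj₂ D p).homEquiv_id F).symm
  rw [h1]
  have h2 := Adjunction.homEquiv_ofNatIsoRight_apply (adjL (ovr D p)) (eR D p).symm
    (𝟙 ((pullS (ovr D p)).obj F))
  refine h2.trans ?_
  rw [Adjunction.homEquiv_id, adjL_unit_app]
  rfl

lemma unit_θ (F : CohTop.Ab S) :
    (adjGF p).unit.app F ≫ (CohTop.push p).map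
      (unitL D ((GFsh p).obj F) ≫ (limPush D).map ((θ D p).hom.app F)) =
      unitL (ovr D p) F ≫ (eRobj D p ((pullS (ovr D p)).obj F)).inv := by
  have h := Adjunction.unit_leftAdjointUniq_hom_app (adj₁ D p) (adj₂ D p) F
  rw [adj₁_unit_app, adj₂_unit_app] at h
  rw [CategoryTheory.Functor.map_comp, ← Category.assoc]
  exact h

/-! ### the canonical morphism -/

section zeta

variable (P : (Opens S)ᵒᵖ ⥤ AddCommGrpCat.{u})

/-- the inverse image of a family of germs along a level of the diagram -/
def pbSec (U : Opens T) (i : I) :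
    sec p P U →+ sec ((ovr D p).π i) P ((Opens.map (D.π i)).obj U) where
  toFun s := ⟨fun q => s.1 ⟨D.π i q.w, q.y, q.hw, q.hy⟩, fun q => by
    obtain ⟨V, t, W₁, hp, hq⟩ := s.2 ⟨D.π i q.w, q.y, q.hw, q.hy⟩
    exact ⟨V, t, (Opens.map (D.π i)).obj W₁, hp,
      fun q' hq' => hq ⟨D.π i q'.w, q'.y, q'.hw, q'.hy⟩ hq'⟩⟩
  map_zero' := rfl
  map_add' _ _ := rfl

lemma pbSec_val (U : Opens T) (i : I) (s : sec p P U)
    (q : Pt ((ovr D p).π i) ((Opens.map (D.π i)).obj U)) :
    (pbSec D p P U i s).1 q = s.1 ⟨D.π i q.w, q.y, q.hw, q.hy⟩ := rfl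

/-- the inverse images of a family of germs along the levels of the diagram -/
def ζhom (U : Opens T) : sec p P U →+ LPobj D (preS (ovr D p) P) U where
  toFun s := ⟨fun i => pbSec D p P U i s, by
    intro i j α
    refine sec_ext ((ovr D p).π j) P _ _ (fun q => ?_)
    exact val_congr p P s _ _ (D.hπ α q.w) _ _ _ _ _⟩
  map_zero' := Subtype.ext (funext fun i => map_zero _)
  map_add' a b := Subtype.ext (funext fun i => map_add _ _ _)

lemma ζhom_val (U : Opens T) (s : sec p P U) (i : I) :
    (ζhom D p P U s).1 i = pbSec D p P U i s := rfl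

end zeta

/-- the canonical morphism from the inverse image along `p` to the direct image of the inverse
image to the diagram over the base -/
def ζ (F : CohTop.Ab S) : (GFsh p).obj F ⟶ (limPush D).obj ((pullS (ovr D p)).obj F) :=
  ⟨{ app := fun U => AddCommGrpCat.ofHom (ζhom D p F.obj U.unop)
     naturality := by
       intro U U' h
       refine AddCommGrpCat.hom_ext (AddMonoidHom.ext fun s => Subtype.ext (funext fun i => ?_))
       refine sec_ext ((ovr D p).π i) F.obj _ _ (fun q => ?_)
       let s' : sec p F.obj U.unop := s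
       exact (val_congr p F.obj s' _ _ (congrArg (D.π i) (tr_id_apply D.Y i q.w)) _ _ _ _ _).symm }⟩

lemma ζ_app (F : CohTop.Ab S) (U : Opens T) (s : sec p F.obj U) :
    ((ζ D p F).hom.app (op U)).hom s = ζhom D p F.obj U s := rfl

/-- **the canonical morphism is the unit of the diagram, up to the identification of the inverse
images** -/
theorem ζ_eq (F : CohTop.Ab S) :
    ζ D p F = unitL D ((GFsh p).obj F) ≫ (limPush D).map ((θ D p).hom.app F) := by
  apply ((adjGF p).homEquiv F _).injective
  rw [Adjunction.homEquiv_unit, Adjunction.homEquiv_unit, unit_θ, adjGF_unit_app]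
  apply CategoryTheory.Sheaf.hom_ext
  ext V t
  refine Subtype.ext (funext fun i => ?_)
  refine sec_ext ((ovr D p).π i) F.obj _ _ (fun q => ?_)
  rfl

include D in
/-- the canonical morphism is an isomorphism if the unit of the diagram is -/
theorem isIso_ζ (F : CohTop.Ab S) (h : IsIso (unitL D ((GFsh p).obj F))) : IsIso (ζ D p F) := by
  rw [ζ_eq]
  infer_instance

end Groth.Agent.Lib.Helper5.DOverP
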