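import Groth.Agent.Lib.Helper5.DBiAcyc
import Groth.Agent.Lib.Helper5.DOverP
import Groth.Agent.Lib.Helper5.DOpenPull
import Groth.Agent.Lib.Helper22.RightDerivedExact

/-!
# Bisimplicial diagrams of spaces: cohomological descent of the total diagram

For a simplicial diagram `B` over `S` and a bisimplicial diagram `Y'` over it all of whose columns
are of cohomological descent over the spaces `B_m`, the total diagram is of cohomological descent
over `S` if and only if `B` is.
-/

set_option autoImplicit false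

universe u

open CategoryTheory CategoryTheory.Limits Opposite TopologicalSpace Simplicial

noncomputable section

namespace Groth.Agent.Lib.Helper5.DBiMain

open Groth.Agent.Lib.Helper5.DSite Groth.Agent.Lib.Helper5.DPull Groth.Agent.Lib.Helper5.GermFam
  Groth.Agent.Lib.Helper5.LimPush Groth.Agent.Lib.Helper5.LimAdj Groth.Agent.Lib.Helper5.DRestr
  Groth.Agent.Lib.Helper5.DBi Groth.Agent.Lib.Helper5.DeltaSite Groth.Agent.Lib.Helper5.DeltaAcyc
  Groth.Agent.Lib.Helper5.DBiAcyc Groth.Agent.Lib.Helper5.DOverP Groth.Agent.Lib.Helper22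

/-- cohomological descent for a diagram of spaces over a base: the unit is an isomorphism and the
higher direct images of the inverse images vanish -/
def CD {I : Type u} [Category.{u} I] {S : TopCat.{u}} (D : OverS I S) : Prop :=
  (∀ F : CohTop.Ab S, IsIso (unitL D F)) ∧
    ∀ (F : CohTop.Ab S) (q : ℕ),
      IsZero (((limPush D).rightDerived (q + 1)).obj ((pullS D).obj F))

lemma CD.congr {I : Type u} [Category.{u} I] {S : TopCat.{u}} {D D' : OverS I S} (h : D = D')
    (hD : CD D) : CD D' := by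
  subst h
  exact hD

variable {S : TopCat.{u}} (B : OverS 𝕀.{u} S) {Y' : (𝕀.{u} × 𝕀.{u})ᵒᵖ ⥤ TopCat.{u}}
  (κ : Y' ⟶ (CategoryTheory.Prod.fst 𝕀.{u} 𝕀.{u}).op ⋙ B.Y)

/-! ### the comparison of the inverse images -/

section eta

variable (P : (Opens S)ᵒᵖ ⥤ AddCommGrpCat.{u})

/-- the inverse image of a family of germs to a column -/
def ηhom (A : Obj B.Y) : sec (B.π A.i) P A.U →+ RelObj B κ (preS (ZZ B κ) P) A :=
  ζhom (col B κ A.i) (B.π A.i) P A.U

lemma ηhom_val (A : Obj B.Y) (s : sec (B.π A.i) P A.U) (n : 𝕀.{u})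
    (q : Pt ((ZZ B κ).π (A.i, n)) (relO B κ A n).U) :
    (((ηhom B κ P A s).1 n : sec ((ZZ B κ).π (A.i, n)) P (relO B κ A n).U)).1 q =
      s.1 ⟨κc B κ A.i n q.w, q.y, q.hw, q.hy⟩ := rfl

end eta

/-- the comparison of the inverse image to `B` with the relative direct image of the inverse image
to the total diagram -/
def η (F : CohTop.Ab S) :
    (pullS B).obj F ⟶ (relPush B κ).obj ((pullS (ZZ B κ)).obj F) :=
  ⟨{ app := fun A => AddCommGrpCat.ofHom (ηhom B κ F.obj A.unop)
     naturality := by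
       intro A A' g
       refine AddCommGrpCat.hom_ext (AddMonoidHom.ext fun s => Subtype.ext (funext fun n => ?_))
       refine sec_ext ((ZZ B κ).π (A'.unop.i, n)) F.obj _ _ (fun q => ?_)
       let s' : sec (B.π A.unop.i) F.obj A.unop.U := s
       exact (val_congr (B.π A.unop.i) F.obj s' _ _
         (κc_nat B κ g.unop.α (𝟙 n) q.w) _ _ _ _ _).symm }⟩

lemma η_app (F : CohTop.Ab S) (A : Obj B.Y) (s : sec (B.π A.i) F.obj A.U) :
    ((η B κ F).hom.app (op A)).hom s = ηhom B κ F.obj A s := rfl

/-- **compatibility of the units** -/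
theorem unit_compat (F : CohTop.Ab S) :
    unitL (ZZ B κ) F = unitL B F ≫ (limPush B).map (η B κ F) ≫
      (fubObj B κ ((pullS (ZZ B κ)).obj F)).hom := by
  apply CategoryTheory.Sheaf.hom_ext
  ext V t
  refine Subtype.ext (funext fun i => ?_)
  obtain ⟨m, n⟩ := i
  refine sec_ext ((ZZ B κ).π (m, n)) F.obj _ _ (fun q => ?_)
  rfl

/-! ### the levels of the comparison -/

/-- the inverse image to a column over the base is the restriction of the inverse image to the
total diagram -/
def colIso (m : 𝕀.{u}) (F : CohTop.Ab S) :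
    (pullS (ovr (col B κ m) (B.π m))).obj F ≅ (resCol B κ m).obj ((pullS (ZZ B κ)).obj F) :=
  pullSRestrIso (CategoryTheory.Prod.sectR m 𝕀.{u}) (ZZ B κ) F

/-- the inverse image to a column of the inverse image to `B_m` is the restriction of the inverse
image to the total diagram -/
def colIso' (m : 𝕀.{u}) (F : CohTop.Ab S) :
    (pullS (col B κ m)).obj ((GFsh (B.π m)).obj F) ≅
      (resCol B κ m).obj ((pullS (ZZ B κ)).obj F) :=
  (θ (col B κ m) (B.π m)).app F ≪≫ colIso B κ m F

lemma ev_η (m : 𝕀.{u}) (F : CohTop.Ab S) :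
    (ev B.Y m).map (η B κ F) =
      (pullSLevIso B m).hom.app F ≫ ζ (col B κ m) (B.π m) F ≫
        (limPush (col B κ m)).map (colIso B κ m F).hom ≫
          (evRel B κ m).inv.app ((pullS (ZZ B κ)).obj F) := by
  apply CategoryTheory.Sheaf.hom_ext
  ext U s
  refine Subtype.ext (funext fun n => ?_)
  rfl

include B κ in
lemma isIso_η (hcol : ∀ (m : 𝕀.{u}) (H : CohTop.Ab (Sp B.Y m)), IsIso (unitL (col B κ m) H))
    (F : CohTop.Ab S) : IsIso (η B κ F) := by
  refine DOpenPull.isIso_of_ev B.Y (η B κ F) (fun m => ?_)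
  rw [ev_η]
  have := isIso_ζ (col B κ m) (B.π m) F (hcol m _)
  infer_instance

/-! ### the higher relative direct images of the inverse images vanish -/

lemma additive_resSh {I I' : Type u} [Category.{u} I] [Category.{u} I'] (φ : I' ⥤ I)
    {T : TopCat.{u}} (D : OverS I T) : (resSh φ D).Additive := inferInstance

instance (m : 𝕀.{u}) : (resCol B κ m).Additive := additive_resSh _ _

instance : (limPush (ZZ B κ)).Additive := additive_limPush' _

lemma pfl_resCol (m : 𝕀.{u}) : PreservesFiniteLimits (resCol B κ m) :=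
  (exact_resSh (CategoryTheory.Prod.sectR m 𝕀.{u}) (ZZ B κ)).1

lemma pfc_resCol (m : 𝕀.{u}) : PreservesFiniteColimits (resCol B κ m) :=
  (exact_resSh (CategoryTheory.Prod.sectR m 𝕀.{u}) (ZZ B κ)).2

include B κ in
lemma isZero_RD_relPush_pull
    (hcol : ∀ (m : 𝕀.{u}) (H : CohTop.Ab (Sp B.Y m)) (q : ℕ),
      IsZero (((limPush (col B κ m)).rightDerived (q + 1)).obj ((pullS (col B κ m)).obj H)))
    (F : CohTop.Ab S) (a : ℕ) :
    IsZero (((relPush B κ).rightDerived (a + 1)).obj ((pullS (ZZ B κ)).obj F)) := by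
  apply isZero_of_ev B.Y
  intro m
  have := pfl_resCol B κ m
  have := pfc_resCol B κ m
  have := pfl_limPush (col B κ m)
  have e1 := DimShift.rightDerivedCompExactIso (relPush B κ) (ev B.Y m) (a + 1)
    ((pullS (ZZ B κ)).obj F)
  have e2 := (DimShift.rightDerivedIsoOfNatIso (evRel B κ m) (a + 1)).app
    ((pullS (ZZ B κ)).obj F)
  have e3 := (Groth.Agent.Lib.Helper5.PrecompDelta.rightDerivedPrecompIso (resCol B κ m)
    (limPush (col B κ m)) (fun Q hQ n => isZero_RD_resCol B κ Q hQ m n) (a + 1)).app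
      ((pullS (ZZ B κ)).obj F)
  have e4 := ((limPush (col B κ m)).rightDerived (a + 1)).mapIso (colIso' B κ m F)
  exact IsZero.of_iso (hcol m _ a) (e1.symm ≪≫ e2 ≪≫ e3 ≪≫ e4.symm)

/-! ### the main comparison -/

include B κ in
theorem nonempty_RD_iso (hcol : ∀ m : 𝕀.{u}, CD (col B κ m)) (F : CohTop.Ab S) (n : ℕ) :
    Nonempty (((limPush (ZZ B κ)).rightDerived n).obj ((pullS (ZZ B κ)).obj F) ≅
      ((limPush B).rightDerived n).obj ((pullS B).obj F)) := by
  have := pfl_limPush B
  have e1 := (DimShift.rightDerivedIsoOfNatIso (fub B κ).symm n).app ((pullS (ZZ B κ)).obj F)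
  obtain ⟨e2⟩ := DegGroth.nonempty_iso (relPush B κ) (limPush B)
    (fun Q hQ q hq => by
      obtain ⟨k, rfl⟩ : ∃ k, q = k + 1 := ⟨q - 1, by omega⟩
      exact isZero_RD_relPush B κ Q hQ k)
    ((pullS (ZZ B κ)).obj F)
    (fun a => isZero_RD_relPush_pull B κ (fun m H q => (hcol m).2 H q) F a) n
  have := isIso_η B κ (fun m H => (hcol m).1 H) F
  have e3 := ((limPush B).rightDerived n).mapIso (asIso (η B κ F)).symm
  exact ⟨e1 ≪≫ e2 ≪≫ e3⟩

include B κ in
/-- **if all the columns are of cohomological descent, the total diagram is of cohomological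
descent if and only if the base diagram is** -/
theorem cd_iff (hcol : ∀ m : 𝕀.{u}, CD (col B κ m)) : CD (ZZ B κ) ↔ CD B := by
  have hη : ∀ F, IsIso (η B κ F) := isIso_η B κ (fun m H => (hcol m).1 H)
  constructor
  · rintro ⟨h1, h2⟩
    refine ⟨fun F => ?_, fun F q => ?_⟩
    · have := hη F
      have h3 : IsIso (unitL B F ≫ ((limPush B).map (η B κ F) ≫
          (fubObj B κ ((pullS (ZZ B κ)).obj F)).hom)) := by
        rw [← unit_compat]
        exact h1 F
      exact IsIso.of_isIso_comp_right (unitL B F) ((limPush B).map (η B κ F) ≫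
          (fubObj B κ ((pullS (ZZ B κ)).obj F)).hom)
    · obtain ⟨e⟩ := nonempty_RD_iso B κ hcol F (q + 1)
      exact IsZero.of_iso (h2 F q) e.symm
  · rintro ⟨h1, h2⟩
    refine ⟨fun F => ?_, fun F q => ?_⟩
    · have := hη F
      have := h1 F
      rw [unit_compat]
      infer_instance
    · obtain ⟨e⟩ := nonempty_RD_iso B κ hcol F (q + 1)
      exact IsZero.of_iso (h2 F q) e

end Groth.Agent.Lib.Helper5.DBiMain
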