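import Mathlib

/-!
# Directed intersections of quasi-compact opens in a spectral space

* `isOpen_constructible_of_isOpen`: opens are open in the constructible topology;
* `exists_inter_subset`: if a directed intersection of quasi-compact opens, cut with a
  quasi-compact open `V`, lies in an open `N`, then already one member cut with `V` lies in `N`;
* `isCompact_sInter_inter`: such an intersection (cut with `V`) is quasi-compact;
* `mem_generalizations_iff`: the set of generalizations of the points of a quasi-compact set `E`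
  is the intersection of the quasi-compact open neighbourhoods of `E`.
-/

set_option autoImplicit false

open TopologicalSpace Topology Set

namespace Groth.Agent.Lib.Helper5.SpectralInter

variable {X : Type*} [TopologicalSpace X]

lemma isOpen_constructible_of_isOpen [PrespectralSpace X] {s : Set X} (hs : IsOpen s) :
    IsOpen[constructibleTopology X] s := by
  obtain ⟨S, hS, rfl⟩ := PrespectralSpace.isTopologicalBasis.open_eq_sUnion hs
  refine @isOpen_sUnion X (constructibleTopology X) S ?_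
  intro t ht
  exact (hS ht).2.isOpen_constructibleTopology_of_isOpen (hS ht).1

lemma isClosed_constructible_of_isClosed [PrespectralSpace X] {s : Set X} (hs : IsClosed s) :
    IsClosed[constructibleTopology X] s := by
  rw [← @isOpen_compl_iff X s (constructibleTopology X)]
  exact isOpen_constructible_of_isOpen hs.isOpen_compl

lemma isClosed_constructible_of_isCompact_isOpen {s : Set X} (ho : IsOpen s) (hc : IsCompact s) :
    IsClosed[constructibleTopology X] s := by
  rw [← @isOpen_compl_iff X s (constructibleTopology X)]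
  exact IsCompact.isOpen_constructibleTopology_of_isClosed (by rwa [compl_compl])
    ho.isClosed_compl

variable [SpectralSpace X]

/-- the key compactness statement -/
theorem exists_inter_subset (𝒩 : Set (Set X)) (hne : 𝒩.Nonempty)
    (h𝒩o : ∀ U ∈ 𝒩, IsOpen U) (h𝒩c : ∀ U ∈ 𝒩, IsCompact U)
    (hdir : ∀ U₁ ∈ 𝒩, ∀ U₂ ∈ 𝒩, ∃ U₃ ∈ 𝒩, U₃ ⊆ U₁ ∩ U₂)
    (V : Set X) (hVo : IsOpen V) (hVc : IsCompact V) (N : Set X) (hN : IsOpen N)
    (h : (⋂₀ 𝒩) ∩ V ⊆ N) : ∃ U ∈ 𝒩, U ∩ V ⊆ N := by
  classical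
  have : Nonempty 𝒩 := hne.to_subtype
  let t : 𝒩 → Set (WithConstructibleTopology X) := fun U =>
    WithTopology.ofTopology ⁻¹' ((U.1 ∩ V) \ N)
  have htc : ∀ U, IsClosed (t U) := by
    intro U
    rw [WithConstructibleTopology.isClosed_iff]
    have e : WithTopology.toTopology (constructibleTopology X) ⁻¹' t U = (U.1 ∩ V) \ N := by
      ext x
      rfl
    rw [e]
    have h1 : IsClosed[constructibleTopology X] (U.1 ∩ V) :=
      isClosed_constructible_of_isCompact_isOpen ((h𝒩o U.1 U.2).inter hVo)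
        (QuasiSeparatedSpace.inter_isCompact _ _ (h𝒩o U.1 U.2) (h𝒩c U.1 U.2) hVo hVc)
    have h2 : IsClosed[constructibleTopology X] Nᶜ :=
      isClosed_constructible_of_isClosed hN.isClosed_compl
    exact @IsClosed.inter X (U.1 ∩ V) Nᶜ (constructibleTopology X) h1 h2
  have hst : (Set.univ ∩ ⋂ U, t U) = ∅ := by
    rw [Set.univ_inter, Set.eq_empty_iff_forall_notMem]
    intro x hx
    rw [Set.mem_iInter] at hx
    have hx1 : WithTopology.ofTopology x ∈ (⋂₀ 𝒩) ∩ V := by
      constructor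
      · intro U hU
        exact (hx ⟨U, hU⟩).1.1
      · obtain ⟨U, hU⟩ := hne
        exact (hx ⟨U, hU⟩).1.2
    obtain ⟨U, hU⟩ := hne
    exact (hx ⟨U, hU⟩).2 (h hx1)
  have hdt : Directed (· ⊇ ·) t := by
    intro U₁ U₂
    obtain ⟨U₃, hU₃, hsub⟩ := hdir U₁.1 U₁.2 U₂.1 U₂.2
    refine ⟨⟨U₃, hU₃⟩, ?_, ?_⟩
    · intro x hx
      exact ⟨⟨(hsub hx.1.1).1, hx.1.2⟩, hx.2⟩
    · intro x hx
      exact ⟨⟨(hsub hx.1.1).2, hx.1.2⟩, hx.2⟩
  obtain ⟨U, hU⟩ := isCompact_univ.elim_directed_family_closed t htc hst hdt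
  refine ⟨U.1, U.2, ?_⟩
  intro x hx
  by_contra hxN
  have : WithTopology.toTopology (constructibleTopology X) x ∈ Set.univ ∩ t U :=
    ⟨Set.mem_univ _, ⟨hx, hxN⟩⟩
  rw [hU] at this
  exact this

/-- a directed intersection of quasi-compact opens, cut with a quasi-compact open, is
quasi-compact -/
theorem isCompact_sInter_inter (𝒩 : Set (Set X)) (hne : 𝒩.Nonempty)
    (h𝒩o : ∀ U ∈ 𝒩, IsOpen U) (h𝒩c : ∀ U ∈ 𝒩, IsCompact U)
    (hdir : ∀ U₁ ∈ 𝒩, ∀ U₂ ∈ 𝒩, ∃ U₃ ∈ 𝒩, U₃ ⊆ U₁ ∩ U₂)
    (V : Set X) (hVo : IsOpen V) (hVc : IsCompact V) : IsCompact ((⋂₀ 𝒩) ∩ V) := by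
  rw [isCompact_iff_finite_subcover]
  intro ι W hWo hcov
  obtain ⟨U, hU, hsub⟩ := exists_inter_subset 𝒩 hne h𝒩o h𝒩c hdir V hVo hVc (⋃ i, W i)
    (isOpen_iUnion hWo) hcov
  have hc : IsCompact (U ∩ V) :=
    QuasiSeparatedSpace.inter_isCompact _ _ (h𝒩o U hU) (h𝒩c U hU) hVo hVc
  obtain ⟨s, hs⟩ := hc.elim_finite_subcover W hWo hsub
  refine ⟨s, ?_⟩
  intro x hx
  exact hs ⟨hx.1 U hU, hx.2⟩

/-- the generalizations of a quasi-compact set are the intersection of its quasi-compact open
neighbourhoods -/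
theorem mem_generalizations_iff (E : Set X) (hE : IsCompact E) (x : X) :
    (∃ e ∈ E, e ∈ closure {x}) ↔ ∀ U : Set X, IsOpen U → IsCompact U → E ⊆ U → x ∈ U := by
  constructor
  · rintro ⟨e, he, hex⟩ U hUo _ hEU
    by_contra hx
    have h1 : closure {x} ⊆ Uᶜ :=
      closure_minimal (Set.singleton_subset_iff.mpr hx) hUo.isClosed_compl
    exact h1 hex (hEU he)
  · intro h
    by_contra hne
    push Not at hne
    -- each `e ∈ E` has a quasi-compact open neighbourhood avoiding `x`
    have hcl : IsOpen (closure {x})ᶜ := isClosed_closure.isOpen_compl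
    have hsub : E ⊆ (closure {x})ᶜ := fun e he => hne e he
    obtain ⟨Wt, hWc, hWo, hEW, hWU⟩ :=
      PrespectralSpace.exists_isCompact_and_isOpen_between hE hcl hsub
    have hx := h Wt hWo hWc hEW
    exact hWU hx (subset_closure rfl)

end Groth.Agent.Lib.Helper5.SpectralInter
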