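import Groth.Agent.Lib.Helper5.PullStalk
import Groth.Agent.Lib.Helper5.SpectralInter

/-!
# Sections of the inverse image on a directed intersection of quasi-compact opens

`S : Sys X` packages a family `𝒩` of quasi-compact opens of a spectral space `X`, stable under
finite intersections and containing `X`, together with a set `Z` which is the intersection of the
members of `𝒩`.  For an abelian sheaf `F` on `X` with inverse image `G` on `Z` we show that the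
sections of `G` over `Z ∩ V` (`V` quasi-compact open) are the colimit of the `F(U ∩ V)`,
`U ∈ 𝒩`, in elementwise form: `cmp_eq_zero` and `exists_cmp_eq`.
-/

set_option autoImplicit false

universe u

open CategoryTheory CategoryTheory.Limits TopologicalSpace Opposite TopCat

namespace Groth.Agent.Lib.Helper5.SubspaceSect

open Groth.Agent.Lib.Helper5.PullStalk Groth.Agent.Lib.Helper5.SpectralInter

section general

variable {T : TopCat.{u}}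

lemma rs_rs (G : CohTop.Ab T) {W'' W' W : Opens T} (h : W' ≤ W) (h' : W'' ≤ W')
    (s : G.obj.obj (op W)) : rs G h' (rs G h s) = rs G (h'.trans h) s := by
  change (G.obj.map (homOfLE h).op ≫ G.obj.map (homOfLE h').op).hom s = _
  rw [← G.obj.map_comp]
  rfl

lemma rs_self (G : CohTop.Ab T) {W : Opens T} (h : W ≤ W) (s : G.obj.obj (op W)) :
    rs G h s = s := by
  have : (homOfLE h).op = 𝟙 (op W) := rfl
  change (G.obj.map (homOfLE h).op).hom s = s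
  rw [this, G.obj.map_id]
  rfl

lemma rs_congr (G : CohTop.Ab T) {W W' V : Opens T} (e : W = W') (h : W ≤ V) (h' : W' ≤ V)
    (s s' : G.obj.obj (op V)) (hs : rs G h s = rs G h s') : rs G h' s = rs G h' s' := by
  subst e
  exact hs

lemma eq_zero_of_locally (G : CohTop.Ab T) {ι : Type*} (U : ι → Opens T) (V : Opens T)
    (hUV : ∀ i, U i ≤ V) (hcov : V ≤ iSup U) (s : G.obj.obj (op V))
    (h : ∀ i, rs G (hUV i) s = 0) : s = 0 := by
  apply TopCat.Sheaf.eq_of_locally_eq' G U V (fun i => homOfLE (hUV i)) hcov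
  intro i
  have h0 : (G.obj.map (homOfLE (hUV i)).op).hom 0 = 0 := map_zero _
  exact (h i).trans h0.symm

lemma eq_of_locally (G : CohTop.Ab T) {ι : Type*} (U : ι → Opens T) (V : Opens T)
    (hUV : ∀ i, U i ≤ V) (hcov : V ≤ iSup U) (s t : G.obj.obj (op V))
    (h : ∀ i, rs G (hUV i) s = rs G (hUV i) t) : s = t :=
  TopCat.Sheaf.eq_of_locally_eq' G U V (fun i => homOfLE (hUV i)) hcov s t h

end general

variable {X : TopCat.{u}}

/-- the inclusion of a subspace -/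
noncomputable abbrev incl (Z : Set X) : TopCat.of Z ⟶ X :=
  TopCat.ofHom ⟨Subtype.val, continuous_subtype_val⟩

/-- the preimage of an open in the subspace -/
noncomputable abbrev pre (Z : Set X) (V : Opens X) : Opens (TopCat.of Z) :=
  (Opens.map (incl Z)).obj V

lemma mem_pre (Z : Set X) (V : Opens X) (x : TopCat.of Z) : x ∈ pre Z V ↔ x.1 ∈ V := Iff.rfl

lemma pre_mono (Z : Set X) {V V' : Opens X} (h : V' ≤ V) : pre Z V' ≤ pre Z V :=
  (Opens.map (incl Z)).monotone h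

/-- the inverse image sheaf on the subspace -/
noncomputable abbrev Gs (Z : Set X) (F : CohTop.Ab X) : CohTop.Ab (TopCat.of Z) :=
  (CohTop.pull (incl Z)).obj F

/-- the comparison map `F(N) → G(W')` for `W' ⊆ Z ∩ N` -/
noncomputable def cmp (Z : Set X) (F : CohTop.Ab X) {N : Opens X} {W' : Opens (TopCat.of Z)}
    (h : W' ≤ pre Z N) : F.obj.obj (op N) →+ (Gs Z F).obj.obj (op W') :=
  (rs (Gs Z F) h).comp (ρ (incl Z) F N)

lemma cmp_apply (Z : Set X) (F : CohTop.Ab X) {N : Opens X} {W' : Opens (TopCat.of Z)}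
    (h : W' ≤ pre Z N) (s : F.obj.obj (op N)) :
    cmp Z F h s = rs (Gs Z F) h (ρ (incl Z) F N s) := rfl

lemma cmp_res (Z : Set X) (F : CohTop.Ab X) {N N' : Opens X} {W' W'' : Opens (TopCat.of Z)}
    (h : W' ≤ pre Z N) (h' : W'' ≤ pre Z N') (hN : N' ≤ N) (hW : W'' ≤ W')
    (s : F.obj.obj (op N)) :
    cmp Z F h' (rs F hN s) = rs (Gs Z F) hW (cmp Z F h s) := by
  rw [cmp_apply, cmp_apply, rs_rs]
  have e := ρ_res (incl Z) F hN s
  change ρ (incl Z) F N' (rs F hN s) = rs (Gs Z F) (pre_mono Z hN) (ρ (incl Z) F N s) at e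
  rw [e, rs_rs]

lemma cmp_natural (Z : Set X) {F F' : CohTop.Ab X} (φ : F ⟶ F') {N : Opens X}
    {W' : Opens (TopCat.of Z)} (h : W' ≤ pre Z N) (s : F.obj.obj (op N)) :
    cmp Z F' h ((φ.hom.app (op N)).hom s) =
      (((CohTop.pull (incl Z)).map φ).hom.app (op W')).hom (cmp Z F h s) := by
  rw [cmp_apply, cmp_apply, ρ_natural]
  exact (ConcreteCategory.congr_hom
    (((CohTop.pull (incl Z)).map φ).hom.naturality (homOfLE h).op) _).symm

/-- the directed systems of quasi-compact opens we consider -/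
structure Sys (X : TopCat.{u}) where
  /-- the family of opens -/
  𝒩 : Set (Opens X)
  compact : ∀ U ∈ 𝒩, IsCompact (U : Set X)
  inf_mem : ∀ U₁ ∈ 𝒩, ∀ U₂ ∈ 𝒩, U₁ ⊓ U₂ ∈ 𝒩
  top_mem : ⊤ ∈ 𝒩
  /-- the intersection -/
  Z : Set X
  mem_Z : ∀ x, x ∈ Z ↔ ∀ U ∈ 𝒩, x ∈ U

namespace Sys

variable (S : Sys X)

lemma Z_le {U : Opens X} (hU : U ∈ S.𝒩) : S.Z ⊆ (U : Set X) := fun x hx => (S.mem_Z x).1 hx U hU

lemma pre_le_pre_inf {U : Opens X} (hU : U ∈ S.𝒩) (V : Opens X) :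
    pre S.Z V ≤ pre S.Z (U ⊓ V) := fun x hx => ⟨S.Z_le hU x.2, hx⟩

lemma finset_inf_mem {κ : Type*} (s : Finset κ) (f : κ → Opens X) (hf : ∀ k ∈ s, f k ∈ S.𝒩) :
    s.inf f ∈ S.𝒩 := by
  classical
  induction s using Finset.induction_on with
  | empty => exact S.top_mem
  | insert a s ha ih =>
    rw [Finset.inf_insert]
    exact S.inf_mem _ (hf a (Finset.mem_insert_self a s)) _
      (ih fun k hk => hf k (Finset.mem_insert_of_mem hk))

variable [SpectralSpace X]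

lemma exists_le_of_inter_le (V : Opens X) (hV : IsCompact (V : Set X)) (N : Opens X)
    (h : ∀ x ∈ S.Z, x ∈ V → x ∈ N) : ∃ U ∈ S.𝒩, U ⊓ V ≤ N := by
  have hZ : ⋂₀ ((fun U : Opens X => (U : Set X)) '' S.𝒩) = S.Z := by
    ext x
    rw [Set.mem_sInter, S.mem_Z]
    constructor
    · intro hx U hU
      exact hx _ ⟨U, hU, rfl⟩
    · rintro hx _ ⟨U, hU, rfl⟩
      exact hx U hU
  obtain ⟨U', ⟨U, hU, rfl⟩, hsub⟩ := exists_inter_subset
    ((fun U : Opens X => (U : Set X)) '' S.𝒩) ⟨_, ⟨⊤, S.top_mem, rfl⟩⟩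
    (by rintro _ ⟨U, _, rfl⟩; exact U.2)
    (by rintro _ ⟨U, hU, rfl⟩; exact S.compact U hU)
    (by
      rintro _ ⟨U₁, hU₁, rfl⟩ _ ⟨U₂, hU₂, rfl⟩
      exact ⟨_, ⟨U₁ ⊓ U₂, S.inf_mem U₁ hU₁ U₂ hU₂, rfl⟩, subset_rfl⟩)
    (V : Set X) V.2 hV (N : Set X) N.2
    (by
      rw [hZ]
      rintro x ⟨hx1, hx2⟩
      exact h x hx1 hx2)
  exact ⟨U, hU, hsub⟩

lemma isCompact_inter (V : Opens X) (hV : IsCompact (V : Set X)) :
    IsCompact (S.Z ∩ (V : Set X)) := by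
  have hZ : ⋂₀ ((fun U : Opens X => (U : Set X)) '' S.𝒩) = S.Z := by
    ext x
    rw [Set.mem_sInter, S.mem_Z]
    constructor
    · intro hx U hU
      exact hx _ ⟨U, hU, rfl⟩
    · rintro hx _ ⟨U, hU, rfl⟩
      exact hx U hU
  rw [← hZ]
  exact isCompact_sInter_inter
    ((fun U : Opens X => (U : Set X)) '' S.𝒩) ⟨_, ⟨⊤, S.top_mem, rfl⟩⟩
    (by rintro _ ⟨U, _, rfl⟩; exact U.2)
    (by rintro _ ⟨U, hU, rfl⟩; exact S.compact U hU)
    (by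
      rintro _ ⟨U₁, hU₁, rfl⟩ _ ⟨U₂, hU₂, rfl⟩
      exact ⟨_, ⟨U₁ ⊓ U₂, S.inf_mem U₁ hU₁ U₂ hU₂, rfl⟩, subset_rfl⟩)
    (V : Set X) V.2 hV

/-- injectivity of the comparison in the colimit -/
theorem cmp_eq_zero (F : CohTop.Ab X) (N : Opens X) (hN : IsCompact (N : Set X))
    (s : F.obj.obj (op N)) (W' : Opens (TopCat.of S.Z)) (h : W' ≤ pre S.Z N)
    (h' : pre S.Z N ≤ W') (h0 : cmp S.Z F h s = 0) :
    ∃ U ∈ S.𝒩, rs F (inf_le_right : U ⊓ N ≤ N) s = 0 := by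
  have key : ∀ z : X, z ∈ S.Z → z ∈ N →
      ∃ (V' : Opens X) (hV' : V' ≤ N), z ∈ V' ∧ rs F hV' s = 0 := by
    intro z hzZ hzN
    exact exists_res_eq_zero (incl S.Z) F (⟨z, hzZ⟩ : TopCat.of S.Z) N s hzN W' (h' hzN) h h0
  choose V' hV' hz hs0 using key
  let Nn : Opens X := ⨆ z : {z : X // z ∈ S.Z ∧ z ∈ N}, V' z.1 z.2.1 z.2.2
  have hNn : Nn ≤ N := iSup_le fun z => hV' z.1 z.2.1 z.2.2
  have hsNn : rs F hNn s = 0 := by
    apply eq_zero_of_locally F (fun z : {z : X // z ∈ S.Z ∧ z ∈ N} => V' z.1 z.2.1 z.2.2) Nn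
      (fun z => le_iSup (fun z : {z : X // z ∈ S.Z ∧ z ∈ N} => V' z.1 z.2.1 z.2.2) z) le_rfl
    intro z
    rw [rs_rs]
    exact hs0 z.1 z.2.1 z.2.2
  obtain ⟨U, hU, hUN⟩ := S.exists_le_of_inter_le N hN Nn
    (fun z hzZ hzN => Opens.mem_iSup.2 ⟨⟨z, hzZ, hzN⟩, hz z hzZ hzN⟩)
  refine ⟨U, hU, ?_⟩
  have e : rs F (inf_le_right : U ⊓ N ≤ N) s = rs F hUN (rs F hNn s) := (rs_rs F hNn hUN s).symm
  rw [e, hsNn, map_zero]

/-- local representability of sections of the inverse image by sections over quasi-compact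
opens -/
lemma exists_local (F : CohTop.Ab X) (V₀ : Opens X)
    (t : (Gs S.Z F).obj.obj (op (pre S.Z V₀))) (z : X) (hzZ : z ∈ S.Z) (hzV : z ∈ V₀) :
    ∃ (V' : Opens X) (_ : IsCompact (V' : Set X)) (_ : z ∈ V') (hV' : V' ≤ V₀)
      (s' : F.obj.obj (op V')),
      cmp S.Z F (le_refl (pre S.Z V')) s' = rs (Gs S.Z F) (pre_mono S.Z hV') t := by
  obtain ⟨V, hzV', s, W', hxW', h1, h2, e⟩ :=
    exists_local_rep (incl S.Z) F (⟨z, hzZ⟩ : TopCat.of S.Z) (pre S.Z V₀) t hzV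
  obtain ⟨Nx, hNxo, hNx⟩ := isOpen_induced_iff.1 W'.2
  have hzNx : z ∈ Nx := by
    have : (⟨z, hzZ⟩ : S.Z) ∈ Subtype.val ⁻¹' Nx := by
      rw [hNx]
      exact hxW'
    exact this
  have hopen : IsOpen ((V : Set X) ∩ Nx ∩ (V₀ : Set X)) := (V.2.inter hNxo).inter V₀.2
  have hzmem : z ∈ (V : Set X) ∩ Nx ∩ (V₀ : Set X) := ⟨⟨hzV', hzNx⟩, hzV⟩
  obtain ⟨Vb, ⟨hVbo, hVbc⟩, hzVb, hVbsub⟩ :=
    PrespectralSpace.isTopologicalBasis.exists_subset_of_mem_open hzmem hopen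
  let V' : Opens X := ⟨Vb, hVbo⟩
  have hV'V : V' ≤ V := fun y hy => (hVbsub hy).1.1
  have hV'V₀ : V' ≤ V₀ := fun y hy => (hVbsub hy).2
  have hV'W' : pre S.Z V' ≤ W' := by
    intro y hy
    have : y ∈ Subtype.val ⁻¹' Nx := (hVbsub hy).1.2
    rw [hNx] at this
    exact this
  refine ⟨V', hVbc, hzVb, hV'V₀, rs F hV'V s, ?_⟩
  rw [cmp_res S.Z F (le_refl (pre S.Z V)) (le_refl (pre S.Z V')) hV'V (pre_mono S.Z hV'V) s,
    cmp_apply, rs_self]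
  have e1 : rs (Gs S.Z F) (pre_mono S.Z hV'V) (ρ (incl S.Z) F V s) =
      rs (Gs S.Z F) hV'W' (rs (Gs S.Z F) h2 (ρ (incl S.Z) F V s)) := (rs_rs _ _ _ _).symm
  have e2 : rs (Gs S.Z F) (pre_mono S.Z hV'V₀) t = rs (Gs S.Z F) hV'W' (rs (Gs S.Z F) h1 t) :=
    (rs_rs _ _ _ _).symm
  rw [e1, e2, e]

/-- surjectivity of the comparison in the colimit -/
theorem exists_cmp_eq (F : CohTop.Ab X) (V₀ : Opens X) (hV₀ : IsCompact (V₀ : Set X))
    (t : (Gs S.Z F).obj.obj (op (pre S.Z V₀))) :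
    ∃ (U : Opens X) (hU : U ∈ S.𝒩) (s : F.obj.obj (op (U ⊓ V₀))),
      cmp S.Z F (S.pre_le_pre_inf hU V₀) s = t := by
  classical
  choose V' hV'c hzV' hV'V₀ s' hs' using S.exists_local F V₀ t
  -- a finite subcover
  let P := {z : X // z ∈ S.Z ∧ z ∈ V₀}
  have hcov : S.Z ∩ (V₀ : Set X) ⊆ ⋃ z : P, (V' z.1 z.2.1 z.2.2 : Set X) := by
    rintro z ⟨hzZ, hzV⟩
    exact Set.mem_iUnion.2 ⟨⟨z, hzZ, hzV⟩, hzV' z hzZ hzV⟩
  obtain ⟨fs, hfs⟩ := (S.isCompact_inter V₀ hV₀).elim_finite_subcover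
    (fun z : P => (V' z.1 z.2.1 z.2.2 : Set X)) (fun z => (V' z.1 z.2.1 z.2.2).2) hcov
  let κ := {z : P // z ∈ fs}
  let Vk : κ → Opens X := fun k => V' k.1.1 k.1.2.1 k.1.2.2
  let sk : ∀ k : κ, F.obj.obj (op (Vk k)) := fun k => s' k.1.1 k.1.2.1 k.1.2.2
  have hVkV₀ : ∀ k, Vk k ≤ V₀ := fun k => hV'V₀ k.1.1 k.1.2.1 k.1.2.2
  have hVkc : ∀ k, IsCompact (Vk k : Set X) := fun k => hV'c k.1.1 k.1.2.1 k.1.2.2
  have hsk : ∀ k, cmp S.Z F (le_refl (pre S.Z (Vk k))) (sk k) =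
      rs (Gs S.Z F) (pre_mono S.Z (hVkV₀ k)) t := fun k => hs' k.1.1 k.1.2.1 k.1.2.2
  have hcovk : ∀ z ∈ S.Z, z ∈ V₀ → z ∈ (⨆ k : κ, Vk k : Opens X) := by
    intro z hzZ hzV
    have := hfs ⟨hzZ, hzV⟩
    simp only [Set.mem_iUnion] at this
    obtain ⟨p, hp, hzp⟩ := this
    exact Opens.mem_iSup.2 ⟨⟨p, hp⟩, hzp⟩
  -- agreement on overlaps after shrinking
  have hpair : ∀ k l : κ, ∃ U ∈ S.𝒩,
      rs F (inf_le_right : U ⊓ (Vk k ⊓ Vk l) ≤ Vk k ⊓ Vk l)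
        (rs F (inf_le_left : Vk k ⊓ Vk l ≤ Vk k) (sk k) -
          rs F (inf_le_right : Vk k ⊓ Vk l ≤ Vk l) (sk l)) = 0 := by
    intro k l
    have hc : IsCompact ((Vk k ⊓ Vk l : Opens X) : Set X) :=
      QuasiSeparatedSpace.inter_isCompact _ _ (Vk k).2 (hVkc k) (Vk l).2 (hVkc l)
    refine S.cmp_eq_zero F (Vk k ⊓ Vk l) hc _ (pre S.Z (Vk k ⊓ Vk l)) le_rfl le_rfl ?_
    rw [map_sub,
      cmp_res S.Z F (le_refl (pre S.Z (Vk k))) (le_refl (pre S.Z (Vk k ⊓ Vk l))) inf_le_left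
        (pre_mono S.Z inf_le_left) (sk k),
      cmp_res S.Z F (le_refl (pre S.Z (Vk l))) (le_refl (pre S.Z (Vk k ⊓ Vk l))) inf_le_right
        (pre_mono S.Z inf_le_right) (sk l),
      hsk k, hsk l, rs_rs, rs_rs, sub_self]
  choose Ukl hUkl hd using hpair
  let U₁ : Opens X := (Finset.univ : Finset (κ × κ)).inf fun p => Ukl p.1 p.2
  have hU₁ : U₁ ∈ S.𝒩 := S.finset_inf_mem _ _ fun p _ => hUkl p.1 p.2
  have hU₁le : ∀ k l, U₁ ≤ Ukl k l := fun k l =>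
    Finset.inf_le (f := fun p : κ × κ => Ukl p.1 p.2) (Finset.mem_univ (k, l))
  obtain ⟨U₂, hU₂, hU₂le⟩ := S.exists_le_of_inter_le V₀ hV₀ (⨆ k : κ, Vk k) hcovk
  let U : Opens X := U₁ ⊓ U₂
  have hU : U ∈ S.𝒩 := S.inf_mem U₁ hU₁ U₂ hU₂
  -- the family to be glued
  let Ak : κ → Opens X := fun k => U ⊓ Vk k
  let ak : ∀ k, F.obj.obj (op (Ak k)) := fun k => rs F (inf_le_right : U ⊓ Vk k ≤ Vk k) (sk k)
  have hcompat : TopCat.Presheaf.IsCompatible F.obj Ak ak := by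
    intro k l
    change rs F (inf_le_left : Ak k ⊓ Ak l ≤ Ak k) (ak k) =
      rs F (inf_le_right : Ak k ⊓ Ak l ≤ Ak l) (ak l)
    have hB : Ak k ⊓ Ak l ≤ Ukl k l ⊓ (Vk k ⊓ Vk l) := by
      intro y hy
      exact ⟨hU₁le k l hy.1.1.1, hy.1.2, hy.2.2⟩
    have h1 := congrArg (rs F hB) (hd k l)
    rw [map_zero, map_sub, map_sub, rs_rs, rs_rs, rs_rs, rs_rs, sub_eq_zero] at h1
    simp only [ak]
    rw [rs_rs, rs_rs]
    exact h1
  have hAkle : ∀ k, Ak k ≤ U ⊓ V₀ := fun k => inf_le_inf_left U (hVkV₀ k)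
  have hcover : U ⊓ V₀ ≤ iSup Ak := by
    intro y hy
    have h2 : y ∈ (⨆ k : κ, Vk k : Opens X) := hU₂le ⟨hy.1.2, hy.2⟩
    obtain ⟨k, hk⟩ := Opens.mem_iSup.1 h2
    exact Opens.mem_iSup.2 ⟨k, hy.1, hk⟩
  obtain ⟨s, hs, -⟩ := TopCat.Sheaf.existsUnique_gluing' F Ak (U ⊓ V₀)
    (fun k => homOfLE (hAkle k)) hcover ak hcompat
  refine ⟨U, hU, s, ?_⟩
  -- check the equality locally on `Z ∩ V_k`
  apply eq_of_locally (Gs S.Z F) (fun k : κ => pre S.Z (Vk k)) (pre S.Z V₀)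
    (fun k => pre_mono S.Z (hVkV₀ k))
  · intro x hx
    obtain ⟨k, hk⟩ := Opens.mem_iSup.1 (hcovk x.1 x.2 hx)
    exact Opens.mem_iSup.2 ⟨k, hk⟩
  · intro k
    have hsk' : rs F (hAkle k) s = ak k := hs k
    have h1 : pre S.Z (Vk k) ≤ pre S.Z (Ak k) := S.pre_le_pre_inf hU (Vk k)
    rw [← cmp_res S.Z F (S.pre_le_pre_inf hU V₀) h1 (hAkle k) (pre_mono S.Z (hVkV₀ k)) s, hsk']
    simp only [ak]
    rw [cmp_res S.Z F (le_refl (pre S.Z (Vk k))) h1 inf_le_right le_rfl (sk k), hsk k, rs_self]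

end Sys

end Groth.Agent.Lib.Helper5.SubspaceSect
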