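import Groth.Agent.Lib.Helper5.PullStalk
import Groth.Prelude.Def_CohPull
import Groth.Agent.Lib.Helper5.SubspaceSect
import Groth.Agent.Lib.Helper5.CptSect

/-!
# The inverse image of a presheaf as a sheaf of families of germs

For a continuous map `g : Y' ⟶ Z` and a presheaf `P` of abelian groups on `Z`, the sections over
an open `W` of `Y'` of the sheaf `GF g P` are the families `(s_w ∈ P_{g(w)})_{w ∈ W}` which are
locally given by the germs of a section of `P`.  To avoid transports along equalities of points,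
the families are indexed by the pairs `(w, y)` with `y = g w`.

For an abelian sheaf `F` this sheaf is identified with Mathlib's inverse image of `F`.
-/

set_option autoImplicit false

universe u

open CategoryTheory CategoryTheory.Limits Opposite TopologicalSpace

noncomputable section

namespace Groth.Agent.Lib.Helper5.GermFam

variable {Y' Z : TopCat.{u}} (g : Y' ⟶ Z)

/-- a point of `W` together with its image -/
structure Pt (W : Opens Y') where
  /-- the point -/
  w : Y'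
  /-- its image -/
  y : Z
  hw : w ∈ W
  hy : y = g w

variable {g}

/-- the point of a bigger open -/
abbrev Pt.res {W W' : Opens Y'} (h : W' ≤ W) (p : Pt g W') : Pt g W := ⟨p.w, p.y, h p.hw, p.hy⟩

/-- the canonical point over `w` -/
abbrev Pt.of {W : Opens Y'} (w : Y') (hw : w ∈ W) : Pt g W := ⟨w, g w, hw, rfl⟩

variable (g)

section presheaf

variable (P : (Opens Z)ᵒᵖ ⥤ AddCommGrpCat.{u})

/-- the stalk, as a type -/
abbrev St (y : Z) : Type u := ↑(TopCat.Presheaf.stalk (C := AddCommGrpCat.{u}) P y)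

/-- the germ map -/
def gmP (V : Opens Z) (y : Z) (hV : y ∈ V) : P.obj (op V) →+ St P y :=
  (TopCat.Presheaf.germ (C := AddCommGrpCat.{u}) P V y hV).hom

lemma gmP_res {V V' : Opens Z} (h : V' ≤ V) (y : Z) (hy : y ∈ V') (t : P.obj (op V)) :
    gmP P V' y hy ((P.map (homOfLE h).op).hom t) = gmP P V y (h hy) t :=
  TopCat.Presheaf.germ_res_apply P (homOfLE h) y hy t

lemma gmP_map {V V' : Opens Z} (i : V' ⟶ V) (y : Z) (hy : y ∈ V') (t : P.obj (op V)) :
    gmP P V' y hy ((P.map i.op).hom t) = gmP P V y (leOfHom i hy) t :=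
  TopCat.Presheaf.germ_res_apply P i y hy t

lemma exists_gmP_eq (y : Z) (a : St P y) :
    ∃ (V : Opens Z) (hV : y ∈ V) (t : P.obj (op V)), gmP P V y hV t = a :=
  TopCat.Presheaf.exists_germ_eq (C := AddCommGrpCat.{u}) P a

lemma gmP_eq {V V' : Opens Z} (y : Z) (hV : y ∈ V) (hV' : y ∈ V') (t : P.obj (op V))
    (t' : P.obj (op V')) (h : gmP P V y hV t = gmP P V' y hV' t') :
    ∃ (W : Opens Z) (_ : y ∈ W) (h1 : W ≤ V) (h2 : W ≤ V'),
      (P.map (homOfLE h1).op).hom t = (P.map (homOfLE h2).op).hom t' := by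
  obtain ⟨W, hW, iU, iV, e⟩ := TopCat.Presheaf.germ_eq (C := AddCommGrpCat.{u}) P y hV hV' t t' h
  exact ⟨W, hW, leOfHom iU, leOfHom iV, e⟩

lemma gmP_ext {V V' : Opens Z} (y : Z) (hV : y ∈ V) (hV' : y ∈ V') (t : P.obj (op V))
    (t' : P.obj (op V')) (W : Opens Z) (hW : y ∈ W) (h1 : W ≤ V) (h2 : W ≤ V')
    (e : (P.map (homOfLE h1).op).hom t = (P.map (homOfLE h2).op).hom t') :
    gmP P V y hV t = gmP P V' y hV' t' := by
  rw [← gmP_res P h1 y hW t, ← gmP_res P h2 y hW t', e]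

/-- raw families of germs -/
abbrev Raw (W : Opens Y') : Type u := ∀ p : Pt g W, St P p.y

variable {g P}

/-- a family is locally given by the germs of sections -/
def IsRep {W : Opens Y'} (s : Raw g P W) : Prop :=
  ∀ p : Pt g W, ∃ (V : Opens Z) (t : P.obj (op V)) (W' : Opens Y'), p.w ∈ W' ∧
    ∀ q : Pt g W, q.w ∈ W' → ∃ hV : q.y ∈ V, s q = gmP P V q.y hV t

variable (g P)

/-- the group of locally representable families -/
def sec (W : Opens Y') : AddSubgroup (Raw g P W) where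
  carrier := {s | IsRep s}
  zero_mem' := fun p => ⟨⊤, 0, ⊤, trivial, fun q _ => ⟨trivial, (map_zero (gmP P ⊤ q.y trivial)).symm⟩⟩
  add_mem' := by
    intro s₁ s₂ h₁ h₂ p
    obtain ⟨V₁, t₁, W₁, hp₁, hq₁⟩ := h₁ p
    obtain ⟨V₂, t₂, W₂, hp₂, hq₂⟩ := h₂ p
    refine ⟨V₁ ⊓ V₂, (P.map (homOfLE (inf_le_left : V₁ ⊓ V₂ ≤ V₁)).op).hom t₁ +
      (P.map (homOfLE (inf_le_right : V₁ ⊓ V₂ ≤ V₂)).op).hom t₂, W₁ ⊓ W₂, ⟨hp₁, hp₂⟩,
      fun q hq => ?_⟩
    obtain ⟨hV₁, e₁⟩ := hq₁ q hq.1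
    obtain ⟨hV₂, e₂⟩ := hq₂ q hq.2
    refine ⟨⟨hV₁, hV₂⟩, ?_⟩
    change s₁ q + s₂ q = _
    rw [map_add, gmP_res, gmP_res, e₁, e₂]
  neg_mem' := by
    intro s h p
    obtain ⟨V, t, W₁, hp, hq⟩ := h p
    refine ⟨V, -t, W₁, hp, fun q hq' => ?_⟩
    obtain ⟨hV, e⟩ := hq q hq'
    refine ⟨hV, ?_⟩
    change -(s q) = _
    rw [map_neg, e]

lemma sec_ext {W : Opens Y'} (s s' : sec g P W) (h : ∀ p, s.1 p = s'.1 p) : s = s' :=
  Subtype.ext (funext h)

lemma val_congr {W : Opens Y'} (s : sec g P W) (w w' : Y') (e : w = w') (y : Z) (hw : w ∈ W)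
    (hw' : w' ∈ W) (hy : y = g w) (hy' : y = g w') : s.1 ⟨w, y, hw, hy⟩ = s.1 ⟨w', y, hw', hy'⟩ := by
  subst e
  rfl

/-- restriction of families -/
def resHom {W W' : Opens Y'} (h : W' ≤ W) : sec g P W →+ sec g P W' where
  toFun s := ⟨fun q => s.1 (q.res h), fun q => by
    obtain ⟨V, t, W₁, hp, hq⟩ := s.2 (q.res h)
    exact ⟨V, t, W₁, hp, fun q' hq' => hq (q'.res h) hq'⟩⟩
  map_zero' := rfl
  map_add' _ _ := rfl

lemma resHom_val {W W' : Opens Y'} (h : W' ≤ W) (s : sec g P W) (q : Pt g W') :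
    (resHom g P h s).1 q = s.1 (q.res h) := rfl

/-- the presheaf of families of germs -/
def pre : (Opens Y')ᵒᵖ ⥤ AddCommGrpCat.{u} where
  obj W := AddCommGrpCat.of (sec g P W.unop)
  map f := AddCommGrpCat.ofHom (resHom g P (leOfHom f.unop))
  map_id _ := rfl
  map_comp _ _ := rfl

lemma pre_map_apply {W W' : (Opens Y')ᵒᵖ} (f : W ⟶ W') (s : sec g P W.unop) :
    ((pre g P).map f).hom s = resHom g P (leOfHom f.unop) s := rfl

theorem isSheaf_pre : TopCat.Presheaf.IsSheaf (pre g P) := by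
  rw [TopCat.Presheaf.isSheaf_iff_isSheafUniqueGluing]
  intro ι Wi sf hc
  let sf' : ∀ a, sec g P (Wi a) := sf
  have key : ∀ (a b : ι) (w : Y') (y : Z) (ha : w ∈ Wi a) (hb : w ∈ Wi b) (hy : y = g w),
      (sf' a).1 ⟨w, y, ha, hy⟩ = (sf' b).1 ⟨w, y, hb, hy⟩ := by
    intro a b w y ha hb hy
    have h := hc a b
    have h' : resHom g P (inf_le_left : Wi a ⊓ Wi b ≤ Wi a) (sf' a) =
        resHom g P (inf_le_right : Wi a ⊓ Wi b ≤ Wi b) (sf' b) := h
    exact congrArg (fun t : sec g P (Wi a ⊓ Wi b) => t.1 ⟨w, y, ⟨ha, hb⟩, hy⟩) h'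
  have hex : ∀ p : Pt g (iSup Wi), ∃ a, p.w ∈ Wi a := fun p => Opens.mem_iSup.1 p.hw
  choose ch hch using hex
  let s : Raw g P (iSup Wi) := fun p => (sf' (ch p)).1 ⟨p.w, p.y, hch p, p.hy⟩
  have hs : ∀ (p : Pt g (iSup Wi)) (a : ι) (ha : p.w ∈ Wi a),
      s p = (sf' a).1 ⟨p.w, p.y, ha, p.hy⟩ := fun p a ha => key _ _ _ _ _ _ _
  have hrep : IsRep s := by
    intro p
    obtain ⟨V, t, W₁, hp, hq⟩ := (sf' (ch p)).2 ⟨p.w, p.y, hch p, p.hy⟩
    refine ⟨V, t, W₁ ⊓ Wi (ch p), ⟨hp, hch p⟩, fun q hq' => ?_⟩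
    obtain ⟨hV, e⟩ := hq ⟨q.w, q.y, hq'.2, q.hy⟩ hq'.1
    exact ⟨hV, (hs q (ch p) hq'.2).trans e⟩
  refine ⟨(⟨s, hrep⟩ : sec g P (iSup Wi)), ?_, ?_⟩
  · intro a
    change resHom g P (le_iSup Wi a) (⟨s, hrep⟩ : sec g P (iSup Wi)) = sf' a
    apply sec_ext
    intro q
    exact hs (q.res (le_iSup Wi a)) a q.hw
  · intro s' hs'
    let s'' : sec g P (iSup Wi) := s'
    change s'' = ⟨s, hrep⟩
    apply sec_ext
    intro p
    have h1 : resHom g P (le_iSup Wi (ch p)) s'' = sf' (ch p) := hs' (ch p)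
    exact congrArg (fun t : sec g P (Wi (ch p)) => t.1 ⟨p.w, p.y, hch p, p.hy⟩) h1

/-! ### functoriality in the presheaf -/

variable {P}

/-- the map on families induced by a morphism of presheaves -/
def mapP {P' : (Opens Z)ᵒᵖ ⥤ AddCommGrpCat.{u}} (θ : P ⟶ P') (W : Opens Y') :
    sec g P W →+ sec g P' W where
  toFun s := ⟨fun p => ((TopCat.Presheaf.stalkFunctor AddCommGrpCat.{u} p.y).map θ).hom (s.1 p),
    fun p => by
      obtain ⟨V, t, W₁, hp, hq⟩ := s.2 p
      refine ⟨V, (θ.app (op V)).hom t, W₁, hp, fun q hq' => ?_⟩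
      obtain ⟨hV, e⟩ := hq q hq'
      refine ⟨hV, ?_⟩
      change ((TopCat.Presheaf.stalkFunctor AddCommGrpCat.{u} q.y).map θ).hom (s.1 q) = _
      rw [e]
      exact TopCat.Presheaf.stalkFunctor_map_germ_apply V q.y hV θ t⟩
  map_zero' := Subtype.ext (funext fun p => map_zero _)
  map_add' a b := Subtype.ext (funext fun p => map_add _ _ _)

lemma mapP_val {P' : (Opens Z)ᵒᵖ ⥤ AddCommGrpCat.{u}} (θ : P ⟶ P') (W : Opens Y')
    (s : sec g P W) (p : Pt g W) :
    (mapP g θ W s).1 p =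
      ((TopCat.Presheaf.stalkFunctor AddCommGrpCat.{u} p.y).map θ).hom (s.1 p) := rfl

lemma stalkMap_gmP {P' : (Opens Z)ᵒᵖ ⥤ AddCommGrpCat.{u}} (θ : P ⟶ P') (V : Opens Z) (y : Z)
    (hV : y ∈ V) (t : P.obj (op V)) :
    ((TopCat.Presheaf.stalkFunctor AddCommGrpCat.{u} y).map θ).hom (gmP P V y hV t) =
      gmP P' V y hV ((θ.app (op V)).hom t) :=
  TopCat.Presheaf.stalkFunctor_map_germ_apply V y hV θ t

lemma mapP_add {P' : (Opens Z)ᵒᵖ ⥤ AddCommGrpCat.{u}} (θ θ' : P ⟶ P') (W : Opens Y')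
    (s : sec g P W) : mapP g (θ + θ') W s = mapP g θ W s + mapP g θ' W s := by
  apply sec_ext
  intro p
  obtain ⟨V, t, W₁, hp, hq⟩ := s.2 p
  obtain ⟨hV, e⟩ := hq p hp
  change ((TopCat.Presheaf.stalkFunctor AddCommGrpCat.{u} p.y).map (θ + θ')).hom (s.1 p) =
    ((TopCat.Presheaf.stalkFunctor AddCommGrpCat.{u} p.y).map θ).hom (s.1 p) +
      ((TopCat.Presheaf.stalkFunctor AddCommGrpCat.{u} p.y).map θ').hom (s.1 p)
  rw [e, stalkMap_gmP, stalkMap_gmP, stalkMap_gmP]
  exact map_add (gmP P' V p.y hV) ((θ.app (op V)).hom t) ((θ'.app (op V)).hom t)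

variable (P)

/-- the functor `P ↦ GF g P` to presheaves -/
def GFp : ((Opens Z)ᵒᵖ ⥤ AddCommGrpCat.{u}) ⥤ ((Opens Y')ᵒᵖ ⥤ AddCommGrpCat.{u}) where
  obj P := pre g P
  map θ :=
    { app := fun W => AddCommGrpCat.ofHom (mapP g θ W.unop)
      naturality := fun _ _ _ => rfl }
  map_id P := by
    ext W s
    apply sec_ext
    intro p
    change ((TopCat.Presheaf.stalkFunctor AddCommGrpCat.{u} p.y).map (𝟙 P)).hom _ = _
    rw [CategoryTheory.Functor.map_id]
    rfl
  map_comp θ θ' := by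
    ext W s
    apply sec_ext
    intro p
    change ((TopCat.Presheaf.stalkFunctor AddCommGrpCat.{u} p.y).map (θ ≫ θ')).hom _ = _
    rw [CategoryTheory.Functor.map_comp]
    rfl

/-- the functor `F ↦ GF g F` on abelian sheaves -/
def GFsh : CohTop.Ab Z ⥤ CohTop.Ab Y' :=
  ObjectProperty.lift _
    (sheafToPresheaf (Opens.grothendieckTopology Z) AddCommGrpCat.{u} ⋙ GFp g)
    (fun F => isSheaf_pre g F.obj)

lemma GFsh_obj_obj (F : CohTop.Ab Z) : ((GFsh g).obj F).obj = pre g F.obj := rfl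

lemma GFsh_map_hom_app {F F' : CohTop.Ab Z} (φ : F ⟶ F') (W : Opens Y') (s : sec g F.obj W) :
    (((GFsh g).map φ).hom.app (op W)).hom s = mapP g φ.hom W s := rfl

instance : (GFsh g).Additive where
  map_add := by
    intro F F' φ ψ
    apply CategoryTheory.Sheaf.hom_ext
    ext W s
    exact mapP_add g φ.hom ψ.hom W.unop s

/-! ### the family of germs of a section -/

/-- the family of germs of a section -/
def gf {V : Opens Z} {W : Opens Y'} (h : ∀ w, w ∈ W → g w ∈ V) : P.obj (op V) →+ sec g P W where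
  toFun t := ⟨fun p => gmP P V p.y (by rw [p.hy]; exact h _ p.hw) t,
    fun p => ⟨V, t, W, p.hw, fun q _ => ⟨by rw [q.hy]; exact h _ q.hw, rfl⟩⟩⟩
  map_zero' := Subtype.ext (funext fun p => map_zero _)
  map_add' a b := Subtype.ext (funext fun p => map_add _ _ _)

lemma gf_val {V : Opens Z} {W : Opens Y'} (h : ∀ w, w ∈ W → g w ∈ V) (t : P.obj (op V))
    (p : Pt g W) (hV : p.y ∈ V) : (gf g P h t).1 p = gmP P V p.y hV t := rfl

lemma res_gf {V : Opens Z} {W W' : Opens Y'} (h : ∀ w, w ∈ W → g w ∈ V) (h' : W' ≤ W)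
    (t : P.obj (op V)) : resHom g P h' (gf g P h t) = gf g P (fun w hw => h w (h' hw)) t := rfl

lemma gf_map {V V' : Opens Z} {W : Opens Y'} (hV : V' ≤ V) (h : ∀ w, w ∈ W → g w ∈ V')
    (t : P.obj (op V)) :
    gf g P h ((P.map (homOfLE hV).op).hom t) = gf g P (fun w hw => hV (h w hw)) t := by
  apply sec_ext
  intro p
  exact gmP_res P hV p.y _ t

lemma mapP_gf {P' : (Opens Z)ᵒᵖ ⥤ AddCommGrpCat.{u}} (θ : P ⟶ P') {V : Opens Z} {W : Opens Y'}
    (h : ∀ w, w ∈ W → g w ∈ V) (t : P.obj (op V)) :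
    mapP g θ W (gf g P h t) = gf g P' h ((θ.app (op V)).hom t) := by
  apply sec_ext
  intro p
  exact stalkMap_gmP θ V p.y _ t

/-- every family is locally the family of germs of a section -/
lemma exists_gf_eq {W : Opens Y'} (s : sec g P W) (x : Y') (hx : x ∈ W) :
    ∃ (V : Opens Z) (t : P.obj (op V)) (W' : Opens Y') (_ : x ∈ W') (h1 : W' ≤ W)
      (h2 : ∀ w, w ∈ W' → g w ∈ V), resHom g P h1 s = gf g P h2 t := by
  obtain ⟨V, t, W₁, hp, hq⟩ := s.2 (Pt.of x hx)
  have h2 : ∀ w, w ∈ W₁ ⊓ W → g w ∈ V := fun w hw => (hq (Pt.of w hw.2) hw.1).1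
  refine ⟨V, t, W₁ ⊓ W, ⟨hp, hx⟩, inf_le_right, h2, ?_⟩
  apply sec_ext
  intro q
  exact (hq (q.res inf_le_right) q.hw.1).2

lemma gf_eq_zero_iff {V : Opens Z} {W : Opens Y'} (h : ∀ w, w ∈ W → g w ∈ V) (t : P.obj (op V)) :
    gf g P h t = 0 ↔ ∀ (w : Y') (hw : w ∈ W), gmP P V (g w) (h w hw) t = 0 := by
  constructor
  · intro h0 w hw
    exact congrArg (fun s : sec g P W => s.1 (Pt.of w hw)) h0
  · intro h0
    apply sec_ext
    intro p
    obtain ⟨w, y, hw, hy⟩ := p
    subst hy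
    exact h0 w hw

end presheaf

/-! ### comparison with the inverse image -/

section bridge

open Groth.Agent.Lib.Helper5.PullStalk

variable (F : CohTop.Ab Z)

/-- the unit `F ⟶ g_* (GF g F)` -/
def toGF : F ⟶ (CohTop.push g).obj ((GFsh g).obj F) :=
  ⟨{ app := fun V => AddCommGrpCat.ofHom
        (gf g F.obj (V := V.unop) (W := (Opens.map g).obj V.unop) (fun _ hw => hw))
     naturality := by
       intro V V' f
       ext t
       apply sec_ext (g := g) (P := F.obj)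
       intro p
       exact gmP_map F.obj f.unop p.y _ t }⟩

lemma toGF_app (V : Opens Z) (t : F.obj.obj (op V)) :
    ((toGF g F).hom.app (op V)).hom t =
      gf g F.obj (V := V) (W := (Opens.map g).obj V) (fun _ hw => hw) t := rfl

lemma toGF_natural {F F' : CohTop.Ab Z} (φ : F ⟶ F') :
    φ ≫ toGF g F' = toGF g F ≫ (CohTop.push g).map ((GFsh g).map φ) := by
  apply CategoryTheory.Sheaf.hom_ext
  ext V t
  exact (mapP_gf g F.obj φ.hom (V := V.unop) (W := (Opens.map g).obj V.unop)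
    (fun _ hw => hw) t).symm

/-- the comparison morphism `g⁻¹F ⟶ GF g F` -/
def β : (CohTop.pull g).obj F ⟶ (GFsh g).obj F :=
  ((adj g).homEquiv _ _).symm (toGF g F)

lemma η_β : η g F ≫ (CohTop.push g).map (β g F) = toGF g F := by
  have h := (adj g).homEquiv_unit (X := F) (Y := (GFsh g).obj F) (f := β g F)
  rw [← h]
  unfold β
  rw [Equiv.apply_symm_apply]

lemma β_ρ (V : Opens Z) (t : F.obj.obj (op V)) :
    ((β g F).hom.app (op ((Opens.map g).obj V))).hom (ρ g F V t) =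
      gf g F.obj (V := V) (W := (Opens.map g).obj V) (fun _ hw => hw) t := by
  have h := congrArg (fun k => (k.hom.app (op V)).hom t) (η_β g F)
  exact h

lemma β_natural {F F' : CohTop.Ab Z} (φ : F ⟶ F') :
    (CohTop.pull g).map φ ≫ β g F' = β g F ≫ (GFsh g).map φ := by
  unfold β
  rw [← Adjunction.homEquiv_naturality_left_symm, ← Adjunction.homEquiv_naturality_right_symm,
    toGF_natural]

lemma β_res {W W' : Opens Y'} (h : W' ≤ W) (a : ((CohTop.pull g).obj F).obj.obj (op W)) :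
    ((β g F).hom.app (op W')).hom (rs ((CohTop.pull g).obj F) h a) =
      resHom g F.obj h (((β g F).hom.app (op W)).hom a) :=
  ConcreteCategory.congr_hom ((β g F).hom.naturality (homOfLE h).op) a

/-- the stalk map of the comparison -/
def mc (x : Y') : CohTop.stalk F (g x) ⟶ CohTop.stalk ((GFsh g).obj F) x :=
  c g F x ≫ (TopCat.Presheaf.stalkFunctor AddCommGrpCat.{u} x).map (β g F).hom

lemma mc_germ (x : Y') (V : Opens Z) (hV : g x ∈ V) (t : F.obj.obj (op V)) :
    (mc g F x).hom (gm F V (g x) hV t) =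
      gm ((GFsh g).obj F) ((Opens.map g).obj V) x hV
        (gf g F.obj (V := V) (W := (Opens.map g).obj V) (fun _ hw => hw) t) := by
  change ((TopCat.Presheaf.stalkFunctor AddCommGrpCat.{u} x).map (β g F).hom).hom
    ((c g F x).hom (gm F V (g x) hV t)) = _
  rw [c_germ]
  have h := TopCat.Presheaf.stalkFunctor_map_germ_apply ((Opens.map g).obj V) x hV (β g F).hom
    (ρ g F V t)
  refine h.trans ?_
  exact congrArg (fun z => gm ((GFsh g).obj F) ((Opens.map g).obj V) x hV z) (β_ρ g F V t)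

lemma injective_mc (x : Y') : Function.Injective (mc g F x).hom := by
  rw [injective_iff_map_eq_zero]
  intro a ha
  obtain ⟨V, hV, t, rfl⟩ := TopCat.Presheaf.exists_germ_eq (C := AddCommGrpCat.{u}) F.obj a
  have ha' : gm ((GFsh g).obj F) ((Opens.map g).obj V) x hV
      (gf g F.obj (V := V) (W := (Opens.map g).obj V) (fun _ hw => hw) t) =
      gm ((GFsh g).obj F) ((Opens.map g).obj V) x hV 0 := by
    rw [← mc_germ, map_zero]
    exact ha
  obtain ⟨W, hxW, iU, iV, e⟩ := TopCat.Presheaf.germ_eq (C := AddCommGrpCat.{u})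
    ((GFsh g).obj F).obj x hV hV _ _ ha'
  have e' : resHom g F.obj (leOfHom iU)
      (gf g F.obj (V := V) (W := (Opens.map g).obj V) (fun _ hw => hw) t) =
      resHom g F.obj (leOfHom iV) 0 := e
  rw [map_zero, res_gf] at e'
  exact (gf_eq_zero_iff g F.obj _ t).1 e' x hxW

lemma surjective_mc (x : Y') : Function.Surjective (mc g F x).hom := by
  intro b
  obtain ⟨W, hxW, s, rfl⟩ := TopCat.Presheaf.exists_germ_eq (C := AddCommGrpCat.{u})
    ((GFsh g).obj F).obj b
  obtain ⟨V, t, W', hxW', h1, h2, e⟩ := exists_gf_eq g F.obj (s : sec g F.obj W) x hxW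
  refine ⟨gm F V (g x) (h2 x hxW') t, ?_⟩
  rw [mc_germ]
  have e1 : gm ((GFsh g).obj F) W x hxW s =
      gm ((GFsh g).obj F) W' x hxW' (resHom g F.obj h1 (s : sec g F.obj W)) :=
    (TopCat.Presheaf.germ_res_apply ((GFsh g).obj F).obj (homOfLE h1) x hxW' s).symm
  have e2 : gm ((GFsh g).obj F) ((Opens.map g).obj V) x (h2 x hxW')
      (gf g F.obj (V := V) (W := (Opens.map g).obj V) (fun _ hw => hw) t) =
      gm ((GFsh g).obj F) W' x hxW' (resHom g F.obj (fun w hw => h2 w hw)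
        (gf g F.obj (V := V) (W := (Opens.map g).obj V) (fun _ hw => hw) t)) :=
    (TopCat.Presheaf.germ_res_apply ((GFsh g).obj F).obj
      (homOfLE (fun w hw => h2 w hw : W' ≤ (Opens.map g).obj V)) x hxW' _).symm
  rw [e1, e2, e, res_gf]

theorem isIso_β : IsIso (β g F) := by
  have : ∀ x : Y', IsIso ((TopCat.Presheaf.stalkFunctor AddCommGrpCat.{u} x).map
      (β g F).hom) := by
    intro x
    have hbij : Function.Bijective (mc g F x).hom := ⟨injective_mc g F x, surjective_mc g F x⟩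
    have hc : Function.Bijective (c g F x).hom := ⟨c_injective _ _ _, c_surjective _ _ _⟩
    have hiso1 : IsIso (c g F x ≫
        (TopCat.Presheaf.stalkFunctor AddCommGrpCat.{u} x).map (β g F).hom) :=
      (ConcreteCategory.isIso_iff_bijective (mc g F x)).2 hbij
    have hiso2 : IsIso (c g F x) := (ConcreteCategory.isIso_iff_bijective _).2 hc
    exact IsIso.of_isIso_comp_left (c g F x) _
  exact TopCat.Presheaf.isIso_of_stalkFunctor_map_iso (β g F)

/-- **the sheaf of families of germs is the inverse image** -/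
def bridge : CohTop.pull g ≅ GFsh g :=
  NatIso.ofComponents (fun F => @asIso _ _ _ _ (β g F) (isIso_β g F)) (fun φ => β_natural g φ)

lemma bridge_hom_app (F : CohTop.Ab Z) : (bridge g).hom.app F = β g F := rfl

instance : PreservesFiniteLimits (GFsh g) :=
  haveI : PreservesFiniteLimits (CohTop.pull g) := CohPull.preservesFiniteLimits_pull g
  preservesFiniteLimits_of_natIso (bridge g)

instance : PreservesFiniteColimits (GFsh g) :=
  haveI : PreservesFiniteColimits (CohTop.pull g) := CohPull.preservesFiniteColimits_pull g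
  preservesFiniteColimits_of_natIso (bridge g)

end bridge

end Groth.Agent.Lib.Helper5.GermFam
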