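import Groth.Agent.Lib.Helper5.DSite
import Groth.Agent.Lib.Helper5.GermFam

/-!
# Inverse images of sheaves on diagram sites

* `pullS D`: for a diagram of spaces `D` over a space `S`, the inverse image functor from abelian
  sheaves on `S` to sheaves on the site of the diagram;
* `pullD κ`: for a morphism of diagrams `κ : Y' ⟶ Y`, the inverse image functor between the
  sheaves on the sites of `Y` and `Y'`;
* both are exact, and are given on each level by the sheaf of families of germs;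
* `cmpIso`: the composite of `pullS` and `pullD` is `pullS` of the composite diagram.
-/

set_option autoImplicit false

universe u

open CategoryTheory CategoryTheory.Limits Opposite TopologicalSpace

noncomputable section

namespace Groth.Agent.Lib.Helper5.DPull

open Groth.Agent.Lib.Helper5.DSite Groth.Agent.Lib.Helper5.GermFam

variable {I : Type u} [Category.{u} I]

/-- a diagram of spaces over a space `S` -/
structure OverS (I : Type u) [Category.{u} I] (S : TopCat.{u}) where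
  /-- the diagram -/
  Y : Iᵒᵖ ⥤ TopCat.{u}
  /-- the structure maps -/
  π : ∀ i, Sp Y i ⟶ S
  hπ : ∀ {i j : I} (α : i ⟶ j) (w : Sp Y j), π i (tr Y α w) = π j w

/-! ### inverse image from the base -/

section pullS

variable {S : TopCat.{u}} (D : OverS I S)

/-- the image of a point under a morphism of the site -/
abbrev ptS {A B : Obj D.Y} (m : A ⟶ B) (q : Pt (D.π A.i) A.U) : Pt (D.π B.i) B.U :=
  ⟨tr D.Y m.α q.w, q.y, m.mem _ q.hw, q.hy.trans (D.hπ m.α q.w).symm⟩

variable (P : (Opens S)ᵒᵖ ⥤ AddCommGrpCat.{u})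

/-- the transition maps -/
def trnS {A B : Obj D.Y} (m : A ⟶ B) : sec (D.π B.i) P B.U →+ sec (D.π A.i) P A.U where
  toFun s := ⟨fun q => s.1 (ptS D m q), fun q => by
    obtain ⟨V, t, W₁, hp, hq⟩ := s.2 (ptS D m q)
    exact ⟨V, t, (Opens.map (tr D.Y m.α)).obj W₁, hp, fun q' hq' => hq (ptS D m q') hq'⟩⟩
  map_zero' := rfl
  map_add' _ _ := rfl

lemma trnS_val {A B : Obj D.Y} (m : A ⟶ B) (s : sec (D.π B.i) P B.U) (q : Pt (D.π A.i) A.U) :
    (trnS D P m s).1 q = s.1 (ptS D m q) := rfl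

/-- the presheaf on the site -/
def preS : (Obj D.Y)ᵒᵖ ⥤ AddCommGrpCat.{u} where
  obj B := AddCommGrpCat.of (sec (D.π B.unop.i) P B.unop.U)
  map m := AddCommGrpCat.ofHom (trnS D P m.unop)
  map_id B := by
    ext s q
    exact val_congr (D.π B.unop.i) P s _ _ (tr_id_apply D.Y _ q.w) _ _ _ _ _
  map_comp m m' := by
    ext s q
    exact val_congr (D.π _) P s _ _ (tr_comp_apply D.Y m.unop.α m'.unop.α q.w) _ _ _ _ _

lemma preS_map_apply {A B : Obj D.Y} (m : A ⟶ B) (s : sec (D.π B.i) P B.U) :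
    ((preS D P).map m.op).hom s = trnS D P m s := rfl

lemma lev_preS_map {i : I} {W W' : Opens (Sp D.Y i)} (h : W' ≤ W) (s : sec (D.π i) P W) :
    ((lev D.Y (preS D P) i).map (homOfLE h).op).hom s = resHom (D.π i) P h s := by
  apply sec_ext
  intro q
  exact val_congr (D.π i) P s _ _ (tr_id_apply D.Y i q.w) _ _ _ _ _

/-- on each level, the presheaf is the presheaf of families of germs -/
def levIsoS (i : I) : lev D.Y (preS D P) i ≅ GermFam.pre (D.π i) P :=
  NatIso.ofComponents (fun W => Iso.refl _) (by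
    intro W W' h
    have key : (lev D.Y (preS D P) i).map h = (GermFam.pre (D.π i) P).map h := by
      ext s
      exact lev_preS_map D P (leOfHom h.unop) s
    exact (Category.comp_id _).trans (key.trans (Category.id_comp _).symm))

theorem isSheaf_preS : Presheaf.IsSheaf (J D.Y) (preS D P) :=
  isSheaf_of_levelwise D.Y (preS D P) (fun i =>
    TopCat.Presheaf.isSheaf_of_iso (levIsoS D P i).symm (isSheaf_pre (D.π i) P))

variable {P}

/-- functoriality in the presheaf -/
def preSmap {P' : (Opens S)ᵒᵖ ⥤ AddCommGrpCat.{u}} (θ : P ⟶ P') : preS D P ⟶ preS D P' where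
  app B := AddCommGrpCat.ofHom (mapP (D.π B.unop.i) θ B.unop.U)
  naturality _ _ _ := rfl

variable (P)

/-- the inverse image on presheaves -/
def preSF : ((Opens S)ᵒᵖ ⥤ AddCommGrpCat.{u}) ⥤ ((Obj D.Y)ᵒᵖ ⥤ AddCommGrpCat.{u}) where
  obj P := preS D P
  map θ := preSmap D θ
  map_id P := by
    ext B s
    exact ConcreteCategory.congr_hom (congrArg (fun k => k.app (op B.unop.U))
      ((GFp (D.π B.unop.i)).map_id P)) s
  map_comp θ θ' := by
    ext B s
    exact ConcreteCategory.congr_hom (congrArg (fun k => k.app (op B.unop.U))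
      ((GFp (D.π B.unop.i)).map_comp θ θ')) s

/-- the inverse image of abelian sheaves on the base -/
def pullS : CohTop.Ab S ⥤ Sh D.Y :=
  ObjectProperty.lift _
    (sheafToPresheaf (Opens.grothendieckTopology S) AddCommGrpCat.{u} ⋙ preSF D)
    (fun F => isSheaf_preS D F.obj)

lemma pullS_obj_obj (F : CohTop.Ab S) : ((pullS D).obj F).obj = preS D F.obj := rfl

instance : (pullS D).Additive where
  map_add := by
    intro F F' φ ψ
    apply CategoryTheory.Sheaf.hom_ext
    ext B s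
    exact mapP_add (D.π B.unop.i) φ.hom ψ.hom B.unop.U s

/-- the levels of the inverse image -/
def pullSLevIso (i : I) : pullS D ⋙ ev D.Y i ≅ GFsh (D.π i) :=
  NatIso.ofComponents (fun F =>
    { hom := ⟨(levIsoS D F.obj i).hom⟩
      inv := ⟨(levIsoS D F.obj i).inv⟩
      hom_inv_id := by
        apply CategoryTheory.Sheaf.hom_ext
        exact (levIsoS D F.obj i).hom_inv_id
      inv_hom_id := by
        apply CategoryTheory.Sheaf.hom_ext
        exact (levIsoS D F.obj i).inv_hom_id })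
    (by
      intro F F' φ
      apply CategoryTheory.Sheaf.hom_ext
      ext W s
      rfl)

lemma exact_pullS : PreservesFiniteLimits (pullS D) ∧ PreservesFiniteColimits (pullS D) :=
  exact_of_ev (pullS D)
    (fun i => preservesFiniteLimits_of_natIso (pullSLevIso D i).symm)
    (fun i => preservesFiniteColimits_of_natIso (pullSLevIso D i).symm)

instance : PreservesFiniteLimits (pullS D) := (exact_pullS D).1

instance : PreservesFiniteColimits (pullS D) := (exact_pullS D).2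

end pullS

/-! ### inverse image along a morphism of diagrams -/

section pullD

variable {Y' Y : Iᵒᵖ ⥤ TopCat.{u}} (κ : Y' ⟶ Y)

/-- the components of a morphism of diagrams -/
abbrev κa (i : I) : Sp Y' i ⟶ Sp Y i := κ.app (op i)

lemma κ_nat {i j : I} (α : i ⟶ j) (w : Sp Y' j) : κa κ i (tr Y' α w) = tr Y α (κa κ j w) :=
  ConcreteCategory.congr_hom (κ.naturality α.op) w

section stk

variable (G : (Obj Y)ᵒᵖ ⥤ AddCommGrpCat.{u})

/-- the transition morphisms of the level presheaves -/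
def trans {i j : I} (α : i ⟶ j) :
    lev Y G i ⟶ (TopCat.Presheaf.pushforward AddCommGrpCat.{u} (tr Y α)).obj (lev Y G j) where
  app U := G.map (mα Y α U.unop).op
  naturality U U' h := by
    change G.map ((ι Y i).map h.unop).op ≫ G.map (mα Y α U'.unop).op =
      G.map (mα Y α U.unop).op ≫ G.map ((ι Y j).map ((Opens.map (tr Y α)).map h.unop)).op
    rw [← G.map_comp, ← G.map_comp]
    congr 1
    exact congrArg Quiver.Hom.op
      (show (mα Y α U'.unop ≫ homOfLE' Y i (leOfHom h.unop) :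
          (⟨j, (Opens.map (tr Y α)).obj U'.unop⟩ : Obj Y) ⟶ ⟨i, U.unop⟩) =
        homOfLE' Y j (leOfHom ((Opens.map (tr Y α)).map h.unop)) ≫ mα Y α U.unop from
        DSite.hom_ext ((Category.id_comp _).trans (Category.comp_id _).symm))

/-- the transition maps on stalks -/
def stk {i j : I} (α : i ⟶ j) (y : Sp Y j) :
    TopCat.Presheaf.stalk (C := AddCommGrpCat.{u}) (lev Y G i) (tr Y α y) ⟶
      TopCat.Presheaf.stalk (C := AddCommGrpCat.{u}) (lev Y G j) y :=
  (TopCat.Presheaf.stalkFunctor AddCommGrpCat.{u} (tr Y α y)).map (trans G α) ≫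
    TopCat.Presheaf.stalkPushforward AddCommGrpCat.{u} (tr Y α) (lev Y G j) y

lemma stk_gmP {i j : I} (α : i ⟶ j) (y : Sp Y j) (U : Opens (Sp Y i)) (h : tr Y α y ∈ U)
    (t : G.obj (op ⟨i, U⟩)) :
    (stk G α y).hom (gmP (lev Y G i) U (tr Y α y) h t) =
      gmP (lev Y G j) ((Opens.map (tr Y α)).obj U) y h ((G.map (mα Y α U).op).hom t) := by
  have h1 : TopCat.Presheaf.germ (C := AddCommGrpCat.{u}) (lev Y G i) U (tr Y α y) h ≫ stk G α y =
      G.map (mα Y α U).op ≫ TopCat.Presheaf.germ (C := AddCommGrpCat.{u}) (lev Y G j)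
        ((Opens.map (tr Y α)).obj U) y h := by
    have e1 := TopCat.Presheaf.stalkFunctor_map_germ (C := AddCommGrpCat.{u}) U (tr Y α y) h
      (trans G α)
    have e2 := TopCat.Presheaf.stalkPushforward_germ AddCommGrpCat.{u} (tr Y α) (lev Y G j) U y h
    exact (Category.assoc _ _ _).symm.trans
      ((congrArg (fun k => k ≫ TopCat.Presheaf.stalkPushforward AddCommGrpCat.{u} (tr Y α)
        (lev Y G j) y) e1).trans
        ((Category.assoc _ _ _).trans (congrArg (fun k => G.map (mα Y α U).op ≫ k) e2)))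
  exact ConcreteCategory.congr_hom h1 t

/-- germs of pulled back sections only depend on the index component of the morphism -/
lemma gm_pull_eq {j : I} {U₁ U₂ : Opens (Sp Y j)} {B : Obj Y} (m₁ : (⟨j, U₁⟩ : Obj Y) ⟶ B)
    (m₂ : (⟨j, U₂⟩ : Obj Y) ⟶ B) (hα : m₁.α = m₂.α) (y : Sp Y j) (h₁ : y ∈ U₁) (h₂ : y ∈ U₂)
    (t : G.obj (op B)) :
    gmP (lev Y G j) U₁ y h₁ ((G.map m₁.op).hom t) =
      gmP (lev Y G j) U₂ y h₂ ((G.map m₂.op).hom t) := by
  refine gmP_ext (lev Y G j) y h₁ h₂ _ _ (U₁ ⊓ U₂) ⟨h₁, h₂⟩ inf_le_left inf_le_right ?_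
  change (G.map (homOfLE' Y j (inf_le_left : U₁ ⊓ U₂ ≤ U₁)).op).hom
      ((G.map m₁.op).hom t) =
    (G.map (homOfLE' Y j (inf_le_right : U₁ ⊓ U₂ ≤ U₂)).op).hom ((G.map m₂.op).hom t)
  have e1 := map_comp_apply G (homOfLE' Y j (inf_le_left : U₁ ⊓ U₂ ≤ U₁)) m₁ t
  have e2 := map_comp_apply G (homOfLE' Y j (inf_le_right : U₁ ⊓ U₂ ≤ U₂)) m₂ t
  refine e1.trans (Eq.trans ?_ e2.symm)
  refine map_congr G (DSite.hom_ext ?_) t
  change m₁.α ≫ 𝟙 j = m₂.α ≫ 𝟙 j
  rw [hα]

lemma stk_natural {G' : (Obj Y)ᵒᵖ ⥤ AddCommGrpCat.{u}} (θ : G ⟶ G') {i j : I} (α : i ⟶ j)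
    (y : Sp Y j) (a : St (lev Y G i) (tr Y α y)) :
    (stk G' α y).hom (((TopCat.Presheaf.stalkFunctor AddCommGrpCat.{u} (tr Y α y)).map
      (Functor.whiskerLeft (ι Y i).op θ)).hom a) =
    ((TopCat.Presheaf.stalkFunctor AddCommGrpCat.{u} y).map
      (Functor.whiskerLeft (ι Y j).op θ)).hom ((stk G α y).hom a) := by
  obtain ⟨U, hU, t, rfl⟩ := exists_gmP_eq (lev Y G i) (tr Y α y) a
  rw [stalkMap_gmP, stk_gmP]
  have e2 := stk_gmP G α y U hU t
  rw [e2, stalkMap_gmP]
  congr 1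
  exact (NatTrans.naturality_apply θ (mα Y α U).op t).symm

end stk

variable (G : (Obj Y)ᵒᵖ ⥤ AddCommGrpCat.{u})

/-- the image of a point under a morphism of the site -/
abbrev ptD {A B : Obj Y'} (m : A ⟶ B) (q : Pt (κa κ A.i) A.U) : Pt (κa κ B.i) B.U :=
  ⟨tr Y' m.α q.w, tr Y m.α q.y, m.mem _ q.hw, by rw [q.hy]; exact (κ_nat κ m.α q.w).symm⟩

/-- the transition maps -/
def trnD {A B : Obj Y'} (m : A ⟶ B) :
    sec (κa κ B.i) (lev Y G B.i) B.U →+ sec (κa κ A.i) (lev Y G A.i) A.U where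
  toFun s := ⟨fun q => (stk G m.α q.y).hom (s.1 (ptD κ m q)), fun q => by
    obtain ⟨V, t, W₁, hp, hq⟩ := s.2 (ptD κ m q)
    refine ⟨(Opens.map (tr Y m.α)).obj V, (G.map (mα Y m.α V).op).hom t,
      (Opens.map (tr Y' m.α)).obj W₁, hp, fun q' hq' => ?_⟩
    obtain ⟨hV, e⟩ := hq (ptD κ m q') hq'
    refine ⟨hV, ?_⟩
    change (stk G m.α q'.y).hom (s.1 (ptD κ m q')) = _
    rw [e]
    exact stk_gmP G m.α q'.y V hV t⟩
  map_zero' := Subtype.ext (funext fun q => map_zero _)
  map_add' a b := Subtype.ext (funext fun q => map_add _ _ _)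

lemma trnD_val {A B : Obj Y'} (m : A ⟶ B) (s : sec (κa κ B.i) (lev Y G B.i) B.U)
    (q : Pt (κa κ A.i) A.U) : (trnD κ G m s).1 q = (stk G m.α q.y).hom (s.1 (ptD κ m q)) := rfl

/-- the transition map computed on a representative -/
lemma trnD_val_rep {A B : Obj Y'} (m : A ⟶ B) (s : sec (κa κ B.i) (lev Y G B.i) B.U)
    (q : Pt (κa κ A.i) A.U) (V : Opens (Sp Y B.i)) (t : G.obj (op ⟨B.i, V⟩))
    (hV : tr Y m.α q.y ∈ V) (e : s.1 (ptD κ m q) = gmP (lev Y G B.i) V (tr Y m.α q.y) hV t) :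
    (trnD κ G m s).1 q =
      gmP (lev Y G A.i) ((Opens.map (tr Y m.α)).obj V) q.y hV ((G.map (mα Y m.α V).op).hom t) := by
  rw [trnD_val, e]
  exact stk_gmP G m.α q.y V hV t

/-- transition along a morphism whose index component is an identity -/
lemma trnD_level {i : I} {W W' : Opens (Sp Y' i)} (m : (⟨i, W'⟩ : Obj Y') ⟶ ⟨i, W⟩)
    (hm : m.α = 𝟙 i) (s : sec (κa κ i) (lev Y G i) W) (q : Pt (κa κ i) W') (hq : q.w ∈ W) :
    (trnD κ G m s).1 q = s.1 ⟨q.w, q.y, hq, q.hy⟩ := by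
  obtain ⟨V, t, W₁, hp, hrep⟩ := s.2 ⟨q.w, q.y, hq, q.hy⟩
  have hw : tr Y' m.α q.w = q.w := by
    rw [hm]
    exact tr_id_apply Y' i q.w
  obtain ⟨hV0, e0⟩ := hrep ⟨q.w, q.y, hq, q.hy⟩ hp
  have hp1 : (ptD κ m q).w ∈ W₁ := by
    change tr Y' m.α q.w ∈ W₁
    rw [hw]
    exact hp
  obtain ⟨hV1, e1⟩ := hrep (ptD κ m q) hp1
  rw [trnD_val_rep κ G m s q V t hV1 e1, e0]
  have h2 := gm_pull_eq G (mα Y m.α V) (𝟙 (⟨i, V⟩ : Obj Y)) hm q.y hV1 hV0 t
  rw [h2]
  congr 1
  exact map_id_apply G (𝟙 _) rfl t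

/-- the presheaf on the site of `Y'` -/
def preD : (Obj Y')ᵒᵖ ⥤ AddCommGrpCat.{u} where
  obj B := AddCommGrpCat.of (sec (κa κ B.unop.i) (lev Y G B.unop.i) B.unop.U)
  map m := AddCommGrpCat.ofHom (trnD κ G m.unop)
  map_id B := by
    ext s q
    exact trnD_level κ G (𝟙 B.unop) rfl s q q.hw
  map_comp m m' := by
    ext s q
    change (trnD κ G (m'.unop ≫ m.unop) s).1 q = (trnD κ G m'.unop (trnD κ G m.unop s)).1 q
    obtain ⟨V, t, W₁, hp, hrep⟩ := (s : sec _ _ _).2 (ptD κ (m'.unop ≫ m.unop) q)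
    obtain ⟨hV0, e0⟩ := hrep _ hp
    have hp1 : (ptD κ m.unop (ptD κ m'.unop q)).w ∈ W₁ := by
      change tr Y' m.unop.α (tr Y' m'.unop.α q.w) ∈ W₁
      rw [← tr_comp_apply]
      exact hp
    obtain ⟨hV1, e1⟩ := hrep _ hp1
    rw [trnD_val_rep κ G (m'.unop ≫ m.unop) s q V t hV0 e0]
    have e2 := trnD_val_rep κ G m.unop s (ptD κ m'.unop q) V t hV1 e1
    rw [trnD_val_rep κ G m'.unop (trnD κ G m.unop s) q _ _ hV1 e2, map_comp_apply]
    exact gm_pull_eq G (mα Y (m'.unop ≫ m.unop).α V)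
      (mα Y m'.unop.α ((Opens.map (tr Y m.unop.α)).obj V) ≫ mα Y m.unop.α V) rfl q.y _ _ t

lemma preD_map_apply {A B : Obj Y'} (m : A ⟶ B) (s : sec (κa κ B.i) (lev Y G B.i) B.U) :
    ((preD κ G).map m.op).hom s = trnD κ G m s := rfl

lemma lev_preD_map {i : I} {W W' : Opens (Sp Y' i)} (h : W' ≤ W)
    (s : sec (κa κ i) (lev Y G i) W) :
    ((lev Y' (preD κ G) i).map (homOfLE h).op).hom s = resHom (κa κ i) (lev Y G i) h s := by
  apply sec_ext
  intro q
  exact trnD_level κ G _ rfl s q (h q.hw)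

/-- on each level, the presheaf is the presheaf of families of germs -/
def levIsoD (i : I) : lev Y' (preD κ G) i ≅ GermFam.pre (κa κ i) (lev Y G i) :=
  NatIso.ofComponents (fun W => Iso.refl _) (by
    intro W W' h
    have key : (lev Y' (preD κ G) i).map h = (GermFam.pre (κa κ i) (lev Y G i)).map h := by
      ext s
      exact lev_preD_map κ G (leOfHom h.unop) s
    exact (Category.comp_id _).trans (key.trans (Category.id_comp _).symm))

theorem isSheaf_preD : Presheaf.IsSheaf (J Y') (preD κ G) :=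
  isSheaf_of_levelwise Y' (preD κ G) (fun i =>
    TopCat.Presheaf.isSheaf_of_iso (levIsoD κ G i).symm (isSheaf_pre (κa κ i) (lev Y G i)))

variable {G}

/-- functoriality in the presheaf -/
def preDmap {G' : (Obj Y)ᵒᵖ ⥤ AddCommGrpCat.{u}} (θ : G ⟶ G') : preD κ G ⟶ preD κ G' where
  app B := AddCommGrpCat.ofHom
    (mapP (κa κ B.unop.i) (Functor.whiskerLeft (ι Y B.unop.i).op θ) B.unop.U)
  naturality A B m := by
    ext s
    apply sec_ext
    intro q
    exact (stk_natural G θ m.unop.α q.y _).symm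

variable (G)

/-- the inverse image on presheaves -/
def preDF : ((Obj Y)ᵒᵖ ⥤ AddCommGrpCat.{u}) ⥤ ((Obj Y')ᵒᵖ ⥤ AddCommGrpCat.{u}) where
  obj G := preD κ G
  map θ := preDmap κ θ
  map_id G := by
    ext B s
    exact ConcreteCategory.congr_hom (congrArg (fun k => k.app (op B.unop.U))
      ((GFp (κa κ B.unop.i)).map_id (lev Y G B.unop.i))) s
  map_comp θ θ' := by
    ext B s
    exact ConcreteCategory.congr_hom (congrArg (fun k => k.app (op B.unop.U))
      ((GFp (κa κ B.unop.i)).map_comp (Functor.whiskerLeft (ι Y B.unop.i).op θ)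
        (Functor.whiskerLeft (ι Y B.unop.i).op θ'))) s

/-- the inverse image of sheaves along a morphism of diagrams -/
def pullD : Sh Y ⥤ Sh Y' :=
  ObjectProperty.lift _
    (sheafToPresheaf (J Y) AddCommGrpCat.{u} ⋙ preDF κ)
    (fun G => isSheaf_preD κ G.obj)

lemma pullD_obj_obj (G : Sh Y) : ((pullD κ).obj G).obj = preD κ G.obj := rfl

instance : (pullD κ).Additive where
  map_add := by
    intro F F' φ ψ
    apply CategoryTheory.Sheaf.hom_ext
    ext B s
    exact mapP_add (κa κ B.unop.i) (Functor.whiskerLeft (ι Y B.unop.i).op φ.hom)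
      (Functor.whiskerLeft (ι Y B.unop.i).op ψ.hom) B.unop.U s

/-- the levels of the inverse image -/
def pullDLevIso (i : I) : pullD κ ⋙ ev Y' i ≅ ev Y i ⋙ GFsh (κa κ i) :=
  NatIso.ofComponents (fun G =>
    { hom := ⟨(levIsoD κ G.obj i).hom⟩
      inv := ⟨(levIsoD κ G.obj i).inv⟩
      hom_inv_id := by
        apply CategoryTheory.Sheaf.hom_ext
        exact (levIsoD κ G.obj i).hom_inv_id
      inv_hom_id := by
        apply CategoryTheory.Sheaf.hom_ext
        exact (levIsoD κ G.obj i).inv_hom_id })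
    (by
      intro F F' φ
      apply CategoryTheory.Sheaf.hom_ext
      ext W s
      rfl)

lemma exact_pullD : PreservesFiniteLimits (pullD κ) ∧ PreservesFiniteColimits (pullD κ) :=
  exact_of_ev (pullD κ)
    (fun i => preservesFiniteLimits_of_natIso (pullDLevIso κ i).symm)
    (fun i => preservesFiniteColimits_of_natIso (pullDLevIso κ i).symm)

instance : PreservesFiniteLimits (pullD κ) := (exact_pullD κ).1

instance : PreservesFiniteColimits (pullD κ) := (exact_pullD κ).2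

/-! ### families of germs of sections -/

/-- the family of germs of a section over an object of the site of `Y` -/
def gfD (G : (Obj Y)ᵒᵖ ⥤ AddCommGrpCat.{u}) {i : I} {U : Opens (Sp Y i)} {W : Opens (Sp Y' i)}
    (h : ∀ w, w ∈ W → κa κ i w ∈ U) :
    G.obj (op ⟨i, U⟩) →+ sec (κa κ i) (lev Y G i) W :=
  gf (κa κ i) (lev Y G i) h

lemma trnD_gfD {A' B' : Obj Y'} (m : A' ⟶ B') {UA : Opens (Sp Y A'.i)} {UB : Opens (Sp Y B'.i)}
    (m₀ : (⟨A'.i, UA⟩ : Obj Y) ⟶ ⟨B'.i, UB⟩) (hα : m₀.α = m.α)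
    (hA : ∀ w, w ∈ A'.U → κa κ A'.i w ∈ UA) (hB : ∀ w, w ∈ B'.U → κa κ B'.i w ∈ UB)
    (t : G.obj (op ⟨B'.i, UB⟩)) :
    trnD κ G m (gfD κ G hB t) = gfD κ G hA ((G.map m₀.op).hom t) := by
  apply sec_ext
  intro q
  have hV : tr Y m.α q.y ∈ UB := by
    have := hB _ (m.mem _ q.hw)
    rw [κ_nat, ← q.hy] at this
    exact this
  rw [trnD_val_rep κ G m (gfD κ G hB t) q UB t hV rfl]
  exact gm_pull_eq G (mα Y m.α UB) m₀ hα.symm q.y _ _ t

end pullD

end Groth.Agent.Lib.Helper5.DPull
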