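import Groth.Agent.S8347

/-
Helper5: degenerate `E₂` spectral sequences with a single nonzero column or row.
-/

set_option autoImplicit false

open CategoryTheory Limits

namespace Groth.Agent.Lib.Helper5.SpSeqStat

universe v u

variable {C : Type u} [Category.{v} C] [Abelian C]

lemma isExhaustive_of_isFinite (E : E₂CohomologicalSpectralSequence C)
    {H : ℤ → C} (a : SpSeq.Abutment E H) (n : ℤ) (hfin : a.IsFinite n) : a.IsExhaustive n := by
  obtain ⟨b, hb⟩ := hfin.1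
  refine ⟨fun _ _ => le_top, fun c hc => ?_⟩
  have := hc ⟨b, rfl⟩
  change (a.filObj n).fil b ≤ c at this
  rwa [hb] at this

/-- An `E₂` spectral sequence whose only nonzero column is `p = 0`: the abutment is the column. -/
lemma oneColumn (E : E₂CohomologicalSpectralSequence C)
    {H : ℤ → C} (a : SpSeq.Abutment E H) (n : ℤ) (hfin : a.IsFinite n)
    (hz : ∀ p q : ℤ, p ≠ 0 → IsZero ((E.page 2 le_rfl).X (p, q))) :
    Nonempty (H n ≅ (E.page 2 le_rfl).X (0, n)) := by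
  have hz' : ∀ (r : ℤ) (hr : 2 ≤ r) (pq : ℤ × ℤ), pq.1 ≠ 0 → IsZero ((E.page r hr).X pq) :=
    fun r hr pq hpq => isZero_page_of_le E 2 le_rfl pq (hz pq.1 pq.2 hpq) r hr
  obtain ⟨e⟩ := Groth.Agent.S8347.result E a 2 le_rfl (fun m => m)
    (fun m q' hq' => hz (m - q') q' (sub_ne_zero.2 (Ne.symm hq'))) n hfin.2
    (isExhaustive_of_isFinite E a n hfin)
    (by
      refine ⟨le_rfl, fun r' h₀ hr' => ⟨?_, ?_⟩⟩
      · exact (hz' r' h₀ _ (by simp; lia)).eq_of_src _ _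
      · exact (hz' r' h₀ _ (by simp; lia)).eq_of_tgt _ _)
  have h0 : (n - n, n) = ((0 : ℤ), n) := Prod.ext (sub_self n) rfl
  exact ⟨e ≪≫ eqToIso (by rw [h0])⟩

/-- An `E₂` spectral sequence whose only nonzero row is `q = 0`: the abutment is the row. -/
lemma oneRow (E : E₂CohomologicalSpectralSequence C)
    {H : ℤ → C} (a : SpSeq.Abutment E H) (n : ℤ) (hfin : a.IsFinite n)
    (hz : ∀ p q : ℤ, q ≠ 0 → IsZero ((E.page 2 le_rfl).X (p, q))) :
    Nonempty (H n ≅ (E.page 2 le_rfl).X (n, 0)) := by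
  have hz' : ∀ (r : ℤ) (hr : 2 ≤ r) (pq : ℤ × ℤ), pq.2 ≠ 0 → IsZero ((E.page r hr).X pq) :=
    fun r hr pq hpq => isZero_page_of_le E 2 le_rfl pq (hz pq.1 pq.2 hpq) r hr
  obtain ⟨e⟩ := Groth.Agent.S8347.result E a 2 le_rfl (fun _ => 0)
    (fun m q' hq' => hz (m - q') q' hq') n hfin.2
    (isExhaustive_of_isFinite E a n hfin)
    (by
      refine ⟨le_rfl, fun r' h₀ hr' => ⟨?_, ?_⟩⟩
      · exact (hz' r' h₀ _ (by simp; lia)).eq_of_src _ _
      · exact (hz' r' h₀ _ (by simp; lia)).eq_of_tgt _ _)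
  have h0 : (n - 0, (0 : ℤ)) = (n, (0 : ℤ)) := Prod.ext (sub_zero n) rfl
  exact ⟨e ≪≫ eqToIso (by rw [h0])⟩

end Groth.Agent.Lib.Helper5.SpSeqStat
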