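import Groth.Agent.Lib.Helper5.DescentSSGen
import Groth.Agent.Lib.Helper5.SpSeqOneCol

/-!
# Degenerate cases of the Grothendieck spectral sequence

* `nonempty_iso`: if `T` is left exact, sends injectives to `S`-acyclic objects and
  `R^q T (A) = 0` for `q > 0`, then `R^n (T ⋙ S) (A) ≅ R^n S (T A)`;
* `nonempty_iso_homology`: for a left exact functor `T` into cochain complexes which sends
  injectives to complexes exact in positive degrees, and an object `G` which is acyclic for all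
  the functors `T^p`, one has `R^n (H^0 ∘ T) (G) ≅ H^n (T G)`.
-/

set_option autoImplicit false

open CategoryTheory CategoryTheory.Limits
open scoped ZeroObject

noncomputable section

namespace Groth.Agent.Lib.Helper5.DegGroth

section GD

universe v u

variable {C C' C'' : Type u} [Category.{v} C] [Category.{v} C'] [Category.{v} C'']
  [Abelian C] [Abelian C'] [Abelian C''] [HasInjectiveResolutions C] [HasInjectiveResolutions C']
  (T : C ⥤ C') [T.Additive] [PreservesFiniteLimits T]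
  (S : C' ⥤ C'') [S.Additive] [PreservesFiniteLimits S]

theorem nonempty_iso
    (hT : ∀ Q : C, Injective Q → ∀ q : ℕ, 0 < q → IsZero ((S.rightDerived q).obj (T.obj Q)))
    (A : C) (hA : ∀ q : ℕ, IsZero ((T.rightDerived (q + 1)).obj A)) (n : ℕ) :
    Nonempty (((T ⋙ S).rightDerived n).obj A ≅ (S.rightDerived n).obj (T.obj A)) := by
  haveI : EnoughInjectives C := GrothSSMain.enoughInjectives_of_hasInjectiveResolutions
  obtain ⟨E, a, hfin, -, hE⟩ := GrothSSMain.main T S hT A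
  have hz : ∀ p q : ℤ, q ≠ 0 → IsZero ((E.page 2 le_rfl).X (p, q)) := by
    intro p q hq
    obtain ⟨e⟩ := hE p q
    refine IsZero.of_iso ?_ e
    by_cases h : 0 ≤ p ∧ 0 ≤ q
    · rw [if_pos h]
      obtain ⟨k, hk⟩ : ∃ k : ℕ, q.toNat = k + 1 := ⟨q.toNat - 1, by omega⟩
      rw [hk]
      exact Functor.map_isZero _ (hA k)
    · rw [if_neg h]
      exact isZero_zero _
  obtain ⟨e1⟩ := SpSeqStat.oneRow E a (n : ℤ) (hfin n) hz
  obtain ⟨e2⟩ := hE (n : ℤ) 0
  have h0 : (0 : ℤ) ≤ (n : ℤ) := Int.natCast_nonneg n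
  rw [if_pos ⟨h0, le_rfl⟩] at e2
  have e1' : ((T ⋙ S).rightDerived (n : ℤ).toNat).obj A ≅ (E.page 2 le_rfl).X ((n : ℤ), 0) :=
    eqToIso (if_pos h0).symm ≪≫ e1
  rw [Int.toNat_natCast] at e1' e2
  rw [Int.toNat_zero] at e2
  exact ⟨e1' ≪≫ e2 ≪≫ (S.rightDerived n).mapIso (T.rightDerivedZeroIsoSelf.app A)⟩

end GD

section AC

universe u

open DescentSSGen

variable {𝒜 : Type (u + 1)} [Category.{u} 𝒜] [Abelian 𝒜] [HasInjectiveResolutions 𝒜]
  {D : Type (u + 1)} [Category.{u} D] [Abelian D]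
  [EnoughInjectives (CochainComplex D ℕ)]
  (T : 𝒜 ⥤ CochainComplex D ℕ) [T.Additive] [PreservesFiniteLimits T]

lemma isZero_of_X (K : CochainComplex D ℕ) (h : ∀ p, IsZero (K.X p)) : IsZero K := by
  rw [IsZero.iff_id_eq_zero]
  ext p
  exact (h p).eq_of_src _ _

theorem nonempty_iso_homology
    (hT : ∀ Q : 𝒜, Injective Q → ∀ k : ℕ, IsZero ((T.obj Q).homology (k + 1)))
    (G : 𝒜)
    (hG : ∀ p q : ℕ, IsZero (((T ⋙ HomologicalComplex.eval D (ComplexShape.up ℕ) p).rightDerived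
      (q + 1)).obj G))
    (n : ℕ) :
    Nonempty (((T ⋙ H0 D).rightDerived n).obj G ≅ (T.obj G).homology n) := by
  have hT' : ∀ Q : 𝒜, Injective Q → ∀ q : ℕ, 0 < q →
      IsZero (((H0 D).rightDerived q).obj (T.obj Q)) := by
    intro Q hQ q hq
    obtain ⟨k, rfl⟩ : ∃ k, q = k + 1 := ⟨q - 1, by omega⟩
    exact (hT Q hQ k).of_iso (rightDerivedH0Iso (k + 1) (T.obj Q))
  have hA : ∀ q : ℕ, IsZero ((T.rightDerived (q + 1)).obj G) := by
    intro q
    apply isZero_of_X
    intro p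
    exact IsZero.of_iso (hG p q)
      (RDPost.postIsoApp T (HomologicalComplex.eval D (ComplexShape.up ℕ) p) (q + 1) G).symm
  obtain ⟨e⟩ := nonempty_iso T (H0 D) hT' G hA n
  exact ⟨e ≪≫ rightDerivedH0Iso n (T.obj G)⟩

theorem isZero_rightDerived_succ
    (hT : ∀ Q : 𝒜, Injective Q → ∀ k : ℕ, IsZero ((T.obj Q).homology (k + 1)))
    (G : 𝒜)
    (hG : ∀ p q : ℕ, IsZero (((T ⋙ HomologicalComplex.eval D (ComplexShape.up ℕ) p).rightDerived
      (q + 1)).obj G))
    (hex : ∀ k : ℕ, IsZero ((T.obj G).homology (k + 1))) (n : ℕ) :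
    IsZero (((T ⋙ H0 D).rightDerived (n + 1)).obj G) := by
  obtain ⟨e⟩ := nonempty_iso_homology T hT G hG (n + 1)
  exact (hex n).of_iso e

end AC

end Groth.Agent.Lib.Helper5.DegGroth
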