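import Groth.Agent.Lib.Helper5.DYoneda
import Groth.Agent.Lib.Helper5.DPull
import Groth.Agent.Lib.Helper5.CechDiag
import Groth.Agent.Lib.Helper5.DegGroth
import Groth.Agent.Lib.Helper5.TopSS
import Groth.Agent.Lib.Helper5.CosimpLim

/-!
# The direct image from the site of a symmetric simplicial space to the base

For a diagram `D` of spaces over `S` indexed by the category `FinAll` of the finite sets
`Fin (n+1)`, the direct image `epsPush D` sends a sheaf `G` on the site of `D` to the sheaf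
`V ↦ {x ∈ G(Y₀|V) | d⁰x = d¹x}` on `S`.

* `powV D V`: the objects `(n, π_n⁻¹ V)` are the powers of `(0, π_0⁻¹ V)`;
* `EVH0Iso`: the sections of `epsPush D` over `V` are `H⁰` of the complex `Hom(ℤ[h^{•+1}], -)`;
* `epsPush D` is additive and left exact, and sends injective sheaves to flasque sheaves.
-/

set_option autoImplicit false

universe u

open CategoryTheory CategoryTheory.Limits Opposite TopologicalSpace

noncomputable section

namespace Groth.Agent.Lib.Helper5.DEps

open Groth.Agent.Lib.Helper5.DSite Groth.Agent.Lib.Helper5.DYoneda Groth.Agent.Lib.Helper5.DPull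
  Groth.Agent.Lib.Helper5.CechDiag Groth.Agent.Lib.Helper5.FreePsh

/-! ### general facts on powers -/

section general

variable {C : Type u} [Category.{u} C]

lemma map_comp_apply' (P : Cᵒᵖ ⥤ AddCommGrpCat.{u}) {A B E : C} (f : A ⟶ B) (g : B ⟶ E)
    (t : P.obj (op E)) : (P.map f.op).hom ((P.map g.op).hom t) = (P.map (f ≫ g).op).hom t := by
  rw [op_comp, P.map_comp]
  rfl

/-- the differentials are compatible with morphisms of power structures -/
lemma dP_map {B₀ B₀' : C} (pw : Pow B₀) (pw' : Pow B₀') (P : Cᵒᵖ ⥤ AddCommGrpCat.{u}) (n : ℕ)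
    (r₀ : pw'.B n ⟶ pw.B n) (r₁ : pw'.B (n + 1) ⟶ pw.B (n + 1))
    (h : ∀ k, r₁ ≫ pw.face n k = pw'.face n k ≫ r₀) (x : P.obj (op (pw.B n))) :
    pw'.dP P n ((P.map r₀.op).hom x) = (P.map r₁.op).hom (pw.dP P n x) := by
  rw [Pow.dP_apply, Pow.dP_apply, map_sum]
  refine Finset.sum_congr rfl fun k _ => ?_
  rw [map_zsmul]
  congr 1
  rw [map_comp_apply', map_comp_apply', h k]

lemma dP_zero_iff {B₀ : C} (pw : Pow B₀) (P : Cᵒᵖ ⥤ AddCommGrpCat.{u}) (x : P.obj (op (pw.B 0))) :
    pw.dP P 0 x = 0 ↔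
      (P.map (pw.face 0 0).op).hom x = (P.map (pw.face 0 1).op).hom x := by
  rw [Pow.dP_apply, Fin.sum_univ_two]
  have e0 : ((0 : Fin (0 + 2)) : ℕ) = 0 := rfl
  have e1 : ((1 : Fin (0 + 2)) : ℕ) = 1 := rfl
  rw [e0, e1, pow_zero, pow_one, one_smul, neg_one_zsmul, ← sub_eq_add_neg, sub_eq_zero]

/-- an equalized section has the same restriction along any two morphisms -/
lemma map_eq_of_ker {B₀ : C} (pw : Pow B₀) (P : Cᵒᵖ ⥤ AddCommGrpCat.{u}) (x : P.obj (op (pw.B 0)))
    (hx : pw.dP P 0 x = 0) {A : C} (m m' : A ⟶ pw.B 0) :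
    (P.map m.op).hom x = (P.map m'.op).hom x := by
  let s : Fin (1 + 1) → (A ⟶ B₀) := Fin.cons (m' ≫ pw.pr 0 0) (fun _ => m ≫ pw.pr 0 0)
  let c : A ⟶ pw.B 1 := pw.lift 1 s
  have h0 : c ≫ pw.face 0 0 = m := by
    apply pw.hom_ext
    intro k
    have hk : k = 0 := Fin.ext (Nat.lt_one_iff.1 k.isLt)
    subst hk
    rw [Category.assoc, Pow.face_pr, pw.lift_pr]
    rfl
  have h1 : c ≫ pw.face 0 1 = m' := by
    apply pw.hom_ext
    intro k
    have hk : k = 0 := Fin.ext (Nat.lt_one_iff.1 k.isLt)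
    subst hk
    rw [Category.assoc, Pow.face_pr, pw.lift_pr]
    rfl
  have e := (dP_zero_iff pw P x).1 hx
  have e' : (P.map c.op).hom ((P.map (pw.face 0 0).op).hom x) =
      (P.map c.op).hom ((P.map (pw.face 0 1).op).hom x) :=
    congrArg (fun t => (P.map c.op).hom t) e
  rw [map_comp_apply', map_comp_apply', h0, h1] at e'
  exact e'

/-- the subterminal presheaf of the objects admitting a morphism to `B₀` -/
def eP (B₀ : C) : Cᵒᵖ ⥤ Type u where
  obj A := {_x : PUnit.{u + 1} // Nonempty (A.unop ⟶ B₀)}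
  map h := ↾(fun s => ⟨PUnit.unit, s.2.map (fun m => h.unop ≫ m)⟩)
  map_id _ := by
    ext s
  map_comp _ _ := by
    ext s

instance (B₀ : C) (A : Cᵒᵖ) : Subsingleton ((eP B₀).obj A) :=
  ⟨fun _ _ => Subtype.ext rfl⟩

/-- the inclusion of subterminal presheaves -/
def eInc {B₀ B₀' : C} (r : B₀' ⟶ B₀) : eP B₀' ⟶ eP B₀ where
  app A := ↾(fun s => ⟨PUnit.unit, s.2.map (fun m => m ≫ r)⟩)
  naturality _ _ _ := by
    ext s
    exact Subsingleton.elim _ _

instance {B₀ B₀' : C} (r : B₀' ⟶ B₀) (A : Cᵒᵖ) : Mono ((eInc r).app A) := by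
  rw [mono_iff_injective]
  intro a b _
  exact Subsingleton.elim _ _

section ofEq

variable {B₀ : C} (pw : Pow B₀) (P : Cᵒᵖ ⥤ AddCommGrpCat.{u}) (x : P.obj (op (pw.B 0)))

/-- the canonical point -/
def pt : (eP B₀).obj (op (pw.B 0)) := ⟨PUnit.unit, ⟨pw.pr 0 0⟩⟩

/-- the family of restrictions of a section -/
def ofEqFam : ∀ A : Cᵒᵖ, (eP B₀).obj A → P.obj A := fun A s =>
  (P.map (Quiver.Hom.op (pw.lift 0 (fun _ => Classical.choice s.2)))).hom x

lemma ofEqFam_nat (hx : pw.dP P 0 x = 0) {A A' : Cᵒᵖ} (h : A ⟶ A') (s : (eP B₀).obj A) :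
    ofEqFam pw P x A' ((eP B₀).map h s) = (P.map h).hom (ofEqFam pw P x A s) := by
  have e : (P.map h).hom (ofEqFam pw P x A s) =
      (P.map (Quiver.Hom.op (h.unop ≫ pw.lift 0 (fun _ => Classical.choice s.2)))).hom x := by
    unfold ofEqFam
    rw [op_comp, P.map_comp]
    rfl
  rw [e]
  exact map_eq_of_ker pw P x hx _ _

/-- the morphism attached to an equalized section -/
def ofEq (hx : pw.dP P 0 x = 0) : Z (eP B₀) ⟶ P :=
  ofFam (A := eP B₀) (ofEqFam pw P x) (fun {_ _} h s => ofEqFam_nat pw P x hx h s)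

lemma fam_ofEq (hx : pw.dP P 0 x = 0) (A : Cᵒᵖ) (s : (eP B₀).obj A) :
    fam (ofEq pw P x hx) A s = ofEqFam pw P x A s :=
  fam_ofFam (A := eP B₀) (ofEqFam pw P x) (fun {_ _} h s => ofEqFam_nat pw P x hx h s) A s

lemma ofEq_pt (hx : pw.dP P 0 x = 0) : fam (ofEq pw P x hx) (op (pw.B 0)) (pt pw) = x := by
  rw [fam_ofEq]
  have h := map_eq_of_ker pw P x hx (pw.lift 0 (fun _ => Classical.choice (pt pw).2)) (𝟙 _)
  refine h.trans ?_
  rw [op_id, P.map_id]
  rfl

lemma fam_pt_mem (φ : Z (eP B₀) ⟶ P) : pw.dP P 0 (fam φ (op (pw.B 0)) (pt pw)) = 0 := by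
  rw [dP_zero_iff]
  have h0 := fam_map φ (pw.face 0 0).op (pt pw)
  have h1 := fam_map φ (pw.face 0 1).op (pt pw)
  rw [← h0, ← h1]
  congr 1

end ofEq

/-- for an injective presheaf, equalized sections extend along restrictions -/
theorem exists_extension {B₀ B₀' : C} (pw : Pow B₀) (pw' : Pow B₀') (P : Cᵒᵖ ⥤ AddCommGrpCat.{u})
    [Injective P] (r : B₀' ⟶ B₀) (r₀ : pw'.B 0 ⟶ pw.B 0) (x' : P.obj (op (pw'.B 0)))
    (hx' : pw'.dP P 0 x' = 0) :
    ∃ x : P.obj (op (pw.B 0)), pw.dP P 0 x = 0 ∧ (P.map r₀.op).hom x = x' := by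
  let φ' : Z (eP B₀') ⟶ P := ofEq pw' P x' hx'
  let φ : Z (eP B₀) ⟶ P := Injective.factorThru φ' (Zmap (eInc r))
  have hφ : Zmap (eInc r) ≫ φ = φ' := Injective.comp_factorThru φ' (Zmap (eInc r))
  refine ⟨fam φ (op (pw.B 0)) (pt pw), fam_pt_mem pw P φ, ?_⟩
  have h1 := fam_map φ r₀.op (pt pw)
  rw [← h1]
  have h2 := fam_Zmap_comp (eInc r) φ (op (pw'.B 0)) (pt pw')
  rw [hφ] at h2
  have h3 : (eP B₀).map r₀.op (pt pw) = (eInc r).app (op (pw'.B 0)) (pt pw') :=
    Subsingleton.elim _ _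
  rw [h3, ← h2]
  exact ofEq_pt pw' P x' hx'

instance (A : Cᵒᵖ ⥤ Type u) : PreservesFiniteLimits (TT A) :=
  ⟨fun J _ _ => HomologicalComplex.preservesLimitsOfShape_of_eval _ (fun n =>
    preservesLimitsOfShape_of_natIso (TTevalIso A n).symm)⟩

instance {J : GrothendieckTopology C} (B₀ : C) : PreservesFiniteLimits (TB (J := J) B₀) :=
  comp_preservesFiniteLimits _ _

end general

/-! ### `H⁰` from an augmentation -/

section H0Aug

variable {𝒜 : Type (u + 1)} [Category.{u} 𝒜] (T : 𝒜 ⥤ CochainComplex AddCommGrpCat.{u} ℕ)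
  (E : 𝒜 ⥤ AddCommGrpCat.{u})
  (aug : E ⟶ T ⋙ HomologicalComplex.eval AddCommGrpCat.{u} (ComplexShape.up ℕ) 0)
  (h0 : ∀ G, aug.app G ≫ (T.obj G).d 0 1 = 0)

/-- the lift of the augmentation to the cycles -/
def augZ (G : 𝒜) : E.obj G ⟶ (T.obj G).cycles 0 :=
  (T.obj G).liftCycles (aug.app G) 1 (by simp) (h0 G)

lemma augZ_i (G : 𝒜) : augZ T E aug h0 G ≫ (T.obj G).iCycles 0 = aug.app G :=
  HomologicalComplex.liftCycles_i _ _ _ _ _

lemma augZ_naturality {G G' : 𝒜} (g : G ⟶ G') :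
    augZ T E aug h0 G ≫ HomologicalComplex.cyclesMap (T.map g) 0 =
      E.map g ≫ augZ T E aug h0 G' := by
  rw [← cancel_mono ((T.obj G').iCycles 0), Category.assoc, Category.assoc,
    HomologicalComplex.cyclesMap_i, augZ_i, ← Category.assoc, augZ_i]
  exact (aug.naturality g).symm

variable (hinj : ∀ G, Function.Injective (aug.app G).hom)
  (hsurj : ∀ G (t : (T.obj G).X 0), ((T.obj G).d 0 1).hom t = 0 → ∃ x, (aug.app G).hom x = t)

include hinj hsurj in
lemma isIso_augZ (G : 𝒜) : IsIso (augZ T E aug h0 G) := by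
  rw [ConcreteCategory.isIso_iff_bijective]
  have hmono : Function.Injective ((T.obj G).iCycles 0).hom := by
    have : Mono ((T.obj G).iCycles 0) := inferInstance
    exact (AddCommGrpCat.mono_iff_injective _).1 this
  constructor
  · intro a b hab
    apply hinj G
    have h1 := ConcreteCategory.congr_hom (augZ_i T E aug h0 G) a
    have h2 := ConcreteCategory.congr_hom (augZ_i T E aug h0 G) b
    have h1' : ((T.obj G).iCycles 0).hom ((augZ T E aug h0 G).hom a) = (aug.app G).hom a := h1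
    have h2' : ((T.obj G).iCycles 0).hom ((augZ T E aug h0 G).hom b) = (aug.app G).hom b := h2
    rw [← h1', ← h2']
    exact congrArg _ hab
  · intro z
    let t : (T.obj G).X 0 := ((T.obj G).iCycles 0).hom z
    have ht : ((T.obj G).d 0 1).hom t = 0 :=
      ConcreteCategory.congr_hom ((T.obj G).iCycles_d 0 1) z
    obtain ⟨x, hx⟩ := hsurj G t ht
    refine ⟨x, ?_⟩
    apply hmono
    have h1 := ConcreteCategory.congr_hom (augZ_i T E aug h0 G) x
    exact h1.trans hx

/-- `E ≅ H⁰ ∘ T` for a functor `E` identified with the kernel of the first differential -/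
def H0IsoOfAug : E ≅ T ⋙ DescentSSGen.H0 AddCommGrpCat.{u} :=
  haveI : ∀ G : 𝒜, IsIso (augZ T E aug h0 G) := isIso_augZ T E aug h0 hinj hsurj
  NatIso.ofComponents
    (fun G => asIso (augZ T E aug h0 G) ≪≫ CosimpLim.homologyπIso (T.obj G))
    (by
      intro G G' g
      change E.map g ≫ augZ T E aug h0 G' ≫ (T.obj G').homologyπ 0 =
        (augZ T E aug h0 G ≫ (T.obj G).homologyπ 0) ≫
          HomologicalComplex.homologyMap (T.map g) 0
      rw [Category.assoc, HomologicalComplex.homologyπ_naturality, ← Category.assoc,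
        ← Category.assoc, augZ_naturality])

end H0Aug

/-! ### the power structure over an open subset of the base -/

variable {S : TopCat.{u}} (D : OverS FinAll.{u} S)

/-- the level `n` object over an open subset of the base -/
abbrev BV (V : Opens S) (n : ℕ) : Obj D.Y := ⟨⟨n⟩, (Opens.map (D.π ⟨n⟩)).obj V⟩

/-- the morphisms between the objects over open subsets of the base -/
def homBV (V : Opens S) {m n : ℕ} (θ : Fin (m + 1) → Fin (n + 1)) {V' : Opens S} (h : V' ≤ V) :
    BV D V' n ⟶ BV D V m :=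
  mkHom (A := BV D V' n) (B := BV D V m) (FinAll.homMk θ) (fun w hw => by
    change D.π ⟨m⟩ (tr D.Y (FinAll.homMk θ) w) ∈ V
    rw [D.hπ]
    exact h hw)

@[simp] lemma homBV_α (V : Opens S) {m n : ℕ} (θ : Fin (m + 1) → Fin (n + 1)) {V' : Opens S}
    (h : V' ≤ V) : (homBV D V θ h).α = FinAll.homMk θ := rfl

/-- the objects over `V` are the powers of the object of level `0` -/
abbrev powV (V : Opens S) : Pow (BV D V 0) where
  B n := BV D V n
  pr n k := homBV D V (fun _ => k) le_rfl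
  lift n {A} s := mkHom (A := A) (B := BV D V n) (FinAll.homMk (fun k => (s k).α.down 0))
    (fun w hw => by
      have h0 := (s 0).mem w hw
      change D.π ⟨0⟩ (tr D.Y (s 0).α w) ∈ V at h0
      rw [D.hπ] at h0
      change D.π ⟨n⟩ (tr D.Y (FinAll.homMk (fun k => (s k).α.down 0)) w) ∈ V
      rw [D.hπ]
      exact h0)
  lift_pr n {A} s k := by
    apply DSite.hom_ext
    apply ULift.ext
    funext j
    have hj : j = 0 := Fin.ext (Nat.lt_one_iff.1 j.isLt)
    subst hj
    rfl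
  hom_ext n {A} g g' h := by
    apply DSite.hom_ext
    apply ULift.ext
    funext k
    exact congrArg (fun m : A ⟶ BV D V 0 => (DSite.Hom.α m).down 0) (h k)

lemma powV_B (V : Opens S) (n : ℕ) : (powV D V).B n = BV D V n := rfl

lemma powV_face_α (V : Opens S) (n : ℕ) (k : Fin (n + 2)) :
    ((powV D V).face n k).α = FinAll.homMk k.succAbove := rfl

/-! ### equalized sections -/

/-- the sections over `Y₀|V` which are equalized by the two faces -/
def EVobj (V : Opens S) (P : (Obj D.Y)ᵒᵖ ⥤ AddCommGrpCat.{u}) :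
    AddSubgroup (P.obj (op (BV D V 0))) :=
  ((powV D V).dP P 0).ker

lemma mem_EVobj (V : Opens S) (P : (Obj D.Y)ᵒᵖ ⥤ AddCommGrpCat.{u}) (x : P.obj (op (BV D V 0))) :
    x ∈ EVobj D V P ↔ (powV D V).dP P 0 x = 0 := AddMonoidHom.mem_ker

/-- functoriality in the presheaf -/
def EVmap (V : Opens S) {P P' : (Obj D.Y)ᵒᵖ ⥤ AddCommGrpCat.{u}} (θ : P ⟶ P') :
    EVobj D V P →+ EVobj D V P' where
  toFun x := ⟨(θ.app (op (BV D V 0))).hom x.1, by
    rw [mem_EVobj]
    have hx := (mem_EVobj D V P x.1).1 x.2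
    exact (Pow.dP_natural (powV D V) θ 0 x.1).trans (by rw [hx, map_zero])⟩
  map_zero' := Subtype.ext (map_zero _)
  map_add' a b := Subtype.ext (map_add _ _ _)

/-- restriction to a smaller open subset -/
def EVres {V V' : Opens S} (h : V' ≤ V) (P : (Obj D.Y)ᵒᵖ ⥤ AddCommGrpCat.{u}) :
    EVobj D V P →+ EVobj D V' P where
  toFun x := ⟨(P.map (homBV D V id h).op).hom x.1, by
    rw [mem_EVobj]
    have hx := (mem_EVobj D V P x.1).1 x.2
    have e := dP_map (powV D V) (powV D V') P 0 (homBV D V id h) (homBV D V id h)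
      (fun k => DSite.hom_ext rfl) x.1
    exact e.trans (by rw [hx, map_zero])⟩
  map_zero' := Subtype.ext (map_zero _)
  map_add' a b := Subtype.ext (map_add _ _ _)

/-- the presheaf of equalized sections on the base -/
def epsPre (P : (Obj D.Y)ᵒᵖ ⥤ AddCommGrpCat.{u}) : (Opens S)ᵒᵖ ⥤ AddCommGrpCat.{u} where
  obj V := AddCommGrpCat.of (EVobj D V.unop P)
  map h := AddCommGrpCat.ofHom (EVres D (leOfHom h.unop) P)
  map_id V := by
    refine AddCommGrpCat.hom_ext (AddMonoidHom.ext fun x => Subtype.ext ?_)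
    exact map_id_apply P _ rfl x.1
  map_comp h h' := by
    refine AddCommGrpCat.hom_ext (AddMonoidHom.ext fun x => Subtype.ext ?_)
    change (P.map (homBV D _ id _).op).hom x.1 =
      (P.map (homBV D _ id _).op).hom ((P.map (homBV D _ id _).op).hom x.1)
    rw [DSite.map_comp_apply]
    exact map_congr P (DSite.hom_ext rfl) x.1

/-- functoriality in the presheaf -/
def epsPreMap {P P' : (Obj D.Y)ᵒᵖ ⥤ AddCommGrpCat.{u}} (θ : P ⟶ P') : epsPre D P ⟶ epsPre D P' where
  app V := AddCommGrpCat.ofHom (EVmap D V.unop θ)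
  naturality V V' h := by
    refine AddCommGrpCat.hom_ext (AddMonoidHom.ext fun x => Subtype.ext ?_)
    exact NatTrans.naturality_apply θ (homBV D V.unop id (leOfHom h.unop)).op x.1

theorem isSheaf_epsPre (G : Sh D.Y) : TopCat.Presheaf.IsSheaf (epsPre D G.obj) := by
  rw [TopCat.Presheaf.isSheaf_iff_isSheafUniqueGluing]
  intro ι Vi sf hc
  let sf' : ∀ a, EVobj D (Vi a) G.obj := sf
  let F0 : CohTop.Ab S := (CohTop.push (D.π ⟨0⟩)).obj ((ev D.Y ⟨0⟩).obj G)
  let F1 : CohTop.Ab S := (CohTop.push (D.π ⟨1⟩)).obj ((ev D.Y ⟨1⟩).obj G)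
  have hcomp : TopCat.Presheaf.IsCompatible F0.obj Vi (fun a => (sf' a).1) := by
    intro a b
    exact congrArg Subtype.val (hc a b)
  obtain ⟨x₁, hx, hxu⟩ := TopCat.Sheaf.existsUnique_gluing F0 Vi (fun a => (sf' a).1) hcomp
  let x : G.obj.obj (op (BV D (iSup Vi) 0)) := x₁
  have hx' : ∀ a, (G.obj.map (homBV D (iSup Vi) id (le_iSup Vi a)).op).hom x = (sf' a).1 := hx
  have hker : (powV D (iSup Vi)).dP G.obj 0 x = 0 := by
    refine TopCat.Sheaf.eq_of_locally_eq F1 Vi _ _ (fun a => ?_)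
    change (G.obj.map (homBV D (iSup Vi) id (le_iSup Vi a)).op).hom
      ((powV D (iSup Vi)).dP G.obj 0 x) =
        (G.obj.map (homBV D (iSup Vi) id (le_iSup Vi a)).op).hom 0
    rw [map_zero]
    have e := dP_map (powV D (iSup Vi)) (powV D (Vi a)) G.obj 0
      (homBV D (iSup Vi) id (le_iSup Vi a)) (homBV D (iSup Vi) id (le_iSup Vi a))
      (fun k => DSite.hom_ext rfl) x
    have h3 : (powV D (Vi a)).dP G.obj 0 (sf' a).1 = 0 := (mem_EVobj D (Vi a) G.obj _).1 (sf' a).2
    exact e.symm.trans ((congrArg (fun t => (powV D (Vi a)).dP G.obj 0 t) (hx' a)).trans h3)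
  refine ⟨(⟨x, (mem_EVobj D _ G.obj x).2 hker⟩ : EVobj D (iSup Vi) G.obj), ?_, ?_⟩
  · intro a
    exact Subtype.ext (hx' a)
  · intro y hy
    let y' : EVobj D (iSup Vi) G.obj := y
    change y' = _
    apply Subtype.ext
    apply hxu
    intro a
    exact congrArg Subtype.val (hy a)

/-- **the direct image to the base** -/
def epsPush : Sh D.Y ⥤ CohTop.Ab S where
  obj G := ⟨epsPre D G.obj, isSheaf_epsPre D G⟩
  map θ := ⟨epsPreMap D θ.hom⟩
  map_id G := by
    apply CategoryTheory.Sheaf.hom_ext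
    ext V x
    rfl
  map_comp θ θ' := by
    apply CategoryTheory.Sheaf.hom_ext
    ext V x
    rfl

lemma epsPush_obj_obj (G : Sh D.Y) : ((epsPush D).obj G).obj = epsPre D G.obj := rfl

instance : (epsPush D).Additive where
  map_add := by
    intro G G' θ θ'
    apply CategoryTheory.Sheaf.hom_ext
    ext V x
    rfl

/-! ### sections of the direct image as `H⁰` -/

/-- the augmentation -/
def augV (V : Opens S) :
    epsPush D ⋙ TopSS.ΓV V ⟶ TB (J := J D.Y) (BV D V 0) ⋙
      HomologicalComplex.eval AddCommGrpCat.{u} (ComplexShape.up ℕ) 0 where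
  app G := AddCommGrpCat.ofHom
    ((AddEquiv.toAddMonoidHom ((powV D V).iso G.obj 0).symm).comp (EVobj D V G.obj).subtype)
  naturality G G' θ := by
    ext x
    change ((powV D V).iso G'.obj 0).symm ((θ.hom.app (op (BV D V 0))).hom x.1) =
      (((powV D V).iso G.obj 0).symm x.1 : K (y (BV D V 0)) 0 ⟶ G.obj) ≫ θ.hom
    apply ((powV D V).iso G'.obj 0).injective
    rw [AddEquiv.apply_symm_apply, Pow.iso_comp, AddEquiv.apply_symm_apply]

lemma augV_app_apply (V : Opens S) (G : Sh D.Y) (x : EVobj D V G.obj) :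
    ((augV D V).app G).hom x = ((powV D V).iso G.obj 0).symm x.1 := rfl

lemma augV_d (V : Opens S) (G : Sh D.Y) :
    (augV D V).app G ≫ ((TB (J := J D.Y) (BV D V 0)).obj G).d 0 1 = 0 := by
  ext x
  change (((TT (y (BV D V 0))).obj G.obj).d 0 (0 + 1)).hom (((powV D V).iso G.obj 0).symm x.1) = 0
  rw [TT_d]
  change bdry (y (BV D V 0)) 0 ≫
    (((powV D V).iso G.obj 0).symm x.1 : K (y (BV D V 0)) 0 ⟶ G.obj) = 0
  apply ((powV D V).iso G.obj (0 + 1)).injective
  rw [Pow.iso_bdry, AddEquiv.apply_symm_apply, map_zero]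
  exact (mem_EVobj D V G.obj x.1).1 x.2

/-- **the sections of the direct image are `H⁰` of the complex of the powers** -/
def EVH0Iso (V : Opens S) :
    epsPush D ⋙ TopSS.ΓV V ≅
      TB (J := J D.Y) (BV D V 0) ⋙ DescentSSGen.H0 AddCommGrpCat.{u} :=
  H0IsoOfAug (TB (J := J D.Y) (BV D V 0)) (epsPush D ⋙ TopSS.ΓV V) (augV D V) (augV_d D V)
    (fun G a b h => by
      have h' : ((powV D V).iso G.obj 0).symm (a : EVobj D V G.obj).1 =
          ((powV D V).iso G.obj 0).symm (b : EVobj D V G.obj).1 := h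
      exact Subtype.ext (((powV D V).iso G.obj 0).symm.injective h'))
    (fun G t ht => by
      have ht' : (((TT (y (BV D V 0))).obj G.obj).d 0 (0 + 1)).hom t = 0 := ht
      rw [TT_d] at ht'
      have ht'' : bdry (y (BV D V 0)) 0 ≫ (t : K (y (BV D V 0)) 0 ⟶ G.obj) = 0 := ht'
      have hk : (powV D V).dP G.obj 0 ((powV D V).iso G.obj 0 t) = 0 := by
        rw [← Pow.iso_bdry, ht'', map_zero]
      exact ⟨(⟨(powV D V).iso G.obj 0 t, (mem_EVobj D V G.obj _).2 hk⟩ : EVobj D V G.obj),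
        ((powV D V).iso G.obj 0).symm_apply_apply t⟩)

instance : PreservesFiniteLimits (epsPush D) := by
  constructor
  intro K _ _
  haveI : PreservesLimitsOfShape K
      (epsPush D ⋙ sheafToPresheaf (Opens.grothendieckTopology S) AddCommGrpCat.{u}) := by
    apply preservesLimitsOfShape_of_evaluation
    intro V
    haveI : PreservesFiniteLimits (TB (J := J D.Y) (BV D V.unop 0) ⋙
        DescentSSGen.H0 AddCommGrpCat.{u}) := comp_preservesFiniteLimits _ _
    have e : (epsPush D ⋙ sheafToPresheaf (Opens.grothendieckTopology S) AddCommGrpCat.{u}) ⋙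
        (evaluation (Opens S)ᵒᵖ AddCommGrpCat.{u}).obj V ≅
          TB (J := J D.Y) (BV D V.unop 0) ⋙ DescentSSGen.H0 AddCommGrpCat.{u} :=
      Functor.associator _ _ _ ≪≫ EVH0Iso D V.unop
    exact preservesLimitsOfShape_of_natIso e.symm
  exact preservesLimitsOfShape_of_reflects_of_preserves (epsPush D)
    (sheafToPresheaf (Opens.grothendieckTopology S) AddCommGrpCat.{u})

/-! ### direct images of injective sheaves are flasque -/

instance isFlasque_epsPush (Q : Sh D.Y) [Injective Q] :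
    TopCat.Sheaf.IsFlasque ((epsPush D).obj Q) where
  epi {V V'} h := by
    haveI := injective_obj D.Y Q
    rw [AddCommGrpCat.epi_iff_surjective]
    intro x'
    let x'' : EVobj D V'.unop Q.obj := x'
    obtain ⟨x, hx, hxr⟩ := exists_extension (powV D V.unop) (powV D V'.unop) Q.obj
      (homBV D V.unop id (leOfHom h.unop)) (homBV D V.unop id (leOfHom h.unop)) x''.1
      ((mem_EVobj D V'.unop Q.obj _).1 x''.2)
    exact ⟨(⟨x, (mem_EVobj D V.unop Q.obj x).2 hx⟩ : EVobj D V.unop Q.obj), Subtype.ext hxr⟩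

lemma isZero_RΓ_epsPush (Q : Sh D.Y) (hQ : Injective Q) (q : ℕ) (hq : 0 < q) :
    IsZero (((TopSS.ΓV (⊤ : Opens S)).rightDerived q).obj ((epsPush D).obj Q)) := by
  obtain ⟨k, rfl⟩ : ∃ k, q = k + 1 := ⟨q - 1, by omega⟩
  exact TopSS.isZero_RΓV_succ_of_flasque ⊤ _ k

end Groth.Agent.Lib.Helper5.DEps
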