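import Groth.Agent.Lib.Helper5.DEps
import Groth.Agent.Lib.Helper5.LHDescent

/-!
# The terms of the complex of the powers and the cohomology of the levels

For a diagram `D` over `S` indexed by `FinAll`, the functor `G ↦ Hom(ℤ[h^{p+1}], G)` is the functor
of global sections of the level `p`, and its right derived functors are the cohomology groups of
the levels.  A sheaf whose levels are acyclic and whose complex of global sections is exact in
positive degrees is acyclic for the functor of equalized global sections.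
-/

set_option autoImplicit false

universe u

open CategoryTheory CategoryTheory.Limits Opposite TopologicalSpace

noncomputable section

namespace Groth.Agent.Lib.Helper5.DLev

open Groth.Agent.Lib.Helper5.DSite Groth.Agent.Lib.Helper5.DYoneda Groth.Agent.Lib.Helper5.DPull
  Groth.Agent.Lib.Helper5.CechDiag Groth.Agent.Lib.Helper5.FreePsh Groth.Agent.Lib.Helper5.DEps
  Groth.Agent.Lib.Helper22

variable {S : TopCat.{u}} (D : OverS FinAll.{u} S)

/-- the complex of the powers of the object of level `0` over the whole base -/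
abbrev Tt : Sh D.Y ⥤ CochainComplex AddCommGrpCat.{u} ℕ := TB (J := J D.Y) (BV D ⊤ 0)

/-- the terms of the complex are the global sections of the levels -/
def levIso (p : ℕ) :
    Tt D ⋙ HomologicalComplex.eval AddCommGrpCat.{u} (ComplexShape.up ℕ) p ≅
      ev D.Y ⟨p⟩ ⋙ TopSS.ΓV (⊤ : Opens (Sp D.Y ⟨p⟩)) :=
  evalIso (J := J D.Y) (BV D ⊤ 0) (powV D ⊤) p ≪≫
    NatIso.ofComponents (fun G => Iso.refl _) (by
      intro G G' θ
      have key : (sheafToPresheaf (J D.Y) AddCommGrpCat.{u} ⋙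
          (evaluation (Obj D.Y)ᵒᵖ AddCommGrpCat.{u}).obj (op ((powV D ⊤).B p))).map θ =
          (ev D.Y ⟨p⟩ ⋙ TopSS.ΓV (⊤ : Opens (Sp D.Y ⟨p⟩))).map θ := rfl
      exact (Category.comp_id _).trans (key.trans (Category.id_comp _).symm))

lemma hacyc_ev (p : ℕ) (I : Sh D.Y) (hI : Injective I) (n : ℕ) :
    IsZero (((TopSS.ΓV (⊤ : Opens (Sp D.Y ⟨p⟩))).rightDerived (n + 1)).obj
      ((ev D.Y ⟨p⟩).obj I)) := by
  haveI := isFlasque_ev D.Y I ⟨p⟩
  exact TopSS.isZero_RΓV_succ_of_flasque ⊤ _ n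

/-- the right derived functors of the terms of the complex are the cohomology of the levels -/
def e1Iso (p q : ℕ) (G : Sh D.Y) :
    ((Tt D ⋙ HomologicalComplex.eval AddCommGrpCat.{u} (ComplexShape.up ℕ) p).rightDerived q).obj
      G ≅ AddCommGrpCat.of (CohTop.H ((ev D.Y ⟨p⟩).obj G) q) :=
  (DimShift.rightDerivedIsoOfNatIso (levIso D p) q).app G ≪≫
    (PrecompDelta.rightDerivedPrecompIso (ev D.Y ⟨p⟩)
      (TopSS.ΓV (⊤ : Opens (Sp D.Y ⟨p⟩))) (hacyc_ev D p) q).app G ≪≫
    LHDescent.RΓIso ((ev D.Y ⟨p⟩).obj G) q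

lemma isZero_lev (G : Sh D.Y)
    (hG : ∀ p q : ℕ, Subsingleton (CohTop.H ((ev D.Y ⟨p⟩).obj G) (q + 1))) (p q : ℕ) :
    IsZero (((Tt D ⋙ HomologicalComplex.eval AddCommGrpCat.{u} (ComplexShape.up ℕ) p).rightDerived
      (q + 1)).obj G) := by
  haveI := hG p q
  exact IsZero.of_iso (AddCommGrpCat.isZero_of_subsingleton _) (e1Iso D p (q + 1) G)

/-- the functor of equalized global sections -/
abbrev EVt : Sh D.Y ⥤ AddCommGrpCat.{u} := epsPush D ⋙ TopSS.ΓV (⊤ : Opens S)

/-- **acyclicity criterion** for the functor of equalized global sections -/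
theorem isZero_EV (G : Sh D.Y)
    (hG : ∀ p q : ℕ, Subsingleton (CohTop.H ((ev D.Y ⟨p⟩).obj G) (q + 1)))
    (hex : ∀ n : ℕ, ∀ x : G.obj.obj (op (BV D ⊤ (n + 1))), (powV D ⊤).dP G.obj (n + 1) x = 0 →
      ∃ z : G.obj.obj (op (BV D ⊤ n)), (powV D ⊤).dP G.obj n z = x) (n : ℕ) :
    IsZero (((EVt D).rightDerived (n + 1)).obj G) := by
  have h1 : IsZero (((Tt D ⋙ DescentSSGen.H0 AddCommGrpCat.{u}).rightDerived (n + 1)).obj G) :=
    DegGroth.isZero_rightDerived_succ (Tt D) (fun Q hQ k => hTB (J := J D.Y) (BV D ⊤ 0) Q hQ k) G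
      (isZero_lev D G hG)
      (fun k => (Pow.isZero_homology_succ_iff (powV D ⊤) G.obj k).2 (hex k)) n
  exact IsZero.of_iso h1 ((DimShift.rightDerivedIsoOfNatIso (EVH0Iso D ⊤) (n + 1)).app G)

end Groth.Agent.Lib.Helper5.DLev
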