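import Groth.Agent.Lib.Helper5.DBiMain

/-!
# Morphisms of diagrams of spaces: inverse and direct images of sheaves on the diagram sites

For a morphism of diagrams `κ : Y' ⟶ Y` (same index category), the functor `Tκ κ` between the
diagram sites (`(i, U) ↦ (i, κ_i⁻¹ U)`) is representably flat and continuous; the direct image
`pushK κ` is the precomposition with it and the inverse image `pullK κ` is its exact left adjoint.
-/

set_option autoImplicit false

universe u

open CategoryTheory CategoryTheory.Limits Opposite TopologicalSpace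

noncomputable section

namespace Groth.Agent.Lib.Helper5.DMor

open Groth.Agent.Lib.Helper5.DSite Groth.Agent.Lib.Helper5.DPull Groth.Agent.Lib.Helper5.GermFam
  Groth.Agent.Lib.Helper5.LimPush Groth.Agent.Lib.Helper5.LimAdj Groth.Agent.Lib.Helper5.DCmp

variable {I : Type u} [Category.{u} I] {Y' Y : Iᵒᵖ ⥤ TopCat.{u}} (κ : Y' ⟶ Y)

/-- the functor between the sites induced by a morphism of diagrams -/
def Tκ : Obj Y ⥤ Obj Y' where
  obj A := ⟨A.i, (Opens.map (κa κ A.i)).obj A.U⟩
  map {A B} m := ⟨m.α, fun w hw => by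
    change κa κ B.i (tr Y' m.α w) ∈ B.U
    rw [κ_nat]
    exact m.mem _ hw⟩
  map_id A := DSite.hom_ext rfl
  map_comp f g := DSite.hom_ext rfl

@[simp] lemma Tκ_map_α {A B : Obj Y} (m : A ⟶ B) : ((Tκ κ).map m).α = m.α := rfl

lemma Tκ_obj_i (A : Obj Y) : ((Tκ κ).obj A).i = A.i := rfl

lemma coverPreserving_Tκ : CoverPreserving (J Y) (J Y') (Tκ κ) where
  cover_preserve {A S} hS := by
    intro x hx
    obtain ⟨V, hV, hxV, hSV⟩ := hS (κa κ A.i x) hx
    refine ⟨(Opens.map (κa κ A.i)).obj V, fun w hw => hV hw, hxV, ?_⟩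
    exact ⟨⟨A.i, V⟩, inclO Y A V hV, 𝟙 _, hSV, DSite.hom_ext (Category.comp_id _).symm⟩

/-! ### flatness -/

section flat

variable (X : Obj Y')

/-- the open subset attached to a structured arrow -/
def baseU (o : StructuredArrow X (Tκ κ)) : Opens (Sp Y X.i) :=
  (Opens.map (tr Y o.hom.α)).obj o.right.U

lemma mem_baseU (o : StructuredArrow X (Tκ κ)) (w : Sp Y' X.i) (hw : w ∈ X.U) :
    κa κ X.i w ∈ baseU κ X o := by
  change tr Y o.hom.α (κa κ X.i w) ∈ o.right.U
  rw [← κ_nat]
  exact o.hom.mem w hw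

/-- the structured arrow on the level of `X` attached to an open subset -/
def baseObj (U : Opens (Sp Y X.i)) (hU : ∀ w, w ∈ X.U → κa κ X.i w ∈ U) :
    StructuredArrow X (Tκ κ) :=
  StructuredArrow.mk (Y := (⟨X.i, U⟩ : Obj Y))
    (mkHom (A := X) (B := (Tκ κ).obj ⟨X.i, U⟩) (𝟙 X.i) (fun w hw => by
      have h := tr_id_apply Y' X.i w
      change κa κ X.i (tr Y' (𝟙 X.i) w) ∈ U
      rw [h]
      exact hU w hw))

/-- the morphism from the structured arrow on the level of `X` -/
def baseHom (o : StructuredArrow X (Tκ κ)) (U : Opens (Sp Y X.i))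
    (hU : ∀ w, w ∈ X.U → κa κ X.i w ∈ U) (hle : U ≤ baseU κ X o) : baseObj κ X U hU ⟶ o :=
  StructuredArrow.homMk
    (mkHom (A := (⟨X.i, U⟩ : Obj Y)) (B := o.right) o.hom.α (fun w hw => hle hw))
    (DSite.hom_ext (Category.comp_id _))

lemma baseHom_right_α (o : StructuredArrow X (Tκ κ)) (U : Opens (Sp Y X.i))
    (hU : ∀ w, w ∈ X.U → κa κ X.i w ∈ U) (hle : U ≤ baseU κ X o) :
    (baseHom κ X o U hU hle).right.α = o.hom.α := rfl

lemma hom_α_eq {o₁ o₂ : StructuredArrow X (Tκ κ)} (f : o₁ ⟶ o₂) :
    f.right.α ≫ o₁.hom.α = o₂.hom.α := by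
  have h := congrArg Hom.α (StructuredArrow.w f)
  exact h

instance representablyFlat_Tκ : RepresentablyFlat (Tκ κ) where
  cofiltered X :=
    { cone_objs := fun o₁ o₂ =>
        ⟨baseObj κ X (baseU κ X o₁ ⊓ baseU κ X o₂)
            (fun w hw => ⟨mem_baseU κ X o₁ w hw, mem_baseU κ X o₂ w hw⟩),
          baseHom κ X o₁ _ _ inf_le_left, baseHom κ X o₂ _ _ inf_le_right, trivial⟩
      cone_maps := fun o₁ o₂ f g =>
        ⟨baseObj κ X (baseU κ X o₁) (mem_baseU κ X o₁),
          baseHom κ X o₁ _ _ le_rfl, by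
            apply StructuredArrow.hom_ext
            apply DSite.hom_ext
            change f.right.α ≫ o₁.hom.α = g.right.α ≫ o₁.hom.α
            rw [hom_α_eq κ X f, hom_α_eq κ X g]⟩
      nonempty := ⟨baseObj κ X ⊤ (fun _ _ => trivial)⟩ }

end flat

instance isContinuous_Tκ : (Tκ κ).IsContinuous (J Y) (J Y') :=
  Functor.isContinuous_of_coverPreserving (compatiblePreservingOfFlat _ _)
    (coverPreserving_Tκ κ)

/-! ### the direct and the inverse image -/

/-- the direct image of sheaves along a morphism of diagrams -/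
abbrev pushK : Sh Y' ⥤ Sh Y :=
  (Tκ κ).sheafPushforwardContinuous AddCommGrpCat.{u} (J Y) (J Y')

/-- the inverse image of sheaves along a morphism of diagrams -/
abbrev pullK : Sh Y ⥤ Sh Y' :=
  (Tκ κ).sheafPullback AddCommGrpCat.{u} (J Y) (J Y')

/-- the adjunction between the inverse and the direct image -/
abbrev adjK : pullK κ ⊣ pushK κ :=
  (Tκ κ).sheafAdjunctionContinuous AddCommGrpCat.{u} (J Y) (J Y')

instance : PreservesFiniteLimits (pullK κ) := by
  have : ReflectsLimits (forget AddCommGrpCat.{u}) := reflectsLimits_of_reflectsIsomorphisms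
  have : PreservesFiniteLimits
      ((Tκ κ).op.lan : ((Obj Y)ᵒᵖ ⥤ AddCommGrpCat.{u}) ⥤ ((Obj Y')ᵒᵖ ⥤ AddCommGrpCat.{u})) :=
    lan_preservesFiniteLimits_of_flat AddCommGrpCat.{u} (Tκ κ)
  exact Functor.sheafPullbackConstruction.preservesFiniteLimits (Tκ κ) AddCommGrpCat.{u}
    (J Y) (J Y')

instance : PreservesFiniteColimits (pullK κ) :=
  have : PreservesColimitsOfSize.{0, 0} (pullK κ) := (adjK κ).leftAdjoint_preservesColimits
  PreservesColimitsOfSize.preservesFiniteColimits _

attribute [local instance] preservesBinaryBiproducts_of_preservesBinaryCoproducts in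
instance : (pullK κ).Additive := Functor.additive_of_preservesBinaryBiproducts _

instance : (pushK κ).Additive where
  map_add := by
    intro G G' θ θ'
    apply CategoryTheory.Sheaf.hom_ext
    rfl

lemma pushK_obj_obj (G : Sh Y') : ((pushK κ).obj G).obj = (Tκ κ).op ⋙ G.obj := rfl

/-- the levels of the direct image -/
def pushKLevIso (i : I) : pushK κ ⋙ ev Y i ≅ ev Y' i ⋙ CohTop.push (κa κ i) :=
  NatIso.ofComponents (fun G =>
    (fullyFaithfulSheafToPresheaf _ _).preimageIso
      (NatIso.ofComponents (fun U => Iso.refl _) (by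
        intro U U' h
        have key : (((pushK κ ⋙ ev Y i).obj G).obj).map h =
            (((ev Y' i ⋙ CohTop.push (κa κ i)).obj G).obj).map h := by
          change G.obj.map ((Tκ κ).map ((ι Y i).map h.unop)).op =
            G.obj.map ((ι Y' i).map ((Opens.map (κa κ i)).map h.unop)).op
          exact congrArg (fun m => G.obj.map (Quiver.Hom.op m)) (DSite.hom_ext rfl)
        exact (Category.comp_id _).trans (key.trans (Category.id_comp _).symm))))
    (by
      intro G G' θ
      apply CategoryTheory.Sheaf.hom_ext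
      ext U s
      rfl)

lemma preservesInjective_pushK (Q : Sh Y') [Injective Q] : Injective ((pushK κ).obj Q) :=
  Injective.injective_of_adjoint (adjK κ) Q

end Groth.Agent.Lib.Helper5.DMor
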