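import Groth.Agent.Lib.Helper5.DeltaAcyc
import Groth.Agent.Lib.Helper5.RestrInj

/-!
# Restriction of the site of a diagram of spaces to an open subset of the base

Let `D` be a diagram of spaces over `S`, `V` an open subset of `S` and `D'` a diagram over `V`
which is identified by open embeddings with the part of `D` over `V`.  We define the restriction
functor from the sheaves on the site of `D` to the sheaves on the site of `D'`; it is exact, and
the direct image of the restriction is the restriction of the direct image.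
-/

set_option autoImplicit false

universe u

open CategoryTheory CategoryTheory.Limits Opposite TopologicalSpace Topology

noncomputable section

namespace Groth.Agent.Lib.Helper5.DOpen

open Groth.Agent.Lib.Helper5.DSite Groth.Agent.Lib.Helper5.DPull Groth.Agent.Lib.Helper5.GermFam
  Groth.Agent.Lib.Helper5.LimPush Groth.Agent.Lib.Helper22.CohTop

variable {I : Type u} [Category.{u} I] {S : TopCat.{u}} {V : Opens S}

/-- a diagram over an open subset `V` of the base, identified with the part over `V` of a diagram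
over the base -/
structure OpenSub (D' : OverS I (TopCat.of V)) (D : OverS I S) where
  /-- the embeddings of the levels -/
  e : ∀ i, Sp D'.Y i ⟶ Sp D.Y i
  he : ∀ i, IsOpenEmbedding (e i)
  nat : ∀ {i j : I} (α : i ⟶ j) (w : Sp D'.Y j), e i (tr D'.Y α w) = tr D.Y α (e j w)
  hπ : ∀ (i : I) (w : Sp D'.Y i), D.π i (e i w) = (D'.π i w).1
  cart : ∀ (i : I) (z : Sp D.Y i), D.π i z ∈ V → ∃ w, e i w = z

variable {D' : OverS I (TopCat.of V)} {D : OverS I S} (o : OpenSub D' D)

/-- the image of an open subset of a level -/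
abbrev img (i : I) : Opens (Sp D'.Y i) ⥤ Opens (Sp D.Y i) := (o.he i).isOpenMap.functor

instance (i : I) : (img o i).IsContinuous (Opens.grothendieckTopology (Sp D'.Y i))
    (Opens.grothendieckTopology (Sp D.Y i)) := (o.he i).functor_isContinuous

instance isCocontinuous_img (i : I) :
    (img o i).IsCocontinuous (Opens.grothendieckTopology (Sp D'.Y i))
      (Opens.grothendieckTopology (Sp D.Y i)) where
  cover_lift {U R} hR := by
    intro x hx
    obtain ⟨V', k, hk, hxV'⟩ := hR (o.e i x) ⟨x, hx, rfl⟩
    refine ⟨U ⊓ (Opens.map (o.e i)).obj V', homOfLE inf_le_left, ?_, ⟨hx, hxV'⟩⟩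
    change R.arrows ((img o i).map (homOfLE inf_le_left))
    have hle : (img o i).obj (U ⊓ (Opens.map (o.e i)).obj V') ≤ V' := by
      rintro _ ⟨w, hw, rfl⟩
      exact hw.2
    have e : (img o i).map (homOfLE (inf_le_left : U ⊓ (Opens.map (o.e i)).obj V' ≤ U)) =
        homOfLE hle ≫ k := Subsingleton.elim _ _
    rw [e]
    exact R.downward_closed hk _

lemma mem_img {i : I} {W : Opens (Sp D'.Y i)} {z : Sp D.Y i} :
    z ∈ (img o i).obj W ↔ ∃ w, w ∈ W ∧ o.e i w = z := Iff.rfl

lemma e_mem_img {i : I} {W : Opens (Sp D'.Y i)} {w : Sp D'.Y i} :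
    o.e i w ∈ (img o i).obj W ↔ w ∈ W := by
  constructor
  · rintro ⟨w', hw', e⟩
    have : w' = w := (o.he i).injective e
    exact this ▸ hw'
  · intro hw
    exact ⟨w, hw, rfl⟩

/-- the functor between the sites -/
def ρ : Obj D'.Y ⥤ Obj D.Y where
  obj A := ⟨A.i, (img o A.i).obj A.U⟩
  map {A B} m := mkHom (A := ⟨A.i, (img o A.i).obj A.U⟩) (B := ⟨B.i, (img o B.i).obj B.U⟩) m.α
    (fun z hz => by
      obtain ⟨w, hw, rfl⟩ := hz
      rw [← o.nat]
      exact ⟨_, m.mem w hw, rfl⟩)
  map_id A := DSite.hom_ext rfl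
  map_comp f g := DSite.hom_ext rfl

@[simp] lemma ρ_map_α {A B : Obj D'.Y} (m : A ⟶ B) : ((ρ o).map m).α = m.α := rfl

lemma ρ_obj_i (A : Obj D'.Y) : ((ρ o).obj A).i = A.i := rfl

/-! ### the objects over the open subsets of the base -/

lemma mem_img_BV (W' : Opens (TopCat.of V)) (i : I) (z : Sp D.Y i) :
    z ∈ (img o i).obj ((Opens.map (D'.π i)).obj W') ↔ D.π i z ∈ (ιU V).obj W' := by
  constructor
  · rintro ⟨w, hw, rfl⟩
    rw [o.hπ]
    exact (mem_ιU_obj V).2 hw
  · intro h
    have hV : D.π i z ∈ V := ιU_obj_le V W' h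
    obtain ⟨w, rfl⟩ := o.cart i z hV
    refine ⟨w, ?_, rfl⟩
    rw [o.hπ] at h
    exact (mem_ιU_obj V).1 h

/-- the comparison of the objects over an open subset of the base -/
def bvTo (W' : Opens (TopCat.of V)) (i : I) :
    (ρ o).obj (BVg D' W' i) ⟶ BVg D ((ιU V).obj W') i :=
  mkHom (A := (ρ o).obj (BVg D' W' i)) (B := BVg D ((ιU V).obj W') i) (𝟙 i) (fun z hz =>
    Groth.Agent.Lib.Helper5.DeltaAcyc.mem_of_tr_id D (BVg D ((ιU V).obj W') i).U z
      ((mem_img_BV o W' i z).1 hz))

/-- the comparison of the objects over an open subset of the base -/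
def bvFrom (W' : Opens (TopCat.of V)) (i : I) :
    BVg D ((ιU V).obj W') i ⟶ (ρ o).obj (BVg D' W' i) :=
  mkHom (A := BVg D ((ιU V).obj W') i) (B := (ρ o).obj (BVg D' W' i)) (𝟙 i) (fun z hz =>
    Groth.Agent.Lib.Helper5.DeltaAcyc.mem_of_tr_id D ((ρ o).obj (BVg D' W' i)).U z
      ((mem_img_BV o W' i z).2 hz))

@[simp] lemma bvTo_α (W' : Opens (TopCat.of V)) (i : I) : (bvTo o W' i).α = 𝟙 i := rfl

@[simp] lemma bvFrom_α (W' : Opens (TopCat.of V)) (i : I) : (bvFrom o W' i).α = 𝟙 i := rfl

/-! ### the restriction of presheaves and sheaves -/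

/-- the restriction of a presheaf -/
def resP (P : (Obj D.Y)ᵒᵖ ⥤ AddCommGrpCat.{u}) : (Obj D'.Y)ᵒᵖ ⥤ AddCommGrpCat.{u} :=
  (ρ o).op ⋙ P

lemma resP_map_apply (P : (Obj D.Y)ᵒᵖ ⥤ AddCommGrpCat.{u}) {A B : Obj D'.Y} (m : A ⟶ B)
    (t : P.obj (op ((ρ o).obj B))) :
    ((resP o P).map m.op).hom t = (P.map ((ρ o).map m).op).hom t := rfl

/-- the levels of the restriction -/
def resLevIso (P : (Obj D.Y)ᵒᵖ ⥤ AddCommGrpCat.{u}) (i : I) :
    lev D'.Y (resP o P) i ≅ (img o i).op ⋙ lev D.Y P i :=
  NatIso.ofComponents (fun U => Iso.refl _) (by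
    intro U U' h
    have key : (lev D'.Y (resP o P) i).map h = ((img o i).op ⋙ lev D.Y P i).map h := by
      have e : (ρ o).map ((DSite.ι D'.Y i).map h.unop) =
          (DSite.ι D.Y i).map ((img o i).map h.unop) := DSite.hom_ext rfl
      exact congrArg (fun m => P.map (Quiver.Hom.op m)) e
    exact (Category.comp_id _).trans (key.trans (Category.id_comp _).symm))

lemma isSheaf_resP (G : Sh D.Y) : Presheaf.IsSheaf (J D'.Y) (resP o G.obj) :=
  isSheaf_of_levelwise D'.Y _ (fun i =>
    TopCat.Presheaf.isSheaf_of_iso (resLevIso o G.obj i).symm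
      (TopCat.Presheaf.isSheaf_of_isOpenEmbedding (o.he i) ((ev D.Y i).obj G).property))

/-- **the restriction of sheaves** -/
def resD : Sh D.Y ⥤ Sh D'.Y where
  obj G := ⟨resP o G.obj, isSheaf_resP o G⟩
  map θ := ⟨Functor.whiskerLeft (ρ o).op θ.hom⟩
  map_id G := by
    apply CategoryTheory.Sheaf.hom_ext
    rfl
  map_comp θ θ' := by
    apply CategoryTheory.Sheaf.hom_ext
    rfl

lemma resD_obj_obj (G : Sh D.Y) : ((resD o).obj G).obj = resP o G.obj := rfl

lemma resD_map_app {G G' : Sh D.Y} (θ : G ⟶ G') (A : Obj D'.Y) :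
    ((resD o).map θ).hom.app (op A) = θ.hom.app (op ((ρ o).obj A)) := rfl

instance : (resD o).Additive where
  map_add := by
    intro G G' θ θ'
    apply CategoryTheory.Sheaf.hom_ext
    ext B x
    rfl

/-- the restriction of sheaves along the open embedding of a level -/
abbrev Ropen (i : I) : CohTop.Ab (Sp D.Y i) ⥤ CohTop.Ab (Sp D'.Y i) :=
  (img o i).sheafPushforwardContinuous AddCommGrpCat.{u} (Opens.grothendieckTopology (Sp D'.Y i))
    (Opens.grothendieckTopology (Sp D.Y i))

instance (i : I) : PreservesFiniteLimits (Ropen o i) := inferInstance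

instance (i : I) : PreservesFiniteColimits (Ropen o i) := by
  have := ((img o i).sheafAdjunctionCocontinuous AddCommGrpCat.{u}
    (Opens.grothendieckTopology (Sp D'.Y i))
    (Opens.grothendieckTopology (Sp D.Y i))).leftAdjoint_preservesColimits
  infer_instance

/-- the levels of the restriction -/
def resEvIso (i : I) : resD o ⋙ ev D'.Y i ≅ ev D.Y i ⋙ Ropen o i :=
  NatIso.ofComponents (fun G =>
    { hom := ⟨(resLevIso o G.obj i).hom⟩
      inv := ⟨(resLevIso o G.obj i).inv⟩
      hom_inv_id := by
        apply CategoryTheory.Sheaf.hom_ext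
        exact (resLevIso o G.obj i).hom_inv_id
      inv_hom_id := by
        apply CategoryTheory.Sheaf.hom_ext
        exact (resLevIso o G.obj i).inv_hom_id })
    (by
      intro F F' φ
      apply CategoryTheory.Sheaf.hom_ext
      ext W s
      rfl)

lemma exact_resD : PreservesFiniteLimits (resD o) ∧ PreservesFiniteColimits (resD o) :=
  exact_of_ev (resD o)
    (fun i => preservesFiniteLimits_of_natIso (resEvIso o i).symm)
    (fun i => preservesFiniteColimits_of_natIso (resEvIso o i).symm)

instance : PreservesFiniteLimits (resD o) := (exact_resD o).1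

instance : PreservesFiniteColimits (resD o) := (exact_resD o).2

/-- the levels of the restriction of a sheaf with flasque levels are flasque -/
lemma isFlasque_ev_resD (G : Sh D.Y) (i : I) [TopCat.Sheaf.IsFlasque ((ev D.Y i).obj G)] :
    TopCat.Sheaf.IsFlasque ((ev D'.Y i).obj ((resD o).obj G)) where
  epi {U W} h := by
    have h1 : Epi (((ev D.Y i).obj G).obj.map ((img o i).map h.unop).op) :=
      TopCat.Presheaf.IsFlasque.epi (F := ((ev D.Y i).obj G).obj) ((img o i).map h.unop).op
    have e : (ρ o).map ((DSite.ι D'.Y i).map h.unop) =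
        (DSite.ι D.Y i).map ((img o i).map h.unop) := DSite.hom_ext rfl
    change Epi (G.obj.map ((ρ o).map ((DSite.ι D'.Y i).map h.unop)).op)
    rw [e]
    exact h1

/-! ### the direct image of the restriction -/

section limPush

variable (P : (Obj D.Y)ᵒᵖ ⥤ AddCommGrpCat.{u}) (W' : Opens (TopCat.of V))

lemma bv_compat_from {i j : I} (α : i ⟶ j) :
    homBVg D α (le_refl ((ιU V).obj W')) ≫ bvFrom o W' i =
      bvFrom o W' j ≫ (ρ o).map (homBVg D' α (le_refl W')) :=
  DSite.hom_ext ((Category.id_comp _).trans (Category.comp_id _).symm)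

lemma bv_compat_to {i j : I} (α : i ⟶ j) :
    (ρ o).map (homBVg D' α (le_refl W')) ≫ bvTo o W' i =
      bvTo o W' j ≫ homBVg D α (le_refl ((ιU V).obj W')) :=
  DSite.hom_ext ((Category.id_comp _).trans (Category.comp_id _).symm)

lemma bvFrom_bvTo_apply (i : I) (t : P.obj (op ((ρ o).obj (BVg D' W' i)))) :
    (P.map (bvTo o W' i).op).hom ((P.map (bvFrom o W' i).op).hom t) = t := by
  rw [map_comp_apply]
  exact map_id_apply P _ (Category.comp_id _) t

lemma bvTo_bvFrom_apply (i : I) (t : P.obj (op (BVg D ((ιU V).obj W') i))) :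
    (P.map (bvFrom o W' i).op).hom ((P.map (bvTo o W' i).op).hom t) = t := by
  rw [map_comp_apply]
  exact map_id_apply P _ (Category.comp_id _) t

/-- compatible families over the part of the diagram over `V` -/
def lpTo : LPobj D' (resP o P) W' →+ LPobj D P ((ιU V).obj W') where
  toFun x := ⟨fun i => (P.map (bvFrom o W' i).op).hom (x.1 i), by
    intro i j α
    have hx := LPobj_compat D' (resP o P) W' x α
    rw [resP_map_apply] at hx
    change (P.map (homBVg D α (le_refl _)).op).hom ((P.map (bvFrom o W' i).op).hom (x.1 i)) =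
      (P.map (bvFrom o W' j).op).hom (x.1 j)
    rw [← hx, map_comp_apply, map_comp_apply]
    exact map_congr P (bv_compat_from o W' α) (x.1 i)⟩
  map_zero' := Subtype.ext (funext fun i => map_zero _)
  map_add' a b := Subtype.ext (funext fun i => map_add _ _ _)

/-- compatible families over the part of the diagram over `V` -/
def lpFrom : LPobj D P ((ιU V).obj W') →+ LPobj D' (resP o P) W' where
  toFun y := ⟨fun i => (P.map (bvTo o W' i).op).hom (y.1 i), by
    intro i j α
    have hy := LPobj_compat D P ((ιU V).obj W') y α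
    rw [resP_map_apply]
    change (P.map ((ρ o).map (homBVg D' α (le_refl W'))).op).hom
      ((P.map (bvTo o W' i).op).hom (y.1 i)) = (P.map (bvTo o W' j).op).hom (y.1 j)
    rw [← hy, map_comp_apply, map_comp_apply]
    exact map_congr P (bv_compat_to o W' α) (y.1 i)⟩
  map_zero' := Subtype.ext (funext fun i => map_zero _)
  map_add' a b := Subtype.ext (funext fun i => map_add _ _ _)

lemma lpTo_val (x : LPobj D' (resP o P) W') (i : I) :
    (lpTo o P W' x).1 i = (P.map (bvFrom o W' i).op).hom (x.1 i) := rfl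

lemma lpFrom_val (y : LPobj D P ((ιU V).obj W')) (i : I) :
    (lpFrom o P W' y).1 i = (P.map (bvTo o W' i).op).hom (y.1 i) := rfl

/-- compatible families over the part of the diagram over `V` -/
def lpEquiv : LPobj D' (resP o P) W' ≃+ LPobj D P ((ιU V).obj W') where
  toFun := lpTo o P W'
  invFun := lpFrom o P W'
  left_inv x := by
    apply LPobj_ext
    intro i
    exact bvFrom_bvTo_apply o P W' i (x.1 i)
  right_inv y := by
    apply LPobj_ext
    intro i
    exact bvTo_bvFrom_apply o P W' i (y.1 i)
  map_add' a b := map_add (lpTo o P W') a b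

end limPush

/-- the direct image of the restriction, for one sheaf -/
def cObj (G : Sh D.Y) :
    (limPush D').obj ((resD o).obj G) ≅ (CohTop.restrFunctor V).obj ((limPush D).obj G) :=
  (fullyFaithfulSheafToPresheaf _ _).preimageIso
    (NatIso.ofComponents (fun W' => (lpEquiv o G.obj W'.unop).toAddCommGrpIso) (by
      intro W₁ W₂ h
      refine AddCommGrpCat.hom_ext (AddMonoidHom.ext fun x => Subtype.ext (funext fun i => ?_))
      let x' : LPobj D' (resP o G.obj) W₁.unop := x
      change (G.obj.map (bvFrom o W₂.unop i).op).hom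
          ((G.obj.map ((ρ o).map (homBVg D' (𝟙 i) (leOfHom h.unop))).op).hom (x'.1 i)) =
        (G.obj.map (homBVg D (𝟙 i) (leOfHom ((ιU V).map h.unop))).op).hom
          ((G.obj.map (bvFrom o W₁.unop i).op).hom (x'.1 i))
      rw [map_comp_apply, map_comp_apply]
      exact map_congr G.obj (DSite.hom_ext rfl) _))

lemma cObj_hom_app (G : Sh D.Y) (W' : Opens (TopCat.of V)) (x : LPobj D' (resP o G.obj) W') :
    ((cObj o G).hom.hom.app (op W')).hom x = lpTo o G.obj W' x := rfl

lemma cObj_inv_app (G : Sh D.Y) (W' : Opens (TopCat.of V))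
    (y : LPobj D G.obj ((ιU V).obj W')) :
    ((cObj o G).inv.hom.app (op W')).hom y = lpFrom o G.obj W' y := rfl

/-- **the direct image of the restriction is the restriction of the direct image** -/
def cIso : resD o ⋙ limPush D' ≅ limPush D ⋙ CohTop.restrFunctor V :=
  NatIso.ofComponents (fun G => cObj o G) (by
    intro G G' θ
    apply CategoryTheory.Sheaf.hom_ext
    ext W' x
    refine Subtype.ext (funext fun i => ?_)
    exact (NatTrans.naturality_apply θ.hom (bvFrom o W'.unop i).op _).symm)

end Groth.Agent.Lib.Helper5.DOpen
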