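import Groth.Agent.Lib.Helper5.DOpen

/-!
# Restriction to an open subset of the base: the higher direct images

For a simplicial diagram of spaces `D` over `S` and its part `D'` over an open subset `V` of `S`,
the restriction of an injective sheaf is acyclic for the direct image, and the higher direct
images of the restriction are the restrictions of the higher direct images.
-/

set_option autoImplicit false

universe u

open CategoryTheory CategoryTheory.Limits Opposite TopologicalSpace Topology Simplicial

noncomputable section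

namespace Groth.Agent.Lib.Helper5.DOpenAcyc

open Groth.Agent.Lib.Helper5.DSite Groth.Agent.Lib.Helper5.DPull Groth.Agent.Lib.Helper5.GermFam
  Groth.Agent.Lib.Helper5.LimPush Groth.Agent.Lib.Helper5.LimAdj Groth.Agent.Lib.Helper5.DeltaSite
  Groth.Agent.Lib.Helper5.DeltaAcyc Groth.Agent.Lib.Helper5.DYoneda Groth.Agent.Lib.Helper5.DOpen
  Groth.Agent.Lib.Helper22 Groth.Agent.Lib.Helper22.CohTop

section general

variable {I : Type u} [Category.{u} I] {S : TopCat.{u}} {V : Opens S}
  {D' : OverS I (TopCat.of V)} {D : OverS I S} (o : OpenSub D' D)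

/-- the direct images of the levels of the restriction -/
def pcIso (G : Sh D.Y) (i : I) :
    PcObj D' ((resD o).obj G) i ≅ (CohTop.restrFunctor V).obj (PcObj D G i) where
  hom := ⟨{ app := fun W' => G.obj.map (bvFrom o W'.unop i).op
            naturality := by
              intro W₁ W₂ h
              refine AddCommGrpCat.hom_ext (AddMonoidHom.ext fun x => ?_)
              change (G.obj.map (bvFrom o W₂.unop i).op).hom
                  ((G.obj.map ((ρ o).map (homBVg D' (𝟙 i) (leOfHom h.unop))).op).hom x) =
                (G.obj.map (homBVg D (𝟙 i) (leOfHom ((ιU V).map h.unop))).op).hom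
                  ((G.obj.map (bvFrom o W₁.unop i).op).hom x)
              rw [map_comp_apply, map_comp_apply]
              exact map_congr G.obj (DSite.hom_ext rfl) x }⟩
  inv := ⟨{ app := fun W' => G.obj.map (bvTo o W'.unop i).op
            naturality := by
              intro W₁ W₂ h
              refine AddCommGrpCat.hom_ext (AddMonoidHom.ext fun x => ?_)
              change (G.obj.map (bvTo o W₂.unop i).op).hom
                  ((G.obj.map (homBVg D (𝟙 i) (leOfHom ((ιU V).map h.unop))).op).hom x) =
                (G.obj.map ((ρ o).map (homBVg D' (𝟙 i) (leOfHom h.unop))).op).hom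
                  ((G.obj.map (bvTo o W₁.unop i).op).hom x)
              rw [map_comp_apply, map_comp_apply]
              exact map_congr G.obj (DSite.hom_ext rfl) x }⟩
  hom_inv_id := by
    apply CategoryTheory.Sheaf.hom_ext
    ext W' x
    exact bvFrom_bvTo_apply o G.obj W'.unop i x
  inv_hom_id := by
    apply CategoryTheory.Sheaf.hom_ext
    ext W' x
    exact bvTo_bvFrom_apply o G.obj W'.unop i x

lemma pcIso_naturality (G : Sh D.Y) {i j : I} (α : i ⟶ j) :
    PcMap D' ((resD o).obj G) α ≫ (pcIso o G j).hom =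
      (pcIso o G i).hom ≫ (CohTop.restrFunctor V).map (PcMap D G α) := by
  apply CategoryTheory.Sheaf.hom_ext
  ext W' x
  change (G.obj.map (bvFrom o W'.unop j).op).hom
      ((G.obj.map ((ρ o).map (homBVg D' α (le_refl W'.unop))).op).hom x) =
    (G.obj.map (homBVg D α (le_refl ((ιU V).obj W'.unop))).op).hom
      ((G.obj.map (bvFrom o W'.unop i).op).hom x)
  rw [map_comp_apply, map_comp_apply]
  exact map_congr G.obj (bv_compat_from o W'.unop α).symm x

lemma additive_limPush (D : OverS I S) : (limPush D).Additive := inferInstance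

instance : (limPush D').Additive := additive_limPush D'

lemma preservesFiniteLimits_limPush (D : OverS I S) : PreservesFiniteLimits (limPush D) :=
  have : PreservesLimitsOfSize.{0, 0} (limPush D) := (adjL D).rightAdjoint_preservesLimits
  PreservesLimitsOfSize.preservesFiniteLimits _

end general

variable {S : TopCat.{u}} {V : Opens S} {D' : OverS 𝕀.{u} (TopCat.of V)} {D : OverS 𝕀.{u} S}
  (o : OpenSub D' D)

lemma TΔ_d (D : OverS 𝕀.{u} S) (G : Sh D.Y) (n : ℕ) :
    ((TΔ D).obj G).d n (n + 1) = ∑ k : Fin (n + 2), (-1 : ℤ) ^ (k : ℕ) •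
      PcMap D G (AsSmall.up.map (SimplexCategory.δ k : ⦋n⦌ ⟶ ⦋n + 1⦌)) :=
  CosimpLim.Φ_d ((PcΔ D).obj G) n

lemma sum_comp_pcIso (G : Sh D.Y) (n : ℕ) :
    (∑ k : Fin (n + 2), (-1 : ℤ) ^ (k : ℕ) •
      PcMap D' ((resD o).obj G) (AsSmall.up.map (SimplexCategory.δ k : ⦋n⦌ ⟶ ⦋n + 1⦌))) ≫
        (pcIso o G (up ⦋n + 1⦌)).hom =
      (pcIso o G (up ⦋n⦌)).hom ≫ (CohTop.restrFunctor V).map
        (∑ k : Fin (n + 2), (-1 : ℤ) ^ (k : ℕ) •
          PcMap D G (AsSmall.up.map (SimplexCategory.δ k : ⦋n⦌ ⟶ ⦋n + 1⦌))) := by
  rw [CategoryTheory.Functor.map_sum, Preadditive.sum_comp, Preadditive.comp_sum]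
  refine Finset.sum_congr rfl (fun k _ => ?_)
  rw [CategoryTheory.Functor.map_zsmul, Preadditive.zsmul_comp, Preadditive.comp_zsmul,
    pcIso_naturality]

lemma d_comp_pcIso (G : Sh D.Y) (n : ℕ) :
    ((TΔ D').obj ((resD o).obj G)).d n (n + 1) ≫ (pcIso o G (up ⦋n + 1⦌)).hom =
      (pcIso o G (up ⦋n⦌)).hom ≫ (CohTop.restrFunctor V).map (((TΔ D).obj G).d n (n + 1)) := by
  have h1 := TΔ_d D' ((resD o).obj G) n
  have h2 := TΔ_d D G n
  have h3 := sum_comp_pcIso o G n
  rw [← h1, ← h2] at h3
  exact h3

/-- the complex of the restriction of an injective sheaf is exact in positive degrees -/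
lemma hex_resD (Q : Sh D.Y) [Injective Q] (k : ℕ) :
    IsZero (((TΔ D').obj ((resD o).obj Q)).homology (k + 1)) := by
  rw [← HomologicalComplex.exactAt_iff_isZero_homology,
    HomologicalComplex.exactAt_iff' _ k (k + 1) (k + 2) (by simp) (by simp)]
  have h0 : ((TΔ D).obj Q).ExactAt (k + 1) := by
    rw [HomologicalComplex.exactAt_iff_isZero_homology]
    exact isZero_homology_TΔ_of_injective D Q k
  rw [HomologicalComplex.exactAt_iff' _ k (k + 1) (k + 2) (by simp) (by simp)] at h0
  have h1 := h0.map (CohTop.restrFunctor V)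
  refine ShortComplex.exact_of_iso (ShortComplex.isoMk (pcIso o Q (up ⦋k⦌))
    (pcIso o Q (up ⦋k + 1⦌)) (pcIso o Q (up ⦋k + 2⦌)) ?_ ?_).symm h1
  · exact (d_comp_pcIso o Q k).symm
  · exact (d_comp_pcIso o Q (k + 1)).symm

/-- **the restriction of an injective sheaf is acyclic for the direct image** -/
theorem isZero_RD_resD (Q : Sh D.Y) (hQ : Injective Q) (n : ℕ) :
    IsZero (((limPush D').rightDerived (n + 1)).obj ((resD o).obj Q)) := by
  haveI := hQ
  exact isZero_RD_limPush D' ((resD o).obj Q) (fun p => isFlasque_ev_resD o Q (up ⦋p⦌))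
    (fun k => hex_resD o Q k) n

/-- **the higher direct images of the restriction are the restrictions of the higher direct
images** -/
def rdIso (q : ℕ) (G : Sh D.Y) :
    (CohTop.restrFunctor V).obj (((limPush D).rightDerived q).obj G) ≅
      ((limPush D').rightDerived q).obj ((resD o).obj G) :=
  have := preservesFiniteLimits_limPush D'
  (DimShift.rightDerivedCompExactIso (limPush D) (CohTop.restrFunctor V) q G).symm ≪≫
    (DimShift.rightDerivedIsoOfNatIso (cIso o).symm q).app G ≪≫
      (Groth.Agent.Lib.Helper5.PrecompDelta.rightDerivedPrecompIso (resD o) (limPush D')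
        (isZero_RD_resD o) q).app G

end Groth.Agent.Lib.Helper5.DOpenAcyc
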