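import Mathlib
import Groth.Agent.Lib.Helper22.Cech.Injective

/-!
# Free abelian presheaves on tuples of a presheaf of sets

For a presheaf of sets `A` on a small category `C`, the free abelian presheaves `K A n = ℤ[A^{n+1}]`
form an exact complex in positive degrees (cone construction), and the functor
`P ↦ Hom(K A •, P)` to cochain complexes of abelian groups is exact in positive degrees on
injective presheaves.
-/

set_option autoImplicit false

universe u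

open CategoryTheory CategoryTheory.Limits Opposite

noncomputable section

namespace Groth.Agent.Lib.Helper5.FreePsh

variable {C : Type u} [Category.{u} C]

/-- the free abelian presheaf on a presheaf of sets -/
def Z (A : Cᵒᵖ ⥤ Type u) : Cᵒᵖ ⥤ AddCommGrpCat.{u} := A ⋙ AddCommGrpCat.free

/-- functoriality of the free abelian presheaf -/
def Zmap {A B : Cᵒᵖ ⥤ Type u} (α : A ⟶ B) : Z A ⟶ Z B :=
  Functor.whiskerRight α AddCommGrpCat.free

/-- the generators of the free abelian presheaf -/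
def gen (A : Cᵒᵖ ⥤ Type u) (V : Cᵒᵖ) (s : A.obj V) : ((Z A).obj V : Type u) :=
  (FreeAbelianGroup.of s : FreeAbelianGroup (A.obj V))

lemma Z_map_gen (A : Cᵒᵖ ⥤ Type u) {V W : Cᵒᵖ} (h : V ⟶ W) (s : A.obj V) :
    ((Z A).map h).hom (gen A V s) = gen A W (A.map h s) :=
  FreeAbelianGroup.map_of_apply s

lemma Zmap_app_gen {A B : Cᵒᵖ ⥤ Type u} (α : A ⟶ B) (V : Cᵒᵖ) (s : A.obj V) :
    ((Zmap α).app V).hom (gen A V s) = gen B V (α.app V s) :=
  FreeAbelianGroup.map_of_apply s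

variable {A : Cᵒᵖ ⥤ Type u} {P Q : Cᵒᵖ ⥤ AddCommGrpCat.{u}}

/-- the family of values of a morphism on the generators -/
def fam (φ : Z A ⟶ P) (V : Cᵒᵖ) (s : A.obj V) : P.obj V := (φ.app V).hom (gen A V s)

lemma fam_map (φ : Z A ⟶ P) {V W : Cᵒᵖ} (h : V ⟶ W) (s : A.obj V) :
    fam φ W (A.map h s) = (P.map h).hom (fam φ V s) := by
  have h1 := ConcreteCategory.congr_hom (φ.naturality h) (gen A V s)
  have h2 : (φ.app W).hom (((Z A).map h).hom (gen A V s)) = (P.map h).hom (fam φ V s) := h1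
  rw [Z_map_gen] at h2
  exact h2

lemma hom_ext_fam (φ ψ : Z A ⟶ P) (h : ∀ (V : Cᵒᵖ) (s : A.obj V), fam φ V s = fam ψ V s) :
    φ = ψ := by
  ext V : 3
  apply FreeAbelianGroup.lift_ext
  intro s
  exact h V s

/-- the morphism with given values on the generators -/
def ofFam (t : ∀ V : Cᵒᵖ, A.obj V → P.obj V)
    (ht : ∀ {V W : Cᵒᵖ} (h : V ⟶ W) (s : A.obj V), t W (A.map h s) = (P.map h).hom (t V s)) :
    Z A ⟶ P where
  app V := AddCommGrpCat.ofHom (FreeAbelianGroup.lift (t V))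
  naturality V W h := by
    ext1
    apply FreeAbelianGroup.lift_ext
    intro s
    change FreeAbelianGroup.lift (t W) (FreeAbelianGroup.map (A.map h) (FreeAbelianGroup.of s)) =
      (P.map h).hom (FreeAbelianGroup.lift (t V) (FreeAbelianGroup.of s))
    rw [FreeAbelianGroup.map_of_apply, FreeAbelianGroup.lift_apply_of,
      FreeAbelianGroup.lift_apply_of, ht]

lemma fam_ofFam (t : ∀ V : Cᵒᵖ, A.obj V → P.obj V)
    (ht : ∀ {V W : Cᵒᵖ} (h : V ⟶ W) (s : A.obj V), t W (A.map h s) = (P.map h).hom (t V s))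
    (V : Cᵒᵖ) (s : A.obj V) : fam (ofFam t ht) V s = t V s :=
  FreeAbelianGroup.lift_apply_of _ s

/-- evaluation of a morphism of presheaves at an element, as an additive map -/
def evalHom (M N : Cᵒᵖ ⥤ AddCommGrpCat.{u}) (V : Cᵒᵖ) (x : M.obj V) : (M ⟶ N) →+ N.obj V where
  toFun φ := (φ.app V).hom x
  map_zero' := rfl
  map_add' _ _ := rfl

lemma evalHom_apply (M N : Cᵒᵖ ⥤ AddCommGrpCat.{u}) (V : Cᵒᵖ) (x : M.obj V) (φ : M ⟶ N) :
    evalHom M N V x φ = (φ.app V).hom x := rfl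

lemma fam_add (φ ψ : Z A ⟶ P) (V : Cᵒᵖ) (s : A.obj V) :
    fam (φ + ψ) V s = fam φ V s + fam ψ V s := rfl

lemma fam_zero (V : Cᵒᵖ) (s : A.obj V) : fam (0 : Z A ⟶ P) V s = 0 := rfl

lemma fam_comp (φ : Z A ⟶ P) (g : P ⟶ Q) (V : Cᵒᵖ) (s : A.obj V) :
    fam (φ ≫ g) V s = (g.app V).hom (fam φ V s) := rfl

lemma fam_Zmap_comp {B : Cᵒᵖ ⥤ Type u} (α : A ⟶ B) (φ : Z B ⟶ P) (V : Cᵒᵖ) (s : A.obj V) :
    fam (Zmap α ≫ φ) V s = fam φ V (α.app V s) := by
  change (φ.app V).hom (((Zmap α).app V).hom (gen A V s)) = _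
  rw [Zmap_app_gen]
  rfl

lemma Zmap_id (A : Cᵒᵖ ⥤ Type u) : Zmap (𝟙 A) = 𝟙 (Z A) := by
  apply hom_ext_fam
  intro V s
  have h := fam_Zmap_comp (𝟙 A) (𝟙 (Z A)) V s
  rw [Category.comp_id] at h
  exact h

lemma Zmap_comp {A B D : Cᵒᵖ ⥤ Type u} (α : A ⟶ B) (β : B ⟶ D) :
    Zmap (α ≫ β) = Zmap α ≫ Zmap β := by
  apply hom_ext_fam
  intro V s
  have h1 := fam_Zmap_comp (α ≫ β) (𝟙 (Z D)) V s
  rw [Category.comp_id] at h1
  have h2 := fam_Zmap_comp α (Zmap β) V s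
  have h3 := fam_Zmap_comp β (𝟙 (Z D)) V (α.app V s)
  rw [Category.comp_id] at h3
  rw [h1, h2, h3]
  rfl

/-- the free abelian presheaf of an isomorphism -/
def Ziso {A B : Cᵒᵖ ⥤ Type u} (e : A ≅ B) : Z A ≅ Z B where
  hom := Zmap e.hom
  inv := Zmap e.inv
  hom_inv_id := by rw [← Zmap_comp, e.hom_inv_id, Zmap_id]
  inv_hom_id := by rw [← Zmap_comp, e.inv_hom_id, Zmap_id]

instance mono_Zmap {A B : Cᵒᵖ ⥤ Type u} (α : A ⟶ B) [∀ V, Mono (α.app V)] : Mono (Zmap α) := by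
  have : ∀ V, Mono ((Zmap α).app V) := fun V =>
    inferInstanceAs (Mono (AddCommGrpCat.free.map (α.app V)))
  exact NatTrans.mono_of_mono_app _

/-! ### tuples -/

/-- the simplicial presheaf of tuples of sections of `A` -/
def Tup (A : Cᵒᵖ ⥤ Type u) : SimplexCategoryᵒᵖ ⥤ (Cᵒᵖ ⥤ Type u) where
  obj n :=
    { obj := fun V => (Fin (n.unop.len + 1) → A.obj V)
      map := fun h => ↾(fun s j => A.map h (s j))
      map_id := fun V => by
        ext s j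
        change A.map (𝟙 V) (s j) = s j
        rw [A.map_id]
        rfl
      map_comp := fun h h' => by
        ext s j
        change A.map (h ≫ h') (s j) = A.map h' (A.map h (s j))
        rw [A.map_comp]
        rfl }
  map θ :=
    { app := fun V => ↾(fun s => s ∘ θ.unop.toOrderHom)
      naturality := fun V W h => rfl }
  map_id n := rfl
  map_comp θ θ' := rfl

/-- `n`-tuples -/
abbrev TupT (A : Cᵒᵖ ⥤ Type u) (n : ℕ) (V : Cᵒᵖ) : Type u := Fin (n + 1) → A.obj V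

/-- the presheaf of `(n+1)`-tuples -/
abbrev TupP (A : Cᵒᵖ ⥤ Type u) (n : ℕ) : Cᵒᵖ ⥤ Type u := (Tup A).obj (op (SimplexCategory.mk n))

lemma TupP_map (A : Cᵒᵖ ⥤ Type u) (n : ℕ) {V W : Cᵒᵖ} (h : V ⟶ W) (s : TupT A n V)
    (j : Fin (n + 1)) : ((TupP A n).map h s : TupT A n W) j = A.map h (s j) := rfl

/-- the face maps on tuples -/
def face (A : Cᵒᵖ ⥤ Type u) (n : ℕ) (k : Fin (n + 2)) : TupP A (n + 1) ⟶ TupP A n :=
  (Tup A).map (SimplexCategory.δ k).op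

lemma face_app (A : Cᵒᵖ ⥤ Type u) (n : ℕ) (k : Fin (n + 2)) (V : Cᵒᵖ) (s : TupT A (n + 1) V) :
    ((face A n k).app V s : TupT A n V) = s ∘ k.succAbove := rfl

/-- the free abelian presheaf on `(n+1)`-tuples -/
abbrev K (A : Cᵒᵖ ⥤ Type u) (n : ℕ) : Cᵒᵖ ⥤ AddCommGrpCat.{u} := Z (TupP A n)

/-- the simplicial abelian presheaf `[n] ↦ ℤ[A^{n+1}]` -/
def KS (A : Cᵒᵖ ⥤ Type u) : SimplicialObject (Cᵒᵖ ⥤ AddCommGrpCat.{u}) :=
  Tup A ⋙ (Functor.whiskeringRight _ _ _).obj AddCommGrpCat.free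

/-- the chain complex of free abelian presheaves -/
def Kc (A : Cᵒᵖ ⥤ Type u) : ChainComplex (Cᵒᵖ ⥤ AddCommGrpCat.{u}) ℕ :=
  (AlgebraicTopology.alternatingFaceMapComplex _).obj (KS A)

/-- the alternating face map -/
def bdry (A : Cᵒᵖ ⥤ Type u) (n : ℕ) : K A (n + 1) ⟶ K A n := (Kc A).d (n + 1) n

lemma bdry_comp_bdry (A : Cᵒᵖ ⥤ Type u) (n : ℕ) : bdry A (n + 1) ≫ bdry A n = 0 :=
  (Kc A).d_comp_d _ _ _

lemma bdry_eq (A : Cᵒᵖ ⥤ Type u) (n : ℕ) :
    bdry A n = ∑ k : Fin (n + 2), (-1 : ℤ) ^ (k : ℕ) • Zmap (face A n k) :=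
  AlgebraicTopology.AlternatingFaceMapComplex.obj_d_eq (KS A) n

lemma fam_bdry_comp (A : Cᵒᵖ ⥤ Type u) (n : ℕ) (φ : K A n ⟶ P) (V : Cᵒᵖ)
    (s : TupT A (n + 1) V) :
    fam (bdry A n ≫ φ) V s =
      ∑ k : Fin (n + 2), (-1 : ℤ) ^ (k : ℕ) • fam φ V (s ∘ k.succAbove) := by
  rw [bdry_eq, Preadditive.sum_comp]
  change evalHom _ _ V (gen (TupP A (n + 1)) V s) _ = _
  rw [map_sum]
  refine Finset.sum_congr rfl fun k _ => ?_
  rw [Preadditive.zsmul_comp, map_zsmul, evalHom_apply]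
  exact congrArg (fun z => (-1 : ℤ) ^ (k : ℕ) • z) (fam_Zmap_comp (face A n k) φ V s)

/-! ### the cone construction -/

/-- The alternating face map on generators. -/
def bdryFun (A : Cᵒᵖ ⥤ Type u) {V : Cᵒᵖ} (n : ℕ) (s : TupT A (n + 1) V) :
    FreeAbelianGroup (TupT A n V) :=
  ∑ k : Fin (n + 2), (-1 : ℤ) ^ (k : ℕ) • FreeAbelianGroup.of (s ∘ k.succAbove)

/-- The alternating face map, as an additive map. -/
def bdryHom (A : Cᵒᵖ ⥤ Type u) (n : ℕ) (V : Cᵒᵖ) :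
    FreeAbelianGroup (TupT A (n + 1) V) →+ FreeAbelianGroup (TupT A n V) :=
  FreeAbelianGroup.lift (bdryFun A n)

@[simp] lemma bdryHom_of (A : Cᵒᵖ ⥤ Type u) {n : ℕ} {V : Cᵒᵖ} (s : TupT A (n + 1) V) :
    bdryHom A n V (FreeAbelianGroup.of s) = bdryFun A n s :=
  FreeAbelianGroup.lift_apply_of _ s

lemma bdry_app_hom (A : Cᵒᵖ ⥤ Type u) (n : ℕ) (V : Cᵒᵖ) :
    ((bdry A n).app V).hom = bdryHom A n V := by
  apply FreeAbelianGroup.lift_ext
  intro s
  have h := fam_bdry_comp A n (𝟙 (K A n)) V s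
  rw [Category.comp_id] at h
  exact h.trans (bdryHom_of A s).symm

/-- The cone with vertex `s₀`. -/
def coneHom (A : Cᵒᵖ ⥤ Type u) {V : Cᵒᵖ} (s₀ : A.obj V) (n : ℕ) :
    FreeAbelianGroup (TupT A n V) →+ FreeAbelianGroup (TupT A (n + 1) V) :=
  FreeAbelianGroup.map (fun s => (Fin.cons s₀ s : Fin (n + 2) → A.obj V))

@[simp] lemma coneHom_of (A : Cᵒᵖ ⥤ Type u) {V : Cᵒᵖ} (s₀ : A.obj V) (n : ℕ) (s : TupT A n V) :
    coneHom A s₀ n (FreeAbelianGroup.of s) =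
      FreeAbelianGroup.of (Fin.cons s₀ s : Fin (n + 2) → A.obj V) :=
  FreeAbelianGroup.map_of_apply s

lemma cons_comp_succAbove_zero (A : Cᵒᵖ ⥤ Type u) {V : Cᵒᵖ} (s₀ : A.obj V) {n : ℕ}
    (s : TupT A n V) :
    (Fin.cons s₀ s : Fin (n + 2) → A.obj V) ∘ (0 : Fin (n + 2)).succAbove = s := by
  funext j
  simp [Fin.succAbove_zero]

lemma cons_comp_succAbove_succ (A : Cᵒᵖ ⥤ Type u) {V : Cᵒᵖ} (s₀ : A.obj V) {n : ℕ}
    (s : TupT A (n + 1) V) (k : Fin (n + 2)) :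
    (Fin.cons s₀ s : Fin (n + 3) → A.obj V) ∘ k.succ.succAbove =
      (Fin.cons s₀ (s ∘ k.succAbove) : Fin (n + 2) → A.obj V) := by
  funext i
  refine Fin.cases ?_ (fun i' => ?_) i
  · simp
  · simp

/-- The cone is a contracting homotopy in positive degrees. -/
lemma cone_identity (A : Cᵒᵖ ⥤ Type u) {V : Cᵒᵖ} (s₀ : A.obj V) (n : ℕ)
    (z : FreeAbelianGroup (TupT A (n + 1) V)) :
    bdryHom A (n + 1) V (coneHom A s₀ (n + 1) z) + coneHom A s₀ n (bdryHom A n V z) = z := by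
  have key : (bdryHom A (n + 1) V).comp (coneHom A s₀ (n + 1)) +
      (coneHom A s₀ n).comp (bdryHom A n V) = AddMonoidHom.id _ := by
    apply FreeAbelianGroup.lift_ext
    intro s
    rw [AddMonoidHom.add_apply, AddMonoidHom.comp_apply, AddMonoidHom.comp_apply,
      coneHom_of, bdryHom_of, bdryHom_of, AddMonoidHom.id_apply]
    unfold bdryFun
    rw [Fin.sum_univ_succ, map_sum, cons_comp_succAbove_zero, Fin.val_zero, pow_zero, one_smul,
      add_assoc, ← Finset.sum_add_distrib]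
    convert add_zero _
    refine Finset.sum_eq_zero fun k _ => ?_
    rw [map_zsmul, coneHom_of, cons_comp_succAbove_succ, Fin.val_succ, pow_succ, mul_neg_one,
      neg_smul, neg_add_cancel]
  exact DFunLike.congr_fun key z

/-- Objectwise exactness of `K (n+2) ⟶ K (n+1) ⟶ K n`. -/
lemma exists_bdry_eq (A : Cᵒᵖ ⥤ Type u) {V : Cᵒᵖ} (n : ℕ)
    (z : FreeAbelianGroup (TupT A (n + 1) V))
    (hz : bdryHom A n V z = 0) : ∃ w, bdryHom A (n + 1) V w = z := by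
  by_cases h : Nonempty (A.obj V)
  · obtain ⟨s₀⟩ := h
    refine ⟨coneHom A s₀ (n + 1) z, ?_⟩
    have := cone_identity A s₀ n z
    rw [hz, map_zero, add_zero] at this
    exact this
  · rw [not_nonempty_iff] at h
    have : IsEmpty (TupT A (n + 1) V) := ⟨fun s => h.false (s 0)⟩
    exact ⟨0, Subsingleton.elim _ _⟩

/-- `K (n+2) ⟶ K (n+1) ⟶ K n` is exact. -/
lemma exact_K (A : Cᵒᵖ ⥤ Type u) (n : ℕ) :
    (ShortComplex.mk (bdry A (n + 1)) (bdry A n) (bdry_comp_bdry A n)).Exact := by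
  apply Groth.Agent.Lib.Helper22.Cech.exact_of_forall_evaluation
  intro V
  rw [ShortComplex.ab_exact_iff]
  intro z hz
  have hz' : bdryHom A n V z = 0 := by
    rw [← bdry_app_hom]
    exact hz
  obtain ⟨w, hw⟩ := exists_bdry_eq A n z hz'
  refine ⟨w, ?_⟩
  change ((bdry A (n + 1)).app V).hom w = z
  rw [bdry_app_hom]
  exact hw

/-! ### the complex `Hom(K •, P)` -/

/-- `P ↦ Hom(K n, P)` -/
abbrev homK (A : Cᵒᵖ ⥤ Type u) (n : ℕ) : (Cᵒᵖ ⥤ AddCommGrpCat.{u}) ⥤ AddCommGrpCat.{u} :=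
  preadditiveCoyoneda.obj (op (K A n))

/-- the differential `Hom(K n, P) ⟶ Hom(K (n+1), P)` -/
def dK (A : Cᵒᵖ ⥤ Type u) (n : ℕ) : homK A n ⟶ homK A (n + 1) :=
  preadditiveCoyoneda.map (bdry A n).op

lemma dK_app_apply (A : Cᵒᵖ ⥤ Type u) (n : ℕ) (P : Cᵒᵖ ⥤ AddCommGrpCat.{u}) (x : K A n ⟶ P) :
    ((dK A n).app P).hom x = bdry A n ≫ x := rfl

lemma homK_map_apply (A : Cᵒᵖ ⥤ Type u) (n : ℕ) {P Q : Cᵒᵖ ⥤ AddCommGrpCat.{u}} (g : P ⟶ Q)
    (x : K A n ⟶ P) : ((homK A n).map g).hom x = x ≫ g := rfl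

lemma dK_comp (A : Cᵒᵖ ⥤ Type u) (n : ℕ) : dK A n ≫ dK A (n + 1) = 0 := by
  ext P x
  change bdry A (n + 1) ≫ bdry A n ≫ x = 0
  rw [← Category.assoc, bdry_comp_bdry, zero_comp]

/-- the cochain complex `Hom(K •, P)` -/
def TTobj (A : Cᵒᵖ ⥤ Type u) (P : Cᵒᵖ ⥤ AddCommGrpCat.{u}) : CochainComplex AddCommGrpCat.{u} ℕ :=
  CochainComplex.of (fun n => (homK A n).obj P) (fun n => (dK A n).app P) (fun n => by
    rw [← NatTrans.comp_app, dK_comp]
    rfl)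

lemma TTobj_d (A : Cᵒᵖ ⥤ Type u) (P : Cᵒᵖ ⥤ AddCommGrpCat.{u}) (n : ℕ) :
    (TTobj A P).d n (n + 1) = (dK A n).app P :=
  CochainComplex.of_d (fun n => (homK A n).obj P) (fun n => (dK A n).app P) n

/-- the cochain complex `Hom(K •, P)`, functorially in `P` -/
def TT (A : Cᵒᵖ ⥤ Type u) : (Cᵒᵖ ⥤ AddCommGrpCat.{u}) ⥤ CochainComplex AddCommGrpCat.{u} ℕ where
  obj P := TTobj A P
  map {P Q} g := CochainComplex.ofHom (X := TTobj A P) (Y := TTobj A Q)
    (fun n => (homK A n).map g)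
    (fun n => by
      rw [TTobj_d, TTobj_d]
      exact (dK A n).naturality g)
  map_id P := by
    ext n x
    exact Category.comp_id (x : K A n ⟶ P)
  map_comp {P Q R} g g' := by
    ext n x
    exact (Category.assoc (x : K A n ⟶ P) g g').symm

lemma TT_X (A : Cᵒᵖ ⥤ Type u) (P : Cᵒᵖ ⥤ AddCommGrpCat.{u}) (n : ℕ) :
    ((TT A).obj P).X n = (homK A n).obj P := rfl

lemma TT_d (A : Cᵒᵖ ⥤ Type u) (P : Cᵒᵖ ⥤ AddCommGrpCat.{u}) (n : ℕ) :
    ((TT A).obj P).d n (n + 1) = (dK A n).app P := TTobj_d A P n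

lemma TT_map_f (A : Cᵒᵖ ⥤ Type u) {P Q : Cᵒᵖ ⥤ AddCommGrpCat.{u}} (g : P ⟶ Q) (n : ℕ) :
    ((TT A).map g).f n = (homK A n).map g := rfl

instance (A : Cᵒᵖ ⥤ Type u) : (TT A).Additive where
  map_add := by
    intro P Q g g'
    ext n x
    exact Preadditive.comp_add _ _ _ (x : K A n ⟶ P) g g'

/-- `T ⋙ eval n` is `Hom(K n, -)` -/
def TTevalIso (A : Cᵒᵖ ⥤ Type u) (n : ℕ) :
    TT A ⋙ HomologicalComplex.eval AddCommGrpCat.{u} (ComplexShape.up ℕ) n ≅ homK A n :=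
  NatIso.ofComponents (fun P => Iso.refl _) (by
    intro P Q g
    exact (Category.comp_id _).trans (Category.id_comp _).symm)

/-- a criterion for the vanishing of cohomology of complexes of abelian groups -/
lemma isZero_homology_succ_iff (L : CochainComplex AddCommGrpCat.{u} ℕ) (n : ℕ) :
    IsZero (L.homology (n + 1)) ↔
      ∀ x : L.X (n + 1), L.d (n + 1) (n + 2) x = 0 → ∃ y : L.X n, L.d n (n + 1) y = x := by
  rw [← HomologicalComplex.exactAt_iff_isZero_homology,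
    HomologicalComplex.exactAt_iff' L n (n + 1) (n + 2) (by simp) (by simp),
    ShortComplex.ab_exact_iff]
  rfl

/-- `Hom(K •, I)` is exact in positive degrees for an injective presheaf `I`. -/
theorem isZero_homology_succ_of_injective (A : Cᵒᵖ ⥤ Type u) (I : Cᵒᵖ ⥤ AddCommGrpCat.{u})
    [Injective I] (n : ℕ) : IsZero (((TT A).obj I).homology (n + 1)) := by
  rw [isZero_homology_succ_iff]
  intro x hx
  rw [TT_d] at hx
  have hx' : bdry A (n + 1) ≫ (x : K A (n + 1) ⟶ I) = 0 := hx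
  refine ⟨(exact_K A n).descToInjective (x : K A (n + 1) ⟶ I) hx', ?_⟩
  rw [TT_d]
  exact (exact_K A n).comp_descToInjective (x : K A (n + 1) ⟶ I) hx'

end Groth.Agent.Lib.Helper5.FreePsh
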