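import Groth.Agent.Lib.Helper5.LHSheaf

/-!
# The inverse image along a local homeomorphism via sections, II

For a local homeomorphism `a : U ⟶ S`, the sheaf `Gsh a F` of `LHSheaf` is the inverse image of
`F`; it is flasque when `F` is injective.
-/

set_option autoImplicit false

universe u

open CategoryTheory CategoryTheory.Limits Opposite TopologicalSpace

noncomputable section

namespace Groth.Agent.Lib.Helper5.LHSheaf

open Groth.Agent.Lib.Helper5.FreePsh Groth.Agent.Lib.Helper5.SecH0

variable {U S : TopCat.{u}} (a : U ⟶ S) (ha : IsOpenMap a)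

include ha in
lemma Sec.le_image {V : Opens U} {W : Opens S} (σ : Sec a V W) : W ≤ ha.functor.obj V :=
  fun w hw => ⟨σ.g ⟨w, hw⟩, σ.mem _, σ.sec _⟩

variable (P : (Opens S)ᵒᵖ ⥤ AddCommGrpCat.{u})

/-- the comparison morphism attached to a section of `P` over `a(V)` -/
def φmor (V : Opens U) (y : P.obj (op (ha.functor.obj V))) : Z (SecP a V) ⟶ P :=
  ofFam (A := SecP a V)
    (fun W σ => (P.map (homOfLE (Sec.le_image a ha (σ : Sec a V W.unop))).op).hom y)
    (fun {W W'} h σ => (map_map_thin P _ h _ y).symm)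

lemma fam_φmor (V : Opens U) (y : P.obj (op (ha.functor.obj V))) (W : (Opens S)ᵒᵖ)
    (σ : Sec a V W.unop) :
    fam (φmor a ha P V y) W σ = (P.map (homOfLE (Sec.le_image a ha σ)).op).hom y :=
  fam_ofFam (A := SecP a V)
    (fun W σ => (P.map (homOfLE (Sec.le_image a ha (σ : Sec a V W.unop))).op).hom y)
    (fun {W W'} h σ => (map_map_thin P _ h _ y).symm) W σ

/-- the comparison morphism as an additive map -/
def φhom (V : Opens U) : P.obj (op (ha.functor.obj V)) →+ (Z (SecP a V) ⟶ P) where
  toFun := φmor a ha P V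
  map_zero' := by
    apply hom_ext_fam
    intro W σ
    rw [fam_φmor, map_zero]
    rfl
  map_add' y y' := by
    apply hom_ext_fam
    intro W σ
    rw [fam_add, fam_φmor, fam_φmor, fam_φmor, map_add]

lemma φmor_res {V V' : Opens U} (h : V' ≤ V) (y : P.obj (op (ha.functor.obj V))) :
    φmor a ha P V' ((P.map (ha.functor.map (homOfLE h)).op).hom y) =
      resV a h ≫ φmor a ha P V y := by
  apply hom_ext_fam
  intro W σ
  rw [fam_φmor, fam_resV, fam_φmor]
  exact map_map_thin P _ _ _ y

lemma φmor_comp {P Q : (Opens S)ᵒᵖ ⥤ AddCommGrpCat.{u}} (g : P ⟶ Q) (V : Opens U)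
    (y : P.obj (op (ha.functor.obj V))) :
    φmor a ha P V y ≫ g = φmor a ha Q V ((g.app (op (ha.functor.obj V))).hom y) := by
  apply hom_ext_fam
  intro W σ
  rw [fam_comp, fam_φmor, fam_φmor]
  exact NatTrans.naturality_apply g (homOfLE (Sec.le_image a ha σ)).op y

/-- the comparison morphism of presheaves -/
def φ : ha.functor.op ⋙ P ⟶ (Gpsh a).obj P where
  app V := AddCommGrpCat.ofHom (φhom a ha P V.unop)
  naturality V V' h := by
    ext y
    exact φmor_res a ha P (leOfHom h.unop) y

lemma φ_app_apply (V : Opens U) (y : P.obj (op (ha.functor.obj V))) :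
    ((φ a ha P).app (op V)).hom y = φmor a ha P V y := rfl

/-- the comparison morphism, naturally in the presheaf -/
def φN : (Functor.whiskeringLeft _ _ _).obj ha.functor.op ⟶ Gpsh a where
  app P := φ a ha P
  naturality P Q g := by
    ext V y
    exact (φmor_comp a ha g V.unop y).symm

/-! ### sheets -/

/-- a sheet: an open of `U` on which `a` has a continuous inverse -/
structure Sheet (V : Opens U) where
  /-- the inverse section -/
  τ : Sec a V (ha.functor.obj V)
  inv : ∀ (v : U) (hv : v ∈ V), τ.g ⟨a v, ⟨v, hv, rfl⟩⟩ = v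

variable {a ha}

lemma Sheet.res_τ {V : Opens U} (sh : Sheet a ha V) {W : Opens S} (σ : Sec a V W) :
    Sec.res (Sec.le_image a ha σ) sh.τ = σ := by
  apply Sec.ext'
  intro w
  exact (congrArg sh.τ.g (Subtype.ext (σ.sec w).symm)).trans (sh.inv (σ.g w) (σ.mem w))

lemma φmor_injective {V : Opens U} (sh : Sheet a ha V) (y y' : P.obj (op (ha.functor.obj V)))
    (h : φmor a ha P V y = φmor a ha P V y') : y = y' := by
  have h1 := congrArg (fun x => fam x (op (ha.functor.obj V)) sh.τ) h
  simp only [fam_φmor] at h1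
  have e : ∀ z : P.obj (op (ha.functor.obj V)),
      (P.map (homOfLE (Sec.le_image a ha sh.τ)).op).hom z = z := by
    intro z
    have : (homOfLE (Sec.le_image a ha sh.τ)).op = 𝟙 (op (ha.functor.obj V)) :=
      Subsingleton.elim _ _
    rw [this, P.map_id]
    rfl
  rw [e, e] at h1
  exact h1

lemma φmor_surjective {V : Opens U} (sh : Sheet a ha V) (x : Z (SecP a V) ⟶ P) :
    φmor a ha P V (fam x (op (ha.functor.obj V)) sh.τ) = x := by
  apply hom_ext_fam
  intro W σ
  obtain ⟨W⟩ := W
  rw [fam_φmor, ← fam_map', sh.res_τ]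

variable (a)

/-- sheets form a basis -/
lemma exists_sheet (hf : IsLocalHomeomorph a) (V : Opens U) (v : U) (hv : v ∈ V) :
    ∃ V' : Opens U, V' ≤ V ∧ v ∈ V' ∧ Nonempty (Sheet a hf.isOpenMap V') := by
  obtain ⟨e, hve, hae⟩ := hf v
  have hae' : ∀ z : U, a z = e z := fun z => congrFun hae z
  let V' : Opens U := V ⊓ ⟨e.source, e.open_source⟩
  have hV'src : ∀ z, z ∈ V' → z ∈ e.source := fun z hz => hz.2
  have htgt : ∀ w : S, w ∈ hf.isOpenMap.functor.obj V' → w ∈ e.target := by
    rintro w ⟨z, hz, rfl⟩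
    rw [hae']
    exact e.map_source (hV'src z hz)
  have hsymm : ∀ w : S, w ∈ hf.isOpenMap.functor.obj V' → e.symm w ∈ V' := by
    rintro w ⟨z, hz, rfl⟩
    rw [hae', e.left_inv (hV'src z hz)]
    exact hz
  have hcont : Continuous (fun w : hf.isOpenMap.functor.obj V' => e.symm w.1) := by
    have h1 : ContinuousOn e.symm (hf.isOpenMap.functor.obj V' : Set S) :=
      e.continuousOn_symm.mono htgt
    exact continuousOn_iff_continuous_domRestrict.1 h1
  refine ⟨V', inf_le_left, ⟨hv, hve⟩, ⟨{ τ := ?_, inv := ?_ }⟩⟩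
  · exact
      { g := ⟨fun w => e.symm w.1, hcont⟩
        sec := fun w => by
          change a (e.symm w.1) = w.1
          rw [hae']
          exact e.right_inv (htgt w.1 w.2)
        mem := fun w => hsymm w.1 w.2 }
  · intro z hz
    change e.symm (a z) = z
    rw [hae']
    exact e.left_inv (hV'src z hz)

/-! ### local bijectivity -/

section iso

variable (hf : IsLocalHomeomorph a)

lemma isLocallyInjective_φ :
    Presheaf.IsLocallyInjective (Opens.grothendieckTopology U) (φ a hf.isOpenMap P) where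
  equalizerSieve_mem {X} x y h := by
    intro v hv
    obtain ⟨V', hle, hv', ⟨sh⟩⟩ := exists_sheet a hf X.unop v hv
    refine ⟨V', homOfLE hle, ?_, hv'⟩
    change ((hf.isOpenMap.functor.op ⋙ P).map (homOfLE hle).op).hom x =
      ((hf.isOpenMap.functor.op ⋙ P).map (homOfLE hle).op).hom y
    apply φmor_injective P sh
    have h' : φmor a hf.isOpenMap P X.unop x = φmor a hf.isOpenMap P X.unop y := h
    have e1 := φmor_res a hf.isOpenMap P hle x
    have e2 := φmor_res a hf.isOpenMap P hle y
    exact e1.trans ((congrArg (fun z => resV a hle ≫ z) h').trans e2.symm)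

lemma isLocallySurjective_φ :
    Presheaf.IsLocallySurjective (Opens.grothendieckTopology U) (φ a hf.isOpenMap P) where
  imageSieve_mem {V} s := by
    intro v hv
    obtain ⟨V', hle, hv', ⟨sh⟩⟩ := exists_sheet a hf V v hv
    refine ⟨V', homOfLE hle, ?_, hv'⟩
    let s' : Z (SecP a V) ⟶ P := s
    refine ⟨fam (resV a hle ≫ s') (op (hf.isOpenMap.functor.obj V')) sh.τ, ?_⟩
    exact φmor_surjective P sh (resV a hle ≫ s')

/-- the sheaf `V ↦ Hom(ℤ[sections with values in V], F)` on `U`, functorially in `F` -/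
def Gsh : CohTop.Ab S ⥤ CohTop.Ab U :=
  ObjectProperty.lift _
    (sheafToPresheaf (Opens.grothendieckTopology S) AddCommGrpCat.{u} ⋙ Gpsh a)
    (fun F => isSheaf_Gpsh a F)

lemma Gsh_obj_obj (F : CohTop.Ab S) : ((Gsh a).obj F).obj = (Gpsh a).obj F.obj := rfl

lemma Gsh_map_hom {F G : CohTop.Ab S} (g : F ⟶ G) : ((Gsh a).map g).hom = (Gpsh a).map g.hom := rfl

/-- the comparison on sheaves -/
def Φ : sheafToPresheaf (Opens.grothendieckTopology S) AddCommGrpCat.{u} ⋙
      (Functor.whiskeringLeft _ _ _).obj hf.isOpenMap.functor.op ⟶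
    Gsh a ⋙ sheafToPresheaf (Opens.grothendieckTopology U) AddCommGrpCat.{u} where
  app F := φ a hf.isOpenMap F.obj
  naturality F G g := (φN a hf.isOpenMap).naturality g.hom

instance isIso_presheafToSheaf_map_Φ (F : CohTop.Ab S) :
    IsIso ((presheafToSheaf (Opens.grothendieckTopology U) AddCommGrpCat.{u}).map
      ((Φ a hf).app F)) := by
  have h1 := isLocallyInjective_φ a F.obj hf
  have h2 := isLocallySurjective_φ a F.obj hf
  have hW : (Opens.grothendieckTopology U).W (φ a hf.isOpenMap F.obj) :=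
    (Opens.grothendieckTopology U).W_of_isLocallyBijective _
  exact ((Opens.grothendieckTopology U).W_iff _).1 hW

/-- the comparison from the sheafification of `V ↦ F(a V)` -/
def ψ : (sheafToPresheaf (Opens.grothendieckTopology S) AddCommGrpCat.{u} ⋙
      (Functor.whiskeringLeft _ _ _).obj hf.isOpenMap.functor.op) ⋙
      presheafToSheaf (Opens.grothendieckTopology U) AddCommGrpCat.{u} ⟶ Gsh a :=
  Functor.whiskerRight (Φ a hf) (presheafToSheaf _ _) ≫ (Functor.associator _ _ _).hom ≫
    Functor.whiskerLeft (Gsh a)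
      (sheafificationAdjunction (Opens.grothendieckTopology U) AddCommGrpCat.{u}).counit ≫
    (Functor.rightUnitor _).hom

instance isIso_ψ : IsIso (ψ a hf) := by
  have : ∀ F, IsIso ((ψ a hf).app F) := by
    intro F
    simp only [ψ, NatTrans.comp_app, Functor.whiskerRight_app, Functor.associator_hom_app,
      Functor.whiskerLeft_app, Functor.rightUnitor_hom_app, Category.id_comp]
    have h1 := isIso_presheafToSheaf_map_Φ a hf F
    have h2 : IsIso ((sheafificationAdjunction (Opens.grothendieckTopology U)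
        AddCommGrpCat.{u}).counit.app ((Gsh a).obj F)) := inferInstance
    exact IsIso.comp_isIso' h1 (IsIso.comp_isIso' h2 (IsIso.id _))
  exact NatIso.isIso_of_isIso_app _

/-- **the inverse image along a local homeomorphism is `Gsh`** -/
def pullIso : CohPull.inv a ≅ Gsh a :=
  TopCat.Sheaf.pullbackIso AddCommGrpCat.{u} a ≪≫
    Functor.isoWhiskerLeft (TopCat.Sheaf.forget AddCommGrpCat.{u} S)
      (Functor.isoWhiskerRight hf.isOpenMap.pullbackIso (presheafToSheaf _ _)) ≪≫
    (Functor.associator _ _ _).symm ≪≫ @asIso _ _ _ _ (ψ a hf) (isIso_ψ a hf)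

end iso

/-! ### flasqueness -/

lemma isFlasque_of_iso {X : TopCat.{u}} {F G : CohTop.Ab X} (e : F ≅ G)
    [TopCat.Sheaf.IsFlasque F] : TopCat.Sheaf.IsFlasque G where
  epi {V W} i := by
    have hid : e.inv.hom.app W ≫ e.hom.hom.app W = 𝟙 _ :=
      congrArg (fun t => t.hom.app W) e.inv_hom_id
    have h : G.obj.map i = e.inv.hom.app V ≫ F.obj.map i ≫ e.hom.hom.app W := by
      rw [← e.inv.hom.naturality_assoc, hid, Category.comp_id]
    have e1 : IsIso (e.inv.hom.app V) :=
      inferInstanceAs (IsIso ((sheafToPresheaf _ _ ⋙ (evaluation _ _).obj V).map e.inv))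
    have e2 : IsIso (e.hom.hom.app W) :=
      inferInstanceAs (IsIso ((sheafToPresheaf _ _ ⋙ (evaluation _ _).obj W).map e.hom))
    have e3 : Epi (F.obj.map i) := TopCat.Presheaf.IsFlasque.epi i
    rw [h]
    infer_instance

instance isFlasque_Gsh (Q : CohTop.Ab S) [Injective Q] :
    TopCat.Sheaf.IsFlasque ((Gsh a).obj Q) where
  epi {V W} i := by
    have hinj : Injective (C := (Opens S)ᵒᵖ ⥤ AddCommGrpCat.{u}) Q.obj :=
      Injective.injective_of_adjoint
        (sheafificationAdjunction (Opens.grothendieckTopology S) AddCommGrpCat.{u}) Q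
    rw [AddCommGrpCat.epi_iff_surjective]
    intro y
    let y' : Z (SecP a W.unop) ⟶ Q.obj := y
    refine ⟨@Injective.factorThru _ _ Q.obj _ _ hinj y' (resV a (leOfHom i.unop))
      (mono_resV a (leOfHom i.unop)), ?_⟩
    exact @Injective.comp_factorThru _ _ Q.obj _ _ hinj y' (resV a (leOfHom i.unop))
      (mono_resV a (leOfHom i.unop))

lemma isFlasque_inv_obj (hf : IsLocalHomeomorph a) (Q : CohTop.Ab S) [Injective Q] :
    TopCat.Sheaf.IsFlasque ((CohPull.inv a).obj Q) :=
  isFlasque_of_iso ((pullIso a hf).app Q).symm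

end Groth.Agent.Lib.Helper5.LHSheaf
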