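import Mathlib
import Groth.Prelude.Def_CohTop
import Groth.Agent.Lib.Helper5.FreePsh
import Groth.Agent.Lib.Helper5.LHPull

/-!
# The site attached to a diagram of topological spaces

For a diagram `Y : Iᵒᵖ ⥤ TopCat` the category `Obj Y` has objects the pairs `(i, U)` with `U` an
open subset of `Y i`; a morphism `(j, W) ⟶ (i, U)` is a morphism `α : i ⟶ j` of `I` such that
`Y α` maps `W` into `U`.  Coverings are the open coverings in each level.  A sheaf on this site is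
a compatible system of sheaves on the spaces `Y i`.
-/

set_option autoImplicit false

universe u

open CategoryTheory CategoryTheory.Limits Opposite TopologicalSpace

noncomputable section

namespace Groth.Agent.Lib.Helper5.DSite

variable {I : Type u} [Category.{u} I] (Y : Iᵒᵖ ⥤ TopCat.{u})

/-- the space at level `i` -/
abbrev Sp (i : I) : TopCat.{u} := Y.obj (op i)

/-- the transition map attached to a morphism of indices -/
abbrev tr {i j : I} (α : i ⟶ j) : Sp Y j ⟶ Sp Y i := Y.map α.op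

lemma tr_id_apply (i : I) (w : Sp Y i) : tr Y (𝟙 i) w = w := by
  rw [show tr Y (𝟙 i) = 𝟙 _ from Y.map_id _]
  rfl

lemma tr_comp_apply {i j k : I} (α : i ⟶ j) (β : j ⟶ k) (w : Sp Y k) :
    tr Y (α ≫ β) w = tr Y α (tr Y β w) := by
  rw [show tr Y (α ≫ β) = tr Y β ≫ tr Y α from Y.map_comp β.op α.op]
  rfl

/-- objects of the site: an index and an open subset of the corresponding space -/
structure Obj where
  /-- the level -/
  i : I
  /-- the open subset -/
  U : Opens (Sp Y i)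

/-- morphisms of the site -/
@[ext]
structure Hom (A B : Obj Y) where
  /-- the morphism of indices -/
  α : B.i ⟶ A.i
  mem : ∀ w, w ∈ A.U → tr Y α w ∈ B.U

instance : Category.{u} (Obj Y) where
  Hom A B := Hom Y A B
  id A := ⟨𝟙 _, fun w hw => by rw [tr_id_apply]; exact hw⟩
  comp f g := ⟨g.α ≫ f.α, fun w hw => by rw [tr_comp_apply]; exact g.mem _ (f.mem _ hw)⟩
  id_comp f := Hom.ext (Category.comp_id _)
  comp_id f := Hom.ext (Category.id_comp _)
  assoc f g h := Hom.ext (Category.assoc _ _ _).symm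

variable {Y}

lemma comp_α {A B C : Obj Y} (f : A ⟶ B) (g : B ⟶ C) : (f ≫ g).α = g.α ≫ f.α := rfl

lemma id_α (A : Obj Y) : (𝟙 A : A ⟶ A).α = 𝟙 A.i := rfl

lemma hom_ext {A B : Obj Y} {f g : A ⟶ B} (h : f.α = g.α) : f = g := Hom.ext h

/-- the morphism with a given index component -/
def mkHom {A B : Obj Y} (α : B.i ⟶ A.i) (h : ∀ w, w ∈ A.U → tr Y α w ∈ B.U) : A ⟶ B := ⟨α, h⟩

@[simp] lemma mkHom_α {A B : Obj Y} (α : B.i ⟶ A.i) (h : ∀ w, w ∈ A.U → tr Y α w ∈ B.U) :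
    (mkHom α h).α = α := rfl

variable (Y)

/-- the inclusion of a smaller open subset on the same level -/
def homOfLE' (i : I) {U V : Opens (Sp Y i)} (h : U ≤ V) : (⟨i, U⟩ : Obj Y) ⟶ ⟨i, V⟩ :=
  ⟨𝟙 i, fun w hw => by rw [tr_id_apply]; exact h hw⟩

@[simp] lemma homOfLE'_α (i : I) {U V : Opens (Sp Y i)} (h : U ≤ V) :
    (homOfLE' Y i h).α = 𝟙 i := rfl

/-- the inclusion of a smaller open subset into an object -/
def inclO (A : Obj Y) (V : Opens (Sp Y A.i)) (hV : V ≤ A.U) : (⟨A.i, V⟩ : Obj Y) ⟶ A :=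
  ⟨𝟙 A.i, fun w hw => by rw [tr_id_apply]; exact hV hw⟩

@[simp] lemma inclO_α (A : Obj Y) (V : Opens (Sp Y A.i)) (hV : V ≤ A.U) :
    (inclO Y A V hV).α = 𝟙 A.i := rfl

/-- the morphism `(j, (Y α)⁻¹ U) ⟶ (i, U)` -/
def mα {i j : I} (α : i ⟶ j) (U : Opens (Sp Y i)) :
    (⟨j, (Opens.map (tr Y α)).obj U⟩ : Obj Y) ⟶ ⟨i, U⟩ :=
  ⟨α, fun _ hw => hw⟩

@[simp] lemma mα_α {i j : I} (α : i ⟶ j) (U : Opens (Sp Y i)) : (mα Y α U).α = α := rfl

/-- the topology: coverings are open coverings on each level -/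
def J : GrothendieckTopology (Obj Y) where
  sieves A := {S | ∀ x ∈ A.U, ∃ (V : Opens (Sp Y A.i)) (hV : V ≤ A.U),
    x ∈ V ∧ S.arrows (inclO Y A V hV)}
  top_mem' A x hx := ⟨A.U, le_rfl, hx, trivial⟩
  pullback_stable' A B S f hS x hx := by
    obtain ⟨V, hV, hxV, hSV⟩ := hS (tr Y f.α x) (f.mem x hx)
    refine ⟨B.U ⊓ (Opens.map (tr Y f.α)).obj V, inf_le_left, ⟨hx, hxV⟩, ?_⟩
    have e : inclO Y B (B.U ⊓ (Opens.map (tr Y f.α)).obj V) inf_le_left ≫ f =
        (mkHom (A := ⟨B.i, B.U ⊓ (Opens.map (tr Y f.α)).obj V⟩) (B := ⟨A.i, V⟩) f.α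
          (fun w hw => hw.2)) ≫ inclO Y A V hV :=
      hom_ext ((Category.comp_id _).trans (Category.id_comp _).symm)
    change S.arrows (inclO Y B _ inf_le_left ≫ f)
    rw [e]
    exact S.downward_closed hSV _
  transitive' A S hS R hR x hx := by
    obtain ⟨V, hV, hxV, hSV⟩ := hS x hx
    obtain ⟨V', hV', hxV', hRV'⟩ := hR hSV x hxV
    refine ⟨V', hV'.trans hV, hxV', ?_⟩
    have e : inclO Y ⟨A.i, V⟩ V' hV' ≫ inclO Y A V hV = inclO Y A V' (hV'.trans hV) :=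
      hom_ext (Category.comp_id _)
    rw [← e]
    exact hRV'

lemma mem_J (A : Obj Y) (S : Sieve A) : S ∈ J Y A ↔ ∀ x ∈ A.U, ∃ (V : Opens (Sp Y A.i))
    (hV : V ≤ A.U), x ∈ V ∧ S.arrows (inclO Y A V hV) := Iff.rfl

/-- the inclusion of the opens of one level -/
def ι (i : I) : Opens (Sp Y i) ⥤ Obj Y where
  obj U := ⟨i, U⟩
  map h := homOfLE' Y i (leOfHom h)
  map_id _ := rfl
  map_comp _ _ := hom_ext (Category.comp_id _).symm

@[simp] lemma ι_map_α (i : I) {U V : Opens (Sp Y i)} (h : U ⟶ V) : ((ι Y i).map h).α = 𝟙 i := rfl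

lemma coverPreserving_ι (i : I) :
    CoverPreserving (Opens.grothendieckTopology (Sp Y i)) (J Y) (ι Y i) where
  cover_preserve {U S} hS := by
    intro x hx
    obtain ⟨V, f, hf, hxV⟩ := hS x hx
    refine ⟨V, leOfHom f, hxV, ?_⟩
    exact ⟨V, f, 𝟙 _, hf, hom_ext (Category.comp_id _).symm⟩

lemma compatiblePreserving_ι (i : I) : CompatiblePreserving.{u} (J Y) (ι Y i) where
  compatible ℱ {Z T x} hx {Y₁ Y₂ X} f₁ f₂ {g₁ g₂} hg₁ hg₂ e := by
    have hα : f₁.α = f₂.α := by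
      have h := congrArg Hom.α e
      change 𝟙 i ≫ f₁.α = 𝟙 i ≫ f₂.α at h
      rwa [Category.id_comp, Category.id_comp] at h
    let h : X ⟶ (ι Y i).obj (Y₁ ⊓ Y₂) :=
      mkHom (B := (ι Y i).obj (Y₁ ⊓ Y₂)) f₁.α (fun w hw => ⟨f₁.mem w hw, by
        rw [hα]
        exact f₂.mem w hw⟩)
    have e₁ : f₁ = h ≫ (ι Y i).map (homOfLE inf_le_left) := hom_ext (Category.id_comp _).symm
    have e₂ : f₂ = h ≫ (ι Y i).map (homOfLE inf_le_right) :=
      hom_ext (hα.symm.trans (Category.id_comp _).symm)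
    have hc := hx (homOfLE (inf_le_left : Y₁ ⊓ Y₂ ≤ Y₁)) (homOfLE (inf_le_right : Y₁ ⊓ Y₂ ≤ Y₂))
      hg₁ hg₂ (Subsingleton.elim _ _)
    rw [e₁, e₂, op_comp, op_comp, ℱ.obj.map_comp, ℱ.obj.map_comp]
    exact congrArg (ℱ.obj.map h.op) hc

instance isContinuous_ι (i : I) :
    (ι Y i).IsContinuous (Opens.grothendieckTopology (Sp Y i)) (J Y) :=
  Functor.isContinuous_of_coverPreserving (compatiblePreserving_ι Y i) (coverPreserving_ι Y i)

instance isCocontinuous_ι (i : I) :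
    (ι Y i).IsCocontinuous (Opens.grothendieckTopology (Sp Y i)) (J Y) where
  cover_lift {U S} hS := by
    intro x hx
    obtain ⟨V, hV, hxV, hSV⟩ := hS x hx
    exact ⟨V, homOfLE hV, hSV, hxV⟩

/-- abelian sheaves on the site -/
abbrev Sh : Type (u + 1) := Sheaf (J Y) AddCommGrpCat.{u}

/-- the restriction of a sheaf to one level -/
abbrev ev (i : I) : Sh Y ⥤ CohTop.Ab (Sp Y i) :=
  (ι Y i).sheafPushforwardContinuous AddCommGrpCat.{u} (Opens.grothendieckTopology (Sp Y i)) (J Y)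

instance (i : I) : (ev Y i).IsLeftAdjoint :=
  ((ι Y i).sheafAdjunctionCocontinuous AddCommGrpCat.{u}
    (Opens.grothendieckTopology (Sp Y i)) (J Y)).isLeftAdjoint

instance (i : I) : PreservesFiniteLimits (ev Y i) := inferInstance

instance (i : I) : PreservesFiniteColimits (ev Y i) := inferInstance

instance (i : I) : (ev Y i).Additive where
  map_add := rfl

/-- the presheaf on one level -/
abbrev lev (P : (Obj Y)ᵒᵖ ⥤ AddCommGrpCat.{u}) (i : I) :
    (Opens (Sp Y i))ᵒᵖ ⥤ AddCommGrpCat.{u} := (ι Y i).op ⋙ P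

lemma ev_obj_obj (G : Sh Y) (i : I) : ((ev Y i).obj G).obj = lev Y G.obj i := rfl

variable {Y}

/-! ### elementwise functoriality -/

lemma map_comp_apply (P : (Obj Y)ᵒᵖ ⥤ AddCommGrpCat.{u}) {A B C : Obj Y} (f : A ⟶ B) (g : B ⟶ C)
    (t : P.obj (op C)) : (P.map f.op).hom ((P.map g.op).hom t) = (P.map (f ≫ g).op).hom t := by
  rw [op_comp, P.map_comp]
  rfl

lemma map_congr (P : (Obj Y)ᵒᵖ ⥤ AddCommGrpCat.{u}) {A B : Obj Y} {f g : A ⟶ B} (h : f = g)
    (t : P.obj (op B)) : (P.map f.op).hom t = (P.map g.op).hom t := by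
  rw [h]

lemma map_id_apply (P : (Obj Y)ᵒᵖ ⥤ AddCommGrpCat.{u}) {A : Obj Y} (f : A ⟶ A) (h : f.α = 𝟙 _)
    (t : P.obj (op A)) : (P.map f.op).hom t = t := by
  have e : f = 𝟙 A := hom_ext h
  rw [e, op_id, P.map_id]
  rfl

variable (Y)

/-! ### the levelwise sheaf criterion -/

/-- amalgamation of compatible families over a covering sieve, for a presheaf which is a sheaf
on each level -/
theorem existsUnique_amalgamation (P : (Obj Y)ᵒᵖ ⥤ AddCommGrpCat.{u})
    (h : ∀ i, TopCat.Presheaf.IsSheaf (lev Y P i)) (A : Obj Y) (S : Sieve A) (hS : S ∈ J Y A)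
    (x : ∀ (B : Obj Y) (m : B ⟶ A), S.arrows m → P.obj (op B))
    (hx : ∀ (B B' : Obj Y) (m : B ⟶ A) (m' : B' ⟶ A) (g : B' ⟶ B) (hm : S.arrows m)
      (hm' : S.arrows m'), g ≫ m = m' → (P.map g.op).hom (x B m hm) = x B' m' hm') :
    ∃! t : P.obj (op A), ∀ (B : Obj Y) (m : B ⟶ A) (hm : S.arrows m),
      (P.map m.op).hom t = x B m hm := by
  obtain ⟨i, U⟩ := A
  let Fi : CohTop.Ab (Sp Y i) := ⟨lev Y P i, h i⟩
  let κ : Type u := {V : Opens (Sp Y i) // ∃ hV : V ≤ U, S.arrows (inclO Y ⟨i, U⟩ V hV)}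
  let Ui : κ → Opens (Sp Y i) := fun k => k.1
  have hle : ∀ k : κ, Ui k ≤ U := fun k => k.2.choose
  have hSk : ∀ k : κ, S.arrows (inclO Y ⟨i, U⟩ (Ui k) (hle k)) := fun k => k.2.choose_spec
  let sf : ∀ k : κ, Fi.obj.obj (op (Ui k)) := fun k => x ⟨i, Ui k⟩ _ (hSk k)
  have hcov : U ≤ iSup Ui := by
    intro w hw
    obtain ⟨V, hV, hwV, hSV⟩ := hS w hw
    exact Opens.mem_iSup.2 ⟨⟨V, hV, hSV⟩, hwV⟩
  have hcomp : TopCat.Presheaf.IsCompatible Fi.obj Ui sf := by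
    intro k k'
    change (P.map ((ι Y i).map (Opens.infLELeft (Ui k) (Ui k'))).op).hom (sf k) =
      (P.map ((ι Y i).map (Opens.infLERight (Ui k) (Ui k'))).op).hom (sf k')
    have hm : S.arrows ((ι Y i).map (Opens.infLELeft (Ui k) (Ui k')) ≫
        inclO Y ⟨i, U⟩ (Ui k) (hle k)) := S.downward_closed (hSk k) _
    have h1 := hx _ _ _ _ ((ι Y i).map (Opens.infLELeft (Ui k) (Ui k'))) (hSk k) hm rfl
    have h2 := hx _ _ _ _ ((ι Y i).map (Opens.infLERight (Ui k) (Ui k'))) (hSk k') hm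
      (hom_ext rfl)
    exact h1.trans h2.symm
  obtain ⟨t, ht, htu⟩ := TopCat.Sheaf.existsUnique_gluing' Fi Ui U (fun k => homOfLE (hle k))
    hcov sf hcomp
  have ht' : ∀ k : κ, (P.map (inclO Y ⟨i, U⟩ (Ui k) (hle k)).op).hom t = sf k := ht
  refine ⟨t, ?_, ?_⟩
  · intro B m hm
    obtain ⟨j, W⟩ := B
    let Fj : CohTop.Ab (Sp Y j) := ⟨lev Y P j, h j⟩
    let Wk : κ → Opens (Sp Y j) := fun k => W ⊓ (Opens.map (tr Y m.α)).obj (Ui k)
    have hWcov : W ≤ iSup Wk := by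
      intro w hw
      obtain ⟨k, hk⟩ := Opens.mem_iSup.1 (hcov (m.mem w hw))
      exact Opens.mem_iSup.2 ⟨k, hw, hk⟩
    refine TopCat.Sheaf.eq_of_locally_eq' Fj Wk W (fun k => homOfLE inf_le_left) hWcov
      ((P.map m.op).hom t) (x ⟨j, W⟩ m hm) (fun k => ?_)
    change (P.map (inclO Y ⟨j, W⟩ (Wk k) inf_le_left).op).hom ((P.map m.op).hom t) =
      (P.map (inclO Y ⟨j, W⟩ (Wk k) inf_le_left).op).hom (x ⟨j, W⟩ m hm)
    let mk : (⟨j, Wk k⟩ : Obj Y) ⟶ ⟨i, Ui k⟩ := mkHom m.α (fun w hw => hw.2)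
    have e : inclO Y ⟨j, W⟩ (Wk k) inf_le_left ≫ m = mk ≫ inclO Y ⟨i, U⟩ (Ui k) (hle k) :=
      hom_ext ((Category.comp_id _).trans (Category.id_comp _).symm)
    have hm2 : S.arrows (inclO Y ⟨j, W⟩ (Wk k) inf_le_left ≫ m) := S.downward_closed hm _
    have h3 := hx _ _ m _ (inclO Y ⟨j, W⟩ (Wk k) inf_le_left) hm hm2 rfl
    have h4 := map_comp_apply P (inclO Y ⟨j, W⟩ (Wk k) inf_le_left) m t
    have h5 := map_congr P e t
    have h6 := (map_comp_apply P mk (inclO Y ⟨i, U⟩ (Ui k) (hle k)) t).symm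
    have h7 : (P.map mk.op).hom ((P.map (inclO Y ⟨i, U⟩ (Ui k) (hle k)).op).hom t) =
        (P.map mk.op).hom (sf k) := congrArg (fun z => (P.map mk.op).hom z) (ht' k)
    have h8 := hx _ _ _ _ mk (hSk k) hm2 e.symm
    exact h4.trans (h5.trans (h6.trans (h7.trans (h8.trans h3.symm))))
  · intro t' ht2
    apply htu
    intro k
    exact ht2 _ _ (hSk k)

/-- a presheaf on the site which is a sheaf on each level is a sheaf -/
theorem isSheaf_of_levelwise (P : (Obj Y)ᵒᵖ ⥤ AddCommGrpCat.{u})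
    (h : ∀ i, TopCat.Presheaf.IsSheaf (lev Y P i)) : Presheaf.IsSheaf (J Y) P := by
  rw [Presheaf.isSheaf_iff_isSheaf_forget (J Y) P (forget AddCommGrpCat.{u}),
    isSheaf_iff_isSheaf_of_type]
  intro A S hS x hx
  obtain ⟨t, ht, htu⟩ := existsUnique_amalgamation Y P h A S hS (fun B m hm => x m hm)
    (fun B B' m m' g hm hm' e => by
      have h1 := hx g (𝟙 B') hm hm' (e.trans (Category.id_comp _).symm)
      have h2 : (P ⋙ forget AddCommGrpCat.{u}).map (𝟙 B').op (x m' hm') = x m' hm' := by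
        rw [op_id, (P ⋙ forget AddCommGrpCat.{u}).map_id]
        rfl
      exact h1.trans h2)
  exact ⟨t, fun B m hm => ht B m hm, fun t' ht' => htu t' (fun B m hm => ht' m hm)⟩

/-! ### vanishing and exactness are levelwise -/

lemma isZero_of_ev (G : Sh Y) (h : ∀ i, IsZero ((ev Y i).obj G)) : IsZero G := by
  rw [IsZero.iff_id_eq_zero]
  apply CategoryTheory.Sheaf.hom_ext
  ext B s
  obtain ⟨⟨i, U⟩⟩ := B
  have hz : IsZero (((ev Y i).obj G).obj.obj (op U)) :=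
    Functor.map_isZero (sheafToPresheaf _ AddCommGrpCat.{u} ⋙
      (evaluation (Opens (Sp Y i))ᵒᵖ AddCommGrpCat.{u}).obj (op U)) (h i)
  haveI : Subsingleton (((ev Y i).obj G).obj.obj (op U)) := AddCommGrpCat.subsingleton_of_isZero hz
  have hs : s = 0 := Subsingleton.elim (α := ((ev Y i).obj G).obj.obj (op U)) s 0
  rw [hs]
  simp

variable {Y}

/-- an additive functor to sheaves on the site is exact if it is exact on every level -/
theorem exact_of_ev {𝒜 : Type (u + 1)} [Category.{u} 𝒜] [Abelian 𝒜] (Φ : 𝒜 ⥤ Sh Y) [Φ.Additive]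
    (h1 : ∀ i, PreservesFiniteLimits (Φ ⋙ ev Y i))
    (h2 : ∀ i, PreservesFiniteColimits (Φ ⋙ ev Y i)) :
    PreservesFiniteLimits Φ ∧ PreservesFiniteColimits Φ := by
  refine ((Functor.exact_tfae Φ).out 1 3).1 (fun S hS => ?_)
  rw [ShortComplex.exact_iff_isZero_homology]
  apply isZero_of_ev
  intro i
  haveI := h1 i
  haveI := h2 i
  have hex : (S.map (Φ ⋙ ev Y i)).Exact := hS.map (Φ ⋙ ev Y i)
  have hex' : ((S.map Φ).map (ev Y i)).Exact := hex
  exact ((ShortComplex.exact_iff_isZero_homology _).1 hex').of_iso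
    ((S.map Φ).mapHomologyIso (ev Y i)).symm

variable (Y)

/-! ### injective sheaves are flasque on each level -/

lemma injective_obj (Q : Sh Y) [Injective Q] :
    Injective (C := (Obj Y)ᵒᵖ ⥤ AddCommGrpCat.{u}) Q.obj :=
  Injective.injective_of_adjoint (sheafificationAdjunction (J Y) AddCommGrpCat.{u}) Q

end Groth.Agent.Lib.Helper5.DSite
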