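import Groth.Agent.Lib.Helper5.DBiMain

/-!
# Exchanging the two indices of a diagram of spaces indexed by a product category
-/

set_option autoImplicit false

universe u

open CategoryTheory CategoryTheory.Limits Opposite TopologicalSpace

noncomputable section

namespace Groth.Agent.Lib.Helper5.DSwap

open Groth.Agent.Lib.Helper5.DSite Groth.Agent.Lib.Helper5.DPull Groth.Agent.Lib.Helper5.GermFam
  Groth.Agent.Lib.Helper5.LimPush Groth.Agent.Lib.Helper5.LimAdj Groth.Agent.Lib.Helper5.DRestr
  Groth.Agent.Lib.Helper5.DBiMain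

variable {I₁ I₂ : Type u} [Category.{u} I₁] [Category.{u} I₂] {S : TopCat.{u}}
  (D : OverS (I₁ × I₂) S)

/-- the exchange of the indices -/
abbrev sw : I₂ × I₁ ⥤ I₁ × I₂ := CategoryTheory.Prod.swap I₂ I₁

/-- the diagram with the indices exchanged -/
abbrev Dsw : OverS (I₂ × I₁) S := D.restr (sw (I₁ := I₁) (I₂ := I₂))

/-- the functor between the sites exchanging the indices -/
def swO : Obj D.Y ⥤ Obj (Dsw D).Y where
  obj A := ⟨(A.i.2, A.i.1), A.U⟩
  map {A A'} f := ⟨(f.α.2, f.α.1), f.mem⟩
  map_id A := rfl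
  map_comp f g := rfl

/-- the equivalence of the sites -/
def eqv : Obj D.Y ≌ Obj (Dsw D).Y :=
  CategoryTheory.Equivalence.mk (swO D) (φs sw D)
    (NatIso.ofComponents (fun A => Iso.refl A) (by
      intro A A' f
      exact DSite.hom_ext ((Category.id_comp _).trans (Category.comp_id _).symm)))
    (NatIso.ofComponents (fun A' => Iso.refl A') (by
      intro A A' f
      exact DSite.hom_ext ((Category.id_comp _).trans (Category.comp_id _).symm)))

instance isCocontinuous_swO : (swO D).IsCocontinuous (J D.Y) (J (Dsw D).Y) where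
  cover_lift {A S} hS := by
    intro x hx
    obtain ⟨V, hV, hxV, hSV⟩ := hS x hx
    refine ⟨V, hV, hxV, ?_⟩
    change S.arrows ((swO D).map (inclO D.Y A V hV))
    have e : (swO D).map (inclO D.Y A V hV) = inclO (Dsw D).Y ((swO D).obj A) V hV :=
      DSite.hom_ext rfl
    rw [e]
    exact hSV

instance isCocontinuous_φs : (φs sw D).IsCocontinuous (J (Dsw D).Y) (J D.Y) where
  cover_lift {A S} hS := by
    intro x hx
    obtain ⟨V, hV, hxV, hSV⟩ := hS x hx
    refine ⟨V, hV, hxV, ?_⟩
    change S.arrows ((φs sw D).map (inclO (Dsw D).Y A V hV))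
    have e : (φs sw D).map (inclO (Dsw D).Y A V hV) = inclO D.Y ((φs sw D).obj A) V hV :=
      DSite.hom_ext rfl
    rw [e]
    exact hSV

instance : (eqv D).functor.IsCocontinuous (J D.Y) (J (Dsw D).Y) := isCocontinuous_swO D

instance : (eqv D).inverse.IsCocontinuous (J (Dsw D).Y) (J D.Y) := isCocontinuous_φs D

instance : (eqv D).inverse.IsDenseSubsite (J (Dsw D).Y) (J D.Y) :=
  Equivalence.isDenseSubsite_inverse_of_isCocontinuous (J D.Y) (J (Dsw D).Y) (eqv D)

/-- the equivalence of the categories of sheaves -/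
def shEqv : Sh D.Y ≌ Sh (Dsw D).Y :=
  (eqv D).sheafCongr (J D.Y) (J (Dsw D).Y) AddCommGrpCat.{u}

lemma shEqv_functor : (shEqv D).functor = resSh sw D := rfl

lemma injective_resSh (Q : Sh D.Y) (hQ : Injective Q) : Injective ((resSh sw D).obj Q) := by
  have h : Injective ((shEqv D).functor.obj Q) := ((shEqv D).map_injective_iff Q).2 hQ
  exact h

/-! ### the direct images -/

/-- the compatible families over the diagram with the indices exchanged -/
def lpEquiv (G : (Obj D.Y)ᵒᵖ ⥤ AddCommGrpCat.{u}) (V : Opens S) :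
    LPobj (Dsw D) (resP sw D G) V ≃+ LPobj D G V where
  toFun y := ⟨fun i => y.1 (i.2, i.1), fun i j f => y.2 (i.2, i.1) (j.2, j.1) (f.2, f.1)⟩
  invFun x := ⟨fun i' => x.1 (i'.2, i'.1), fun i j f => x.2 (i.2, i.1) (j.2, j.1) (f.2, f.1)⟩
  left_inv _ := rfl
  right_inv _ := rfl
  map_add' _ _ := rfl

/-- the direct image of the diagram with the indices exchanged, for one sheaf -/
def lpObj (G : Sh D.Y) : (limPush (Dsw D)).obj ((resSh sw D).obj G) ≅ (limPush D).obj G :=
  (fullyFaithfulSheafToPresheaf _ _).preimageIso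
    (NatIso.ofComponents (fun V => (lpEquiv D G.obj V.unop).toAddCommGrpIso) (by
      intro V V' h
      refine AddCommGrpCat.hom_ext (AddMonoidHom.ext fun y => Subtype.ext (funext fun i => ?_))
      exact map_congr G.obj (DSite.hom_ext rfl) _))

/-- the direct image of the diagram with the indices exchanged -/
def lpR : resSh sw D ⋙ limPush (Dsw D) ≅ limPush D :=
  NatIso.ofComponents (fun G => lpObj D G) (by
    intro G G' θ
    apply CategoryTheory.Sheaf.hom_ext
    ext V y
    rfl)

/-- the inverse image to the diagram with the indices exchanged -/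
def pullIso : pullS (Dsw D) ≅ pullS D ⋙ resSh sw D :=
  NatIso.ofComponents (fun F => pullSRestrIso sw D F) (by
    intro F F' φ
    apply CategoryTheory.Sheaf.hom_ext
    ext A s
    rfl)

lemma unit_swap (F : CohTop.Ab S) :
    unitL (Dsw D) F ≫ (limPush (Dsw D)).map ((pullIso D).hom.app F) ≫
      (lpObj D ((pullS D).obj F)).hom = unitL D F := by
  apply CategoryTheory.Sheaf.hom_ext
  ext V t
  refine Subtype.ext (funext fun i => ?_)
  refine sec_ext (D.π i) F.obj _ _ (fun q => ?_)
  rfl

lemma additive_resSh' : (resSh (sw (I₁ := I₁) (I₂ := I₂)) D).Additive := inferInstance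

/-- **cohomological descent does not depend on the order of the indices** -/
theorem cd_of_swap (h : CD (Dsw D)) : CD D := by
  obtain ⟨h1, h2⟩ := h
  refine ⟨fun F => ?_, fun F q => ?_⟩
  · have := h1 F
    rw [← unit_swap D F]
    infer_instance
  · have := DBi.pfl_limPush (Dsw D)
    have : (limPush (Dsw D)).Additive := DBiAcyc.additive_limPush' _
    have : (limPush D).Additive := DBiAcyc.additive_limPush' _
    have e1 := (Groth.Agent.Lib.Helper22.DimShift.rightDerivedIsoOfNatIso (lpR D).symm
      (q + 1)).app ((pullS D).obj F)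
    have e2 := (Groth.Agent.Lib.Helper5.PrecompDelta.rightDerivedPrecompIso (resSh sw D)
      (limPush (Dsw D)) (fun Q hQ n => by
        have := injective_resSh D Q hQ
        exact Functor.isZero_rightDerived_obj_injective_succ _ n _) (q + 1)).app
          ((pullS D).obj F)
    have e3 := ((limPush (Dsw D)).rightDerived (q + 1)).mapIso ((pullIso D).app F)
    exact IsZero.of_iso (h2 F q) (e1 ≪≫ e2 ≪≫ e3.symm)

end Groth.Agent.Lib.Helper5.DSwap
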