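import Groth.Agent.Lib.Helper5.DEps

/-!
# The unit `F ⟶ ε_* ε^* F` is an isomorphism

For a diagram `D` over `S` indexed by `FinAll` such that the structure map of level `0` is
surjective and closed (in the sense that every neighbourhood of a fibre contains the preimage of a
neighbourhood of the point) and any two points of a fibre come from a point of level `1`, the
direct image of the inverse image of an abelian sheaf `F` on `S` is `F`.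
-/

set_option autoImplicit false

universe u

open CategoryTheory CategoryTheory.Limits Opposite TopologicalSpace

noncomputable section

namespace Groth.Agent.Lib.Helper5.DUnit

open Groth.Agent.Lib.Helper5.DSite Groth.Agent.Lib.Helper5.DYoneda Groth.Agent.Lib.Helper5.DPull
  Groth.Agent.Lib.Helper5.CechDiag Groth.Agent.Lib.Helper5.FreePsh Groth.Agent.Lib.Helper5.DEps
  Groth.Agent.Lib.Helper5.GermFam

variable {S : TopCat.{u}} (D : OverS FinAll.{u} S) (F : CohTop.Ab S)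

/-- the structure map of level `0` -/
abbrev π₀ : Sp D.Y ⟨0⟩ ⟶ S := D.π ⟨0⟩

/-- the open subset of level `0` over an open subset of the base -/
abbrev W₀ (V : Opens S) : Opens (Sp D.Y ⟨0⟩) := (Opens.map (D.π ⟨0⟩)).obj V

/-- the family of germs of a section, as an equalized section -/
def unitHom (V : Opens S) : F.obj.obj (op V) →+ EVobj D V (preS D F.obj) where
  toFun t := ⟨gf (π₀ D) F.obj (V := V) (W := W₀ D V) (fun _ hw => hw) t, by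
    rw [mem_EVobj, dP_zero_iff]
    refine sec_ext (D.π ⟨1⟩) F.obj _ _ (fun q => ?_)
    rfl⟩
  map_zero' := Subtype.ext (map_zero _)
  map_add' a b := Subtype.ext (map_add _ _ _)

lemma unitHom_val (V : Opens S) (t : F.obj.obj (op V)) :
    (unitHom D F V t).1 = gf (π₀ D) F.obj (V := V) (W := W₀ D V) (fun _ hw => hw) t := rfl

/-- the unit, as a morphism of presheaves -/
def unitP : F.obj ⟶ epsPre D (preS D F.obj) where
  app V := AddCommGrpCat.ofHom (unitHom D F V.unop)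
  naturality V V' h := by
    refine AddCommGrpCat.hom_ext (AddMonoidHom.ext fun t => Subtype.ext ?_)
    refine sec_ext (π₀ D) F.obj _ _ (fun q => ?_)
    exact gmP_map F.obj h.unop q.y _ t

variable {D F}

section bij

variable (hsurj : Function.Surjective (D.π ⟨0⟩))
  (hclosed : ∀ (z : S) (U : Opens (Sp D.Y ⟨0⟩)), (∀ w, D.π ⟨0⟩ w = z → w ∈ U) →
    ∃ V : Opens S, z ∈ V ∧ (Opens.map (D.π ⟨0⟩)).obj V ≤ U)
  (hpair : ∀ w w' : Sp D.Y ⟨0⟩, D.π ⟨0⟩ w = D.π ⟨0⟩ w' →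
    ∃ v : Sp D.Y ⟨1⟩, tr D.Y ((powV D ⊤).face 0 0).α v = w ∧
      tr D.Y ((powV D ⊤).face 0 1).α v = w')

include hsurj in
lemma unitHom_injective (V : Opens S) : Function.Injective (unitHom D F V) := by
  rw [injective_iff_map_eq_zero]
  intro t ht
  have h0 : gf (π₀ D) F.obj (V := V) (W := W₀ D V) (fun _ hw => hw) t = 0 :=
    congrArg Subtype.val ht
  have h1 := (gf_eq_zero_iff (π₀ D) F.obj _ t).1 h0
  refine TopCat.Presheaf.section_ext F V t 0 (fun x hx => ?_)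
  obtain ⟨w, rfl⟩ := hsurj x
  have h2 := h1 w hx
  have h3 : gmP F.obj V (π₀ D w) hx (0 : F.obj.obj (op V)) = 0 := map_zero _
  exact h2.trans h3.symm

include hpair in
/-- an equalized family of germs is constant on the fibres -/
lemma const_on_fibres (V : Opens S) (s : EVobj D V (preS D F.obj)) (w w' : Sp D.Y ⟨0⟩) (y : S)
    (hw : w ∈ W₀ D V) (hw' : w' ∈ W₀ D V) (hy : y = D.π ⟨0⟩ w) (hy' : y = D.π ⟨0⟩ w') :
    (s.1 : sec (π₀ D) F.obj (W₀ D V)).1 ⟨w, y, hw, hy⟩ =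
      (s.1 : sec (π₀ D) F.obj (W₀ D V)).1 ⟨w', y, hw', hy'⟩ := by
  obtain ⟨v, hv0, hv1⟩ := hpair w w' (hy.symm.trans hy')
  have hs := (dP_zero_iff (powV D V) (preS D F.obj) s.1).1 ((mem_EVobj D V _ s.1).1 s.2)
  have hvy : y = D.π ⟨1⟩ v := by
    rw [hy, ← hv0]
    exact D.hπ ((powV D ⊤).face 0 0).α v
  have hvV : v ∈ (Opens.map (D.π ⟨1⟩)).obj V := by
    change D.π ⟨1⟩ v ∈ V
    rw [← hvy, hy]
    exact hw
  have h1 := congrArg (fun t : sec (D.π ⟨1⟩) F.obj ((Opens.map (D.π ⟨1⟩)).obj V) =>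
    t.1 ⟨v, y, hvV, hvy⟩) hs
  have h1' : (s.1 : sec (π₀ D) F.obj (W₀ D V)).1
        (ptS D ((powV D V).face 0 0) ⟨v, y, hvV, hvy⟩) =
      (s.1 : sec (π₀ D) F.obj (W₀ D V)).1
        (ptS D ((powV D V).face 0 1) ⟨v, y, hvV, hvy⟩) := h1
  have e0 := val_congr (π₀ D) F.obj (s.1 : sec (π₀ D) F.obj (W₀ D V)) _ _ hv0 y
    (ptS D ((powV D V).face 0 0) ⟨v, y, hvV, hvy⟩).hw hw
    (ptS D ((powV D V).face 0 0) ⟨v, y, hvV, hvy⟩).hy hy
  have e1 := val_congr (π₀ D) F.obj (s.1 : sec (π₀ D) F.obj (W₀ D V)) _ _ hv1 y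
    (ptS D ((powV D V).face 0 1) ⟨v, y, hvV, hvy⟩).hw hw'
    (ptS D ((powV D V).face 0 1) ⟨v, y, hvV, hvy⟩).hy hy'
  exact e0.symm.trans (h1'.trans e1)

include hsurj hclosed hpair in
/-- an equalized family of germs is locally the family of germs of a section on the base -/
lemma exists_local (V : Opens S) (s : EVobj D V (preS D F.obj)) (y₀ : S) (hy₀ : y₀ ∈ V) :
    ∃ (V' : Opens S) (_ : y₀ ∈ V') (hV' : V' ≤ V) (t' : F.obj.obj (op V')),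
      ∀ (w : Sp D.Y ⟨0⟩) (hw : D.π ⟨0⟩ w ∈ V'),
        (s.1 : sec (π₀ D) F.obj (W₀ D V)).1 ⟨w, D.π ⟨0⟩ w, hV' hw, rfl⟩ =
          gmP F.obj V' (D.π ⟨0⟩ w) hw t' := by
  let s' : sec (π₀ D) F.obj (W₀ D V) := s.1
  obtain ⟨w₀, hw₀⟩ := hsurj y₀
  have hw₀V : w₀ ∈ W₀ D V := by
    change D.π ⟨0⟩ w₀ ∈ V
    rw [hw₀]
    exact hy₀
  obtain ⟨V₀', hV₀', t₀', ht₀'⟩ := exists_gmP_eq F.obj y₀ (s'.1 ⟨w₀, y₀, hw₀V, hw₀.symm⟩)
  let V₀ : Opens S := V₀' ⊓ V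
  have hyV₀ : y₀ ∈ V₀ := ⟨hV₀', hy₀⟩
  let t₀ : F.obj.obj (op V₀) := (F.obj.map (homOfLE (inf_le_left : V₀ ≤ V₀')).op).hom t₀'
  have ht₀ : gmP F.obj V₀ y₀ hyV₀ t₀ = s'.1 ⟨w₀, y₀, hw₀V, hw₀.symm⟩ :=
    (gmP_res F.obj inf_le_left y₀ hyV₀ t₀').trans ht₀'
  have key : ∀ w₁ : Sp D.Y ⟨0⟩, D.π ⟨0⟩ w₁ = y₀ → ∃ W'' : Opens (Sp D.Y ⟨0⟩), w₁ ∈ W'' ∧
      ∀ w, w ∈ W'' → ∃ (h1 : D.π ⟨0⟩ w ∈ V₀),
        s'.1 ⟨w, D.π ⟨0⟩ w, h1.2, rfl⟩ = gmP F.obj V₀ (D.π ⟨0⟩ w) h1 t₀ := by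
    intro w₁ hw₁
    subst hw₁
    have hw₁V : w₁ ∈ W₀ D V := hy₀
    obtain ⟨V₁, t₁, W', hw₁W', hW', h2, hres⟩ := exists_gf_eq (π₀ D) F.obj s' w₁ hw₁V
    have hval : ∀ w (hw : w ∈ W'), s'.1 ⟨w, D.π ⟨0⟩ w, hW' hw, rfl⟩ =
        gmP F.obj V₁ (D.π ⟨0⟩ w) (h2 w hw) t₁ := fun w hw =>
      congrArg (fun t : sec (π₀ D) F.obj W' => t.1 ⟨w, D.π ⟨0⟩ w, hw, rfl⟩) hres
    have hy₁ : D.π ⟨0⟩ w₁ ∈ V₁ := h2 w₁ hw₁W'
    have hg : gmP F.obj V₁ (D.π ⟨0⟩ w₁) hy₁ t₁ = gmP F.obj V₀ (D.π ⟨0⟩ w₁) hyV₀ t₀ := by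
      rw [ht₀]
      have e1 := hval w₁ hw₁W'
      have e2 := const_on_fibres hpair V s w₁ w₀ (D.π ⟨0⟩ w₁) hw₁V hw₀V rfl hw₀.symm
      exact e1.symm.trans e2
    obtain ⟨V₂, hyV₂, h21, h20, e⟩ := gmP_eq F.obj _ hy₁ hyV₀ t₁ t₀ hg
    refine ⟨W' ⊓ (Opens.map (D.π ⟨0⟩)).obj V₂, ⟨hw₁W', hyV₂⟩, ?_⟩
    intro w hw
    have hwV₂ : D.π ⟨0⟩ w ∈ V₂ := hw.2
    refine ⟨h20 hwV₂, ?_⟩
    rw [hval w hw.1, ← gmP_res F.obj h21 _ hwV₂ t₁, ← gmP_res F.obj h20 _ hwV₂ t₀, e]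
  choose W'' hW''mem hW''val using key
  let U : Opens (Sp D.Y ⟨0⟩) := ⨆ (p : {w₁ : Sp D.Y ⟨0⟩ // D.π ⟨0⟩ w₁ = y₀}), W'' p.1 p.2
  obtain ⟨V₃, hyV₃, hV₃U⟩ := hclosed y₀ U (fun w hw =>
    Opens.mem_iSup.2 ⟨⟨w, hw⟩, hW''mem w hw⟩)
  refine ⟨V₃ ⊓ V₀, ⟨hyV₃, hyV₀⟩, inf_le_right.trans inf_le_right,
    (F.obj.map (homOfLE (inf_le_right : V₃ ⊓ V₀ ≤ V₀)).op).hom t₀, ?_⟩
  intro w hw
  have hwU : w ∈ U := hV₃U hw.1
  obtain ⟨p, hp⟩ := Opens.mem_iSup.1 hwU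
  obtain ⟨h1, e⟩ := hW''val p.1 p.2 w hp
  rw [gmP_res F.obj inf_le_right _ hw t₀]
  exact e

include hsurj hclosed hpair in
lemma unitHom_surjective (V : Opens S) : Function.Surjective (unitHom D F V) := by
  intro s
  let s' : sec (π₀ D) F.obj (W₀ D V) := s.1
  choose V' hyV' hV' t' ht' using fun y : V => exists_local hsurj hclosed hpair V s y.1 y.2
  have hcov : V ≤ iSup V' := fun y hy => Opens.mem_iSup.2 ⟨⟨y, hy⟩, hyV' ⟨y, hy⟩⟩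
  have hcomp : TopCat.Presheaf.IsCompatible F.obj V' t' := by
    intro a b
    refine TopCat.Presheaf.section_ext F _ _ _ (fun x hx => ?_)
    obtain ⟨w, rfl⟩ := hsurj x
    have ha := ht' a w hx.1
    have hb := ht' b w hx.2
    have e1 : gmP F.obj (V' a ⊓ V' b) (D.π ⟨0⟩ w) hx
        ((F.obj.map (Opens.infLELeft (V' a) (V' b)).op).hom (t' a)) =
        gmP F.obj (V' a) (D.π ⟨0⟩ w) hx.1 (t' a) := gmP_map F.obj _ _ hx _
    have e2 : gmP F.obj (V' a ⊓ V' b) (D.π ⟨0⟩ w) hx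
        ((F.obj.map (Opens.infLERight (V' a) (V' b)).op).hom (t' b)) =
        gmP F.obj (V' b) (D.π ⟨0⟩ w) hx.2 (t' b) := gmP_map F.obj _ _ hx _
    exact e1.trans (ha.symm.trans (hb.trans e2.symm))
  obtain ⟨t, ht, -⟩ := TopCat.Sheaf.existsUnique_gluing' F V' V (fun a => homOfLE (hV' a)) hcov
    t' hcomp
  refine ⟨t, Subtype.ext ?_⟩
  refine sec_ext (π₀ D) F.obj _ _ (fun q => ?_)
  obtain ⟨w, y, hw, hy⟩ := q
  subst hy
  let a : V := ⟨D.π ⟨0⟩ w, hw⟩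
  have h1 := ht' a w (hyV' a)
  have h2 : gmP F.obj (V' a) (D.π ⟨0⟩ w) (hyV' a) ((F.obj.map (homOfLE (hV' a)).op).hom t) =
      gmP F.obj V (D.π ⟨0⟩ w) hw t := gmP_res F.obj (hV' a) _ (hyV' a) t
  have h3 : (F.obj.map (homOfLE (hV' a)).op).hom t = t' a := ht a
  rw [h3] at h2
  exact h2.symm.trans h1.symm

include hsurj hclosed hpair in
lemma isIso_unitP : IsIso (unitP D F) := by
  haveI : ∀ V, IsIso ((unitP D F).app V) := fun V =>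
    (ConcreteCategory.isIso_iff_bijective _).2
      ⟨unitHom_injective hsurj V.unop, unitHom_surjective hsurj hclosed hpair V.unop⟩
  exact NatIso.isIso_of_isIso_app _

/-- presheaf version of the unit isomorphism -/
def unitIsoP : F.obj ≅ epsPre D (preS D F.obj) :=
  @asIso _ _ _ _ (unitP D F) (isIso_unitP hsurj hclosed hpair)

/-- **the unit isomorphism** `F ≅ ε_* ε^* F` -/
def unitIso : F ≅ (epsPush D).obj ((pullS D).obj F) :=
  (fullyFaithfulSheafToPresheaf _ _).preimageIso (unitIsoP hsurj hclosed hpair)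

end bij

end Groth.Agent.Lib.Helper5.DUnit
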