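import Groth.Agent.Lib.Helper5.PBCTop
import Groth.Agent.Lib.Helper22.CohTop.ClosedEmb
import Groth.Agent.Lib.Helper22.CohTop.InjFlasque

/-!
# Sheaf-theoretic preliminaries for proper base change

* `pullComp`: `g⁻¹ ⋙ f⁻¹ ≅ (f ≫ g)⁻¹`;
* `pullIsoPush`: for a homeomorphism `h` with inverse `k`, `h⁻¹ ≅ k_*`;
* `subsingleton_H_pull`: invariance of vanishing of cohomology under homeomorphisms;
* `isZero_of_subsingleton_stalk`.
-/

set_option autoImplicit false
set_option linter.unusedSectionVars false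

universe u

open CategoryTheory CategoryTheory.Limits TopologicalSpace Opposite TopCat

namespace Groth.Agent.Lib.Helper5.PBCSheaf

open Groth.Agent.Lib.Helper5.PullStalk

section push

variable {A B C : TopCat.{u}}

lemma push_comp_eq (a : A ⟶ B) (b : B ⟶ C) :
    CohTop.push a ⋙ CohTop.push b = CohTop.push (a ≫ b) := rfl

lemma push_id_eq : CohTop.push (𝟙 A) = 𝟭 (CohTop.Ab A) := rfl

/-- the equivalence of sheaf categories induced by a homeomorphism -/
noncomputable def pushEquiv (h : A ⟶ B) (k : B ⟶ A) (hk : h ≫ k = 𝟙 A) (kh : k ≫ h = 𝟙 B) :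
    CohTop.Ab B ≌ CohTop.Ab A :=
  CategoryTheory.Equivalence.mk (CohTop.push k) (CohTop.push h)
    (eqToIso (by rw [push_comp_eq, kh, push_id_eq]))
    (eqToIso (by rw [push_comp_eq, hk, push_id_eq]))

/-- the adjunction `k_* ⊣ h_*` for mutually inverse homeomorphisms -/
noncomputable def pushAdj (h : A ⟶ B) (k : B ⟶ A) (hk : h ≫ k = 𝟙 A) (kh : k ≫ h = 𝟙 B) :
    CohTop.push k ⊣ CohTop.push h :=
  (pushEquiv h k hk kh).toAdjunction

/-- inverse image along a homeomorphism is direct image along its inverse -/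
noncomputable def pullIsoPush (h : A ⟶ B) (k : B ⟶ A) (hk : h ≫ k = 𝟙 A) (kh : k ≫ h = 𝟙 B) :
    CohTop.pull h ≅ CohTop.push k :=
  (adj h).leftAdjointUniq (pushAdj h k hk kh)

/-- composition of inverse images -/
noncomputable def pullComp (a : A ⟶ B) (b : B ⟶ C) :
    CohTop.pull b ⋙ CohTop.pull a ≅ CohTop.pull (a ≫ b) :=
  ((adj b).comp (adj a)).leftAdjointUniq (adj (a ≫ b))

end push

section H

variable {T : TopCat.{u}}

lemma subsingleton_H_of_iso {F G : CohTop.Ab T} (e : F ≅ G) (p : ℕ)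
    (h : Subsingleton (CohTop.H G p)) : Subsingleton (CohTop.H F p) := by
  refine ⟨fun x y => ?_⟩
  have hx : Sheaf.H.map e.inv p (Sheaf.H.map e.hom p x) = x := by
    rw [← Sheaf.H.map_comp_apply, e.hom_inv_id, Sheaf.H.map_id_apply]
  have hy : Sheaf.H.map e.inv p (Sheaf.H.map e.hom p y) = y := by
    rw [← Sheaf.H.map_comp_apply, e.hom_inv_id, Sheaf.H.map_id_apply]
  rw [← hx, ← hy, Subsingleton.elim (Sheaf.H.map e.hom p x) (Sheaf.H.map e.hom p y)]

/-- vanishing of cohomology is invariant under homeomorphisms -/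
theorem subsingleton_H_pull {A B : TopCat.{u}} (h : A ⟶ B) (k : B ⟶ A) (hk : h ≫ k = 𝟙 A)
    (kh : k ≫ h = 𝟙 B) (hkc : Topology.IsClosedEmbedding k) (G : CohTop.Ab B) (p : ℕ)
    (hG : Subsingleton (CohTop.H G p)) : Subsingleton (CohTop.H ((CohTop.pull h).obj G) p) := by
  obtain ⟨e⟩ := Groth.Agent.Lib.Helper22.CohTop.cohomology_closedEmbedding k hkc G p
  have h1 : Subsingleton (CohTop.H ((CohTop.push k).obj G) p) := e.symm.injective.subsingleton
  exact subsingleton_H_of_iso ((pullIsoPush h k hk kh).app G) p h1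

/-- a sheaf all of whose stalks vanish is zero -/
theorem isZero_of_subsingleton_stalk (F : CohTop.Ab T)
    (h : ∀ t : T, Subsingleton (CohTop.stalk F t)) : IsZero F := by
  rw [IsZero.iff_id_eq_zero]
  apply CategoryTheory.Sheaf.hom_ext
  ext U s
  have hs : s = 0 := by
    apply TopCat.Presheaf.section_ext F U.unop
    intro x hx
    exact Subsingleton.elim _ _
  rw [hs]
  simp

end H

end Groth.Agent.Lib.Helper5.PBCSheaf
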