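import Groth.Agent.Lib.Helper5.DRestr
import Groth.Agent.Lib.Helper5.DLev
import Groth.Agent.Lib.Helper5.PBCSheaf

/-!
# The fibre of the Čech diagram over a point is acyclic

For a point `b` of the fibre of `f` over `z`, the fibre of the Čech diagram over `z` extends to a
diagram `Dplus` indexed by the finite sets and partial maps (a split augmentation).  We deduce that
the inverse image to the fibre diagram of any abelian sheaf on the base is acyclic for the functor
of equalized global sections.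
-/

set_option autoImplicit false

universe u

open CategoryTheory CategoryTheory.Limits Opposite TopologicalSpace

noncomputable section

namespace Groth.Agent.Lib.Helper5.FibreB

open Groth.Agent.Lib.Helper5.DSite Groth.Agent.Lib.Helper5.DYoneda Groth.Agent.Lib.Helper5.DPull
  Groth.Agent.Lib.Helper5.CechDiag Groth.Agent.Lib.Helper5.FreePsh Groth.Agent.Lib.Helper5.DEps
  Groth.Agent.Lib.Helper5.DLev Groth.Agent.Lib.Helper5.GermFam Groth.Agent.Lib.Helper5.DRestr
  Groth.Agent.Lib.Helper5.SubspaceSect Groth.Agent.Lib.Helper22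

/-! ### generalities -/

lemma subsingleton_H_succ_of_flasque {T : TopCat.{u}} (F : CohTop.Ab T) [TopCat.Sheaf.IsFlasque F]
    (q : ℕ) : Subsingleton (CohTop.H F (q + 1)) :=
  AddCommGrpCat.subsingleton_of_isZero
    (IsZero.of_iso (TopSS.isZero_RΓV_succ_of_flasque ⊤ F q) (LHDescent.RΓIso F (q + 1)).symm)

lemma isFlasque_of_subsingleton {T : TopCat.{u}} [Subsingleton T] (F : CohTop.Ab T) :
    TopCat.Sheaf.IsFlasque F where
  epi {U V} h := by
    rw [AddCommGrpCat.epi_iff_surjective]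
    intro y
    by_cases hV : ∃ t : T, t ∈ V.unop
    · obtain ⟨t, ht⟩ := hV
      have hUV : U.unop ≤ V.unop := fun t' _ => by
        rw [Subsingleton.elim t' t]
        exact ht
      have e : U = V := Opposite.unop_injective (le_antisymm hUV (leOfHom h.unop))
      subst e
      refine ⟨y, ?_⟩
      have hh : h = 𝟙 U := Subsingleton.elim _ _
      rw [hh, F.obj.map_id]
      rfl
    · have hbot : V.unop = ⊥ := by
        apply le_antisymm _ bot_le
        intro t ht
        exact (hV ⟨t, ht⟩).elim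
      have hVb : V = op ⊥ := by
        rw [← hbot]
      have hterm : IsTerminal (F.obj.obj (op ⊥)) := TopCat.Sheaf.isTerminalOfEmpty F
      have hz : IsZero (F.obj.obj V) := by
        rw [hVb]
        exact IsZero.of_iso (isZero_zero _) (hterm.uniqueUpToIso (isZero_zero _).isTerminal)
      haveI := AddCommGrpCat.subsingleton_of_isZero hz
      exact ⟨0, Subsingleton.elim _ _⟩

lemma contraction_aux {M : Type*} [AddCommGroup M] (n : ℕ) (x : M) (a : Fin (n + 2) → M)
    (c : Fin (n + 3) → M) (h0 : c 0 = x) (hs : ∀ k : Fin (n + 2), c k.succ = a k)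
    (hsum : ∑ k : Fin (n + 3), (-1 : ℤ) ^ (k : ℕ) • c k = 0) :
    ∑ k : Fin (n + 2), (-1 : ℤ) ^ (k : ℕ) • a k = x := by
  rw [Fin.sum_univ_succ] at hsum
  simp only [Fin.val_zero, pow_zero, one_smul, Fin.val_succ, pow_succ, h0, hs] at hsum
  have h2 : ∑ k : Fin (n + 2), ((-1 : ℤ) ^ (k : ℕ) * (-1)) • a k =
      -∑ k : Fin (n + 2), (-1 : ℤ) ^ (k : ℕ) • a k := by
    rw [← Finset.sum_neg_distrib]
    refine Finset.sum_congr rfl fun k _ => ?_
    rw [mul_neg_one, neg_smul]
  rw [h2] at hsum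
  have h3 : x - ∑ k : Fin (n + 2), (-1 : ℤ) ^ (k : ℕ) • a k = 0 := by
    rw [sub_eq_add_neg]
    exact hsum
  exact (sub_eq_zero.1 h3).symm

/-! ### the maps of finite sets -/

/-- the partial map forgetting the first element -/
def hα (n : ℕ) : (⟨n + 1 + 1⟩ : FinPt.{u}) ⟶ ⟨n + 1⟩ :=
  FinPt.homMk (fun l => Fin.cases (motive := fun _ => Option (Fin (n + 1))) none (fun i => some i) l)

/-- the cofaces -/
def δ (n : ℕ) (k : Fin (n + 2)) : (⟨n⟩ : FinAll.{u}) ⟶ ⟨n + 1⟩ :=
  FinAll.homMk (a := ⟨n⟩) (b := ⟨n + 1⟩) k.succAbove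

lemma hα_zero (n : ℕ) : jF.{u}.map (δ n 0) ≫ hα n = 𝟙 (jF.{u}.obj ⟨n⟩) := by
  refine ULift.ext _ _ (funext fun l => ?_)
  change Fin.cases (motive := fun _ => Option (Fin (n + 1))) none (fun i => some i)
    ((0 : Fin (n + 2)).succAbove l) = some l
  rw [Fin.succAbove_zero]
  rfl

lemma hα_succ (n : ℕ) (k : Fin (n + 2)) :
    jF.{u}.map (δ (n + 1) k.succ) ≫ hα (n + 1) = hα n ≫ jF.{u}.map (δ n k) := by
  refine ULift.ext _ _ (funext fun l => ?_)
  refine Fin.cases ?_ (fun l' => ?_) l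
  · change Fin.cases (motive := fun _ => Option (Fin (n + 1 + 1))) none (fun i => some i)
      (k.succ.succAbove (0 : Fin (n + 1 + 1))) = none
    rw [Fin.succ_succAbove_zero]
    rfl
  · change Fin.cases (motive := fun _ => Option (Fin (n + 1 + 1))) none (fun i => some i)
      (k.succ.succAbove l'.succ) = some (k.succAbove l')
    rw [Fin.succ_succAbove_succ]
    rfl

/-! ### the split augmented diagram -/

variable {X S : TopCat.{u}} (f : X ⟶ S) (z : S) (b : FibPt f z)

/-- the split augmented fibre diagram, over `S` -/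
def Dplus : OverS FinPt.{u} S where
  Y := Ypt f z b
  π a := incl (Kz f z a.n) ≫ πc f a.n
  hπ {i j} α w := by
    have h1 : πc f i.n ((tr (Ypt f z b) α w).1) = z := (tr (Ypt f z b) α w).2
    have h2 : πc f j.n w.1 = z := w.2
    exact h1.trans h2.symm

/-- the fibre diagram, over `S` -/
abbrev Dfib : OverS FinAll.{u} S := (Dplus f z b).restr jF.{u}

/-- restriction to the fibre diagram -/
abbrev uR : Sh (Dplus f z b).Y ⥤ Sh (Dfib f z b).Y := resSh jF.{u} (Dplus f z b)

instance : Subsingleton ↑(Sp (Dplus f z b).Y ⟨0⟩) :=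
  ⟨fun w w' => Kz_ext (f := f) (z := z) (n := 0) w w' (fun k => k.elim0)⟩

/-- the objects of global sections -/
abbrev A (n : ℕ) : Obj (Dplus f z b).Y := (φs jF.{u} (Dplus f z b)).obj (BV (Dfib f z b) ⊤ n)

/-- the contraction -/
def hn (n : ℕ) : A f z b n ⟶ A f z b (n + 1) :=
  mkHom (A := A f z b n) (B := A f z b (n + 1)) (hα n) (fun _ _ => trivial)

lemma hn_face_zero (n : ℕ) :
    hn f z b n ≫ (φs jF.{u} (Dplus f z b)).map ((powV (Dfib f z b) ⊤).face n 0) =
      𝟙 (A f z b n) :=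
  DSite.hom_ext (hα_zero n)

lemma hn_face_succ (n : ℕ) (k : Fin (n + 2)) :
    hn f z b (n + 1) ≫ (φs jF.{u} (Dplus f z b)).map ((powV (Dfib f z b) ⊤).face (n + 1) k.succ) =
      (φs jF.{u} (Dplus f z b)).map ((powV (Dfib f z b) ⊤).face n k) ≫ hn f z b n :=
  DSite.hom_ext (hα_succ n k)

/-- exactness in positive degrees of the complex of global sections of a restricted sheaf -/
lemma hex_res (Q : Sh (Dplus f z b).Y) (n : ℕ)
    (x : ((uR f z b).obj Q).obj.obj (op (BV (Dfib f z b) ⊤ (n + 1))))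
    (hx : (powV (Dfib f z b) ⊤).dP ((uR f z b).obj Q).obj (n + 1) x = 0) :
    ∃ y : ((uR f z b).obj Q).obj.obj (op (BV (Dfib f z b) ⊤ n)),
      (powV (Dfib f z b) ⊤).dP ((uR f z b).obj Q).obj n y = x := by
  let x' : Q.obj.obj (op (A f z b (n + 1))) := x
  refine ⟨(Q.obj.map (hn f z b n).op).hom x', ?_⟩
  rw [Pow.dP_apply]
  rw [Pow.dP_apply] at hx
  have hsum : ∑ k : Fin (n + 3), (-1 : ℤ) ^ (k : ℕ) • (Q.obj.map (hn f z b (n + 1)).op).hom
      ((Q.obj.map ((φs jF.{u} (Dplus f z b)).map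
        ((powV (Dfib f z b) ⊤).face (n + 1) k)).op).hom x') = 0 := by
    have h1 : (Q.obj.map (hn f z b (n + 1)).op).hom (∑ k : Fin (n + 3), (-1 : ℤ) ^ (k : ℕ) •
        (Q.obj.map ((φs jF.{u} (Dplus f z b)).map
          ((powV (Dfib f z b) ⊤).face (n + 1) k)).op).hom x') = 0 :=
      (congrArg (fun t => (Q.obj.map (hn f z b (n + 1)).op).hom t) hx).trans (map_zero _)
    rw [map_sum] at h1
    refine Eq.trans (Finset.sum_congr rfl fun k _ => ?_) h1
    exact (map_zsmul _ _ _).symm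
  refine contraction_aux n x'
    (fun k => (Q.obj.map ((φs jF.{u} (Dplus f z b)).map ((powV (Dfib f z b) ⊤).face n k)).op).hom
      ((Q.obj.map (hn f z b n).op).hom x'))
    (fun k => (Q.obj.map (hn f z b (n + 1)).op).hom
      ((Q.obj.map ((φs jF.{u} (Dplus f z b)).map
        ((powV (Dfib f z b) ⊤).face (n + 1) k)).op).hom x')) ?_ ?_ hsum
  · change (Q.obj.map (hn f z b (n + 1)).op).hom
      ((Q.obj.map ((φs jF.{u} (Dplus f z b)).map
        ((powV (Dfib f z b) ⊤).face (n + 1) 0)).op).hom x') = x'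
    rw [DSite.map_comp_apply, hn_face_zero]
    exact map_id_apply Q.obj (𝟙 _) rfl x'
  · intro k
    change (Q.obj.map (hn f z b (n + 1)).op).hom
      ((Q.obj.map ((φs jF.{u} (Dplus f z b)).map
        ((powV (Dfib f z b) ⊤).face (n + 1) k.succ)).op).hom x') =
      (Q.obj.map ((φs jF.{u} (Dplus f z b)).map ((powV (Dfib f z b) ⊤).face n k)).op).hom
        ((Q.obj.map (hn f z b n).op).hom x')
    rw [DSite.map_comp_apply, DSite.map_comp_apply, hn_face_succ]

/-- restrictions of injective sheaves are acyclic for the equalized global sections -/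
theorem acyc_res (Q : Sh (Dplus f z b).Y) [Injective Q] (n : ℕ) :
    IsZero (((EVt (Dfib f z b)).rightDerived (n + 1)).obj ((uR f z b).obj Q)) := by
  refine isZero_EV (Dfib f z b) ((uR f z b).obj Q) (fun p q => ?_) (hex_res f z b Q) n
  haveI := isFlasque_ev (Dplus f z b).Y Q (jF.{u}.obj ⟨p⟩)
  have h := subsingleton_H_succ_of_flasque ((ev (Dplus f z b).Y (jF.{u}.obj ⟨p⟩)).obj Q) q
  exact PBCSheaf.subsingleton_H_of_iso ((resLevIso jF.{u} (Dplus f z b) ⟨p⟩).app Q) (q + 1) h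

/-! ### equalized global sections of a restricted sheaf -/

/-- the object of level `0` -/
abbrev O0 : Obj (Dplus f z b).Y := ⟨⟨0⟩, ⊤⟩

/-- the augmentation -/
def e₀ : A f z b 0 ⟶ O0 f z b :=
  mkHom (A := A f z b 0) (B := O0 f z b) (FinPt.homMk (a := ⟨0⟩) (b := ⟨0 + 1⟩) (fun l => l.elim0))
    (fun _ _ => trivial)

/-- the retraction of the augmentation -/
def r₀ : O0 f z b ⟶ A f z b 0 :=
  mkHom (A := O0 f z b) (B := A f z b 0) (FinPt.homMk (a := ⟨0 + 1⟩) (b := ⟨0⟩) (fun _ => none))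
    (fun _ _ => trivial)

lemma r₀_e₀ : r₀ f z b ≫ e₀ f z b = 𝟙 (O0 f z b) :=
  DSite.hom_ext (ULift.ext _ _ (funext fun l => l.elim0))

lemma hn_face_one :
    hn f z b 0 ≫ (φs jF.{u} (Dplus f z b)).map ((powV (Dfib f z b) ⊤).face 0 1) =
      e₀ f z b ≫ r₀ f z b := by
  refine DSite.hom_ext (ULift.ext _ _ (funext fun (l : Fin (0 + 1)) => ?_))
  have hl : l = 0 := Fin.ext (Nat.lt_one_iff.1 l.isLt)
  subst hl
  rfl

lemma face_e₀ :
    (φs jF.{u} (Dplus f z b)).map ((powV (Dfib f z b) ⊤).face 0 0) ≫ e₀ f z b =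
      (φs jF.{u} (Dplus f z b)).map ((powV (Dfib f z b) ⊤).face 0 1) ≫ e₀ f z b :=
  DSite.hom_ext (ULift.ext _ _ (funext fun l => l.elim0))

variable (Q : Sh (Dplus f z b).Y)

/-- the augmentation on sections -/
def augB : Q.obj.obj (op (O0 f z b)) →+ EVobj (Dfib f z b) ⊤ ((uR f z b).obj Q).obj where
  toFun y := ⟨(Q.obj.map (e₀ f z b).op).hom y, by
    rw [mem_EVobj, dP_zero_iff]
    change (Q.obj.map ((φs jF.{u} (Dplus f z b)).map ((powV (Dfib f z b) ⊤).face 0 0)).op).hom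
        ((Q.obj.map (e₀ f z b).op).hom y) =
      (Q.obj.map ((φs jF.{u} (Dplus f z b)).map ((powV (Dfib f z b) ⊤).face 0 1)).op).hom
        ((Q.obj.map (e₀ f z b).op).hom y)
    rw [DSite.map_comp_apply, DSite.map_comp_apply, face_e₀]⟩
  map_zero' := Subtype.ext (map_zero _)
  map_add' a c := Subtype.ext (map_add _ _ _)

lemma augB_val (y : Q.obj.obj (op (O0 f z b))) :
    (augB f z b Q y).1 = (Q.obj.map (e₀ f z b).op).hom y := rfl

lemma augB_injective : Function.Injective (augB f z b Q) := by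
  intro y y' h
  have h1 : (Q.obj.map (e₀ f z b).op).hom y = (Q.obj.map (e₀ f z b).op).hom y' :=
    congrArg Subtype.val h
  have h2 : (Q.obj.map (r₀ f z b).op).hom ((Q.obj.map (e₀ f z b).op).hom y) =
      (Q.obj.map (r₀ f z b).op).hom ((Q.obj.map (e₀ f z b).op).hom y') :=
    congrArg (fun t => (Q.obj.map (r₀ f z b).op).hom t) h1
  rw [DSite.map_comp_apply, DSite.map_comp_apply, r₀_e₀] at h2
  have e1 := map_id_apply Q.obj (𝟙 (O0 f z b)) rfl y
  have e2 := map_id_apply Q.obj (𝟙 (O0 f z b)) rfl y'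
  exact e1.symm.trans (h2.trans e2)

lemma augB_surjective : Function.Surjective (augB f z b Q) := by
  intro x
  let x' : Q.obj.obj (op (A f z b 0)) := x.1
  have hx := (dP_zero_iff (powV (Dfib f z b) ⊤) ((uR f z b).obj Q).obj x.1).1
    ((mem_EVobj (Dfib f z b) ⊤ _ x.1).1 x.2)
  have hx' : (Q.obj.map ((φs jF.{u} (Dplus f z b)).map ((powV (Dfib f z b) ⊤).face 0 0)).op).hom x' =
      (Q.obj.map ((φs jF.{u} (Dplus f z b)).map ((powV (Dfib f z b) ⊤).face 0 1)).op).hom x' := hx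
  have h2 : (Q.obj.map (hn f z b 0).op).hom
      ((Q.obj.map ((φs jF.{u} (Dplus f z b)).map ((powV (Dfib f z b) ⊤).face 0 0)).op).hom x') =
      (Q.obj.map (hn f z b 0).op).hom
      ((Q.obj.map ((φs jF.{u} (Dplus f z b)).map ((powV (Dfib f z b) ⊤).face 0 1)).op).hom x') :=
    congrArg (fun t => (Q.obj.map (hn f z b 0).op).hom t) hx'
  rw [DSite.map_comp_apply, DSite.map_comp_apply, hn_face_zero, hn_face_one] at h2
  refine ⟨(Q.obj.map (r₀ f z b).op).hom x', Subtype.ext ?_⟩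
  rw [augB_val, DSite.map_comp_apply]
  exact h2.symm.trans (map_id_apply Q.obj (𝟙 _) rfl x')

/-- **equalized global sections of a restricted sheaf are the sections of the level `0`** -/
def augIso : ev (Dplus f z b).Y ⟨0⟩ ⋙ TopSS.ΓV (⊤ : Opens (Sp (Dplus f z b).Y ⟨0⟩)) ≅
    uR f z b ⋙ EVt (Dfib f z b) :=
  NatIso.ofComponents (fun Q => (AddEquiv.ofBijective (augB f z b Q)
    ⟨augB_injective f z b Q, augB_surjective f z b Q⟩).toAddCommGrpIso) (by
    intro Q Q' θ
    refine AddCommGrpCat.hom_ext (AddMonoidHom.ext fun y => Subtype.ext ?_)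
    exact (NatTrans.naturality_apply θ.hom (e₀ f z b).op y).symm)

/-! ### the vanishing -/

lemma hacyc_ev0 (I : Sh (Dplus f z b).Y) (hI : Injective I) (n : ℕ) :
    IsZero (((TopSS.ΓV (⊤ : Opens (Sp (Dplus f z b).Y ⟨0⟩))).rightDerived (n + 1)).obj
      ((ev (Dplus f z b).Y ⟨0⟩).obj I)) := by
  haveI := isFlasque_ev (Dplus f z b).Y I ⟨0⟩
  exact TopSS.isZero_RΓV_succ_of_flasque ⊤ _ n

/-- **the inverse image of a sheaf on the base to the fibre diagram is acyclic** -/
theorem isZero_RD_fibre (F : CohTop.Ab S) (q : ℕ) :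
    IsZero (((EVt (Dfib f z b)).rightDerived (q + 1)).obj ((pullS (Dfib f z b)).obj F)) := by
  let L : Sh (Dplus f z b).Y := (pullS (Dplus f z b)).obj F
  have e1 : ((EVt (Dfib f z b)).rightDerived (q + 1)).obj ((pullS (Dfib f z b)).obj F) ≅
      ((EVt (Dfib f z b)).rightDerived (q + 1)).obj ((uR f z b).obj L) :=
    ((EVt (Dfib f z b)).rightDerived (q + 1)).mapIso (pullSRestrIso jF.{u} (Dplus f z b) F)
  have e2 := (PrecompDelta.rightDerivedPrecompIso (uR f z b) (EVt (Dfib f z b))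
    (fun I hI n => @acyc_res _ _ f z b I hI n) (q + 1)).app L
  have e3 := (DimShift.rightDerivedIsoOfNatIso (augIso f z b) (q + 1)).app L
  have e4 := (PrecompDelta.rightDerivedPrecompIso (ev (Dplus f z b).Y ⟨0⟩)
    (TopSS.ΓV (⊤ : Opens (Sp (Dplus f z b).Y ⟨0⟩))) (hacyc_ev0 f z b) (q + 1)).app L
  haveI := isFlasque_of_subsingleton ((ev (Dplus f z b).Y ⟨0⟩).obj L)
  have h0 : IsZero (((TopSS.ΓV (⊤ : Opens (Sp (Dplus f z b).Y ⟨0⟩))).rightDerived (q + 1)).obj
      ((ev (Dplus f z b).Y ⟨0⟩).obj L)) := TopSS.isZero_RΓV_succ_of_flasque ⊤ _ q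
  exact IsZero.of_iso h0 (e1 ≪≫ e2.symm ≪≫ e3.symm ≪≫ e4)

end Groth.Agent.Lib.Helper5.FibreB
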