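import Groth.Agent.Lib.Helper5.GermFam
import Groth.Agent.Lib.Helper5.CptAcyclic
import Groth.Agent.Lib.Helper5.PBCSheaf

/-!
# Families of germs on a compact subset

For a compact subset `K` of `X` whose points are separated in `X`, every locally representable
family of germs on `K` of an abelian sheaf `F` on `X` is the family of germs of a section of `F`
over a neighbourhood of `K`; a section whose germs vanish on `K` vanishes near `K`.
-/

set_option autoImplicit false

universe u

open CategoryTheory CategoryTheory.Limits Opposite TopologicalSpace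

noncomputable section

namespace Groth.Agent.Lib.Helper5.GermCpt

open Groth.Agent.Lib.Helper5.GermFam Groth.Agent.Lib.Helper5.PullStalk
  Groth.Agent.Lib.Helper5.SubspaceSect Groth.Agent.Lib.Helper5.CptSect
  Groth.Agent.Lib.Helper5.CptSep

variable {X : TopCat.{u}} (K : Set X) (F : CohTop.Ab X)

lemma β_cmp {N : Opens X} {W' : Opens (TopCat.of K)} (h : W' ≤ pre K N) (s : F.obj.obj (op N)) :
    ((β (incl K) F).hom.app (op W')).hom (cmp K F h s) =
      gf (incl K) F.obj (V := N) (W := W') (fun _ hw => h hw) s := by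
  rw [cmp_apply, β_res, β_ρ, res_gf]

/-- the sheaf of families of germs on `K` is the inverse image -/
def isoGs : Gs K F ≅ (GFsh (incl K)).obj F := (bridge (incl K)).app F

lemma isoGs_hom : (isoGs K F).hom = β (incl K) F := rfl

theorem exists_gf_eq_of_isCompact (hK : IsCompact K) (hrel : RelT2 K)
    (W : Opens (TopCat.of K)) (hW : ∀ w, w ∈ W) (s : sec (incl K) F.obj W) :
    ∃ (U : Opens X) (hU : K ⊆ (U : Set X)) (t : F.obj.obj (op U)),
      gf (incl K) F.obj (V := U) (W := W) (fun w _ => hU w.2) t = s := by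
  have hWtop : W = ⊤ := top_le_iff.1 (fun w _ => hW w)
  subst hWtop
  let s₀ : (Gs K F).obj.obj (op ⊤) := ((isoGs K F).inv.hom.app (op ⊤)).hom s
  have hs₀ : ((β (incl K) F).hom.app (op ⊤)).hom s₀ = s := by
    have h := congrArg (fun k => (k.hom.app (op (⊤ : Opens (TopCat.of K)))).hom s)
      (isoGs K F).inv_hom_id
    exact h
  obtain ⟨U, hU, t, ht⟩ := exists_cmp_eq_top K F hK hrel s₀
  refine ⟨U, hU, t, ?_⟩
  have h1 := β_cmp K F (show (⊤ : Opens (TopCat.of K)) ≤ pre K U from fun x _ => hU x.2) t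
  rw [ht, hs₀] at h1
  exact h1.symm

theorem exists_rs_eq_zero_of_gf_eq_zero (U : Opens X) (hU : K ⊆ (U : Set X))
    (t : F.obj.obj (op U)) (W : Opens (TopCat.of K)) (hW : ∀ w, w ∈ W)
    (h0 : gf (incl K) F.obj (V := U) (W := W) (fun w _ => hU w.2) t = 0) :
    ∃ (N : Opens X) (hN : N ≤ U), K ⊆ (N : Set X) ∧ rs F hN t = 0 := by
  have h1 := (gf_eq_zero_iff (incl K) F.obj _ t).1 h0
  have key : ∀ a : K, ∃ (N : Opens X) (hN : N ≤ U), a.1 ∈ N ∧ rs F hN t = 0 := by
    intro a
    have h2 : gmP F.obj U a.1 (hU a.2) t = gmP F.obj U a.1 (hU a.2) 0 := by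
      rw [map_zero]
      exact h1 a (hW a)
    obtain ⟨N, haN, hN1, hN2, e⟩ := gmP_eq F.obj a.1 (hU a.2) (hU a.2) t 0 h2
    refine ⟨N, hN1, haN, ?_⟩
    rw [map_zero] at e
    exact e
  choose N hN haN hz using key
  refine ⟨iSup N, iSup_le hN, fun a ha => Opens.mem_iSup.2 ⟨⟨a, ha⟩, haN ⟨a, ha⟩⟩, ?_⟩
  apply eq_zero_of_locally F N (iSup N) (fun a => le_iSup N a) le_rfl
  intro a
  rw [rs_rs]
  exact hz a

/-- the cohomology of the sheaf of families of germs of a flasque sheaf on `K` vanishes -/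
theorem subsingleton_H_succ (hK : IsCompact K) (hrel : RelT2 K) [TopCat.Sheaf.IsFlasque F]
    (p : ℕ) : Subsingleton (CohTop.H ((GFsh (incl K)).obj F) (p + 1)) := by
  have h := CptAcyclic.subsingleton_H_succ K hK hrel F p
  exact PBCSheaf.subsingleton_H_of_iso (isoGs K F).symm (p + 1) h

end Groth.Agent.Lib.Helper5.GermCpt
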