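import Groth.Agent.Lib.Helper5.FibreA
import Groth.Agent.Lib.Helper5.FibreB
import Groth.Agent.Lib.Helper5.DUnit
import Groth.Agent.Lib.Helper5.GermCpt
import Groth.Agent.Lib.Helper5.LHDescent

/-!
# The descent spectral sequence of a proper surjective map

For a proper surjective map `f : X ⟶ S` whose fibres are relatively Hausdorff, and an abelian
sheaf `F` on `S`, there is a spectral sequence `E₁^{p,q} = H^q(X_p, F|X_p) ⇒ H^{p+q}(S, F)`, where
`X_p` is the `(p+1)`-fold fibre power of `X` over `S`.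
-/

set_option autoImplicit false

universe u

open CategoryTheory CategoryTheory.Limits Opposite TopologicalSpace

noncomputable section

namespace Groth.Agent.Lib.Helper5.ProperDescent

open Groth.Agent.Lib.Helper5.DSite Groth.Agent.Lib.Helper5.DYoneda Groth.Agent.Lib.Helper5.DPull
  Groth.Agent.Lib.Helper5.CechDiag Groth.Agent.Lib.Helper5.FreePsh Groth.Agent.Lib.Helper5.DEps
  Groth.Agent.Lib.Helper5.DLev Groth.Agent.Lib.Helper5.GermFam Groth.Agent.Lib.Helper5.DCmp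
  Groth.Agent.Lib.Helper5.SubspaceSect Groth.Agent.Lib.Helper5.CptColim
  Groth.Agent.Lib.Helper5.LHTuple Groth.Agent.Lib.Helper5.PullStalk Groth.Agent.Lib.Helper22

variable {X S : TopCat.{u}} (f : X ⟶ S)

/-- the Čech diagram of `f`, over `S` -/
def Df : OverS FinAll.{u} S where
  Y := Yf f
  π a := πc f (a.n + 1)
  hπ _ _ := rfl

/-! ### the fibres of the Čech diagram -/

section fibre

variable {f} (hf : IsProperMap f)
  (hs : ∀ x x' : X, f x = f x' → x ≠ x' →
    ∃ U V : Set X, IsOpen U ∧ IsOpen V ∧ x ∈ U ∧ x' ∈ V ∧ Disjoint U V)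
  (z : S)

include hf hs in
lemma rep_fibre (n : ℕ) (F : CohTop.Ab (XcT f n)) (W : Opens (TopCat.of ↥(Kz f z n)))
    (hW : ∀ w, w ∈ W) (s : sec (incl (Kz f z n)) F.obj W) :
    ∃ (V : Opens S) (_ : z ∈ V) (t : F.obj.obj (op ((Opens.map (πc f n)).obj V))),
      ∀ h : (∀ w, w ∈ W → incl (Kz f z n) w ∈ (Opens.map (πc f n)).obj V),
        gf (incl (Kz f z n)) F.obj h t = s := by
  obtain ⟨U, hU, t, ht⟩ := GermCpt.exists_gf_eq_of_isCompact (Kz f z n) F
    (isCompact_Fy (πc f n) z (isProperMap_πc hf n)) (relT2_Fy (πc f n) z (sep_πc hs n)) W hW s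
  obtain ⟨V, hzV, hVU⟩ := exists_preimage_le (πc f n) z (isProperMap_πc hf n) U hU
  refine ⟨V, hzV, (F.obj.map (homOfLE hVU).op).hom t, fun h => ?_⟩
  exact (gf_map (incl (Kz f z n)) F.obj hVU h t).trans ht

include hf in
lemma van_fibre (n : ℕ) (F : CohTop.Ab (XcT f n)) (W : Opens (TopCat.of ↥(Kz f z n)))
    (hW : ∀ w, w ∈ W) (V : Opens S) (hzV : z ∈ V)
    (t : F.obj.obj (op ((Opens.map (πc f n)).obj V)))
    (h : ∀ w, w ∈ W → incl (Kz f z n) w ∈ (Opens.map (πc f n)).obj V)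
    (h0 : gf (incl (Kz f z n)) F.obj h t = 0) :
    ∃ (V' : Opens S) (hV' : V' ≤ V), z ∈ V' ∧
      (F.obj.map (homOfLE ((Opens.map (πc f n)).monotone hV')).op).hom t = 0 := by
  have hU : Kz f z n ⊆ (((Opens.map (πc f n)).obj V : Opens (XcT f n)) : Set (XcT f n)) :=
    Fy_sub (πc f n) z V hzV
  obtain ⟨N, hN, hKN, e⟩ := GermCpt.exists_rs_eq_zero_of_gf_eq_zero (Kz f z n) F _ hU t W hW h0
  obtain ⟨V'', hz'', hV''N⟩ := exists_preimage_le (πc f n) z (isProperMap_πc hf n) N hKN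
  refine ⟨V'' ⊓ V, inf_le_right, ⟨hz'', hzV⟩, ?_⟩
  have hle : (Opens.map (πc f n)).obj (V'' ⊓ V) ≤ N :=
    ((Opens.map (πc f n)).monotone inf_le_left).trans hV''N
  have e2 := rs_rs F hN hle t
  have e3 : rs F (hle.trans hN) t = 0 := by
    rw [← e2, e, map_zero]
  exact e3

include hf hs in
lemma fibreData (b : FibPt f z) : FibreA.FibreData (Df f) (κz f z b) z where
  mem n w := w.2
  rep n F W hW s := rep_fibre hf hs z (n + 1) F W hW s
  van n F W hW V hzV t h h0 := van_fibre hf z (n + 1) F W hW V hzV t h h0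
  acyc n F hF q := @GermCpt.subsingleton_H_succ (XcT f (n + 1)) (Kz f z (n + 1)) F
    (isCompact_Fy (πc f (n + 1)) z (isProperMap_πc hf (n + 1)))
    (relT2_Fy (πc f (n + 1)) z (sep_πc hs (n + 1))) hF q

end fibre

/-! ### vanishing of the higher direct images -/

section vanishing

variable {f} (hf : IsProperMap f)
  (hs : ∀ x x' : X, f x = f x' → x ≠ x' →
    ∃ U V : Set X, IsOpen U ∧ IsOpen V ∧ x ∈ U ∧ x' ∈ V ∧ Disjoint U V)
  (hsurj : Function.Surjective f) (F : CohTop.Ab S)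

include hf hs hsurj in
theorem isZero_RDeps (q : ℕ) :
    IsZero (((epsPush (Df f)).rightDerived (q + 1)).obj ((pullS (Df f)).obj F)) := by
  apply StalkFun.isZero_of_isZero_Stz
  intro z
  obtain ⟨x₀, hx₀⟩ := hsurj z
  let b : FibPt f z := ⟨x₀, hx₀⟩
  have hd := fibreData hf hs z b
  have e1 := FibreA.stalkRDIso hd (q + 1) ((pullS (Df f)).obj F)
  have e2 : (pullD (FibreA.κc (Df f) (κz f z b))).obj ((pullS (Df f)).obj F) ≅
      (pullS ((Df f).comp (κz f z b))).obj F := cmpIso (Df f) (κz f z b) F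
  have h0 : IsZero (((EVt ((Df f).comp (κz f z b))).rightDerived (q + 1)).obj
      ((pullS ((Df f).comp (κz f z b))).obj F)) := FibreB.isZero_RD_fibre f z b F q
  exact IsZero.of_iso h0 (e1 ≪≫ ((EVt ((Df f).comp (κz f z b))).rightDerived (q + 1)).mapIso e2)

include hf hsurj in
/-- the unit isomorphism for the Čech diagram -/
lemma nonempty_unitIso :
    Nonempty (F ≅ (epsPush (Df f)).obj ((pullS (Df f)).obj F)) := by
  refine ⟨DUnit.unitIso (D := Df f) (F := F) ?_ ?_ ?_⟩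
  · intro s
    obtain ⟨x, hx⟩ := hsurj s
    exact ⟨mkXc f s (fun _ => x) (fun _ => hx), rfl⟩
  · intro z U hU
    exact exists_preimage_le (πc f 1) z (isProperMap_πc hf 1) U (fun w hw => hU w hw)
  · intro w w' hww'
    let w₁ : XcT f 1 := w
    let w₁' : XcT f 1 := w'
    have hπ : πc f 1 w₁ = πc f 1 w₁' := hww'
    refine ⟨mkXc f (πc f 1 w₁)
      (Fin.cons (prc f 1 0 w₁') (fun _ => prc f 1 0 w₁) : Fin (1 + 1) → X) ?_, ?_, ?_⟩
    · intro i
      refine Fin.cases ?_ (fun i' => ?_) i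
      · exact (f_prc f 1 0 w₁').trans hπ.symm
      · exact f_prc f 1 0 w₁
    · apply Xc_ext (f := f) (n := 1)
      · rfl
      · intro k
        have hk : k = 0 := Fin.ext (Nat.lt_one_iff.1 k.isLt)
        subst hk
        rfl
    · apply Xc_ext (f := f) (n := 1)
      · exact hπ
      · intro k
        have hk : k = 0 := Fin.ext (Nat.lt_one_iff.1 k.isLt)
        subst hk
        rfl

include hf hs hsurj in
/-- the abutment of the descent spectral sequence -/
lemma nonempty_abutIso (n : ℕ) :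
    Nonempty (((Tt (Df f) ⋙ DescentSSGen.H0 AddCommGrpCat.{u}).rightDerived n).obj
      ((pullS (Df f)).obj F) ≅ AddCommGrpCat.of (CohTop.H F n)) := by
  have e1 := (DimShift.rightDerivedIsoOfNatIso (EVH0Iso (Df f) ⊤).symm n).app
    ((pullS (Df f)).obj F)
  obtain ⟨e2⟩ := DegGroth.nonempty_iso (epsPush (Df f)) (TopSS.ΓV (⊤ : Opens S))
    (isZero_RΓ_epsPush (Df f)) ((pullS (Df f)).obj F) (isZero_RDeps hf hs hsurj F) n
  obtain ⟨e3⟩ := nonempty_unitIso hf hsurj F
  exact ⟨e1 ≪≫ e2 ≪≫ ((TopSS.ΓV (⊤ : Opens S)).rightDerived n).mapIso e3.symm ≪≫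
    LHDescent.RΓIso F n⟩

end vanishing

/-! ### the first page -/

section E1

variable (F : CohTop.Ab S)

lemma isClosedEmbedding_ofXp (p : ℕ) : Topology.IsClosedEmbedding (ofXp f p) :=
  (TopCat.homeoOfIso (Iso.mk (ofXp f p) (toXp f p) (ofXp_toXp f p) (toXp_ofXp f p))).isClosedEmbedding

/-- the cohomology of the inverse image to the concrete fibre power is the cohomology of the
inverse image to the wide pullback -/
lemma nonempty_HIso (p q : ℕ) :
    Nonempty (AddCommGrpCat.of (CohTop.H ((CohTop.pull (πc f (p + 1))).obj F) q) ≅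
      AddCommGrpCat.of (CohTop.H ((CohTop.pull (ap f p)).obj F) q)) := by
  let G : CohTop.Ab (Xp f p) := (CohTop.pull (ap f p)).obj F
  have e0 : (CohTop.pull (πc f (p + 1))).obj F ≅ (CohTop.pull (toXp f p ≫ ap f p)).obj F :=
    eqToIso (by rw [toXp_ap])
  have e1 : (CohTop.pull (toXp f p)).obj G ≅ (CohTop.pull (toXp f p ≫ ap f p)).obj F :=
    (PBCSheaf.pullComp (toXp f p) (ap f p)).app F
  have e2 : (CohTop.pull (toXp f p)).obj G ≅ (CohTop.push (ofXp f p)).obj G :=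
    (PBCSheaf.pullIsoPush (toXp f p) (ofXp f p) (toXp_ofXp f p) (ofXp_toXp f p)).app G
  obtain ⟨e3⟩ := Groth.Agent.Lib.Helper22.CohTop.cohomology_closedEmbedding (ofXp f p)
    (isClosedEmbedding_ofXp f p) G q
  exact ⟨(Sheaf.functorH (Opens.grothendieckTopology (XcT f (p + 1))) q).mapIso
    (e0 ≪≫ e1.symm ≪≫ e2) ≪≫ e3.symm.toAddCommGrpIso⟩

/-- the terms of the first page -/
lemma nonempty_e1Iso (p q : ℕ) :
    Nonempty (((Tt (Df f) ⋙ HomologicalComplex.eval AddCommGrpCat.{u} (ComplexShape.up ℕ)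
      p).rightDerived q).obj ((pullS (Df f)).obj F) ≅
      AddCommGrpCat.of (CohTop.H ((CohTop.pull (ap f p)).obj F) q)) := by
  have e1 := e1Iso (Df f) p q ((pullS (Df f)).obj F)
  have e2 : (ev (Df f).Y ⟨p⟩).obj ((pullS (Df f)).obj F) ≅ (GFsh (πc f (p + 1))).obj F :=
    (pullSLevIso (Df f) ⟨p⟩).app F
  have e3 : (CohTop.pull (πc f (p + 1))).obj F ≅ (GFsh (πc f (p + 1))).obj F :=
    (bridge (πc f (p + 1))).app F
  obtain ⟨e4⟩ := nonempty_HIso f F p q
  exact ⟨e1 ≪≫ (Sheaf.functorH (Opens.grothendieckTopology (XcT f (p + 1))) q).mapIso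
    (e2 ≪≫ e3.symm) ≪≫ e4⟩

end E1

/-- **the descent spectral sequence of a proper surjective map** -/
theorem exists_spectralSequence (hf : IsProperMap f)
    (hs : ∀ x x' : X, f x = f x' → x ≠ x' →
      ∃ U V : Set X, IsOpen U ∧ IsOpen V ∧ x ∈ U ∧ x' ∈ V ∧ Disjoint U V)
    (hsurj : Function.Surjective f) (F : CohTop.Ab S) :
    ∃ (E : CohomologicalSpectralSequence AddCommGrpCat.{u} 1)
      (a : SpSeq.Abutment E (fun n : ℤ =>
        if 0 ≤ n then AddCommGrpCat.of (CohTop.H F n.toNat) else AddCommGrpCat.of PUnit.{u + 1})),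
      (∀ n, a.IsFinite n) ∧ SpSeq.IsBounded E ∧
      ∀ p q : ℤ, Nonempty ((E.page 1 le_rfl).X (p, q) ≅
        (if 0 ≤ p ∧ 0 ≤ q then
          AddCommGrpCat.of (CohTop.H ((CohTop.pull (ap f p.toNat)).obj F) q.toNat)
         else AddCommGrpCat.of PUnit.{u + 1})) := by
  have hZ : IsZero (AddCommGrpCat.of PUnit.{u + 1}) := AddCommGrpCat.isZero_of_subsingleton _
  obtain ⟨E, a, hfin, hb, hE⟩ := DescentSSGen.exists_spectralSequence (Tt (Df f))
    (fun Q hQ k => hTB (J := J (Df f).Y) (BV (Df f) ⊤ 0) Q hQ k) ((pullS (Df f)).obj F)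
    (AddCommGrpCat.of PUnit.{u + 1}) hZ
  let eH : ∀ n : ℤ,
      (if 0 ≤ n then ((Tt (Df f) ⋙ DescentSSGen.H0 AddCommGrpCat.{u}).rightDerived n.toNat).obj
        ((pullS (Df f)).obj F) else AddCommGrpCat.of PUnit.{u + 1}) ≅
      (if 0 ≤ n then AddCommGrpCat.of (CohTop.H F n.toNat)
        else AddCommGrpCat.of PUnit.{u + 1}) := fun n =>
    if h : 0 ≤ n then eqToIso (if_pos h) ≪≫
      Classical.choice (nonempty_abutIso hf hs hsurj F n.toNat) ≪≫ eqToIso (if_pos h).symm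
    else eqToIso (if_neg h) ≪≫ eqToIso (if_neg h).symm
  refine ⟨E, SpSeqAbut.transport a eH, fun n => SpSeqAbut.transport_isFinite a eH n (hfin n), hb,
    fun p q => ?_⟩
  obtain ⟨e⟩ := hE p q
  by_cases h : 0 ≤ p ∧ 0 ≤ q
  · rw [if_pos h] at e ⊢
    obtain ⟨e'⟩ := nonempty_e1Iso f F p.toNat q.toNat
    exact ⟨e ≪≫ e'⟩
  · rw [if_neg h] at e ⊢
    exact ⟨e⟩

end Groth.Agent.Lib.Helper5.ProperDescent
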