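import Groth.Agent.Lib.Helper5.DeltaAcyc
import Groth.Agent.Lib.Helper5.ProperDescent
import Groth.Agent.Lib.Helper5.DRestr
import Groth.Agent.Lib.Helper22.SheafExact

/-!
# Comparison of the simplicial and the symmetric Čech diagrams

A diagram of spaces over `S` indexed by the finite sets `Fin (n+1)` and all maps restricts to a
simplicial diagram.  The direct image of the restriction of a sheaf is the direct image of the
sheaf, and the restriction of an injective sheaf is acyclic for the direct image.  Consequently,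
for the Čech diagram of a proper surjective map, the unit `F ⟶ ε_* ε^* F` is an isomorphism and the
higher direct images of `ε^* F` vanish, also for the simplicial Čech diagram.
-/

set_option autoImplicit false

universe u

open CategoryTheory CategoryTheory.Limits Opposite TopologicalSpace Simplicial

noncomputable section

namespace Groth.Agent.Lib.Helper5.DeltaCmp

open Groth.Agent.Lib.Helper5.DSite Groth.Agent.Lib.Helper5.DPull Groth.Agent.Lib.Helper5.GermFam
  Groth.Agent.Lib.Helper5.LimPush Groth.Agent.Lib.Helper5.DeltaSite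
  Groth.Agent.Lib.Helper5.DeltaAcyc Groth.Agent.Lib.Helper5.DYoneda Groth.Agent.Lib.Helper5.DEps
  Groth.Agent.Lib.Helper5.CechDiag Groth.Agent.Lib.Helper5.DRestr Groth.Agent.Lib.Helper5.LimAdj
  Groth.Agent.Lib.Helper22

/-- the functor from the small simplex category to the finite sets -/
def jΔ : 𝕀.{u} ⥤ FinAll.{u} where
  obj i := ⟨(AsSmall.down.obj i).len⟩
  map α := FinAll.homMk (fun k => (AsSmall.down.map α).toOrderHom k)
  map_id i := by
    apply ULift.ext
    funext k
    change (AsSmall.down.map (𝟙 i)).toOrderHom k = k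
    rw [CategoryTheory.Functor.map_id]
    rfl
  map_comp α β := by
    apply ULift.ext
    funext k
    change (AsSmall.down.map (α ≫ β)).toOrderHom k =
      (AsSmall.down.map β).toOrderHom ((AsSmall.down.map α).toOrderHom k)
    rw [CategoryTheory.Functor.map_comp]
    rfl

variable {S : TopCat.{u}} (DF : OverS FinAll.{u} S)

/-- the simplicial diagram underlying a symmetric diagram -/
abbrev DΔ : OverS 𝕀.{u} S := DF.restr jΔ

/-! ### the direct images -/

section sections

variable (P : (Obj DF.Y)ᵒᵖ ⥤ AddCommGrpCat.{u}) (V : Opens S)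

lemma face_eq (n : ℕ) (k : Fin (n + 2)) :
    (φs jΔ DF).map (homBVg (DΔ DF) (AsSmall.up.map (SimplexCategory.δ k : ⦋n⦌ ⟶ ⦋n + 1⦌))
      (le_refl V)) = (powV DF V).face n k := by
  apply DSite.hom_ext
  apply ULift.ext
  funext l
  rfl

/-- the component of level `0` of a compatible family is an equalized section -/
def toEV : LPobj (DΔ DF) (resP jΔ DF P) V →+ EVobj DF V P where
  toFun x := ⟨x.1 (up ⦋0⦌), by
    rw [mem_EVobj, dP_zero_iff]
    have hk : ∀ k : Fin (0 + 2), (P.map ((powV DF V).face 0 k).op).hom (x.1 (up ⦋0⦌)) =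
        x.1 (up ⦋1⦌) := by
      intro k
      have h1 := LPobj_compat (DΔ DF) (resP jΔ DF P) V x
        (AsSmall.up.map (SimplexCategory.δ k : ⦋0⦌ ⟶ ⦋0 + 1⦌))
      have h2 : ((resP jΔ DF P).map (homBVg (DΔ DF)
          (AsSmall.up.map (SimplexCategory.δ k : ⦋0⦌ ⟶ ⦋0 + 1⦌)) (le_refl V)).op).hom
            (x.1 (up ⦋0⦌)) = (P.map ((powV DF V).face 0 k).op).hom (x.1 (up ⦋0⦌)) :=
        map_congr P (face_eq DF V 0 k) (x.1 (up ⦋0⦌))
      exact h2.symm.trans h1
    exact (hk 0).trans (hk 1).symm⟩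
  map_zero' := rfl
  map_add' _ _ := rfl

lemma toEV_val (x : LPobj (DΔ DF) (resP jΔ DF P) V) : (toEV DF P V x).1 = x.1 (up ⦋0⦌) := rfl

/-- the morphism to the object of level `0` -/
def m0 (i : 𝕀.{u}) : (φs jΔ DF).obj (BVg (DΔ DF) V i) ⟶ BV DF V 0 :=
  homBV DF V (m := 0) (n := (AsSmall.down.obj i).len) (fun _ => 0) (le_refl V)

/-- an equalized section defines a compatible family -/
def ofEV : EVobj DF V P →+ LPobj (DΔ DF) (resP jΔ DF P) V where
  toFun y := ⟨fun i => (P.map (m0 DF V i).op).hom y.1, by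
    intro i j α
    change (P.map ((φs jΔ DF).map (homBVg (DΔ DF) α (le_refl V))).op).hom
      ((P.map (m0 DF V i).op).hom y.1) = (P.map (m0 DF V j).op).hom y.1
    rw [DSite.map_comp_apply]
    exact map_eq_of_ker (powV DF V) P y.1 ((mem_EVobj DF V P y.1).1 y.2) _ _⟩
  map_zero' := Subtype.ext (funext fun i => map_zero _)
  map_add' a b := Subtype.ext (funext fun i => map_add _ _ _)

lemma ofEV_val (y : EVobj DF V P) (i : 𝕀.{u}) :
    (ofEV DF P V y).1 i = (P.map (m0 DF V i).op).hom y.1 := rfl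

/-- compatible families over the simplicial diagram are the equalized sections -/
def evEquiv : LPobj (DΔ DF) (resP jΔ DF P) V ≃+ EVobj DF V P where
  toFun := toEV DF P V
  invFun := ofEV DF P V
  left_inv x := by
    apply LPobj_ext
    intro i
    have hx0 : (powV DF V).dP P 0 (x.1 (up ⦋0⦌)) = 0 :=
      (mem_EVobj DF V P _).1 (toEV DF P V x).2
    have h1 := LPobj_compat (DΔ DF) (resP jΔ DF P) V x
      (AsSmall.up.map (SimplexCategory.const ⦋0⦌ (AsSmall.down.obj i) 0))
    have h2 : (P.map (m0 DF V i).op).hom (x.1 (up ⦋0⦌)) =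
        (P.map ((φs jΔ DF).map (homBVg (DΔ DF)
          (AsSmall.up.map (SimplexCategory.const ⦋0⦌ (AsSmall.down.obj i) 0))
            (le_refl V))).op).hom (x.1 (up ⦋0⦌)) :=
      map_eq_of_ker (powV DF V) P (x.1 (up ⦋0⦌)) hx0 _ _
    exact h2.trans h1
  right_inv y := by
    apply Subtype.ext
    have hy : (powV DF V).dP P 0 y.1 = 0 := (mem_EVobj DF V P y.1).1 y.2
    have h1 : (P.map (m0 DF V (up ⦋0⦌)).op).hom y.1 = (P.map (𝟙 (BV DF V 0)).op).hom y.1 :=
      map_eq_of_ker (powV DF V) P y.1 hy _ _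
    refine h1.trans ?_
    exact map_id_apply P _ rfl y.1
  map_add' a b := map_add (toEV DF P V) a b

end sections

/-- the comparison of the direct images, for one sheaf -/
def cmpObj (G : Sh DF.Y) :
    (limPush (DΔ DF)).obj ((resSh jΔ DF).obj G) ≅ (epsPush DF).obj G :=
  (fullyFaithfulSheafToPresheaf _ _).preimageIso
    (NatIso.ofComponents (fun V => (evEquiv DF G.obj V.unop).toAddCommGrpIso) (by
      intro V V' h
      refine AddCommGrpCat.hom_ext (AddMonoidHom.ext fun x => Subtype.ext ?_)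
      exact map_congr G.obj (DSite.hom_ext (jΔ.map_id _)) _))

lemma cmpObj_hom_app (G : Sh DF.Y) (V : Opens S)
    (x : LPobj (DΔ DF) (resP jΔ DF G.obj) V) :
    (((cmpObj DF G).hom.hom.app (op V)).hom x : EVobj DF V G.obj).1 = x.1 (up ⦋0⦌) := rfl

/-- **the direct image of the restriction is the direct image** -/
def cmpΔ : resSh jΔ DF ⋙ limPush (DΔ DF) ≅ epsPush DF :=
  NatIso.ofComponents (fun G => cmpObj DF G) (by
    intro G G' θ
    apply CategoryTheory.Sheaf.hom_ext
    ext V x
    apply Subtype.ext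
    rfl)

/-! ### the restriction of an injective sheaf is acyclic -/

/-- evaluation of morphisms of sheaves at a section, as an additive map -/
def evx {A B : CohTop.Ab S} (V : Opens S) (x : A.obj.obj (op V)) :
    (A ⟶ B) →+ B.obj.obj (op V) where
  toFun φ := (φ.hom.app (op V)).hom x
  map_zero' := rfl
  map_add' _ _ := rfl

lemma d_apply (D : OverS 𝕀.{u} S) (G : Sh D.Y) (n : ℕ) (V : Opens S)
    (x : G.obj.obj (op (BVg D V (up ⦋n⦌)))) :
    ((((TΔ D).obj G).d n (n + 1)).hom.app (op V)).hom x =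
      ∑ k : Fin (n + 2), (-1 : ℤ) ^ (k : ℕ) •
        (G.obj.map (homBVg D (AsSmall.up.map (SimplexCategory.δ k : ⦋n⦌ ⟶ ⦋n + 1⦌))
          (le_refl V)).op).hom x := by
  have h := congrArg (evx (A := ((PcΔ D).obj G).obj ⦋n⦌) (B := ((PcΔ D).obj G).obj ⦋n + 1⦌) V x)
    (CosimpLim.Φ_d ((PcΔ D).obj G) n)
  rw [map_sum] at h
  refine h.trans (Finset.sum_congr rfl (fun k _ => ?_))
  rw [map_zsmul]
  rfl

lemma d_eq_dP (Q : Sh DF.Y) (n : ℕ) (V : Opens S) (x : Q.obj.obj (op (BV DF V n))) :
    ((((TΔ (DΔ DF)).obj ((resSh jΔ DF).obj Q)).d n (n + 1)).hom.app (op V)).hom x =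
      (powV DF V).dP Q.obj n x := by
  rw [Pow.dP_apply]
  refine (d_apply (DΔ DF) ((resSh jΔ DF).obj Q) n V x).trans ?_
  refine Finset.sum_congr rfl (fun k _ => ?_)
  exact congrArg (fun z => (-1 : ℤ) ^ (k : ℕ) • z) (map_congr Q.obj (face_eq DF V n k) x)

lemma hex_res (Q : Sh DF.Y) [Injective Q] (k : ℕ) :
    IsZero (((TΔ (DΔ DF)).obj ((resSh jΔ DF).obj Q)).homology (k + 1)) := by
  rw [← HomologicalComplex.exactAt_iff_isZero_homology,
    HomologicalComplex.exactAt_iff' _ k (k + 1) (k + 2) (by simp) (by simp)]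
  apply SheafExact.exact_of_presheaf_exact
  apply SheafExact.exact_of_evaluation
  intro V
  rw [ShortComplex.ab_exact_iff]
  intro x₂ hx₂
  have hT := (Pow.isZero_homology_succ_iff (powV DF V.unop) Q.obj k).1
    (hTB (J := J DF.Y) (BV DF V.unop 0) Q inferInstance k)
  let x₂' : Q.obj.obj (op (BV DF V.unop (k + 1))) := x₂
  have h2 : (powV DF V.unop).dP Q.obj (k + 1) x₂' = 0 :=
    (d_eq_dP DF Q (k + 1) V.unop x₂').symm.trans hx₂
  obtain ⟨z, hz⟩ := hT x₂' h2
  exact ⟨z, (d_eq_dP DF Q k V.unop z).trans hz⟩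

instance isFlasque_ev_res (Q : Sh DF.Y) [Injective Q] (i : 𝕀.{u}) :
    TopCat.Sheaf.IsFlasque ((ev (DΔ DF).Y i).obj ((resSh jΔ DF).obj Q)) where
  epi {V W} h := by
    haveI := injective_obj DF.Y Q
    rw [AddCommGrpCat.epi_iff_surjective]
    refine map_surjective_of_injective Q.obj
      ((φs jΔ DF).map ((DSite.ι (DΔ DF).Y i).map h.unop)) ?_
    intro B g g' e
    apply DSite.hom_ext
    have e' := congrArg DSite.Hom.α e
    change jΔ.map (𝟙 i) ≫ g.α = jΔ.map (𝟙 i) ≫ g'.α at e'
    rwa [jΔ.map_id, Category.id_comp, Category.id_comp] at e'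

/-- the restriction of an injective sheaf is acyclic for the direct image -/
theorem isZero_RD_res (Q : Sh DF.Y) (hQ : Injective Q) (n : ℕ) :
    IsZero (((limPush (DΔ DF)).rightDerived (n + 1)).obj ((resSh jΔ DF).obj Q)) :=
  isZero_RD_limPush (DΔ DF) ((resSh jΔ DF).obj Q) (fun p => isFlasque_ev_res DF Q (up ⦋p⦌))
    (fun k => hex_res DF Q k) n

instance : PreservesFiniteLimits (limPush (DΔ DF)) := by
  haveI : PreservesLimitsOfSize.{0, 0} (limPush (DΔ DF)) :=
    (adjL (DΔ DF)).rightAdjoint_preservesLimits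
  exact PreservesLimitsOfSize.preservesFiniteLimits _

/-- the higher direct images of a restriction -/
def RDresIso (n : ℕ) (H : Sh DF.Y) :
    ((epsPush DF).rightDerived n).obj H ≅
      ((limPush (DΔ DF)).rightDerived n).obj ((resSh jΔ DF).obj H) :=
  (DimShift.rightDerivedIsoOfNatIso (cmpΔ DF).symm n).app H ≪≫
    (PrecompDelta.rightDerivedPrecompIso (resSh jΔ DF) (limPush (DΔ DF))
      (isZero_RD_res DF) n).app H

/-! ### the restriction of the inverse image -/

/-- the restriction of the inverse image is the inverse image to the restricted diagram -/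
def pullSRestrNatIso : pullS (DΔ DF) ≅ pullS DF ⋙ resSh jΔ DF :=
  NatIso.ofComponents (fun F => pullSRestrIso jΔ DF F) (by
    intro F F' φ
    apply CategoryTheory.Sheaf.hom_ext
    ext B s
    rfl)

/-! ### the unit -/

section unit

open Groth.Agent.Lib.Helper5.DUnit

variable (hsurj0 : Function.Surjective (DF.π ⟨0⟩))
  (hclosed : ∀ (z : S) (U : Opens (Sp DF.Y ⟨0⟩)), (∀ w, DF.π ⟨0⟩ w = z → w ∈ U) →
    ∃ V : Opens S, z ∈ V ∧ (Opens.map (DF.π ⟨0⟩)).obj V ≤ U)
  (hpair : ∀ w w' : Sp DF.Y ⟨0⟩, DF.π ⟨0⟩ w = DF.π ⟨0⟩ w' →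
    ∃ v : Sp DF.Y ⟨1⟩, tr DF.Y ((powV DF ⊤).face 0 0).α v = w ∧
      tr DF.Y ((powV DF ⊤).face 0 1).α v = w')

/-- the unit isomorphism for the symmetric diagram, as a natural isomorphism -/
def unitNatIso : 𝟭 (CohTop.Ab S) ≅ pullS DF ⋙ epsPush DF :=
  NatIso.ofComponents (fun F => unitIso (D := DF) (F := F) hsurj0 hclosed hpair) (by
    intro F F' φ
    apply CategoryTheory.Sheaf.hom_ext
    ext V t
    apply Subtype.ext
    exact (mapP_gf (DF.π ⟨0⟩) F.obj φ.hom (V := V.unop)
      (W := (Opens.map (DF.π ⟨0⟩)).obj V.unop) (fun _ hw => hw) t).symm)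

/-- the direct image of the inverse image is the identity, for the simplicial diagram -/
def unitIsoΔ : pullS (DΔ DF) ⋙ limPush (DΔ DF) ≅ 𝟭 (CohTop.Ab S) :=
  Functor.isoWhiskerRight (pullSRestrNatIso DF) (limPush (DΔ DF)) ≪≫
    Functor.associator _ _ _ ≪≫ Functor.isoWhiskerLeft (pullS DF) (cmpΔ DF) ≪≫
      (unitNatIso DF hsurj0 hclosed hpair).symm

include hsurj0 hclosed hpair in
lemma isIso_unit_adjL : IsIso (adjL (DΔ DF)).unit :=
  (adjL (DΔ DF)).isIso_unit_of_iso (unitIsoΔ DF hsurj0 hclosed hpair)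

end unit

/-! ### the Čech diagram of a proper surjective map -/

section proper

open Groth.Agent.Lib.Helper5.ProperDescent

variable {X : TopCat.{u}} {f : X ⟶ S} (hf : IsProperMap f)
  (hs : ∀ x x' : X, f x = f x' → x ≠ x' →
    ∃ U V : Set X, IsOpen U ∧ IsOpen V ∧ x ∈ U ∧ x' ∈ V ∧ Disjoint U V)
  (hsurj : Function.Surjective f)

include hf hs hsurj in
/-- **vanishing of the higher direct images for the simplicial Čech diagram** -/
theorem isZero_RD_pull (F : CohTop.Ab S) (q : ℕ) :
    IsZero (((limPush (DΔ (Df f))).rightDerived (q + 1)).obj ((pullS (DΔ (Df f))).obj F)) := by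
  have h0 := isZero_RDeps hf hs hsurj F q
  have e1 := RDresIso (Df f) (q + 1) ((pullS (Df f)).obj F)
  have e2 := ((limPush (DΔ (Df f))).rightDerived (q + 1)).mapIso
    ((pullSRestrNatIso (Df f)).app F)
  exact IsZero.of_iso h0 (e2 ≪≫ e1.symm)

include hf hsurj in
/-- **the unit is an isomorphism for the simplicial Čech diagram** -/
theorem isIso_unit_pull : IsIso (adjL (DΔ (Df f))).unit := by
  refine isIso_unit_adjL (Df f) ?_ ?_ ?_
  · intro s
    obtain ⟨x, hx⟩ := hsurj s
    exact ⟨mkXc f s (fun _ => x) (fun _ => hx), rfl⟩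
  · intro z U hU
    exact Groth.Agent.Lib.Helper5.CptColim.exists_preimage_le (πc f 1) z (isProperMap_πc hf 1) U
      (fun w hw => hU w hw)
  · intro w w' hww'
    let w₁ : XcT f 1 := w
    let w₁' : XcT f 1 := w'
    have hπ : πc f 1 w₁ = πc f 1 w₁' := hww'
    refine ⟨mkXc f (πc f 1 w₁)
      (Fin.cons (prc f 1 0 w₁') (fun _ => prc f 1 0 w₁) : Fin (1 + 1) → X) ?_, ?_, ?_⟩
    · intro i
      refine Fin.cases ?_ (fun i' => ?_) i
      · exact (f_prc f 1 0 w₁').trans hπ.symm
      · exact f_prc f 1 0 w₁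
    · apply Xc_ext (f := f) (n := 1)
      · rfl
      · intro k
        have hk : k = 0 := Fin.ext (Nat.lt_one_iff.1 k.isLt)
        subst hk
        rfl
    · apply Xc_ext (f := f) (n := 1)
      · exact hπ
      · intro k
        have hk : k = 0 := Fin.ext (Nat.lt_one_iff.1 k.isLt)
        subst hk
        rfl

end proper

end Groth.Agent.Lib.Helper5.DeltaCmp
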