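import Groth.Agent.Lib.Helper5.LimAdj
import Groth.Agent.Lib.Helper5.CosimpLim
import Groth.Agent.Lib.Helper5.DescentSSGen
import Groth.Agent.Lib.Helper5.DegGroth

/-!
# Simplicial diagrams of spaces over a base: the cosimplicial sheaf of the direct images

For a diagram of spaces `D` over `S` indexed by the simplex category (made small in the universe
of the spaces), and a sheaf `G` on the site of `D`, the direct images of the levels of `G` form a
cosimplicial sheaf on `S`; the direct image `limPush D G` is its limit, that is the `H⁰` of its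
alternating coface map complex.
-/

set_option autoImplicit false

universe u

open CategoryTheory CategoryTheory.Limits Opposite TopologicalSpace Simplicial

noncomputable section

namespace Groth.Agent.Lib.Helper5.DeltaSite

open Groth.Agent.Lib.Helper5.DSite Groth.Agent.Lib.Helper5.DPull Groth.Agent.Lib.Helper5.GermFam
  Groth.Agent.Lib.Helper5.LimPush

/-! ### a recognition criterion for limits of sheaves of abelian groups -/

section recognition

variable {C : Type u} [Category.{u} C] (J : GrothendieckTopology C)

/-- a cone of sheaves of abelian groups is a limit cone if on sections it identifies the vertex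
with the compatible families -/
def isLimitOfSectionwise (F : SimplexCategory ⥤ Sheaf J AddCommGrpCat.{u}) (c : Cone F)
    (h : ∀ (U : Cᵒᵖ) (y : ∀ k : SimplexCategory, (F.obj k).obj.obj U),
      (∀ (k k' : SimplexCategory) (f : k ⟶ k'), ((F.map f).hom.app U).hom (y k) = y k') →
        ∃! x : c.pt.obj.obj U, ∀ k, ((c.π.app k).hom.app U).hom x = y k) : IsLimit c := by
  refine isLimitOfReflects (sheafToPresheaf J AddCommGrpCat.{u}) ?_
  refine evaluationJointlyReflectsLimits _ (fun U => ?_)
  refine isLimitOfReflects (forget AddCommGrpCat.{u}) ?_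
  refine Classical.choice ((Types.isLimit_iff _).2 ?_)
  intro s hs
  exact h U s (fun k k' f => hs f)

end recognition

/-! ### the direct images of the levels -/

section general

variable {I : Type u} [Category.{u} I] {S : TopCat.{u}} (D : OverS I S)

/-- the direct image of the level `i` -/
abbrev PcObj (G : Sh D.Y) (i : I) : CohTop.Ab S :=
  (CohTop.push (D.π i)).obj ((ev D.Y i).obj G)

/-- the transition maps between the direct images of the levels -/
def PcMap (G : Sh D.Y) {i j : I} (α : i ⟶ j) : PcObj D G i ⟶ PcObj D G j :=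
  ⟨{ app := fun V => G.obj.map (homBVg D α (le_refl V.unop)).op
     naturality := by
       intro V V' h
       refine AddCommGrpCat.hom_ext (AddMonoidHom.ext fun x => ?_)
       change (G.obj.map (homBVg D α (le_refl V'.unop)).op).hom
           ((G.obj.map (homBVg D (𝟙 i) (leOfHom h.unop)).op).hom x) =
         (G.obj.map (homBVg D (𝟙 j) (leOfHom h.unop)).op).hom
           ((G.obj.map (homBVg D α (le_refl V.unop)).op).hom x)
       rw [map_comp_apply, map_comp_apply]
       exact map_congr G.obj
         (DSite.hom_ext ((Category.id_comp _).trans (Category.comp_id _).symm)) x }⟩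

lemma PcMap_app_apply (G : Sh D.Y) {i j : I} (α : i ⟶ j) (V : Opens S)
    (x : G.obj.obj (op (BVg D V i))) :
    ((PcMap D G α).hom.app (op V)).hom x = (G.obj.map (homBVg D α (le_refl V)).op).hom x := rfl

/-- the diagram of the direct images of the levels -/
def PcFun (G : Sh D.Y) : I ⥤ CohTop.Ab S where
  obj i := PcObj D G i
  map α := PcMap D G α
  map_id i := by
    apply CategoryTheory.Sheaf.hom_ext
    ext V x
    exact map_id_apply G.obj _ rfl x
  map_comp α β := by
    apply CategoryTheory.Sheaf.hom_ext
    ext V x
    change (G.obj.map (homBVg D (α ≫ β) (le_refl V.unop)).op).hom x =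
      (G.obj.map (homBVg D β (le_refl V.unop)).op).hom
        ((G.obj.map (homBVg D α (le_refl V.unop)).op).hom x)
    rw [map_comp_apply]
    exact map_congr G.obj (DSite.hom_ext rfl) x

/-- functoriality in the sheaf -/
def PcNat {G G' : Sh D.Y} (θ : G ⟶ G') : PcFun D G ⟶ PcFun D G' where
  app i := (CohTop.push (D.π i)).map ((ev D.Y i).map θ)
  naturality i j α := by
    apply CategoryTheory.Sheaf.hom_ext
    ext V x
    exact NatTrans.naturality_apply θ.hom (homBVg D α (le_refl V.unop)).op x

lemma PcNat_app_apply {G G' : Sh D.Y} (θ : G ⟶ G') (i : I) (V : Opens S)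
    (x : G.obj.obj (op (BVg D V i))) :
    (((PcNat D θ).app i).hom.app (op V)).hom x = (θ.hom.app (op (BVg D V i))).hom x := rfl

/-- the functor of the direct images of the levels -/
def Pc : Sh D.Y ⥤ (I ⥤ CohTop.Ab S) where
  obj G := PcFun D G
  map θ := PcNat D θ
  map_id G := by
    ext i
    rfl
  map_comp θ θ' := by
    ext i
    rfl

end general

/-! ### simplicial diagrams -/

/-- the simplex category, made small in the universe `u` -/
abbrev 𝕀 : Type u := AsSmall.{u} SimplexCategory

/-- the object of `𝕀` attached to an object of the simplex category -/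
abbrev up (n : SimplexCategory) : 𝕀.{u} := AsSmall.up.obj n

variable {S : TopCat.{u}} (D : OverS 𝕀.{u} S)

/-- the cosimplicial sheaf of the direct images of the levels -/
def PcΔ : Sh D.Y ⥤ (SimplexCategory ⥤ CohTop.Ab S) :=
  Pc D ⋙ (Functor.whiskeringLeft SimplexCategory 𝕀.{u} (CohTop.Ab S)).obj AsSmall.up

lemma PcΔ_obj_obj (G : Sh D.Y) (n : SimplexCategory) :
    ((PcΔ D).obj G).obj n = PcObj D G (up n) := rfl

lemma PcΔ_obj_map (G : Sh D.Y) {n m : SimplexCategory} (θ : n ⟶ m) :
    ((PcΔ D).obj G).map θ = PcMap D G (AsSmall.up.map θ) := rfl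

lemma PcΔ_map_app {G G' : Sh D.Y} (θ : G ⟶ G') (n : SimplexCategory) :
    ((PcΔ D).map θ).app n = (CohTop.push (D.π (up n))).map ((ev D.Y (up n)).map θ) := rfl

/-- the alternating coface map complex of the direct images of the levels -/
def TΔ : Sh D.Y ⥤ CochainComplex (CohTop.Ab S) ℕ := PcΔ D ⋙ CosimpLim.Φ (CohTop.Ab S)

/-- the terms of the complex -/
def TΔevalIso (p : ℕ) :
    TΔ D ⋙ HomologicalComplex.eval (CohTop.Ab S) (ComplexShape.up ℕ) p ≅
      ev D.Y (up ⦋p⦌) ⋙ CohTop.push (D.π (up ⦋p⦌)) :=
  NatIso.ofComponents (fun G => Iso.refl _) (by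
    intro G G' θ
    have key : (TΔ D ⋙ HomologicalComplex.eval (CohTop.Ab S) (ComplexShape.up ℕ) p).map θ =
        (ev D.Y (up ⦋p⦌) ⋙ CohTop.push (D.π (up ⦋p⦌))).map θ := rfl
    exact (Category.comp_id _).trans (key.trans (Category.id_comp _).symm))

instance : (TΔ D).Additive where
  map_add := by
    intro G G' θ θ'
    ext n
    rfl

instance : PreservesFiniteLimits (TΔ D) :=
  ⟨fun J _ _ => HomologicalComplex.preservesLimitsOfShape_of_eval _ (fun n =>
    preservesLimitsOfShape_of_natIso (TΔevalIso D n).symm)⟩

/-! ### the direct image is the limit of the cosimplicial sheaf -/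

/-- the cone of the direct image over the cosimplicial sheaf -/
def limCone (G : Sh D.Y) : Cone ((PcΔ D).obj G) where
  pt := (limPush D).obj G
  π :=
    { app := fun n => (prj D (up n)).app G
      naturality := by
        intro n m θ
        apply CategoryTheory.Sheaf.hom_ext
        ext V x
        have hx := LPobj_compat D G.obj V.unop (x : LPobj D G.obj V.unop) (AsSmall.up.map θ)
        exact hx.symm }

/-- the direct image is the limit of the cosimplicial sheaf -/
def isLimitLimCone (G : Sh D.Y) : IsLimit (limCone D G) := by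
  refine isLimitOfSectionwise _ _ _ (fun V y hy => ?_)
  let x : LPobj D G.obj V.unop := ⟨fun i => y (AsSmall.down.obj i), by
    intro i j α
    exact hy (AsSmall.down.obj i) (AsSmall.down.obj j) (AsSmall.down.map α)⟩
  refine ⟨x, fun k => rfl, ?_⟩
  intro x' hx'
  let x'' : LPobj D G.obj V.unop := x'
  change x'' = x
  apply LPobj_ext
  intro i
  exact hx' (AsSmall.down.obj i)

variable [HasLimitsOfShape SimplexCategory (CohTop.Ab S)]

/-- the direct image is the limit of the cosimplicial sheaf -/
def limPushIsoLim : limPush D ≅ PcΔ D ⋙ (lim : (SimplexCategory ⥤ CohTop.Ab S) ⥤ CohTop.Ab S) :=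
  NatIso.ofComponents
    (fun G => (isLimitLimCone D G).conePointUniqueUpToIso (limit.isLimit ((PcΔ D).obj G)))
    (by
      intro G G' θ
      apply limit.hom_ext
      intro n
      have h1 := IsLimit.conePointUniqueUpToIso_hom_comp (isLimitLimCone D G')
        (limit.isLimit ((PcΔ D).obj G')) n
      have h2 := IsLimit.conePointUniqueUpToIso_hom_comp (isLimitLimCone D G)
        (limit.isLimit ((PcΔ D).obj G)) n
      have h3 : (limPush D).map θ ≫ (limCone D G').π.app n =
          (limCone D G).π.app n ≫ ((PcΔ D).map θ).app n := ((prj D (up n)).naturality θ)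
      have h4 : (PcΔ D ⋙ (lim : (SimplexCategory ⥤ CohTop.Ab S) ⥤ CohTop.Ab S)).map θ ≫
          limit.π ((PcΔ D).obj G') n = limit.π ((PcΔ D).obj G) n ≫ ((PcΔ D).map θ).app n :=
        limMap_π _ _
      refine (Category.assoc _ _ _).trans ?_
      refine (congrArg (fun z => (limPush D).map θ ≫ z) h1).trans ?_
      refine h3.trans ?_
      refine Eq.symm ?_
      refine (Category.assoc _ _ _).trans ?_
      refine (congrArg (fun z => ((isLimitLimCone D G).conePointUniqueUpToIso
        (limit.isLimit ((PcΔ D).obj G))).hom ≫ z) h4).trans ?_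
      refine (Category.assoc _ _ _).symm.trans ?_
      exact congrArg (fun z => z ≫ ((PcΔ D).map θ).app n) h2)

/-- **the direct image is `H⁰` of the alternating coface map complex** -/
def limPushIsoH0 : limPush D ≅ TΔ D ⋙ DescentSSGen.H0 (CohTop.Ab S) :=
  limPushIsoLim D ≪≫ Functor.isoWhiskerLeft (PcΔ D) (CosimpLim.limIso (𝒮 := CohTop.Ab S))

end Groth.Agent.Lib.Helper5.DeltaSite
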