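import Groth.Agent.Lib.Helper16.Depth
import Mathlib.RingTheory.Regular.Flat
import Mathlib.RingTheory.QuotSMulTop

/-!
# Depth of a flat module is at least the depth of the ring

A weakly regular sequence on `R` stays weakly regular on a flat `R`-module.
-/

set_option autoImplicit false
universe u v w

open TensorProduct RingTheory.Sequence

namespace Groth.Agent.Lib.Helper5.DepthFlat

open Groth.Agent.Lib.Helper16.Depth

variable {R : Type u} [CommRing R] (F : Type v) [AddCommGroup F] [Module R F] [Module.Flat R F]

lemma isSMulRegular_tensor {N : Type w} [AddCommGroup N] [Module R N] {r : R}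
    (h : IsSMulRegular N r) : IsSMulRegular (N ⊗[R] F) r := by
  have h1 : Function.Injective (LinearMap.rTensor F (LinearMap.lsmul R N r)) :=
    Module.Flat.rTensor_preserves_injective_linearMap _ h
  have h2 : ∀ t : N ⊗[R] F, LinearMap.rTensor F (LinearMap.lsmul R N r) t = r • t := by
    intro t
    induction t using TensorProduct.induction_on with
    | zero => simp
    | tmul x y => simp [TensorProduct.smul_tmul']
    | add x y hx hy => rw [map_add, hx, hy, smul_add]
  intro a b hab
  apply h1
  rw [h2, h2]
  exact hab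

theorem isWeaklyRegular_tensor : ∀ (rs : List R) (N : Type w) [AddCommGroup N] [Module R N],
    IsWeaklyRegular N rs → IsWeaklyRegular (N ⊗[R] F) rs
  | [], N, _, _, _ => IsWeaklyRegular.nil R _
  | r :: rs, N, _, _, reg => by
    rw [isWeaklyRegular_cons_iff] at reg ⊢
    refine ⟨isSMulRegular_tensor F reg.1, ?_⟩
    exact (LinearEquiv.isWeaklyRegular_congr
      (QuotSMulTop.quotSMulTopTensorEquivQuotSMulTop r F N) rs).1
      (isWeaklyRegular_tensor rs (QuotSMulTop r N) reg.2)

theorem isWeaklyRegular_of_flat {rs : List R} (h : IsWeaklyRegular R rs) : IsWeaklyRegular F rs :=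
  (LinearEquiv.isWeaklyRegular_congr (TensorProduct.lid R F) rs).1
    (isWeaklyRegular_tensor F rs R h)

theorem idealDepth_le_of_flat (I : Ideal R) (hI : I ≠ ⊤) :
    LocCoh.idealDepth I R ≤ LocCoh.idealDepth I F := by
  rw [← ENat.forall_natCast_le_iff_le]
  intro n hn
  rw [le_idealDepth_iff] at hn ⊢
  rcases hn with h | ⟨rs, hlen, hreg, hmem⟩
  · exfalso
    apply hI
    rw [eq_top_iff, ← h]
    refine Submodule.smul_le.2 fun r hr n _ => ?_
    exact I.mul_mem_right n hr
  · exact Or.inr ⟨rs, hlen, isWeaklyRegular_of_flat F hreg, hmem⟩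

theorem depth_le_of_flat [IsLocalRing R] : LocCoh.depth R R ≤ LocCoh.depth R F :=
  idealDepth_le_of_flat F _ (IsLocalRing.maximalIdeal.isMaximal R).ne_top

end Groth.Agent.Lib.Helper5.DepthFlat
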