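import Mathlib.CategoryTheory.Abelian.RightDerived
import Mathlib.Algebra.Homology.HomologySequenceLemmas
import Mathlib.Algebra.Homology.HomologicalComplexAbelian
import Mathlib.CategoryTheory.Limits.FunctorCategory.Shapes.Kernels
import Mathlib.CategoryTheory.Abelian.FunctorCategory

set_option autoImplicit false
set_option linter.unusedSectionVars false
universe v v' u u'
open CategoryTheory CategoryTheory.Limits

namespace Groth.Agent.Lib.Helper5.DerSES

variable {C : Type u} [Category.{v} C] [Abelian C]
  {D : Type u'} [Category.{v'} D] [Abelian D]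
  {Γ M T : C ⥤ D} [Γ.Additive] [M.Additive] [T.Additive]
  (a : Γ ⟶ M) (b : M ⟶ T) (w : a ≫ b = 0)

include w in
lemma app_comp_app (Z : C) : a.app Z ≫ b.app Z = 0 := by
  rw [← NatTrans.comp_app, w]; rfl

/-- The short complex of cochain complexes `Γ K ⟶ M K ⟶ T K`. -/
noncomputable def scC (K : CochainComplex C ℕ) : ShortComplex (CochainComplex D ℕ) :=
  ShortComplex.mk ((NatTrans.mapHomologicalComplex a _).app K)
    ((NatTrans.mapHomologicalComplex b _).app K) (by
      ext n
      exact app_comp_app a b w _)

/-- Functoriality of `scC`. -/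
noncomputable def scMap {K L : CochainComplex C ℕ} (φ : K ⟶ L) : scC a b w K ⟶ scC a b w L where
  τ₁ := (Γ.mapHomologicalComplex _).map φ
  τ₂ := (M.mapHomologicalComplex _).map φ
  τ₃ := (T.mapHomologicalComplex _).map φ
  comm₁₂ := ((NatTrans.mapHomologicalComplex a _).naturality φ)
  comm₂₃ := ((NatTrans.mapHomologicalComplex b _).naturality φ)

variable (hI : ∀ (I : C), Injective I →
  (ShortComplex.mk (a.app I) (b.app I) (app_comp_app a b w I)).ShortExact)

include hI in
lemma scC_shortExact {X : C} (I : InjectiveResolution X) : (scC a b w I.cocomplex).ShortExact :=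
  HomologicalComplex.shortExact_of_degreewise_shortExact _
    (fun n => hI (I.cocomplex.X n) (I.injective n))

lemma isZero_homology_succ [M.PreservesHomology] {X : C} (I : InjectiveResolution X) (n : ℕ) :
    IsZero (((M.mapHomologicalComplex _).obj I.cocomplex).homology (n + 1)) := by
  rw [← HomologicalComplex.exactAt_iff_isZero_homology, HomologicalComplex.exactAt_iff]
  have h := I.cocomplex_exactAt_succ n
  rw [HomologicalComplex.exactAt_iff] at h
  exact h.map M

/-- The connecting morphism attached to an injective resolution. -/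
noncomputable def δ {X : C} (I : InjectiveResolution X) (i : ℕ) :
    ((T.mapHomologicalComplex _).obj I.cocomplex).homology i ⟶
      ((Γ.mapHomologicalComplex _).obj I.cocomplex).homology (i + 1) :=
  (scC_shortExact a b w hI I).δ i (i + 1) rfl

lemma δ_naturality {X Y : C} (I : InjectiveResolution X) (J : InjectiveResolution Y)
    (φ : I.cocomplex ⟶ J.cocomplex) (i : ℕ) :
    δ a b w hI I i ≫ HomologicalComplex.homologyMap ((Γ.mapHomologicalComplex _).map φ) (i + 1) =
      HomologicalComplex.homologyMap ((T.mapHomologicalComplex _).map φ) i ≫ δ a b w hI J i :=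
  HomologicalComplex.HomologySequence.δ_naturality (scMap a b w φ) _ _ i (i + 1) rfl

lemma isIso_δ [M.PreservesHomology] {X : C} (I : InjectiveResolution X) (i : ℕ) :
    IsIso (δ a b w hI I (i + 1)) :=
  (scC_shortExact a b w hI I).isIso_δ (i + 1) (i + 2) rfl (isZero_homology_succ I i)
    (isZero_homology_succ I (i + 1))

lemma epi_δ [M.PreservesHomology] {X : C} (I : InjectiveResolution X) (i : ℕ) :
    Epi (δ a b w hI I i) :=
  (scC_shortExact a b w hI I).epi_δ i (i + 1) rfl (isZero_homology_succ I i)

variable [HasInjectiveResolutions C]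

/-- The connecting natural transformation `R^i T ⟶ R^{i+1} Γ`. -/
noncomputable def δN (i : ℕ) : T.rightDerived i ⟶ Γ.rightDerived (i + 1) where
  app X := ((injectiveResolution X).isoRightDerivedObj T i).hom ≫
    δ a b w hI (injectiveResolution X) i ≫
      ((injectiveResolution X).isoRightDerivedObj Γ (i + 1)).inv
  naturality X Y f := by
    have h1 := InjectiveResolution.isoRightDerivedObj_hom_naturality f (injectiveResolution X)
      (injectiveResolution Y) (InjectiveResolution.desc f _ _)
      (InjectiveResolution.desc_commutes_zero f _ _) T i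
    have h2 := InjectiveResolution.isoRightDerivedObj_inv_naturality f (injectiveResolution X)
      (injectiveResolution Y) (InjectiveResolution.desc f _ _)
      (InjectiveResolution.desc_commutes_zero f _ _) Γ (i + 1)
    have h3 := δ_naturality a b w hI (injectiveResolution X) (injectiveResolution Y)
      (InjectiveResolution.desc f _ _) i
    refine (Category.assoc _ _ _).symm.trans ?_
    refine (congrArg (· ≫ _) h1).trans ?_
    refine (Category.assoc _ _ _).trans ?_
    refine Eq.trans ?_ (Category.assoc _ _ _).symm
    refine congrArg (((injectiveResolution X).isoRightDerivedObj T i).hom ≫ ·) ?_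
    refine Eq.trans ?_ (Category.assoc _ _ _).symm
    refine Eq.trans ?_ (congrArg (δ a b w hI (injectiveResolution X) i ≫ ·) h2.symm)
    refine (Category.assoc _ _ _).symm.trans ?_
    refine Eq.trans ?_ (Category.assoc _ _ _)
    exact congrArg (· ≫ ((injectiveResolution Y).isoRightDerivedObj Γ (i + 1)).inv) h3.symm

instance isIso_δN [M.PreservesHomology] (i : ℕ) : IsIso (δN a b w hI (i + 1)) := by
  have : ∀ X, IsIso ((δN a b w hI (i + 1)).app X) := fun X => by
    have := isIso_δ a b w hI (injectiveResolution X) i
    dsimp only [δN]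
    exact IsIso.comp_isIso' (Iso.isIso_hom _) (IsIso.comp_isIso' this (Iso.isIso_inv _))
  exact NatIso.isIso_of_isIso_app _

/-- Dimension shifting: `R^{i+2} Γ ≅ R^{i+1} T`. -/
noncomputable def shiftIso [M.PreservesHomology] (i : ℕ) :
    Γ.rightDerived (i + 2) ≅ T.rightDerived (i + 1) :=
  (asIso (δN a b w hI (i + 1))).symm

omit [Abelian C] in
/-- Exactness of a short complex of functors can be checked pointwise. -/
lemma exact_of_eval (S : ShortComplex (C ⥤ D))
    (h : ∀ X : C, (S.map ((evaluation C D).obj X)).Exact) : S.Exact := by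
  simp only [ShortComplex.exact_iff_isZero_homology] at h
  rw [ShortComplex.exact_iff_isZero_homology, Functor.isZero_iff]
  intro X
  exact IsZero.of_iso (h X) (S.mapHomologyIso ((evaluation C D).obj X)).symm

section DegreeOne

variable [PreservesFiniteLimits M] [PreservesFiniteLimits T] [M.PreservesHomology]

/-- The natural map `T ⟶ R^1 Γ`. -/
noncomputable def θ : T ⟶ Γ.rightDerived 1 := T.toRightDerivedZero ≫ δN a b w hI 0

/-- `F X ≅ H^0(F I)` for a left exact functor. -/
noncomputable def h0 (F : C ⥤ D) [F.Additive] [PreservesFiniteLimits F] {X : C}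
    (I : InjectiveResolution X) :
    F.obj X ≅ ((F.mapHomologicalComplex _).obj I.cocomplex).homology 0 :=
  asIso (I.toRightDerivedZero' F) ≪≫ (CochainComplex.isoHomologyπ₀ _)

lemma h0_comm {X : C} (I : InjectiveResolution X) :
    b.app X ≫ (h0 T I).hom = (h0 M I).hom ≫
      HomologicalComplex.homologyMap ((NatTrans.mapHomologicalComplex b _).app I.cocomplex) 0 := by
  dsimp only [h0, Iso.trans_hom, asIso_hom]
  have e : b.app X ≫ I.toRightDerivedZero' T = I.toRightDerivedZero' M ≫
      HomologicalComplex.cyclesMap ((NatTrans.mapHomologicalComplex b _).app I.cocomplex) 0 := by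
    rw [← cancel_mono (HomologicalComplex.iCycles _ _)]
    simp only [Category.assoc, InjectiveResolution.toRightDerivedZero'_comp_iCycles,
      HomologicalComplex.cyclesMap_i, NatTrans.mapHomologicalComplex_app_f]
    refine Eq.trans ?_ (Category.assoc _ _ _)
    rw [InjectiveResolution.toRightDerivedZero'_comp_iCycles]
    exact (b.naturality _).symm
  rw [reassoc_of% e, Category.assoc]
  congr 1
  exact (HomologicalComplex.homologyπ_naturality _ _).symm

lemma θ_app (X : C) : (θ a b w hI).app X = (h0 T (injectiveResolution X)).hom ≫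
    δ a b w hI (injectiveResolution X) 0 ≫
      ((injectiveResolution X).isoRightDerivedObj Γ 1).inv := by
  dsimp only [θ, NatTrans.comp_app, δN, h0, Iso.trans_hom, asIso_hom]
  rw [(injectiveResolution X).toRightDerivedZero_eq T]
  refine (Category.assoc _ _ _).trans ?_
  refine Eq.trans ?_ (Category.assoc _ _ _).symm
  refine congrArg (_ ≫ ·) ?_
  refine (Category.assoc _ _ _).trans ?_
  refine congrArg (_ ≫ ·) ?_
  exact Iso.inv_hom_id_assoc _ _

lemma b_comp_θ_app (X : C) : b.app X ≫ (θ a b w hI).app X = 0 := by
  rw [θ_app, reassoc_of% (h0_comm b (injectiveResolution X))]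
  have h := (scC_shortExact a b w hI (injectiveResolution X)).comp_δ 0 1 rfl
  change HomologicalComplex.homologyMap
    ((NatTrans.mapHomologicalComplex b _).app (injectiveResolution X).cocomplex) 0 ≫
      δ a b w hI (injectiveResolution X) 0 = 0 at h
  exact (congrArg ((h0 M _).hom ≫ ·) ((Category.assoc _ _ _).symm.trans
    ((congrArg (· ≫ _) h).trans zero_comp))).trans comp_zero

lemma b_comp_θ : b ≫ θ a b w hI = 0 := by
  ext X
  exact b_comp_θ_app a b w hI X

/-- The short complex of functors `M ⟶ T ⟶ R^1 Γ`. -/
noncomputable def scF : ShortComplex (C ⥤ D) :=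
  ShortComplex.mk b (θ a b w hI) (b_comp_θ a b w hI)

lemma scF_exact : (scF a b w hI).Exact := by
  refine exact_of_eval _ (fun X => ?_)
  have hex := (scC_shortExact a b w hI (injectiveResolution X)).homology_exact₃ 0 1 rfl
  refine ShortComplex.exact_of_iso (ShortComplex.isoMk (h0 M (injectiveResolution X))
    (h0 T (injectiveResolution X)) ((injectiveResolution X).isoRightDerivedObj Γ 1) ?_ ?_).symm hex
  · exact (h0_comm b (injectiveResolution X)).symm
  · change (h0 T (injectiveResolution X)).hom ≫ δ a b w hI (injectiveResolution X) 0 =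
      (θ a b w hI).app X ≫ ((injectiveResolution X).isoRightDerivedObj Γ 1).hom
    rw [θ_app]
    refine Eq.trans ?_ (Category.assoc _ _ _).symm
    refine congrArg (_ ≫ ·) ?_
    refine Eq.trans ?_ (Category.assoc _ _ _).symm
    exact ((congrArg (_ ≫ ·) (Iso.inv_hom_id _)).trans (Category.comp_id _)).symm

instance epi_θ : Epi (θ a b w hI) := by
  have : ∀ X, Epi ((θ a b w hI).app X) := fun X => by
    rw [θ_app]
    have := epi_δ a b w hI (injectiveResolution X) 0
    have h2 : IsIso ((injectiveResolution X).isoRightDerivedObj Γ 1).inv := Iso.isIso_inv _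
    exact epi_comp' (inferInstance) (epi_comp' this (@IsIso.epi_of_iso _ _ _ _ _ h2))
  exact NatTrans.epi_of_epi_app _

/-- `R^1 Γ` is the cokernel of `b : M ⟶ T`. -/
noncomputable def cokerIso : cokernel b ≅ Γ.rightDerived 1 :=
  haveI : Epi (scF a b w hI).g := epi_θ a b w hI
  IsColimit.coconePointUniqueUpToIso (cokernelIsCokernel b) (scF_exact a b w hI).gIsCokernel

end DegreeOne

end Groth.Agent.Lib.Helper5.DerSES
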