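import Groth.Agent.Lib.Helper5.PairPull
import Mathlib.AlgebraicTopology.ExtraDegeneracy
import Mathlib.AlgebraicTopology.CechNerve
import Mathlib.Algebra.Homology.Opposite
import Mathlib.Algebra.Homology.SingleHomology
import Mathlib.Algebra.Homology.QuasiIso
import Mathlib.Topology.Category.TopCat.Limits.Basic

/-!
# The Čech complex of cohomology groups of a map with a section

For `f : X ⟶ S` with a section `s` and an abelian sheaf `F` on `S`, the groups
`H^q(X_k, F|X_k)` (`X_k` the `(k+1)`-fold fibre product) form a cochain complex `K f F q`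
(the alternating coface map complex of the cosimplicial group obtained by applying
`H^q` to the Čech nerve), whose cohomology is `H^q(S, F)` in degree `0` and `0` in positive
degrees (by the extra degeneracy given by the section).
-/

set_option autoImplicit false

universe u

open CategoryTheory CategoryTheory.Limits Opposite TopologicalSpace Simplicial

namespace Groth.Agent.Lib.Helper5.DescentCech

open PairPull

section OverFunctor

variable {S : TopCat.{u}} (F : CohTop.Ab S)

/-- the canonical map `a⁻¹F ⟶ u_* a'⁻¹ F` for `u ≫ a = a'` -/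
noncomputable def mOver {T T' : TopCat.{u}} (a : T ⟶ S) (u : T' ⟶ T) (a' : T' ⟶ S)
    (h : u ≫ a = a') :
    (CohPull.inv a).obj F ⟶ (CohTop.push u).obj ((CohPull.inv a').obj F) := by
  subst h
  exact flat a (G' := (CohTop.push u).obj ((CohPull.inv (u ≫ a)).obj F))
    ((CohPull.invPushAdj (u ≫ a)).unit.app F)

lemma mOver_id {T : TopCat.{u}} (a : T ⟶ S) (h : 𝟙 T ≫ a = a) :
    mOver F a (𝟙 T) a h = one T ((CohPull.inv a).obj F) :=
  flat_unit a F

lemma mOver_comp {T T' T'' : TopCat.{u}} (a : T ⟶ S) (u : T' ⟶ T) (a' : T' ⟶ S)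
    (h : u ≫ a = a') (u' : T'' ⟶ T') (a'' : T'' ⟶ S) (h' : u' ≫ a' = a'')
    (h'' : (u' ≫ u) ≫ a = a'') :
    mOver F a u a' h ≫ (CohTop.push u).map (mOver F a' u' a'' h') =
      mOver F a (u' ≫ u) a'' h'' := by
  subst h h'
  show flat a (G' := (CohTop.push u).obj ((CohPull.inv (u ≫ a)).obj F))
      ((CohPull.invPushAdj (u ≫ a)).unit.app F) ≫
      (CohTop.push u).map (flat (u ≫ a)
        (G' := (CohTop.push u').obj ((CohPull.inv (u' ≫ u ≫ a)).obj F))
        ((CohPull.invPushAdj (u' ≫ u ≫ a)).unit.app F)) =
    flat a (G' := (CohTop.push (u' ≫ u)).obj ((CohPull.inv ((u' ≫ u) ≫ a)).obj F))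
      ((CohPull.invPushAdj ((u' ≫ u) ≫ a)).unit.app F)
  rw [← flat_comp_right]
  congr 1
  exact unit_flat (u ≫ a) _

/-- `H^q` of the inverse image of `F`, as a functor on spaces over `S` -/
noncomputable def Phi (q : ℕ) : (Over S)ᵒᵖ ⥤ AddCommGrpCat.{u} where
  obj A := AddCommGrpCat.of (Sheaf.H ((CohPull.inv A.unop.hom).obj F) q)
  map {A B} u := AddCommGrpCat.ofHom
    (P u.unop.left (mOver F A.unop.hom u.unop.left B.unop.hom (Over.w u.unop)) q)
  map_id A := by
    ext x
    have h1 : mOver F A.unop.hom (𝟙 A.unop.left) A.unop.hom (Over.w (𝟙 A.unop)) =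
        one A.unop.left ((CohPull.inv A.unop.hom).obj F) := mOver_id F _ _
    show P (𝟙 A.unop.left) (mOver F A.unop.hom (𝟙 A.unop.left) A.unop.hom _) q x = x
    rw [h1]
    exact P_one _ _ q x
  map_comp {A B D} u v := by
    ext x
    show P (v.unop.left ≫ u.unop.left)
        (mOver F A.unop.hom (v.unop.left ≫ u.unop.left) D.unop.hom (Over.w (v.unop ≫ u.unop))) q x =
      P v.unop.left (mOver F B.unop.hom v.unop.left D.unop.hom (Over.w v.unop)) q
        (P u.unop.left (mOver F A.unop.hom u.unop.left B.unop.hom (Over.w u.unop)) q x)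
    rw [P_comp]
    exact congrArg (fun t => P (v.unop.left ≫ u.unop.left)
      (G' := (CohPull.inv D.unop.hom).obj F) t q x)
      (mOver_comp F A.unop.hom u.unop.left B.unop.hom (Over.w u.unop) v.unop.left D.unop.hom
        (Over.w v.unop) (Over.w (v.unop ≫ u.unop))).symm

/-- the inverse image along the identity -/
noncomputable def invOneIso : (CohPull.inv (𝟙 S)).obj F ≅ F where
  hom := (rho S).app F
  inv := (CohPull.invPushAdj (𝟙 S)).unit.app F
  hom_inv_id := by
    have h1 : (CohPull.invPushAdj (𝟙 S)).unit.app F ≫ (rho S).app F = 𝟙 F :=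
      unit_flat (𝟙 S) (one S F)
    apply ((CohPull.invPushAdj (𝟙 S)).homEquiv F _).injective
    refine ((CohPull.invPushAdj (𝟙 S)).homEquiv_unit F _ _).trans ?_
    refine Eq.trans ?_ ((CohPull.invPushAdj (𝟙 S)).homEquiv_unit F _ _).symm
    have h2 : (CohPull.invPushAdj (𝟙 S)).unit.app F ≫
        ((rho S).app F ≫ (CohPull.invPushAdj (𝟙 S)).unit.app F) =
        (CohPull.invPushAdj (𝟙 S)).unit.app F := by
      rw [← Category.assoc, h1]
      exact Category.id_comp _
    refine h2.trans ?_
    exact (Category.comp_id _).symm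
  inv_hom_id := unit_flat (𝟙 S) (one S F)

end OverFunctor

section Cech

variable {X S : TopCat.{u}} (f : X ⟶ S)

/-- the augmented Čech nerve of `f` -/
noncomputable abbrev cech : SimplicialObject.Augmented TopCat.{u} :=
  (Arrow.mk f).augmentedCechNerve

/-- the augmented Čech nerve of `f`, as an augmented simplicial space over `S` -/
noncomputable def cechOver : SimplicialObject.Augmented (Over S) where
  left := Over.lift (cech f).left (cech f).hom
  right := Over.mk (𝟙 S)
  hom :=
    { app := fun n => Over.homMk ((cech f).hom.app n) (Category.comp_id _)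
      naturality := fun n m θ => by
        apply Over.OverMorphism.ext
        exact (cech f).hom.naturality θ }

variable (s : S ⟶ X) (hs : s ≫ f = 𝟙 S)

/-- the extra degeneracy of the Čech nerve given by the section -/
noncomputable def edTop : SimplicialObject.Augmented.ExtraDegeneracy (cech f) :=
  Arrow.AugmentedCechNerve.extraDegeneracy (Arrow.mk f) ⟨s, hs⟩

/-- the extra degeneracy over `S` -/
noncomputable def edOver : SimplicialObject.Augmented.ExtraDegeneracy (cechOver f) where
  s' := Over.homMk (edTop f s hs).s' (edTop f s hs).s'_comp_ε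
  s n := Over.homMk ((edTop f s hs).s n)
    (Arrow.AugmentedCechNerve.ExtraDegeneracy.s_comp_base (Arrow.mk f) ⟨s, hs⟩ n)
  s'_comp_ε := by
    apply Over.OverMorphism.ext
    exact (edTop f s hs).s'_comp_ε
  s₀_comp_δ₁ := by
    apply Over.OverMorphism.ext
    exact (edTop f s hs).s₀_comp_δ₁
  s_comp_δ₀ n := by
    apply Over.OverMorphism.ext
    exact (edTop f s hs).s_comp_δ₀ n
  s_comp_δ n i := by
    apply Over.OverMorphism.ext
    exact (edTop f s hs).s_comp_δ n i
  s_comp_σ n i := by
    apply Over.OverMorphism.ext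
    exact (edTop f s hs).s_comp_σ n i

variable (F : CohTop.Ab S) (q : ℕ)

/-- the augmented simplicial object of cohomology groups, in the opposite category -/
noncomputable def Y : SimplicialObject.Augmented AddCommGrpCat.{u}ᵒᵖ :=
  ((SimplicialObject.Augmented.whiskering _ _).obj (Phi F q).rightOp).obj (cechOver f)

/-- its extra degeneracy -/
noncomputable def edY : SimplicialObject.Augmented.ExtraDegeneracy (Y f F q) :=
  (edOver f s hs).map (Phi F q).rightOp

/-- the chain complex in the opposite category -/
noncomputable def L : ChainComplex AddCommGrpCat.{u}ᵒᵖ ℕ :=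
  AlgebraicTopology.AlternatingFaceMapComplex.obj
    (SimplicialObject.Augmented.drop.obj (Y f F q))

/-- the Čech complex of the cohomology groups `H^q(X_k, F|X_k)` -/
noncomputable def K : CochainComplex AddCommGrpCat.{u} ℕ := (L f F q).unop

lemma K_X (k : ℕ) : (K f F q).X k = AddCommGrpCat.of (CohTop.H ((CohTop.pull
    (WidePullback.base (fun _ : Fin (k + 1) => f) :
      widePullback S (fun _ : Fin (k + 1) => X) (fun _ => f) ⟶ S)).obj F) q) := rfl

include hs in
lemma isZero_K_homology (k : ℕ) : IsZero ((K f F q).homology (k + 1)) := by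
  have he := (edY f s hs F q).homotopyEquiv
  have h1 : IsZero ((L f F q).homology (k + 1)) :=
    (HomologicalComplex.isZero_single_obj_homology (ComplexShape.down ℕ) 0 _ (k + 1)
      (Nat.succ_ne_zero k)).of_iso (he.toHomologyIso (k + 1))
  exact h1.unop.of_iso (HomologicalComplex.homologyUnop (L f F q) (k + 1))

include hs in
lemma nonempty_K_homology_zero_iso :
    Nonempty ((K f F q).homology 0 ≅ AddCommGrpCat.of (Sheaf.H F q)) := by
  have he := (edY f s hs F q).homotopyEquiv
  let e1 := HomologicalComplex.homologyUnop (L f F q) 0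
  let e2 := (he.toHomologyIso 0).unop
  let e3 := (HomologicalComplex.singleObjHomologySelfIso (ComplexShape.down ℕ) 0
    (SimplicialObject.Augmented.point.obj (Y f F q))).unop
  let e4 : unop (SimplicialObject.Augmented.point.obj (Y f F q)) ≅
      AddCommGrpCat.of (Sheaf.H F q) :=
    (Sheaf.functorH (Opens.grothendieckTopology S) q).mapIso (invOneIso F)
  exact ⟨e1 ≪≫ e2.symm ≪≫ e3.symm ≪≫ e4⟩

end Cech

end Groth.Agent.Lib.Helper5.DescentCech
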