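import Groth.Agent.Lib.Helper5.DimOneScheme
import Groth.Agent.Lib.Helper29.QCohAss

/-!
# Quasi-compact opens of a scheme with Noetherian local rings of dimension `≤ 1` are affine
inside affine opens; retrocompact open immersions into such schemes are affine morphisms.
-/

set_option autoImplicit false
universe u
open CategoryTheory AlgebraicGeometry TopologicalSpace

namespace Groth.Agent.Lib.Helper5.DimOneAffine

open Groth.Agent.Lib.Helper5.DimOneScheme Groth.Agent.Lib.Helper29.QCoh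

variable {X : Scheme.{u}}

theorem isAffineOpen_inf {W₀ : X.Opens} (hW₀ : IsAffineOpen W₀) (U : X.Opens)
    (hc : IsCompact (hW₀.fromSpec ⁻¹' (U : Set X)))
    (hX : ∀ x ∈ W₀, IsNoetherianRing (X.presheaf.stalk x) ∧
      ringKrullDim (X.presheaf.stalk x) ≤ 1) :
    IsAffineOpen (U ⊓ W₀) := by
  have key : ∀ x : W₀, ∃ s g : Γ(X, W₀), x.1 ∈ X.basicOpen s ∧
      U ⊓ X.basicOpen s = X.basicOpen (g * s) := by
    intro x
    haveI := (hX x.1 x.2).1
    exact exists_basicOpen_principal hW₀ U hc x.1 x.2 (hX x.1 x.2).2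
  choose σ γ hσ hγ using key
  have hspan : Ideal.span (Set.range σ) = ⊤ := by
    by_contra hne
    obtain ⟨m, hm, hle⟩ := Ideal.exists_le_maximal _ hne
    obtain ⟨y, hy, hym⟩ := exists_point_of_prime' hW₀
      (⟨m, hm.isPrime⟩ : PrimeSpectrum Γ(X, W₀))
    have h1 := (mem_basicOpen_iff_notMem_primeIdealOf hW₀ y hy (σ ⟨y, hy⟩)).1 (hσ ⟨y, hy⟩)
    rw [hym] at h1
    exact h1 (hle (Ideal.subset_span ⟨⟨y, hy⟩, rfl⟩))
  refine isAffineOpen_of_isAffineOpen_basicOpen (U ⊓ W₀)
    ((X.presheaf.map (homOfLE (inf_le_right : U ⊓ W₀ ≤ W₀)).op).hom '' Set.range σ) ?_ ?_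
  · rw [← Ideal.map_span, hspan, Ideal.map_top]
  · rintro _ ⟨_, ⟨x, rfl⟩, rfl⟩
    have hb : X.basicOpen ((X.presheaf.map (homOfLE (inf_le_right : U ⊓ W₀ ≤ W₀)).op).hom (σ x)) =
        (U ⊓ W₀) ⊓ X.basicOpen (σ x) :=
      Scheme.basicOpen_res X (σ x) (homOfLE (inf_le_right : U ⊓ W₀ ≤ W₀)).op
    have hb2 : (U ⊓ W₀) ⊓ X.basicOpen (σ x) = U ⊓ X.basicOpen (σ x) := by
      rw [inf_assoc, inf_eq_right.2 (X.basicOpen_le (σ x))]
    rw [hb, hb2, hγ x]
    exact hW₀.basicOpen _

/-- a retrocompact open immersion into a scheme whose local rings are Noetherian of dimension at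
most one is an affine morphism -/
theorem isAffineHom_ι (U : X.Opens) [QuasiCompact U.ι]
    (hX : ∀ x : X, IsNoetherianRing (X.presheaf.stalk x) ∧
      ringKrullDim (X.presheaf.stalk x) ≤ 1) : IsAffineHom U.ι := by
  refine ⟨fun W hW => ?_⟩
  have hcUW : IsCompact ((U : Set X) ∩ (W : Set X)) := by
    have h1 : IsCompact (U.ι ⁻¹' (W : Set X)) :=
      QuasiCompact.isCompact_preimage (f := U.ι) _ W.2 hW.isCompact
    have h2 := h1.image U.ι.continuous
    rw [Set.image_preimage_eq_inter_range] at h2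
    have h3 : Set.range U.ι = (U : Set X) := by
      have := congrArg (fun V : X.Opens => (V : Set X)) U.opensRange_ι
      exact this
    rw [h3, Set.inter_comm] at h2
    exact h2
  have hc : IsCompact (hW.fromSpec ⁻¹' (U : Set X)) := by
    have h1 : hW.fromSpec ⁻¹' (U : Set X) = hW.fromSpec ⁻¹' ((U : Set X) ∩ (W : Set X)) := by
      ext r
      constructor
      · intro hr
        refine ⟨hr, ?_⟩
        have : hW.fromSpec r ∈ Set.range hW.fromSpec := ⟨r, rfl⟩
        rw [hW.range_fromSpec] at this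
        exact this
      · intro hr
        exact hr.1
    rw [h1]
    refine hW.fromSpec.isOpenEmbedding.isInducing.isCompact_preimage' hcUW ?_
    rw [hW.range_fromSpec]
    exact Set.inter_subset_right
  have h1 : IsAffineOpen (U ⊓ W) := isAffineOpen_inf hW U hc (fun x _ => hX x)
  have h2 : IsAffineOpen (U.ι ⁻¹ᵁ (U ⊓ W)) :=
    h1.preimage_of_isOpenImmersion U.ι (by rw [U.opensRange_ι]; exact inf_le_left)
  have h3 : U.ι ⁻¹ᵁ (U ⊓ W) = U.ι ⁻¹ᵁ W := by
    apply Opens.ext
    ext y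
    constructor
    · intro hy
      exact hy.2
    · intro hy
      exact ⟨y.2, hy⟩
  rw [← h3]
  exact h2

end Groth.Agent.Lib.Helper5.DimOneAffine
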