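import Mathlib.Algebra.Group.Hom.Defs
import Mathlib.Algebra.Group.Basic
import Mathlib.Order.Basic
import Mathlib.Tactic

/-!
# A five lemma for directed systems

For directed systems `G¹ → G² → G³ → G⁴ → G⁵` of exact sequences of abelian groups indexed by `ℕ`
with compatible maps to an exact sequence `B¹ → … → B⁵`: if the comparison maps are
"colimit-bijective" in positions `1, 2, 4, 5`, they are in position `3`.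
-/

set_option autoImplicit false

universe u

namespace Groth.Agent.Lib.Helper5.DirLimFive

/-- A compatible family of maps `c n : G n → B` out of a directed system identifies `B` with the
colimit. -/
structure CB {G : ℕ → Type u} [∀ n, AddCommGroup (G n)] {B : Type u} [AddCommGroup B]
    (τ : ∀ n m, n ≤ m → (G n →+ G m)) (c : ∀ n, G n →+ B) : Prop where
  inj : ∀ (n : ℕ) (x : G n), c n x = 0 → ∃ (m : ℕ) (h : n ≤ m), τ n m h x = 0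
  surj : ∀ y : B, ∃ (n : ℕ) (x : G n), c n x = y

section

variable {G₁ G₂ G₃ G₄ G₅ : ℕ → Type u}
  [∀ n, AddCommGroup (G₁ n)] [∀ n, AddCommGroup (G₂ n)] [∀ n, AddCommGroup (G₃ n)]
  [∀ n, AddCommGroup (G₄ n)] [∀ n, AddCommGroup (G₅ n)]
  {B₁ B₂ B₃ B₄ B₅ : Type u}
  [AddCommGroup B₁] [AddCommGroup B₂] [AddCommGroup B₃] [AddCommGroup B₄] [AddCommGroup B₅]
  (τ₁ : ∀ n m, n ≤ m → (G₁ n →+ G₁ m)) (τ₂ : ∀ n m, n ≤ m → (G₂ n →+ G₂ m))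
  (τ₃ : ∀ n m, n ≤ m → (G₃ n →+ G₃ m)) (τ₄ : ∀ n m, n ≤ m → (G₄ n →+ G₄ m))
  (τ₅ : ∀ n m, n ≤ m → (G₅ n →+ G₅ m))
  (c₁ : ∀ n, G₁ n →+ B₁) (c₂ : ∀ n, G₂ n →+ B₂) (c₃ : ∀ n, G₃ n →+ B₃) (c₄ : ∀ n, G₄ n →+ B₄)
  (c₅ : ∀ n, G₅ n →+ B₅)
  (a₁ : ∀ n, G₁ n →+ G₂ n) (a₂ : ∀ n, G₂ n →+ G₃ n) (a₃ : ∀ n, G₃ n →+ G₄ n)
  (a₄ : ∀ n, G₄ n →+ G₅ n)
  (b₁ : B₁ →+ B₂) (b₂ : B₂ →+ B₃) (b₃ : B₃ →+ B₄) (b₄ : B₄ →+ B₅)

include τ₁ τ₂ τ₃ τ₄ τ₅ c₁ c₂ c₃ c₄ c₅ a₁ a₂ a₃ a₄ b₁ b₂ b₃ b₄ in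
/-- The five lemma for directed systems. -/
theorem cb_three
    -- functoriality of the transition maps
    (t₂ : ∀ n m k (h : n ≤ m) (h' : m ≤ k) (x : G₂ n), τ₂ m k h' (τ₂ n m h x) = τ₂ n k (h.trans h') x)
    (t₃ : ∀ n m k (h : n ≤ m) (h' : m ≤ k) (x : G₃ n), τ₃ m k h' (τ₃ n m h x) = τ₃ n k (h.trans h') x)
    -- compatibility of `c` with the transition maps
    (ct₂ : ∀ n m (h : n ≤ m) (x : G₂ n), c₂ m (τ₂ n m h x) = c₂ n x)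
    (ct₃ : ∀ n m (h : n ≤ m) (x : G₃ n), c₃ m (τ₃ n m h x) = c₃ n x)
    (ct₄ : ∀ n m (h : n ≤ m) (x : G₄ n), c₄ m (τ₄ n m h x) = c₄ n x)
    -- the horizontal maps commute with the transition maps
    (at₁ : ∀ n m (h : n ≤ m) (x : G₁ n), a₁ m (τ₁ n m h x) = τ₂ n m h (a₁ n x))
    (at₂ : ∀ n m (h : n ≤ m) (x : G₂ n), a₂ m (τ₂ n m h x) = τ₃ n m h (a₂ n x))
    (at₃ : ∀ n m (h : n ≤ m) (x : G₃ n), a₃ m (τ₃ n m h x) = τ₄ n m h (a₃ n x))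
    (at₄ : ∀ n m (h : n ≤ m) (x : G₄ n), a₄ m (τ₄ n m h x) = τ₅ n m h (a₄ n x))
    -- the comparison maps commute with the horizontal maps
    (ca₁ : ∀ n (x : G₁ n), c₂ n (a₁ n x) = b₁ (c₁ n x))
    (ca₂ : ∀ n (x : G₂ n), c₃ n (a₂ n x) = b₂ (c₂ n x))
    (ca₃ : ∀ n (x : G₃ n), c₄ n (a₃ n x) = b₃ (c₃ n x))
    (ca₄ : ∀ n (x : G₄ n), c₅ n (a₄ n x) = b₄ (c₄ n x))
    -- exactness
    (za : ∀ n (x : G₁ n), a₂ n (a₁ n x) = 0)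
    (ea₃ : ∀ n (x : G₃ n), a₃ n x = 0 → ∃ y, a₂ n y = x)
    (ea₄ : ∀ n (x : G₄ n), a₄ n x = 0 → ∃ y, a₃ n y = x)
    (eb₂ : ∀ x : B₂, b₂ x = 0 → ∃ y, b₁ y = x)
    (eb₃ : ∀ x : B₃, b₃ x = 0 → ∃ y, b₂ y = x)
    (zb₄ : ∀ x : B₃, b₄ (b₃ x) = 0)
    -- hypotheses on the outer comparison maps
    (s₁ : ∀ y : B₁, ∃ (n : ℕ) (x : G₁ n), c₁ n x = y)
    (h₂ : CB τ₂ c₂) (h₄ : CB τ₄ c₄)
    (i₅ : ∀ (n : ℕ) (x : G₅ n), c₅ n x = 0 → ∃ (m : ℕ) (h : n ≤ m), τ₅ n m h x = 0) :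
    CB τ₃ c₃ := by
  constructor
  · intro n x hx
    -- `a₃ x` dies at a later stage
    obtain ⟨m, hm, hm0⟩ := h₄.inj n (a₃ n x) (by rw [ca₃, hx, map_zero])
    rw [← at₃] at hm0
    obtain ⟨x₂, hx₂⟩ := ea₃ m _ hm0
    have hc : b₂ (c₂ m x₂) = 0 := by rw [← ca₂, hx₂, ct₃, hx]
    obtain ⟨z₁, hz₁⟩ := eb₂ _ hc
    obtain ⟨k, x₁, hx₁⟩ := s₁ z₁
    -- compare at stage `l = max m k`
    have hml : m ≤ max m k := le_max_left _ _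
    have hkl : k ≤ max m k := le_max_right _ _
    have hd : c₂ (max m k) (τ₂ m _ hml x₂ - τ₂ k _ hkl (a₁ k x₁)) = 0 := by
      rw [map_sub, ct₂, ct₂, ca₁, hx₁, hz₁, sub_self]
    obtain ⟨l, hl, hl0⟩ := h₂.inj _ _ hd
    rw [map_sub, t₂, t₂, sub_eq_zero] at hl0
    refine ⟨l, hm.trans (hml.trans hl), ?_⟩
    have e1 : τ₃ n l (hm.trans (hml.trans hl)) x = τ₃ m l (hml.trans hl) (τ₃ n m hm x) :=
      (t₃ n m l hm (hml.trans hl) x).symm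
    rw [e1, ← hx₂, ← at₂, hl0, ← at₁, za]
  · intro y
    obtain ⟨n, x₄, hx₄⟩ := h₄.surj (b₃ y)
    obtain ⟨m, hm, hm0⟩ := i₅ n (a₄ n x₄) (by rw [ca₄, hx₄, zb₄])
    rw [← at₄] at hm0
    obtain ⟨x₃, hx₃⟩ := ea₄ m _ hm0
    have hb : b₃ (y - c₃ m x₃) = 0 := by
      rw [map_sub, ← ca₃, hx₃, ct₄, hx₄, sub_self]
    obtain ⟨z₂, hz₂⟩ := eb₃ _ hb
    obtain ⟨k, x₂, hx₂⟩ := h₂.surj z₂
    have hml : m ≤ max m k := le_max_left _ _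
    have hkl : k ≤ max m k := le_max_right _ _
    refine ⟨max m k, τ₃ m _ hml x₃ + τ₃ k _ hkl (a₂ k x₂), ?_⟩
    rw [map_add, ct₃, ct₃, ca₂, hx₂, hz₂]
    abel

end

end Groth.Agent.Lib.Helper5.DirLimFive
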