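import Mathlib.AlgebraicGeometry.Morphisms.UnderlyingMap
import Mathlib.AlgebraicGeometry.PullbackCarrier

set_option autoImplicit false
universe u

namespace Groth.Agent.Lib.Helper5

open AlgebraicGeometry CategoryTheory Limits

/-- The base change of a dominant morphism along an open map is dominant. -/
theorem isDominant_pullback_snd_of_isOpenMap {X Y U : Scheme.{u}} (f : X ⟶ Y) (g : U ⟶ Y)
    [IsDominant f] (hg : IsOpenMap g) : IsDominant (pullback.snd f g) := by
  refine ⟨?_⟩
  rw [DenseRange, dense_iff_inter_open]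
  intro W hW hWne
  have h1 : IsOpen (g '' W) := hg W hW
  have h2 : (g '' W).Nonempty := hWne.image _
  obtain ⟨_, ⟨u, huW, rfl⟩, x, hx⟩ := f.denseRange.inter_open_nonempty _ h1 h2
  obtain ⟨z, -, hz2⟩ := Scheme.Pullback.exists_preimage_pullback (f := f) (g := g) x u hx
  exact ⟨u, huW, z, hz2⟩

/-- If the base changes of `f` along a jointly surjective family are all dominant, `f` is
dominant. -/
theorem isDominant_of_forall_pullback_snd {X Y : Scheme.{u}} (f : X ⟶ Y) {ι : Type*}
    {U : ι → Scheme.{u}} (g : ∀ i, U i ⟶ Y) (hsurj : ∀ y : Y, ∃ i, y ∈ Set.range (g i))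
    (h : ∀ i, IsDominant (pullback.snd f (g i))) : IsDominant f := by
  refine ⟨?_⟩
  rw [DenseRange, dense_iff_inter_open]
  intro W hW ⟨y, hyW⟩
  obtain ⟨i, u, rfl⟩ := hsurj y
  have h1 : IsOpen ((g i) ⁻¹' W) := hW.preimage (g i).continuous
  obtain ⟨_, hv, z, rfl⟩ := (h i).denseRange.inter_open_nonempty _ h1 ⟨u, hyW⟩
  refine ⟨f (pullback.fst f (g i) z), ?_, _, rfl⟩
  rw [← Scheme.Hom.comp_apply, pullback.condition, Scheme.Hom.comp_apply]
  exact hv

theorem isDominant_of_pullback_snd_of_surjective {X Y U : Scheme.{u}} (f : X ⟶ Y) (g : U ⟶ Y)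
    (hg : Function.Surjective g) [IsDominant (pullback.snd f g)] : IsDominant f :=
  isDominant_of_forall_pullback_snd f (ι := PUnit.{1}) (fun _ => g)
    (fun y => ⟨⟨⟩, hg y⟩) (fun _ => inferInstance)

end Groth.Agent.Lib.Helper5
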