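import Mathlib

/-!
# The exact complex of a sequence of split monomorphisms

Given objects `A n` and split monomorphisms `i n : A n ⟶ A (n + 1)` (with retractions `ρ n`),
we construct a cochain complex `K` with `K.X n = A (n + 1)` whose cohomology is `A 0` in degree
zero and zero in positive degrees.
-/

set_option autoImplicit false

open CategoryTheory Limits

namespace Groth.Agent.Lib.Helper5.SplitCx

universe v u

variable {C : Type u} [Category.{v} C] [Abelian C]

/-- a sequence of split monomorphisms -/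
structure SplitSeq (C : Type u) [Category.{v} C] where
  /-- the objects -/
  A : ℕ → C
  /-- the monomorphisms -/
  i : ∀ n, A n ⟶ A (n + 1)
  /-- the retractions -/
  ρ : ∀ n, A (n + 1) ⟶ A n
  hi : ∀ n, i n ≫ ρ n = 𝟙 (A n)

variable (D : SplitSeq C)

/-- the idempotents -/
noncomputable def c : ∀ n, D.A n ⟶ D.A n
  | 0 => 𝟙 _
  | n + 1 => 𝟙 _ - D.ρ n ≫ c n ≫ D.i n

lemma c_zero : c D 0 = 𝟙 _ := rfl

lemma c_succ (n : ℕ) : c D (n + 1) = 𝟙 _ - D.ρ n ≫ c D n ≫ D.i n := rfl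

lemma hi_assoc (n : ℕ) {Z : C} (g : D.A n ⟶ Z) : D.i n ≫ D.ρ n ≫ g = g := by
  rw [← Category.assoc, D.hi, Category.id_comp]

lemma c_idem : ∀ n, c D n ≫ c D n = c D n
  | 0 => by simp [c_zero]
  | n + 1 => by
    have h := c_idem n
    have h2 : ∀ {Z : C} (g : D.A n ⟶ Z), c D n ≫ c D n ≫ g = c D n ≫ g := fun g => by
      rw [← Category.assoc, h]
    have he : (D.ρ n ≫ c D n ≫ D.i n) ≫ (D.ρ n ≫ c D n ≫ D.i n) = D.ρ n ≫ c D n ≫ D.i n := by
      simp only [Category.assoc, hi_assoc, h2]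
    rw [c_succ]
    simp only [Preadditive.sub_comp, Preadditive.comp_sub, Category.id_comp, Category.comp_id, he]
    abel

lemma c_idem_assoc (n : ℕ) {Z : C} (g : D.A n ⟶ Z) : c D n ≫ c D n ≫ g = c D n ≫ g := by
  rw [← Category.assoc, c_idem]

/-- the differentials -/
noncomputable def d (n : ℕ) : D.A n ⟶ D.A (n + 1) := c D n ≫ D.i n

/-- the contracting homotopy -/
noncomputable def h (n : ℕ) : D.A (n + 1) ⟶ D.A n := D.ρ n ≫ c D n

lemma d_h (n : ℕ) : d D n ≫ h D n = c D n := by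
  unfold d h
  simp only [Category.assoc, hi_assoc, c_idem]

lemma h_d (n : ℕ) : h D n ≫ d D n = 𝟙 _ - c D (n + 1) := by
  unfold d h
  rw [c_succ]
  simp only [Category.assoc, c_idem_assoc]
  abel

lemma d_comp (n : ℕ) : d D n ≫ d D (n + 1) = 0 := by
  have h1 : D.i n ≫ c D (n + 1) = D.i n - c D n ≫ D.i n := by
    rw [c_succ]
    simp only [Preadditive.comp_sub, Category.comp_id, hi_assoc]
  unfold d
  rw [Category.assoc, ← Category.assoc (D.i n), h1]
  simp only [Preadditive.sub_comp, Preadditive.comp_sub, Category.assoc, c_idem_assoc, sub_self]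

lemma c_eq (n : ℕ) : c D n = d D n ≫ D.ρ n := by
  unfold d
  rw [Category.assoc, D.hi, Category.comp_id]

/-- the complex -/
noncomputable def K : CochainComplex C ℕ :=
  CochainComplex.of (fun n => D.A (n + 1)) (fun n => d D (n + 1)) (fun n => d_comp D (n + 1))

lemma K_X (n : ℕ) : (K D).X n = D.A (n + 1) := rfl

lemma K_d (n : ℕ) : (K D).d n (n + 1) = d D (n + 1) := by
  unfold K
  exact CochainComplex.of_d (fun n => D.A (n + 1)) (fun n => d D (n + 1)) n

lemma key (n : ℕ) {T : C} (x : T ⟶ D.A (n + 2)) (hx : x ≫ d D (n + 2) = 0) :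
    x = (x ≫ h D (n + 1)) ≫ d D (n + 1) := by
  have h1 : x ≫ c D (n + 2) = 0 := by
    rw [c_eq, ← Category.assoc, hx, zero_comp]
  rw [Category.assoc, h_d, Preadditive.comp_sub, Category.comp_id, h1, sub_zero]

lemma isZero_homology (n : ℕ) : IsZero ((K D).homology (n + 1)) := by
  rw [← HomologicalComplex.exactAt_iff_isZero_homology,
    HomologicalComplex.exactAt_iff' (K D) n (n + 1) (n + 2) (by simp) (by simp),
    ShortComplex.exact_iff_exact_up_to_refinements]
  intro T x₂ hx₂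
  have hx₂' : (x₂ : T ⟶ D.A (n + 2)) ≫ d D (n + 2) = 0 :=
    (congrArg (fun t => (x₂ : T ⟶ D.A (n + 2)) ≫ t) (K_d D (n + 1)).symm).trans hx₂
  refine ⟨T, 𝟙 T, inferInstance, (x₂ : T ⟶ D.A (n + 2)) ≫ h D (n + 1), ?_⟩
  rw [Category.id_comp]
  exact (key D n x₂ hx₂').trans
    (congrArg (fun t => ((x₂ : T ⟶ D.A (n + 2)) ≫ h D (n + 1)) ≫ t) (K_d D n).symm)

lemma fac_aux {T : C} (t : T ⟶ D.A 1) (ht : t ≫ d D 1 = 0) : (t ≫ D.ρ 0) ≫ D.i 0 = t := by
  have h1 : t ≫ c D 1 = 0 := by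
    rw [c_eq, ← Category.assoc, ht, zero_comp]
  have h2 : D.ρ 0 ≫ D.i 0 = 𝟙 _ - c D 1 := by
    rw [c_succ, c_zero, Category.id_comp]
    exact (sub_sub_cancel _ _).symm
  rw [Category.assoc, h2, Preadditive.comp_sub, Category.comp_id, h1, sub_zero]

lemma uniq_aux {T : C} (m : T ⟶ D.A 0) : m = (m ≫ D.i 0) ≫ D.ρ 0 := by
  rw [Category.assoc, D.hi, Category.comp_id]

lemma i_zero_d : D.i 0 ≫ d D 1 = 0 := by
  have h1 : D.i 0 = d D 0 := by
    unfold d
    rw [c_zero, Category.id_comp]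
  rw [h1]
  exact d_comp D 0

/-- `A 0` is the kernel of the first differential -/
noncomputable def isLimitFork :
    IsLimit (KernelFork.ofι (f := (K D).d 0 1) (D.i 0)
      ((congrArg (fun t => D.i 0 ≫ t) (K_d D 0)).trans (i_zero_d D))) :=
  KernelFork.IsLimit.ofι _ _ (fun t _ => (t : _ ⟶ D.A 1) ≫ D.ρ 0)
    (fun t ht => fac_aux D t ((congrArg (fun s => (t : _ ⟶ D.A 1) ≫ s) (K_d D 0).symm).trans ht))
    (fun t _ m hm => (uniq_aux D m).trans (congrArg (fun s => (s : _ ⟶ D.A 1) ≫ D.ρ 0) hm))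

lemma nonempty_homology_zero_iso : Nonempty ((K D).homology 0 ≅ D.A 0) :=
  ⟨(K D).isoHomologyπ₀.symm ≪≫
    IsLimit.conePointUniqueUpToIso ((K D).cyclesIsKernel 0 1 (by simp)) (isLimitFork D)⟩

/-- a morphism whose composite with another morphism is an isomorphism is a split mono -/
noncomputable def ofIsIsoComp (A : ℕ → C) (i : ∀ n, A n ⟶ A (n + 1)) (g : ∀ n, A (n + 1) ⟶ A n)
    (hig : ∀ n, IsIso (i n ≫ g n)) : SplitSeq C where
  A := A
  i := i
  ρ n := g n ≫ inv (i n ≫ g n)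
  hi n := by
    rw [← Category.assoc]
    exact IsIso.hom_inv_id _

end Groth.Agent.Lib.Helper5.SplitCx
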