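import Groth.Agent.Lib.Helper22.EtLoc.HpullComp
import Groth.Agent.S0101
import Groth.Agent.Lib.Helper5.SplitCx

/-!
# Etale cohomology of the fibre powers of a morphism with a section

For `f : X ⟶ Y` with a section `s` and an abelian étale sheaf `F` on `Y`, the pullback maps
`H^q(X_k, F|X_k) → H^q(X_{k+1}, F|X_{k+1})` along the projections forgetting the last factor are
split monomorphisms (a retraction is induced by the section).  Hence (`SplitCx`) these groups are
the terms of a cochain complex whose cohomology is `H^q(Y, F)` in degree zero and vanishes in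
positive degrees.
-/

set_option autoImplicit false

universe u

open CategoryTheory CategoryTheory.Limits Opposite AlgebraicGeometry Abelian

namespace Groth.Agent.Lib.Helper5.EtDescent

open Groth.Agent.Lib.Helper22.EtLoc

/-- exactness of the inverse image (S0101) -/
scoped instance pullExact {X Y : Scheme.{u}} (f : X ⟶ Y) :
    PreservesFiniteLimits (EtCoh.pull f) := Groth.Agent.S0101.main f

section General

variable {T T' Y : Scheme.{u}}

lemma bijective_H_map_iso {X : Scheme.{u}} {G G' : EtCoh.Ab X} (e : G ≅ G') (p : ℕ) :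
    Function.Bijective (Sheaf.H.map e.hom p) := by
  rw [Function.bijective_iff_has_inverse]
  refine ⟨Sheaf.H.map e.inv p, fun x => ?_, fun x => ?_⟩
  · rw [← Sheaf.H.map_comp_apply, e.hom_inv_id, Sheaf.H.map_id_apply]
  · rw [← Sheaf.H.map_comp_apply, e.inv_hom_id, Sheaf.H.map_id_apply]

/-- the isomorphism used in `HpullVia` -/
noncomputable def viaIso (f : T' ⟶ T) (t : T ⟶ Y) (f₀ : T' ⟶ Y) (w : f ≫ t = f₀)
    (G : EtCoh.Ab Y) : (EtCoh.pull f).obj ((EtCoh.pull t).obj G) ≅ (EtCoh.pull f₀).obj G :=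
  ((EtCore.pullComp f t).symm ≪≫ EtCore.pullCongr w).app G

lemma HpullVia_apply (f : T' ⟶ T) (t : T ⟶ Y) (f₀ : T' ⟶ Y) (w : f ≫ t = f₀)
    (G : EtCoh.Ab Y) (p : ℕ) (x : EtCoh.H T ((EtCoh.pull t).obj G) p) :
    EtCore.HpullVia f t f₀ w G p x =
      Sheaf.H.map (viaIso f t f₀ w G).hom p
        (EtCore.Hpull f ((EtCoh.pull t).obj G) p x) := rfl

lemma Hpull_map (j : T' ⟶ T) {G G' : EtCoh.Ab T} (ψ : G ⟶ G') (p : ℕ) (x : EtCoh.H T G p) :
    EtCore.Hpull j G' p (Sheaf.H.map ψ p x) =
      Sheaf.H.map ((EtCoh.pull j).map ψ) p (EtCore.Hpull j G p x) :=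
  Hpull_naturality j ψ p x

lemma bijective_Hpull_comp (σ : T ⟶ T') (π : T' ⟶ T) (hσπ : σ ≫ π = 𝟙 T) (G : EtCoh.Ab T)
    (p : ℕ) :
    Function.Bijective (fun x : EtCoh.H T G p =>
      EtCore.Hpull σ ((EtCoh.pull π).obj G) p (EtCore.Hpull π G p x)) := by
  have : IsIso (σ ≫ π) := by
    rw [hσπ]
    infer_instance
  have h1 : Function.Bijective (fun x : EtCoh.H T G p => EtCore.Hpull (σ ≫ π) G p x) :=
    Hpull_bijective_of_isIso (σ ≫ π) G p
  have h2 : ∀ x : EtCoh.H T G p,
      Sheaf.H.map (viaIso σ π (σ ≫ π) rfl G).hom p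
        (EtCore.Hpull σ ((EtCoh.pull π).obj G) p (EtCore.Hpull π G p x)) =
      EtCore.Hpull (σ ≫ π) G p x := fun x => HpullVia_Hpull σ π (σ ≫ π) rfl G p x
  have hM := bijective_H_map_iso (viaIso σ π (σ ≫ π) rfl G) p
  have e : (fun y => Sheaf.H.map (viaIso σ π (σ ≫ π) rfl G).hom p y) ∘
      (fun x : EtCoh.H T G p =>
        EtCore.Hpull σ ((EtCoh.pull π).obj G) p (EtCore.Hpull π G p x)) =
      fun x : EtCoh.H T G p => EtCore.Hpull (σ ≫ π) G p x := funext h2
  refine (Function.Bijective.of_comp_iff' hM _).1 ?_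
  rw [e]
  exact h1

/-- pulling back along a map and then along a section of it is bijective -/
lemma bijective_HpullVia_comp (σ : T ⟶ T') (π : T' ⟶ T) (hσπ : σ ≫ π = 𝟙 T) (a : T ⟶ Y)
    (a' : T' ⟶ Y) (h1 : π ≫ a = a') (h2 : σ ≫ a' = a) (F : EtCoh.Ab Y) (p : ℕ) :
    Function.Bijective (fun x : EtCoh.H T ((EtCoh.pull a).obj F) p =>
      EtCore.HpullVia σ a' a h2 F p (EtCore.HpullVia π a a' h1 F p x)) := by
  have hB := bijective_Hpull_comp σ π hσπ ((EtCoh.pull a).obj F) p
  have hM2 := bijective_H_map_iso (viaIso σ a' a h2 F) p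
  have hM1 := bijective_H_map_iso ((EtCoh.pull σ).mapIso (viaIso π a a' h1 F)) p
  have key : ∀ x : EtCoh.H T ((EtCoh.pull a).obj F) p,
      EtCore.HpullVia σ a' a h2 F p (EtCore.HpullVia π a a' h1 F p x) =
      Sheaf.H.map (viaIso σ a' a h2 F).hom p
        (Sheaf.H.map ((EtCoh.pull σ).mapIso (viaIso π a a' h1 F)).hom p
          (EtCore.Hpull σ ((EtCoh.pull π).obj ((EtCoh.pull a).obj F)) p
            (EtCore.Hpull π ((EtCoh.pull a).obj F) p x))) := by
    intro x
    rw [HpullVia_apply, HpullVia_apply, Hpull_map]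
    rfl
  have h3 := (hM2.comp hM1).comp hB
  have e : (fun x : EtCoh.H T ((EtCoh.pull a).obj F) p =>
      EtCore.HpullVia σ a' a h2 F p (EtCore.HpullVia π a a' h1 F p x)) =
      ((fun y => Sheaf.H.map (viaIso σ a' a h2 F).hom p y) ∘
        (fun y => Sheaf.H.map ((EtCoh.pull σ).mapIso (viaIso π a a' h1 F)).hom p y)) ∘
      (fun x : EtCoh.H T ((EtCoh.pull a).obj F) p =>
        EtCore.Hpull σ ((EtCoh.pull π).obj ((EtCoh.pull a).obj F)) p
          (EtCore.Hpull π ((EtCoh.pull a).obj F) p x)) := funext key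
  rw [e]
  exact h3

end General

section Fibre

variable {X Y : Scheme.{u}} (f : X ⟶ Y) (s : Y ⟶ X) (hs : s ≫ f = 𝟙 Y)

/-- `Y` and the fibre powers of `X` over `Y` -/
noncomputable def B : ℕ → Over Y
  | 0 => Over.mk (𝟙 Y)
  | k + 1 => Over.mk (WidePullback.base (fun _ : Fin (k + 1) => f))

/-- the projections forgetting the last factor -/
noncomputable def pB : ∀ k, B f (k + 1) ⟶ B f k
  | 0 => Over.homMk (WidePullback.base (fun _ : Fin (0 + 1) => f)) (Category.comp_id _)
  | k + 1 => Over.homMk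
      (WidePullback.lift (WidePullback.base (fun _ : Fin (k + 1 + 1) => f))
        (fun i : Fin (k + 1) => WidePullback.π (fun _ : Fin (k + 1 + 1) => f) i.castSucc)
        (fun i => WidePullback.π_arrow _ _))
      (WidePullback.lift_base _ _ _ _)

/-- the sections given by `s` in the last factor -/
noncomputable def sB : ∀ k, B f k ⟶ B f (k + 1)
  | 0 => Over.homMk (WidePullback.lift (𝟙 Y) (fun _ : Fin (0 + 1) => s) (fun _ => hs))
      (WidePullback.lift_base _ _ _ _)
  | k + 1 => Over.homMk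
      (WidePullback.lift (WidePullback.base (fun _ : Fin (k + 1) => f))
        (fun i : Fin (k + 1 + 1) => Fin.lastCases
          (WidePullback.base (fun _ : Fin (k + 1) => f) ≫ s)
          (fun j => WidePullback.π (fun _ : Fin (k + 1) => f) j) i)
        (fun i => by
          refine Fin.lastCases ?_ (fun j => ?_) i
          · rw [Fin.lastCases_last, Category.assoc, hs, Category.comp_id]
          · rw [Fin.lastCases_castSucc]
            exact WidePullback.π_arrow _ _))
      (WidePullback.lift_base _ _ _ _)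

lemma sB_pB : ∀ k, sB f s hs k ≫ pB f k = 𝟙 (B f k)
  | 0 => by
    apply Over.OverMorphism.ext
    exact WidePullback.lift_base _ _ _ _
  | k + 1 => by
    apply Over.OverMorphism.ext
    apply WidePullback.hom_ext
    · intro i
      show (WidePullback.lift _ _ _ ≫ WidePullback.lift _ _ _) ≫ WidePullback.π _ i =
        𝟙 _ ≫ WidePullback.π _ i
      rw [Category.assoc, WidePullback.lift_π, WidePullback.lift_π, Fin.lastCases_castSucc,
        Category.id_comp]
    · show (WidePullback.lift _ _ _ ≫ WidePullback.lift _ _ _) ≫ WidePullback.base _ =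
        𝟙 _ ≫ WidePullback.base _
      rw [Category.assoc, WidePullback.lift_base, WidePullback.lift_base, Category.id_comp]

variable (F : EtCoh.Ab Y) (q : ℕ)

/-- the cohomology groups -/
noncomputable def A (k : ℕ) : AddCommGrpCat.{u + 1} :=
  AddCommGrpCat.of (EtCoh.H (B f k).left ((EtCoh.pull (B f k).hom).obj F) q)

/-- pullback along the projections -/
noncomputable def iA (k : ℕ) : A f F q k ⟶ A f F q (k + 1) :=
  AddCommGrpCat.ofHom (EtCore.HpullVia (pB f k).left (B f k).hom (B f (k + 1)).hom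
    (Over.w (pB f k)) F q)

/-- pullback along the sections -/
noncomputable def gA (k : ℕ) : A f F q (k + 1) ⟶ A f F q k :=
  AddCommGrpCat.ofHom (EtCore.HpullVia (sB f s hs k).left (B f (k + 1)).hom (B f k).hom
    (Over.w (sB f s hs k)) F q)

lemma isIso_iA_gA (k : ℕ) : IsIso (iA f F q k ≫ gA f s hs F q k) := by
  rw [ConcreteCategory.isIso_iff_bijective]
  have h := bijective_HpullVia_comp (sB f s hs k).left (pB f k).left
    (by
      have := congrArg (fun t => t.left) (sB_pB f s hs k)
      exact this)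
    (B f k).hom (B f (k + 1)).hom (Over.w (pB f k)) (Over.w (sB f s hs k)) F q
  exact h

/-- the sequence of split monomorphisms -/
noncomputable def splitSeq : SplitCx.SplitSeq AddCommGrpCat.{u + 1} :=
  SplitCx.ofIsIsoComp (A f F q) (iA f F q) (gA f s hs F q) (isIso_iA_gA f s hs F q)

/-- the complex -/
noncomputable def K : CochainComplex AddCommGrpCat.{u + 1} ℕ := SplitCx.K (splitSeq f s hs F q)

lemma K_X (k : ℕ) : (K f s hs F q).X k = AddCommGrpCat.of
    (EtCoh.H (widePullback Y (fun _ : Fin (k + 1) => X) (fun _ => f))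
      ((EtCoh.pull (WidePullback.base (fun _ : Fin (k + 1) => f) :
        widePullback Y (fun _ : Fin (k + 1) => X) (fun _ => f) ⟶ Y)).obj F) q) := rfl

lemma isZero_K_homology (k : ℕ) : IsZero ((K f s hs F q).homology (k + 1)) :=
  SplitCx.isZero_homology _ k

lemma nonempty_K_homology_zero_iso :
    Nonempty ((K f s hs F q).homology 0 ≅ AddCommGrpCat.of (EtCoh.H Y F q)) := by
  obtain ⟨e⟩ := SplitCx.nonempty_homology_zero_iso (splitSeq f s hs F q)
  have hb : Function.Bijective (EtCore.Hpull (𝟙 Y) F q) := Hpull_bijective_of_isIso (𝟙 Y) F q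
  let e2 : AddCommGrpCat.of (EtCoh.H Y F q) ≅ A f F q 0 :=
    (AddEquiv.ofBijective (EtCore.Hpull (𝟙 Y) F q) hb).toAddCommGrpIso
  exact ⟨e ≪≫ e2.symm⟩

end Fibre

end Groth.Agent.Lib.Helper5.EtDescent
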