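import Groth.Agent.Lib.Helper28.ExtCech
import Groth.Agent.Lib.Helper5.CxDelta

/-!
# The extended Čech complex as an exact functor of the module

`DerCA.extCech M fs` is defined by recursion on `fs` as an iterated mapping cocone of localisation
maps.  We make it functorial in `M` (`cechF fs`), show that the functor is additive and exact, and
construct the natural projection to `M[0]`.
-/

set_option autoImplicit false

universe u

open CategoryTheory CategoryTheory.Limits CochainComplex DerCA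

noncomputable section

namespace Groth.Agent.Lib.Helper5.ExtCechFunctor

variable {R : Type u} [CommRing R]

section Decomp

/-- a biproduct decomposition of a module -/
structure BiDecomp (A K L : ModuleCat.{u} R) where
  i₁ : K ⟶ A
  i₂ : L ⟶ A
  p₁ : A ⟶ K
  p₂ : A ⟶ L
  i₁_p₁ : i₁ ≫ p₁ = 𝟙 _
  i₂_p₂ : i₂ ≫ p₂ = 𝟙 _
  i₁_p₂ : i₁ ≫ p₂ = 0
  i₂_p₁ : i₂ ≫ p₁ = 0
  total : p₁ ≫ i₁ + p₂ ≫ i₂ = 𝟙 _

lemma app_eq {A B : ModuleCat.{u} R} {f g : A ⟶ B} (h : f = g) (x : A) : f.hom x = g.hom x := by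
  rw [h]

namespace BiDecomp

variable {A K L : ModuleCat.{u} R} (d : BiDecomp A K L)

lemma total_apply (x : A) : d.i₁.hom (d.p₁.hom x) + d.i₂.hom (d.p₂.hom x) = x :=
  app_eq d.total x

lemma eq_zero (x : A) (h₁ : d.p₁.hom x = 0) (h₂ : d.p₂.hom x = 0) : x = 0 := by
  rw [← d.total_apply x, h₁, h₂, map_zero, map_zero, add_zero]

lemma p₁_i₁ (k : K) : d.p₁.hom (d.i₁.hom k) = k := app_eq d.i₁_p₁ k
lemma p₂_i₂ (l : L) : d.p₂.hom (d.i₂.hom l) = l := app_eq d.i₂_p₂ l
lemma p₂_i₁ (k : K) : d.p₂.hom (d.i₁.hom k) = 0 := app_eq d.i₁_p₂ k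
lemma p₁_i₂ (l : L) : d.p₁.hom (d.i₂.hom l) = 0 := app_eq d.i₂_p₁ l

end BiDecomp

/-- A short complex decomposing compatibly into two short exact short complexes is short exact. -/
theorem shortExact_of_biDecomp (T TK TL : ShortComplex (ModuleCat.{u} R)) (hK : TK.ShortExact)
    (hL : TL.ShortExact) (d₁ : BiDecomp T.X₁ TK.X₁ TL.X₁) (d₂ : BiDecomp T.X₂ TK.X₂ TL.X₂)
    (d₃ : BiDecomp T.X₃ TK.X₃ TL.X₃)
    (c₁ : d₁.i₁ ≫ T.f = TK.f ≫ d₂.i₁) (c₂ : d₁.i₂ ≫ T.f = TL.f ≫ d₂.i₂)
    (c₃ : d₂.i₁ ≫ T.g = TK.g ≫ d₃.i₁) (c₄ : d₂.i₂ ≫ T.g = TL.g ≫ d₃.i₂) : T.ShortExact := by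
  have c₁' : ∀ k, T.f.hom (d₁.i₁.hom k) = d₂.i₁.hom (TK.f.hom k) := fun k => app_eq c₁ k
  have c₂' : ∀ l, T.f.hom (d₁.i₂.hom l) = d₂.i₂.hom (TL.f.hom l) := fun l => app_eq c₂ l
  have c₃' : ∀ k, T.g.hom (d₂.i₁.hom k) = d₃.i₁.hom (TK.g.hom k) := fun k => app_eq c₃ k
  have c₄' : ∀ l, T.g.hom (d₂.i₂.hom l) = d₃.i₂.hom (TL.g.hom l) := fun l => app_eq c₄ l
  have e₁ : ∀ x, d₂.p₁.hom (T.f.hom x) = TK.f.hom (d₁.p₁.hom x) := fun x => by
    conv_lhs => rw [← d₁.total_apply x]
    rw [map_add, map_add, c₁', c₂', d₂.p₁_i₁, d₂.p₁_i₂, add_zero]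
  have e₂ : ∀ x, d₂.p₂.hom (T.f.hom x) = TL.f.hom (d₁.p₂.hom x) := fun x => by
    conv_lhs => rw [← d₁.total_apply x]
    rw [map_add, map_add, c₁', c₂', d₂.p₂_i₁, d₂.p₂_i₂, zero_add]
  have e₃ : ∀ x, d₃.p₁.hom (T.g.hom x) = TK.g.hom (d₂.p₁.hom x) := fun x => by
    conv_lhs => rw [← d₂.total_apply x]
    rw [map_add, map_add, c₃', c₄', d₃.p₁_i₁, d₃.p₁_i₂, add_zero]
  have e₄ : ∀ x, d₃.p₂.hom (T.g.hom x) = TL.g.hom (d₂.p₂.hom x) := fun x => by
    conv_lhs => rw [← d₂.total_apply x]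
    rw [map_add, map_add, c₃', c₄', d₃.p₂_i₁, d₃.p₂_i₂, zero_add]
  have iK : Function.Injective TK.f.hom := (ModuleCat.mono_iff_injective _).1 hK.mono_f
  have iL : Function.Injective TL.f.hom := (ModuleCat.mono_iff_injective _).1 hL.mono_f
  have sK : Function.Surjective TK.g.hom := (ModuleCat.epi_iff_surjective _).1 hK.epi_g
  have sL : Function.Surjective TL.g.hom := (ModuleCat.epi_iff_surjective _).1 hL.epi_g
  have xK := (ShortComplex.moduleCat_exact_iff TK).1 hK.exact
  have xL := (ShortComplex.moduleCat_exact_iff TL).1 hL.exact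
  refine ShortComplex.ShortExact.mk' ?_ ?_ ?_
  · rw [ShortComplex.moduleCat_exact_iff]
    intro x hx
    obtain ⟨k, hk⟩ := xK (d₂.p₁.hom x) (by rw [← e₃, hx, map_zero])
    obtain ⟨l, hl⟩ := xL (d₂.p₂.hom x) (by rw [← e₄, hx, map_zero])
    refine ⟨d₁.i₁.hom k + d₁.i₂.hom l, ?_⟩
    rw [map_add, c₁', c₂', hk, hl, d₂.total_apply]
  · rw [ModuleCat.mono_iff_injective, injective_iff_map_eq_zero]
    intro x hx
    apply d₁.eq_zero
    · apply iK
      rw [← e₁, hx, map_zero, map_zero]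
    · apply iL
      rw [← e₂, hx, map_zero, map_zero]
  · rw [ModuleCat.epi_iff_surjective]
    intro y
    obtain ⟨k, hk⟩ := sK (d₃.p₁.hom y)
    obtain ⟨l, hl⟩ := sL (d₃.p₂.hom y)
    refine ⟨d₂.i₁.hom k + d₂.i₂.hom l, ?_⟩
    rw [map_add, c₃', c₄', hk, hl, d₃.total_apply]

end Decomp

section Cone

variable {K L : DRing.Cx R} (φ : K ⟶ L)

/-- the decomposition of the terms of a mapping cone -/
def coneDecomp (m : ℤ) : BiDecomp ((mappingCone φ).X m) (K.X (m + 1)) (L.X m) where
  i₁ := (mappingCone.inl φ).v (m + 1) m (by omega)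
  i₂ := (mappingCone.inr φ).f m
  p₁ := (mappingCone.fst φ).1.v m (m + 1) rfl
  p₂ := (mappingCone.snd φ).v m m (add_zero m)
  i₁_p₁ := by simp
  i₂_p₂ := by simp
  i₁_p₂ := by simp
  i₂_p₁ := by simp
  total := mappingCone.id_X φ m (m + 1) rfl

variable {K' L' : DRing.Cx R} (φ' : K' ⟶ L') (a : K ⟶ K') (b : L ⟶ L') (comm : φ ≫ b = a ≫ φ')

lemma coneDecomp_i₁_map (m : ℤ) :
    (coneDecomp φ m).i₁ ≫ (mappingCone.map φ φ' a b comm).f m =
      a.f (m + 1) ≫ (coneDecomp φ' m).i₁ := by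
  simp [coneDecomp, mappingCone.map]

lemma coneDecomp_i₂_map (m : ℤ) :
    (coneDecomp φ m).i₂ ≫ (mappingCone.map φ φ' a b comm).f m =
      b.f m ≫ (coneDecomp φ' m).i₂ := by
  simp [coneDecomp, mappingCone.map]

lemma map_congr {a a' : K ⟶ K'} {b b' : L ⟶ L'} (ha : a = a') (hb : b = b')
    (comm : φ ≫ b = a ≫ φ') :
    mappingCone.map φ φ' a b comm = mappingCone.map φ φ' a' b' (by rw [← ha, ← hb]; exact comm) := by
  subst ha hb
  rfl

end Cone

section ConeFunctor

variable (S : Submonoid R)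

lemma locCxUnit_naturality {K K' : DRing.Cx R} (g : K ⟶ K') :
    locCxUnit S K ≫ (locCx S).map g = g ≫ locCxUnit S K' := by
  apply HomologicalComplex.hom_ext
  intro n
  exact ((locUnit S).naturality (g.f n)).symm

/-- the mapping cone of `K ⟶ K_S`, functorially in `K` -/
def coneFunctor : DRing.Cx R ⥤ DRing.Cx R where
  obj K := mappingCone (locCxUnit S K)
  map {K K'} g := mappingCone.map _ _ g ((locCx S).map g) (locCxUnit_naturality S g)
  map_id K := by
    rw [map_congr _ _ rfl ((locCx S).map_id K)]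
    exact mappingCone.map_id _
  map_comp {K K' K''} g g' := by
    rw [map_congr _ _ rfl ((locCx S).map_comp g g')]
    exact mappingCone.map_comp _ _ _ _ _ _ _ _ _

instance : (coneFunctor S).Additive where
  map_add {K K' g g'} := by
    apply HomologicalComplex.hom_ext
    intro m
    change (mappingCone.map _ _ (g + g') ((locCx S).map (g + g'))
        (locCxUnit_naturality S (g + g'))).f m =
      ((mappingCone.map _ _ g ((locCx S).map g) (locCxUnit_naturality S g)) +
        (mappingCone.map _ _ g' ((locCx S).map g') (locCxUnit_naturality S g'))).f m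
    rw [HomologicalComplex.add_f_apply, mappingCone.ext_from_iff _ (m + 1) m rfl]
    constructor
    · have h1 := coneDecomp_i₁_map (locCxUnit S K) (locCxUnit S K') (g + g')
        ((locCx S).map (g + g')) (locCxUnit_naturality S (g + g')) m
      have h2 := coneDecomp_i₁_map (locCxUnit S K) (locCxUnit S K') g
        ((locCx S).map g) (locCxUnit_naturality S g) m
      have h3 := coneDecomp_i₁_map (locCxUnit S K) (locCxUnit S K') g'
        ((locCx S).map g') (locCxUnit_naturality S g') m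
      rw [Preadditive.comp_add]
      erw [h1, h2, h3]
      rw [HomologicalComplex.add_f_apply, Preadditive.add_comp]
    · have h1 := coneDecomp_i₂_map (locCxUnit S K) (locCxUnit S K') (g + g')
        ((locCx S).map (g + g')) (locCxUnit_naturality S (g + g')) m
      have h2 := coneDecomp_i₂_map (locCxUnit S K) (locCxUnit S K') g
        ((locCx S).map g) (locCxUnit_naturality S g) m
      have h3 := coneDecomp_i₂_map (locCxUnit S K) (locCxUnit S K') g'
        ((locCx S).map g') (locCxUnit_naturality S g') m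
      rw [Preadditive.comp_add]
      erw [h1, h2, h3]
      rw [Functor.map_add, HomologicalComplex.add_f_apply, Preadditive.add_comp]

lemma locFunctor_shortExact (T : ShortComplex (ModuleCat.{u} R)) (hT : T.ShortExact) :
    (T.map (locFunctor S)).ShortExact := by
  haveI := Groth.Agent.Lib.Helper28.ExtCech.preservesHomology_locFunctor S
  haveI : PreservesFiniteLimits (locFunctor S) :=
    Functor.preservesFiniteLimits_of_preservesHomology _
  haveI : PreservesFiniteColimits (locFunctor S) :=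
    Functor.preservesFiniteColimits_of_preservesHomology _
  exact hT.map_of_exact (locFunctor S)

/-- the cone functor is exact -/
theorem coneFunctor_shortExact (T : ShortComplex (DRing.Cx R)) (hT : T.ShortExact) :
    (T.map (coneFunctor S)).ShortExact := by
  rw [HomologicalComplex.shortExact_iff_degreewise_shortExact] at hT ⊢
  intro m
  refine shortExact_of_biDecomp _ (T.map (HomologicalComplex.eval _ _ (m + 1)))
    ((T.map (HomologicalComplex.eval _ _ m)).map (locFunctor S)) (hT (m + 1))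
    (locFunctor_shortExact S _ (hT m))
    (coneDecomp (locCxUnit S T.X₁) m) (coneDecomp (locCxUnit S T.X₂) m)
    (coneDecomp (locCxUnit S T.X₃) m) ?_ ?_ ?_ ?_
  · exact coneDecomp_i₁_map _ _ T.f ((locCx S).map T.f) (locCxUnit_naturality S T.f) m
  · exact coneDecomp_i₂_map _ _ T.f ((locCx S).map T.f) (locCxUnit_naturality S T.f) m
  · exact coneDecomp_i₁_map _ _ T.g ((locCx S).map T.g) (locCxUnit_naturality S T.g) m
  · exact coneDecomp_i₂_map _ _ T.g ((locCx S).map T.g) (locCxUnit_naturality S T.g) m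

/-- the mapping cocone of `K ⟶ K_S`, functorially in `K` -/
def coconeFunctor : DRing.Cx R ⥤ DRing.Cx R :=
  coneFunctor S ⋙ CategoryTheory.shiftFunctor (DRing.Cx R) (-1 : ℤ)

lemma coconeFunctor_obj (K : DRing.Cx R) :
    (coconeFunctor S).obj K = mappingCocone (locCxUnit S K) := rfl

instance : (coconeFunctor S).Additive := by
  unfold coconeFunctor
  infer_instance

theorem coconeFunctor_shortExact (T : ShortComplex (DRing.Cx R)) (hT : T.ShortExact) :
    (T.map (coconeFunctor S)).ShortExact :=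
  (coneFunctor_shortExact S T hT).map_of_exact (CategoryTheory.shiftFunctor (DRing.Cx R) (-1 : ℤ))

end ConeFunctor

end Groth.Agent.Lib.Helper5.ExtCechFunctor
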