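import Groth.Agent.Lib.Helper16.LocCohTorsion
import Groth.Agent.Lib.Helper22.DeltaMV
import Groth.Agent.Lib.Helper22.RightDerivedExact

/-!
# Local cohomology as a universal δ-functor

Using helper16's element-level long exact sequence of local cohomology and helper22/helper25's
universal δ-functor machinery we show that `localCohomology I i` is isomorphic, as a functor, to
the `i`-th right derived functor of the `I`-power-torsion functor `Γ_I`.
-/

set_option autoImplicit false

universe u

open CategoryTheory CategoryTheory.Limits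

noncomputable section

namespace Groth.Agent.Lib.Helper5.LocCohDelta

open Groth.Agent.Lib.Helper16.LC Groth.Agent.Lib.Helper22.DeltaMV Groth.Agent.Lib.Helper22

variable {R : Type u} [CommRing R] (I : Ideal R)

instance additive_localCohomology (p : ℕ) : (localCohomology I p).Additive where
  map_add {A B f g} := by
    apply ModuleCat.hom_ext
    apply LinearMap.ext
    intro x
    obtain ⟨k, e, rfl⟩ := ι_jointly_surjective I p A x
    change Hmap I p (f + g) (ι I p A k e) = Hmap I p f (ι I p A k e) + Hmap I p g (ι I p A k e)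
    rw [Hmap_ι, Hmap_ι, Hmap_ι, Abelian.Ext.mk₀_add, Abelian.Ext.comp_add, map_add]

/-- the connecting morphism as a morphism of modules -/
def δm {S : ShortComplex (ModuleCat.{u} R)} (hS : S.ShortExact) (n₀ n₁ : ℕ) (h : n₀ + 1 = n₁) :
    (localCohomology I n₀).obj S.X₃ ⟶ (localCohomology I n₁).obj S.X₁ := by
  subst h
  exact ModuleCat.ofHom (δ I hS n₀)

lemma δm_apply {S : ShortComplex (ModuleCat.{u} R)} (hS : S.ShortExact) (n₀ : ℕ)
    (x : (localCohomology I n₀).obj S.X₃) :
    (δm I hS n₀ (n₀ + 1) rfl).hom x = δ I hS n₀ x := rfl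

lemma map_apply (p : ℕ) {A B : ModuleCat.{u} R} (f : A ⟶ B) (x : (localCohomology I p).obj A) :
    ((localCohomology I p).map f).hom x = Hmap I p f x := rfl

/-- Local cohomology as a δ-functor. -/
def lcDelta : DeltaF.CohDeltaFunctor (ModuleCat.{u} R) (ModuleCat.{u} R) ℕ where
  F n := localCohomology I n
  additive n := inferInstance
  δ S hS n₀ n₁ h := δm I hS n₀ n₁ h
  δ_natural {S S'} hS hS' φ n₀ n₁ h := by
    subst h
    apply ModuleCat.hom_ext
    apply LinearMap.ext
    intro x
    obtain ⟨k, e, rfl⟩ := ι_jointly_surjective I n₀ S.X₃ x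
    rw [ModuleCat.hom_comp, ModuleCat.hom_comp, LinearMap.comp_apply, LinearMap.comp_apply,
      δm_apply, δm_apply, map_apply, map_apply, Hmap_ι, δ_ι, δ_ι, Hmap_ι,
      Abelian.Ext.comp_assoc_of_second_deg_zero, Abelian.Ext.comp_assoc_of_third_deg_zero,
      ShortComplex.ShortExact.extClass_naturality hS hS' φ]
  exact₂ S hS n := by
    rw [ShortComplex.moduleCat_exact_iff]
    intro x hx
    exact Hmap_exact₂ I hS n x hx
  comp_δ S hS n₀ n₁ h := by
    subst h
    apply ModuleCat.hom_ext
    apply LinearMap.ext
    intro y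
    rw [ModuleCat.hom_comp, LinearMap.comp_apply, δm_apply, map_apply, δ_Hmap_g]
    rfl
  exact₃ S hS n₀ n₁ h := by
    subst h
    rw [ShortComplex.moduleCat_exact_iff]
    intro z hz
    exact Hmap_exact₃ I hS n₀ z hz
  δ_comp S hS n₀ n₁ h := by
    subst h
    apply ModuleCat.hom_ext
    apply LinearMap.ext
    intro z
    rw [ModuleCat.hom_comp, LinearMap.comp_apply, δm_apply, map_apply, Hmap_f_δ]
    rfl
  exact₁ S hS n₀ n₁ h := by
    subst h
    rw [ShortComplex.moduleCat_exact_iff]
    intro x hx
    exact Hmap_exact₁ I hS n₀ x hx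

lemma lcDelta_F (n : ℕ) : (lcDelta I).F n = localCohomology I n := rfl

lemma lcDelta_zeroMono : (lcDelta I).ZeroMono := by
  intro S hS
  rw [ModuleCat.mono_iff_injective]
  exact Hmap_zero_injective I hS

lemma lcDelta_isEffaceable : (lcDelta I).IsEffaceable := by
  intro n X
  refine ⟨Injective.under X, Injective.ι X, inferInstance, ?_⟩
  have hs : Subsingleton ((localCohomology I (n + 1)).obj (Injective.under X)) :=
    subsingleton_H_of_injective I (Injective.under X) n
  apply ModuleCat.hom_ext
  apply LinearMap.ext
  intro x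
  exact @Subsingleton.elim _ hs _ _

/-- `H^0_I ≅ Γ_I` as functors. -/
def H0Iso : localCohomology I 0 ≅ DRing.gammaI I :=
  NatIso.ofComponents
    (fun M =>
      { hom := ModuleCat.ofHom (H0equiv I M).toLinearMap
        inv := ModuleCat.ofHom (H0equiv I M).symm.toLinearMap
        hom_inv_id := by
          apply ModuleCat.hom_ext
          apply LinearMap.ext
          intro x
          exact (H0equiv I M).symm_apply_apply x
        inv_hom_id := by
          apply ModuleCat.hom_ext
          apply LinearMap.ext
          intro x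
          exact (H0equiv I M).apply_symm_apply x })
    (by
      intro M N f
      apply ModuleCat.hom_ext
      apply LinearMap.ext
      intro x
      apply Subtype.ext
      exact H0toM_naturality I f x)

/-- **Local cohomology is the right derived functor of `Γ_I`.** -/
theorem nonempty_rightDerived_gammaI_iso (i : ℕ) :
    Nonempty ((DRing.gammaI I).rightDerived i ≅ localCohomology I i) := by
  refine ⟨DimShift.rightDerivedIsoOfNatIso (H0Iso I).symm i ≪≫
    { hom := (θ (lcDelta I) (lcDelta_isEffaceable I) (lcDelta_zeroMono I)).hom.app i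
      inv := (θ (lcDelta I) (lcDelta_isEffaceable I) (lcDelta_zeroMono I)).inv.app i
      hom_inv_id := ?_
      inv_hom_id := ?_ }⟩
  · have h := congrArg (fun φ : RD ((lcDelta I).F 0) ⟶ RD ((lcDelta I).F 0) => φ.app i)
      (θ (lcDelta I) (lcDelta_isEffaceable I) (lcDelta_zeroMono I)).hom_inv_id
    exact h
  · have h := congrArg (fun φ : lcDelta I ⟶ lcDelta I => φ.app i)
      (θ (lcDelta I) (lcDelta_isEffaceable I) (lcDelta_zeroMono I)).inv_hom_id
    exact h

end Groth.Agent.Lib.Helper5.LocCohDelta
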