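import Groth.Agent.Lib.Helper5.ExtCechFunctor
import Groth.Agent.Lib.Helper5.LocCohDelta
import Groth.Agent.Lib.Helper16.TorsionInjective
import Groth.Agent.S11313
import Mathlib.Algebra.Homology.DerivedCategory.HomologySequence
import Mathlib.Algebra.Homology.SingleHomology

/-!
# The extended Čech complex computes local cohomology

* `cechF fs : ModuleCat R ⥤ DRing.Cx R`, the extended Čech complex as an additive exact functor,
  with `(cechF fs).obj M = extCech M fs`;
* `ρ fs M : H^0(Č_fs(M)) ⟶ M`, natural, injective with image the `(fs)`-power torsion;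
* `H0Iso fs : cechF fs ⋙ H^0 ≅ Γ_I`;
* over a Noetherian ring, `Č_fs(E)` has no higher cohomology for `E` injective;
* hence `H^i(Č_fs(M)) ≅ H^i_I(M)` (universal δ-functors).
-/

set_option autoImplicit false

universe u

open CategoryTheory CategoryTheory.Limits CochainComplex DerCA
open Groth.Agent.Lib.Helper28.ExtCech Groth.Agent.Lib.Helper5.ExtCechFunctor

attribute [local instance] HasDerivedCategory.standard

noncomputable section

namespace Groth.Agent.Lib.Helper5.ExtCechH0

variable {R : Type u} [CommRing R]

/-! ### Localisation commutes with cohomology, compatibly with the localisation maps -/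

section Compat

variable {C : Type*} [Category C] [Abelian C] (F : C ⥤ C) [F.Additive] [F.PreservesHomology]
  (t : ∀ X : C, X ⟶ F.obj X) (ht : ∀ {X Y : C} (f : X ⟶ Y), f ≫ t Y = t X ≫ F.map f)
  (T : ShortComplex C)

/-- the morphism `T ⟶ T.map F` given by `t` -/
def unitSC : T ⟶ T.map F where
  τ₁ := t T.X₁
  τ₂ := t T.X₂
  τ₃ := t T.X₃
  comm₁₂ := (ht T.f).symm
  comm₂₃ := (ht T.g).symm

/-- the left homology map data of `unitSC` -/
def lhmd (hl : T.LeftHomologyData) :
    ShortComplex.LeftHomologyMapData (unitSC F t ht T) hl (hl.map F) where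
  φK := t hl.K
  φH := t hl.H
  commi := (ht hl.i).symm
  commf' := by
    rw [ShortComplex.LeftHomologyData.map_f']
    exact (ht hl.f')
  commπ := (ht hl.π)

omit [Abelian C] in
lemma aux {X Y Z W V : C} (a : X ⟶ Y) (p : Y ⟶ Z) (b : W ≅ Z) (c : Z ⟶ V) :
    (a ≫ p ≫ b.inv) ≫ (b.hom ≫ c) = a ≫ p ≫ c := by simp

lemma homologyMap_unitSC :
    ShortComplex.homologyMap (unitSC F t ht T) ≫ (T.mapHomologyIso F).hom = t T.homology := by
  have e1 : ShortComplex.homologyMap (unitSC F t ht T) =
      T.homologyData.left.homologyIso.hom ≫ (lhmd F t ht T T.homologyData.left).φH ≫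
        (T.homologyData.left.map F).homologyIso.inv :=
    (lhmd F t ht T T.homologyData.left).homologyMap_eq
  have e2 : (T.mapHomologyIso F).hom = (T.homologyData.left.map F).homologyIso.hom ≫
      F.map T.homologyData.left.homologyIso.inv := by
    rw [T.homologyData.left.mapHomologyIso_eq F]
    rfl
  have e3 : (lhmd F t ht T T.homologyData.left).φH ≫ F.map T.homologyData.left.homologyIso.inv =
      T.homologyData.left.homologyIso.inv ≫ t T.homology :=
    (ht T.homologyData.left.homologyIso.inv).symm
  rw [e1, e2]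
  exact (aux _ _ _ _).trans ((congrArg (fun z => T.homologyData.left.homologyIso.hom ≫ z) e3).trans
    (Iso.hom_inv_id_assoc _ _))

end Compat

lemma homologyMap_locCxUnit (S : Submonoid R) (K : DRing.Cx R) (n : ℤ) :
    HomologicalComplex.homologyMap (locCxUnit S K) n ≫ (homologyLocCxIso S K n).hom =
      (locUnit S).app (K.homology n) :=
  homologyMap_unitSC (locFunctor S) (fun X => (locUnit S).app X)
    (fun f => (locUnit S).naturality f) (K.sc n)

/-! ### The functor -/

/-- the extended Čech complex as a functor of the module -/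
def cechF : List R → (ModuleCat.{u} R ⥤ DRing.Cx R)
  | [] => HomologicalComplex.single (ModuleCat.{u} R) (ComplexShape.up ℤ) 0
  | f :: fs => cechF fs ⋙ coconeFunctor (Submonoid.powers f)

lemma cechF_nil : cechF ([] : List R) =
    HomologicalComplex.single (ModuleCat.{u} R) (ComplexShape.up ℤ) 0 := rfl

lemma cechF_cons (f : R) (fs : List R) :
    cechF (f :: fs) = cechF fs ⋙ coconeFunctor (Submonoid.powers f) := rfl

lemma cechF_obj : ∀ (fs : List R) (M : ModuleCat.{u} R), (cechF fs).obj M = extCech M fs
  | [], _ => rfl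
  | f :: fs, M => by
    change mappingCocone (locCxUnit (Submonoid.powers f) ((cechF fs).obj M)) =
      mappingCocone (locCxUnit (Submonoid.powers f) (extCech M fs))
    rw [cechF_obj fs M]

instance cechF_additive : ∀ fs : List R, (cechF fs).Additive
  | [] => by rw [cechF_nil]; infer_instance
  | f :: fs => by
    haveI := cechF_additive fs
    rw [cechF_cons]; infer_instance

lemma single_shortExact (T : ShortComplex (ModuleCat.{u} R)) (hT : T.ShortExact) :
    (T.map (HomologicalComplex.single (ModuleCat.{u} R) (ComplexShape.up ℤ) 0)).ShortExact := by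
  rw [HomologicalComplex.shortExact_iff_degreewise_shortExact]
  intro n
  by_cases hn : n = 0
  · subst hn
    refine ShortComplex.shortExact_of_iso ?_ hT
    refine ShortComplex.isoMk
      (HomologicalComplex.singleObjXSelf (ComplexShape.up ℤ) 0 T.X₁).symm
      (HomologicalComplex.singleObjXSelf (ComplexShape.up ℤ) 0 T.X₂).symm
      (HomologicalComplex.singleObjXSelf (ComplexShape.up ℤ) 0 T.X₃).symm ?_ ?_
    · change (HomologicalComplex.singleObjXSelf (ComplexShape.up ℤ) 0 T.X₁).inv ≫
        ((HomologicalComplex.single (ModuleCat.{u} R) (ComplexShape.up ℤ) 0).map T.f).f 0 =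
          T.f ≫ (HomologicalComplex.singleObjXSelf (ComplexShape.up ℤ) 0 T.X₂).inv
      rw [HomologicalComplex.single_map_f_self, Iso.inv_hom_id_assoc]
    · change (HomologicalComplex.singleObjXSelf (ComplexShape.up ℤ) 0 T.X₂).inv ≫
        ((HomologicalComplex.single (ModuleCat.{u} R) (ComplexShape.up ℤ) 0).map T.g).f 0 =
          T.g ≫ (HomologicalComplex.singleObjXSelf (ComplexShape.up ℤ) 0 T.X₃).inv
      rw [HomologicalComplex.single_map_f_self, Iso.inv_hom_id_assoc]
  · have hz : ∀ X : ModuleCat.{u} R, IsZero
        (((HomologicalComplex.single (ModuleCat.{u} R) (ComplexShape.up ℤ) 0).obj X).X n) :=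
      fun X => HomologicalComplex.isZero_single_obj_X (ComplexShape.up ℤ) 0 X n hn
    refine ShortComplex.ShortExact.mk' (ShortComplex.exact_of_isZero_X₂ _ (hz _)) ?_ ?_
    · exact ⟨fun g h _ => (hz _).eq_of_tgt _ _⟩
    · exact ⟨fun g h _ => (hz _).eq_of_src _ _⟩

theorem cechF_shortExact : ∀ (fs : List R) (T : ShortComplex (ModuleCat.{u} R)),
    T.ShortExact → (T.map (cechF fs)).ShortExact
  | [], T, hT => single_shortExact T hT
  | f :: fs, T, hT =>
    coconeFunctor_shortExact (Submonoid.powers f) (T.map (cechF fs)) (cechF_shortExact fs T hT)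

/-! ### The projection to `M` -/

section Fst

variable {K L : DRing.Cx R} (φ : K ⟶ L)

lemma fst_f_eq (p : ℤ) :
    (mappingCocone.fst φ).f p = (mappingCone.fst φ).1.v (p + -1) p (by omega) := by
  simp [mappingCocone.fst, HomComplex.Cochain.leftShift_v (n := 1) _ _ _ _ _ p _ (p + -1) (by omega)]
  refine (neg_neg _).trans ?_
  exact Category.id_comp _

end Fst

lemma coconeFunctor_map_fst (S : Submonoid R) {K K' : DRing.Cx R} (g : K ⟶ K') :
    (coconeFunctor S).map g ≫ mappingCocone.fst (locCxUnit S K') =
      mappingCocone.fst (locCxUnit S K) ≫ g := by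
  apply HomologicalComplex.hom_ext
  intro p
  rw [HomologicalComplex.comp_f, HomologicalComplex.comp_f, fst_f_eq, fst_f_eq]
  change (mappingCone.map _ _ g ((locCx S).map g) (locCxUnit_naturality S g)).f (p + -1) ≫
    (mappingCone.fst (locCxUnit S K')).1.v (p + -1) p (by omega) =
      (mappingCone.fst (locCxUnit S K)).1.v (p + -1) p (by omega) ≫ g.f p
  rw [mappingCone.ext_from_iff _ p (p + -1) (by omega)]
  constructor
  · simp [mappingCone.map]
  · simp [mappingCone.map]

/-- the first projection of the cocone functor -/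
def fstNat (S : Submonoid R) (K : DRing.Cx R) : (coconeFunctor S).obj K ⟶ K :=
  mappingCocone.fst (locCxUnit S K)

lemma fstNat_naturality (S : Submonoid R) {K K' : DRing.Cx R} (g : K ⟶ K') :
    (coconeFunctor S).map g ≫ fstNat S K' = fstNat S K ≫ g :=
  coconeFunctor_map_fst S g

/-- the natural projection `H^0(Č_fs(M)) ⟶ M` -/
def ρ : ∀ (fs : List R) (M : ModuleCat.{u} R), ((cechF fs).obj M).homology 0 ⟶ M
  | [], M => (HomologicalComplex.singleObjHomologySelfIso (ComplexShape.up ℤ) 0 M).hom
  | f :: fs, M =>
      HomologicalComplex.homologyMap (fstNat (Submonoid.powers f) ((cechF fs).obj M)) 0 ≫ ρ fs M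

lemma ρ_cons (f : R) (fs : List R) (M : ModuleCat.{u} R) :
    ρ (f :: fs) M = HomologicalComplex.homologyMap
        (fstNat (Submonoid.powers f) ((cechF fs).obj M)) 0 ≫ ρ fs M := rfl

lemma ρ_naturality : ∀ (fs : List R) {M N : ModuleCat.{u} R} (g : M ⟶ N),
    HomologicalComplex.homologyMap ((cechF fs).map g) 0 ≫ ρ fs N = ρ fs M ≫ g
  | [], _, _, g => HomologicalComplex.singleObjHomologySelfIso_hom_naturality (ComplexShape.up ℤ) 0 g
  | f :: fs, M, N, g => by
    rw [ρ_cons, ρ_cons]
    change HomologicalComplex.homologyMap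
      ((coconeFunctor (Submonoid.powers f)).map ((cechF fs).map g)) 0 ≫
        (HomologicalComplex.homologyMap (fstNat (Submonoid.powers f) ((cechF fs).obj N)) 0 ≫
          ρ fs N) =
      (HomologicalComplex.homologyMap (fstNat (Submonoid.powers f) ((cechF fs).obj M)) 0 ≫
          ρ fs M) ≫ g
    rw [← Category.assoc, ← HomologicalComplex.homologyMap_comp, fstNat_naturality,
      HomologicalComplex.homologyMap_comp, Category.assoc, Category.assoc, ρ_naturality fs g]

/-! ### The long exact sequence of the mapping cocone -/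

section LES

variable {K L : DRing.Cx R} (φ : K ⟶ L)

lemma exists_of_map_eq_zero (n : ℤ) (x : K.homology n)
    (hx : (HomologicalComplex.homologyMap φ n).hom x = 0) :
    ∃ y : (mappingCocone φ).homology n,
      (HomologicalComplex.homologyMap (mappingCocone.fst φ) n).hom y = x := by
  have h := CochainComplex.homologyMap_exact₂_of_distTriang (mappingCocone.triangle φ)
    (DerivedCategory.mappingCocone_triangle_distinguished φ) n
  rw [ShortComplex.moduleCat_exact_iff] at h
  exact h x hx

lemma map_fst_eq_zero (n : ℤ) (y : (mappingCocone φ).homology n) :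
    (HomologicalComplex.homologyMap φ n).hom
      ((HomologicalComplex.homologyMap (mappingCocone.fst φ) n).hom y) = 0 := by
  have h := CochainComplex.homologyMap_comp_eq_zero_of_distTriang (mappingCocone.triangle φ)
    (DerivedCategory.mappingCocone_triangle_distinguished φ) n
  exact app_eq h y

lemma injective_fst (n₀ n₁ : ℤ) (h : n₀ + 1 = n₁) (hz : IsZero (L.homology n₀)) :
    Function.Injective (HomologicalComplex.homologyMap (mappingCocone.fst φ) n₁).hom := by
  have hex := CochainComplex.homologyMap_exact₁_of_distTriang (mappingCocone.triangle φ)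
    (DerivedCategory.mappingCocone_triangle_distinguished φ) n₀ n₁ h
  have hm := hex.mono_g (hz.eq_of_src _ _)
  exact (ModuleCat.mono_iff_injective _).1 hm

lemma isZero_cocone_of_isZero (n₀ n₁ : ℤ) (h : n₀ + 1 = n₁) (hL : IsZero (L.homology n₀))
    (hK : IsZero (K.homology n₁)) : IsZero ((mappingCocone φ).homology n₁) := by
  have hex := CochainComplex.homologyMap_exact₁_of_distTriang (mappingCocone.triangle φ)
    (DerivedCategory.mappingCocone_triangle_distinguished φ) n₀ n₁ h
  exact hex.isZero_X₂ (hL.eq_of_src _ _) (hK.eq_of_tgt _ _)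

lemma isZero_cocone_of_surjective (n₀ n₁ : ℤ) (h : n₀ + 1 = n₁)
    (hφ : Function.Surjective (HomologicalComplex.homologyMap φ n₀).hom)
    (hK : IsZero (K.homology n₁)) : IsZero ((mappingCocone φ).homology n₁) := by
  have hex := CochainComplex.homologyMap_exact₁_of_distTriang (mappingCocone.triangle φ)
    (DerivedCategory.mappingCocone_triangle_distinguished φ) n₀ n₁ h
  have hz := CochainComplex.homologyMap_homologyδOfTriangle (mappingCocone.triangle φ)
    (DerivedCategory.mappingCocone_triangle_distinguished φ) n₀ n₁ h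
  haveI : Epi (HomologicalComplex.homologyMap φ n₀) := (ModuleCat.epi_iff_surjective _).2 hφ
  have hδ : CochainComplex.homologyδOfTriangle (mappingCocone.triangle φ) n₀ n₁ h = 0 :=
    (cancel_epi (HomologicalComplex.homologyMap φ n₀)).1 (hz.trans comp_zero.symm)
  exact hex.isZero_X₂ hδ (hK.eq_of_tgt _ _)

end LES

/-! ### `f` acts bijectively on the localisation at `f` -/

lemma actsBij_loc_self (f : R) (N : ModuleCat.{u} R) :
    ActsBij f ((locFunctor (Submonoid.powers f)).obj N) := by
  have h := IsLocalizedModule.map_units (LocalizedModule.mkLinearMap (Submonoid.powers f) N)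
    ⟨f, Submonoid.mem_powers f⟩
  have hb := (Module.End.isUnit_iff _).1 h
  have he : (fun m : LocalizedModule (Submonoid.powers f) N => f • m) =
      ⇑((algebraMap R (Module.End R (LocalizedModule (Submonoid.powers f) N))) f) := by
    funext m
    rfl
  change Function.Bijective (fun m : LocalizedModule (Submonoid.powers f) N => f • m)
  rw [he]
  exact hb

lemma eq_zero_of_pow_smul {f : R} {N : ModuleCat.{u} R} (h : ActsBij f N) :
    ∀ (k : ℕ) (z : N), f ^ k • z = 0 → z = 0
  | 0, z, hz => by
    rw [pow_zero, one_smul] at hz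
    exact hz
  | k + 1, z, hz => by
    rw [pow_succ, mul_smul] at hz
    have h1 : f • z = 0 := eq_zero_of_pow_smul h k _ hz
    apply h.1
    change f • z = f • 0
    rw [h1, smul_zero]

/-! ### Injectivity and image of `ρ` -/

lemma powTors_cocone (M : ModuleCat.{u} R) (f : R) (fs : List R) (K : DRing.Cx R)
    (e : K = extCech M fs) (q : ℤ) :
    PowTors f ((mappingCocone (locCxUnit (Submonoid.powers f) K)).homology q) := by
  subst e
  exact powTors_extCechH M (f :: fs) f List.mem_cons_self q

lemma isZero_X_neg (M : ModuleCat.{u} R) (fs : List R) (n : ℤ) (hn : n < 0) :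
    IsZero (((cechF fs).obj M).X n) := by
  rw [cechF_obj]
  exact isZero_extCech_X M fs n (Or.inl hn)

lemma isZero_homology_of_isZero_X (K : DRing.Cx R) (n : ℤ) (h : IsZero (K.X n)) :
    IsZero (K.homology n) := by
  rw [← HomologicalComplex.exactAt_iff_isZero_homology, HomologicalComplex.exactAt_iff]
  exact ShortComplex.exact_of_isZero_X₂ _ h

theorem ρ_spec : ∀ (fs : List R) (M : ModuleCat.{u} R),
    Function.Injective (ρ fs M).hom ∧
      ∀ m : M, (∃ x, (ρ fs M).hom x = m) ↔ ∀ f ∈ fs, ∃ k : ℕ, f ^ k • m = 0
  | [], M => by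
    constructor
    · exact ((ConcreteCategory.isIso_iff_bijective
        (HomologicalComplex.singleObjHomologySelfIso (ComplexShape.up ℤ) 0 M).hom).1
          inferInstance).1
    · intro m
      constructor
      · intro _ f hf
        exact absurd hf List.not_mem_nil
      · intro _
        exact ((ConcreteCategory.isIso_iff_bijective
          (HomologicalComplex.singleObjHomologySelfIso (ComplexShape.up ℤ) 0 M).hom).1
            inferInstance).2 m
  | f :: fs, M => by
    obtain ⟨hinj, hrange⟩ := ρ_spec fs M
    have hpt := powTors_cocone M f fs ((cechF fs).obj M) (cechF_obj fs M) 0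
    have hL : IsZero (((locCx (Submonoid.powers f)).obj ((cechF fs).obj M)).homology (-1)) :=
      isZero_homology_of_isZero_X _ _
        ((locFunctor (Submonoid.powers f)).map_isZero (isZero_X_neg M fs (-1) (by norm_num)))
    have hfi := injective_fst (locCxUnit (Submonoid.powers f) ((cechF fs).obj M)) (-1) 0
      (by norm_num) hL
    have hbij : ActsBij f (((locCx (Submonoid.powers f)).obj ((cechF fs).obj M)).homology 0) :=
      ActsBij.of_iso (homologyLocCxIso (Submonoid.powers f) ((cechF fs).obj M) 0).symm
        (actsBij_loc_self f _)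
    have hker : ∀ (x : ((cechF fs).obj M).homology 0) (k : ℕ), f ^ k • x = 0 →
        (HomologicalComplex.homologyMap
          (locCxUnit (Submonoid.powers f) ((cechF fs).obj M)) 0).hom x = 0 := by
      intro x k hk
      apply eq_zero_of_pow_smul hbij k
      rw [← map_smul, hk, map_zero]
    have hcomp : ∀ y : (mappingCocone
          (locCxUnit (Submonoid.powers f) ((cechF fs).obj M))).homology 0,
        (ρ (f :: fs) M).hom y = (ρ fs M).hom
        ((HomologicalComplex.homologyMap
          (mappingCocone.fst (locCxUnit (Submonoid.powers f) ((cechF fs).obj M))) 0).hom y) :=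
      fun y => rfl
    constructor
    · intro a b hab
      rw [hcomp, hcomp] at hab
      exact hfi (hinj hab)
    · intro m
      constructor
      · rintro ⟨y, rfl⟩ g hg
        rcases List.mem_cons.1 hg with rfl | hg
        · obtain ⟨k, hk⟩ := hpt y
          exact ⟨k, (map_smul (ρ (g :: fs) M).hom (g ^ k) y).symm.trans
            ((congrArg (ρ (g :: fs) M).hom hk).trans (map_zero _))⟩
        · exact (hrange _).1 ⟨_, (hcomp y).symm⟩ g hg
      · intro hm
        obtain ⟨x, rfl⟩ := (hrange m).2 (fun g hg => hm g (List.mem_cons_of_mem _ hg))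
        obtain ⟨k, hk⟩ := hm f List.mem_cons_self
        have hx : f ^ k • x = 0 := hinj (by rw [map_smul, hk, map_zero])
        obtain ⟨y, hy⟩ := exists_of_map_eq_zero _ 0 x (hker x k hx)
        exact ⟨y, by rw [hcomp, hy]⟩

/-! ### Torsion for finitely generated ideals -/

lemma torsionSub_sup (a b : Ideal R) (M : Type u) [AddCommGroup M] [Module R M] (m : M) :
    m ∈ DRing.torsionSub (a ⊔ b) M ↔ m ∈ DRing.torsionSub a M ∧ m ∈ DRing.torsionSub b M := by
  constructor
  · rintro ⟨n, hn⟩
    exact ⟨⟨n, fun r hr => hn r (Ideal.pow_right_mono le_sup_left n hr)⟩,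
      ⟨n, fun r hr => hn r (Ideal.pow_right_mono le_sup_right n hr)⟩⟩
  · rintro ⟨⟨k, hk⟩, ⟨l, hl⟩⟩
    refine ⟨k + l, fun r hr => ?_⟩
    have hr' := Ideal.sup_pow_add_le_pow_sup_pow hr
    obtain ⟨s, hs, t, ht, rfl⟩ := Submodule.mem_sup.mp hr'
    rw [add_smul, hk s hs, hl t ht, add_zero]

lemma mem_torsionSub_span_iff (fs : List R) (M : Type u) [AddCommGroup M] [Module R M] (m : M) :
    m ∈ DRing.torsionSub (Ideal.span {x | x ∈ fs}) M ↔ ∀ f ∈ fs, ∃ k : ℕ, f ^ k • m = 0 := by
  induction fs with
  | nil =>
    constructor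
    · intro _ f hf
      exact absurd hf List.not_mem_nil
    · intro _
      refine ⟨1, fun a ha => ?_⟩
      have : a = 0 := by simpa using ha
      rw [this, zero_smul]
  | cons f fs ih =>
    have hset : {x | x ∈ f :: fs} = {f} ∪ {x | x ∈ fs} := by
      ext x
      simp
    rw [hset, Ideal.span_union, torsionSub_sup, ih, List.forall_mem_cons]
    apply and_congr_left'
    constructor
    · rintro ⟨n, hn⟩
      exact ⟨n, hn (f ^ n) (Ideal.pow_mem_pow (Ideal.mem_span_singleton_self f) n)⟩
    · rintro ⟨k, hk⟩
      refine ⟨k, fun a ha => ?_⟩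
      rw [Ideal.span_singleton_pow, Ideal.mem_span_singleton] at ha
      obtain ⟨c, rfl⟩ := ha
      rw [mul_comm, mul_smul, hk, smul_zero]

end Groth.Agent.Lib.Helper5.ExtCechH0
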