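import Groth.Agent.Lib.Helper5.QSTensor
import Groth.Agent.Lib.Helper5.LocalGlobalExt

/-!
# Ext with supports: the derived-functor form and the spectral sequence
`H^p(C, ℰxt^q_{O,Z}(M, N)) ⇒ Ext^{p+q}_Z(M, N)`
-/

set_option autoImplicit false
set_option maxSynthPendingDepth 3

universe u

open CategoryTheory Limits Opposite Abelian

namespace Groth.Agent.Lib.Helper5.ExtSuppSS

open Groth.Agent.Lib.Helper5.LocalGlobalExt Groth.Agent.Lib.Helper5

variable {C : Type u} [SmallCategory C] {J : GrothendieckTopology C} (O : Sheaf J CommRingCat.{u})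
  (U : C) [ModSite.HasPushOver O U] [HasExt.{u} (ModSite.Mod O)]

/-- `Γ(Γ_Z ℋom(M, -)) ≅ Hom(M/M_U, -)` -/
noncomputable def gammaZHomIso (M : ModSite.Mod O) [ModSite.HasSheafHom M]
    [ModSite.HasSheafHom ((ModSite.quotOn O U).obj M)] :
    (ModSite.sheafHom M ⋙ ModSite.sectOn O U) ⋙ Γ O ≅ ExtDer.G ((ModSite.quotOn O U).obj M) :=
  Functor.isoWhiskerRight (QS.sectSheafHomQuotIso O U M) (Γ O) ≪≫
    compIso O ((ModSite.quotOn O U).obj M)

/-- the derived functor form of Ext with supports agrees with `Ext(M/M_U, -)` -/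
noncomputable def extZRIso (M : ModSite.Mod O) [ModSite.HasSheafHom M]
    [HasInjectiveResolutions (ModSite.Mod O)] (q : ℕ) :
    ExtSupp.ExtZR U M q ≅ Abelian.extFunctorObj ((ModSite.quotOn O U).obj M) q :=
  haveI : ModSite.HasSheafHom ((ModSite.quotOn O U).obj M) :=
    Groth.Agent.Lib.Helper17.IHom.hasSheafHom _
  ExtDer.extIsoOfIso ((ModSite.quotOn O U).obj M)
    ((ModSite.sheafHom M ⋙ ModSite.sectOn O U) ⋙ Γ O) (gammaZHomIso O U M) q

/-- The spectral sequence `H^p(C, ℰxt^q_{O,Z}(M, N)) ⇒ Ext^{p+q}_Z(M, N)`. -/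
theorem main (M N : ModSite.Mod O) [ModSite.HasSheafHom M] [HasInjectiveResolutions (ModSite.Mod O)]
    (Z Z' : AddCommGrpCat.{u}) (hZ : IsZero Z) (hZ' : IsZero Z') :
    ∃ (E : E₂CohomologicalSpectralSequence AddCommGrpCat.{u})
      (a : SpSeq.Abutment E (fun n : ℤ =>
        if 0 ≤ n then AddCommGrpCat.of (ExtSupp.ExtZ U M N n.toNat) else Z)),
      (∀ n : ℤ, a.IsFinite n) ∧ SpSeq.IsBounded E ∧
      ∀ p q : ℤ, Nonempty ((E.page 2 le_rfl).X (p, q) ≅
        (if 0 ≤ p ∧ 0 ≤ q then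
          AddCommGrpCat.of (ModSite.HC O ((ModSite.extZSh U M q.toNat).obj N) p.toNat)
          else Z')) := by
  haveI : ModSite.HasSheafHom ((ModSite.quotOn O U).obj M) :=
    Groth.Agent.Lib.Helper17.IHom.hasSheafHom _
  refine GrothSSInst.main' (ModSite.sheafHom M ⋙ ModSite.sectOn O U) (Γ O) ?_ N
    (fun n => AddCommGrpCat.of (ExtSupp.ExtZ U M N n))
    (fun p q => AddCommGrpCat.of (ModSite.HC O ((ModSite.extZSh U M q).obj N) p)) Z Z' hZ hZ' ?_ ?_
  · intro Q hQ q hq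
    obtain ⟨q, rfl⟩ : ∃ q', q = q' + 1 := ⟨q - 1, by omega⟩
    have e0 : (ModSite.sheafHom M ⋙ ModSite.sectOn O U).obj Q ≅
        (ModSite.sheafHom ((ModSite.quotOn O U).obj M)).obj Q :=
      (QS.sectSheafHomQuotIso O U M).app Q
    refine IsZero.of_iso ?_ (((Γ O).rightDerived (q + 1)).mapIso e0)
    obtain ⟨e⟩ := nonempty_rightDerived_Γ_iso O
      ((ModSite.sheafHom ((ModSite.quotOn O U).obj M)).obj Q) (q + 1)
    refine IsZero.of_iso ?_ e
    haveI : Subsingleton (ModSite.HC O ((ModSite.sheafHom ((ModSite.quotOn O U).obj M)).obj Q)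
        (q + 1)) :=
      subsingleton_H_succ _
        (IHomAcyclic.isTotallyAcyclic_sheafHom O ((ModSite.quotOn O U).obj M) Q) q
    exact AddCommGrpCat.isZero_of_subsingleton _
  · intro n
    exact ⟨(ExtDer.extIsoOfIso ((ModSite.quotOn O U).obj M)
      ((ModSite.sheafHom M ⋙ ModSite.sectOn O U) ⋙ Γ O) (gammaZHomIso O U M) n).app N⟩
  · intro p q
    exact nonempty_rightDerived_Γ_iso O ((ModSite.extZSh U M q).obj N) p

end Groth.Agent.Lib.Helper5.ExtSuppSS
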