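import Groth.Agent.Lib.Helper5.QExact
import Groth.Agent.Lib.Helper5.ExtSuppSS

/-!
# The spectral sequence `Ext^p(M, ℋ^q_Z(N)) ⇒ Ext^{p+q}_Z(M, N)`
-/

set_option autoImplicit false
set_option maxSynthPendingDepth 3

universe u

open CategoryTheory Limits Opposite Abelian

namespace Groth.Agent.Lib.Helper5.ExtSuppSS

open Groth.Agent.Lib.Helper5

variable {C : Type u} [SmallCategory C] {J : GrothendieckTopology C} (O : Sheaf J CommRingCat.{u})
  (U : C) [ModSite.HasPushOver O U] [HasExt.{u} (ModSite.Mod O)]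

instance : (ModSite.quotOn O U).Additive := (QS.adj O U).left_adjoint_additive

/-- `Hom(M, Γ_Z -) ≅ Hom(M/M_U, -)` -/
noncomputable def homSectIso (M : ModSite.Mod O) :
    ModSite.sectOn O U ⋙ ExtDer.G M ≅ ExtDer.G ((ModSite.quotOn O U).obj M) :=
  NatIso.ofComponents (fun N => ((QS.adj O U).homAddEquiv M N).symm.toAddCommGrpIso) (by
    intro N N' g
    ext x
    exact (QS.adj O U).homEquiv_naturality_right_symm x g)

/-- The spectral sequence `Ext^p(M, ℋ^q_Z(N)) ⇒ Ext^{p+q}_Z(M, N)`. -/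
theorem main₂ (M N : ModSite.Mod O) [HasInjectiveResolutions (ModSite.Mod O)]
    (Z Z' : AddCommGrpCat.{u}) (hZ : IsZero Z) (hZ' : IsZero Z') :
    ∃ (E : E₂CohomologicalSpectralSequence AddCommGrpCat.{u})
      (a : SpSeq.Abutment E (fun n : ℤ =>
        if 0 ≤ n then AddCommGrpCat.of (ExtSupp.ExtZ U M N n.toNat) else Z)),
      (∀ n : ℤ, a.IsFinite n) ∧ SpSeq.IsBounded E ∧
      ∀ p q : ℤ, Nonempty ((E.page 2 le_rfl).X (p, q) ≅
        (if 0 ≤ p ∧ 0 ≤ q then
          AddCommGrpCat.of (Abelian.Ext.{u} M ((ModSite.HZsh O U q.toNat).obj N) p.toNat)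
          else Z')) := by
  refine GrothSSInst.main' (ModSite.sectOn O U) (ExtDer.G M) ?_ N
    (fun n => AddCommGrpCat.of (ExtSupp.ExtZ U M N n))
    (fun p q => AddCommGrpCat.of (Abelian.Ext.{u} M ((ModSite.HZsh O U q).obj N) p))
    Z Z' hZ hZ' ?_ ?_
  · intro Q hQ q hq
    obtain ⟨q, rfl⟩ : ∃ q', q = q' + 1 := ⟨q - 1, by omega⟩
    haveI : Injective ((ModSite.sectOn O U).obj Q) :=
      (QS.sectOn_preservesInjectiveObjects O U).injective_obj hQ
    exact Functor.isZero_rightDerived_obj_injective_succ _ _ _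
  · intro n
    exact ⟨(ExtDer.extIsoOfIso ((ModSite.quotOn O U).obj M)
      (ModSite.sectOn O U ⋙ ExtDer.G M) (homSectIso O U M) n).app N⟩
  · intro p q
    exact ⟨(ExtDer.extIso M p).app ((ModSite.HZsh O U q).obj N)⟩

end Groth.Agent.Lib.Helper5.ExtSuppSS
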