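import Groth.Agent.Lib.Helper5.HZLink

/-!
# Spectral sequences for cohomology with supports
* `main₃`: `H^p(C, ℋ^q_Z(M)) ⇒ H^{p+q}_Z(M)`
* `main₄`: `H^p_Z(ℰxt^q_O(M, N)) ⇒ Ext^{p+q}_Z(M, N)`
-/

set_option autoImplicit false
set_option maxSynthPendingDepth 3

universe u

open CategoryTheory Limits Opposite Abelian

namespace Groth.Agent.Lib.Helper5.ExtSuppSS

open Groth.Agent.Lib.Helper5 Groth.Agent.Lib.Helper5.LocalGlobalExt

variable {C : Type u} [SmallCategory C] {J : GrothendieckTopology C} (O : Sheaf J CommRingCat.{u})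
  (U : C) [ModSite.HasPushOver O U]

lemma hasExt : HasExt.{u} (ModSite.Mod O) := by
  haveI : EnoughInjectives (ModSite.Mod O) := Groth.Agent.S0485.result J (ModSite.ringSh O)
  exact hasExt_of_enoughInjectives _

section

variable [HasExt.{u} (ModSite.Mod O)]

/-- `R^n Hom(O/O_U, -)(M) ≅ H^n_Z(M)` -/
lemma nonempty_rightDerived_iso_HZ [HasInjectiveResolutions (ModSite.Mod O)] (M : ModSite.Mod O)
    (n : ℕ) :
    Nonempty (((ExtDer.G ((ModSite.quotOn O U).obj (ModSite.unit O))).rightDerived n).obj M ≅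
      AddCommGrpCat.of (ModSite.HZ U M n)) := by
  obtain ⟨e⟩ := HZLink.nonempty_ext_quot_addEquiv_HZ O U M n
  exact ⟨(ExtDer.extIso ((ModSite.quotOn O U).obj (ModSite.unit O)) n).app M ≪≫ e.toAddCommGrpIso⟩

/-- The spectral sequence `H^p(C, ℋ^q_Z(M)) ⇒ H^{p+q}_Z(M)`. -/
theorem main₃' (M : ModSite.Mod O) [HasInjectiveResolutions (ModSite.Mod O)]
    (Z Z' : AddCommGrpCat.{u}) (hZ : IsZero Z) (hZ' : IsZero Z') :
    ∃ (E : E₂CohomologicalSpectralSequence AddCommGrpCat.{u})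
      (a : SpSeq.Abutment E (fun n : ℤ =>
        if 0 ≤ n then AddCommGrpCat.of (ModSite.HZ U M n.toNat) else Z)),
      (∀ n : ℤ, a.IsFinite n) ∧ SpSeq.IsBounded E ∧
      ∀ p q : ℤ, Nonempty ((E.page 2 le_rfl).X (p, q) ≅
        (if 0 ≤ p ∧ 0 ≤ q then
          AddCommGrpCat.of (ModSite.HC O ((ModSite.HZsh O U q.toNat).obj M) p.toNat)
          else Z')) := by
  refine GrothSSInst.main' (ModSite.sectOn O U) (Γ O) ?_ M
    (fun n => AddCommGrpCat.of (ModSite.HZ U M n))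
    (fun p q => AddCommGrpCat.of (ModSite.HC O ((ModSite.HZsh O U q).obj M) p))
    Z Z' hZ hZ' ?_ ?_
  · intro Q hQ q hq
    obtain ⟨q, rfl⟩ : ∃ q', q = q' + 1 := ⟨q - 1, by omega⟩
    haveI : Injective ((ModSite.sectOn O U).obj Q) :=
      (QS.sectOn_preservesInjectiveObjects O U).injective_obj hQ
    exact Functor.isZero_rightDerived_obj_injective_succ _ _ _
  · intro n
    obtain ⟨e⟩ := nonempty_rightDerived_iso_HZ O U M n
    exact ⟨(ExtDer.rightDerivedMapIso (homSectIso O U (ModSite.unit O)) n).app M ≪≫ e⟩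
  · intro p q
    exact nonempty_rightDerived_Γ_iso O ((ModSite.HZsh O U q).obj M) p

/-- The spectral sequence `H^p_Z(ℰxt^q_O(M, N)) ⇒ Ext^{p+q}_Z(M, N)`. -/
theorem main₄ (M N : ModSite.Mod O) [ModSite.HasSheafHom M]
    [HasInjectiveResolutions (ModSite.Mod O)]
    (Z Z' : AddCommGrpCat.{u}) (hZ : IsZero Z) (hZ' : IsZero Z') :
    ∃ (E : E₂CohomologicalSpectralSequence AddCommGrpCat.{u})
      (a : SpSeq.Abutment E (fun n : ℤ =>
        if 0 ≤ n then AddCommGrpCat.of (ExtSupp.ExtZ U M N n.toNat) else Z)),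
      (∀ n : ℤ, a.IsFinite n) ∧ SpSeq.IsBounded E ∧
      ∀ p q : ℤ, Nonempty ((E.page 2 le_rfl).X (p, q) ≅
        (if 0 ≤ p ∧ 0 ≤ q then
          AddCommGrpCat.of (ModSite.HZ U ((ModSite.extSh M q.toNat).obj N) p.toNat)
          else Z')) := by
  haveI : ModSite.HasSheafHom ((ModSite.quotOn O U).obj M) :=
    Groth.Agent.Lib.Helper17.IHom.hasSheafHom _
  refine GrothSSInst.main' (ModSite.sheafHom M)
    (ExtDer.G ((ModSite.quotOn O U).obj (ModSite.unit O))) ?_ N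
    (fun n => AddCommGrpCat.of (ExtSupp.ExtZ U M N n))
    (fun p q => AddCommGrpCat.of (ModSite.HZ U ((ModSite.extSh M q).obj N) p))
    Z Z' hZ hZ' ?_ ?_
  · intro Q hQ q hq
    obtain ⟨q, rfl⟩ : ∃ q', q = q' + 1 := ⟨q - 1, by omega⟩
    obtain ⟨e⟩ := nonempty_rightDerived_iso_HZ O U ((ModSite.sheafHom M).obj Q) (q + 1)
    refine IsZero.of_iso ?_ e
    haveI : Subsingleton (ModSite.HZ U ((ModSite.sheafHom M).obj Q) (q + 1)) :=
      HZLink.subsingleton_HZ_succ O U _ (IHomAcyclic.isTotallyAcyclic_sheafHom O M Q) q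
    exact AddCommGrpCat.isZero_of_subsingleton _
  · intro n
    let e1 : ModSite.sheafHom M ⋙ ExtDer.G ((ModSite.quotOn O U).obj (ModSite.unit O)) ≅
        (ModSite.sheafHom M ⋙ ModSite.sectOn O U) ⋙ Γ O :=
      Functor.isoWhiskerLeft (ModSite.sheafHom M) (homSectIso O U (ModSite.unit O)).symm
    exact ⟨(ExtDer.extIsoOfIso ((ModSite.quotOn O U).obj M)
      (ModSite.sheafHom M ⋙ ExtDer.G ((ModSite.quotOn O U).obj (ModSite.unit O)))
      (e1 ≪≫ gammaZHomIso O U M) n).app N⟩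
  · intro p q
    exact nonempty_rightDerived_iso_HZ O U ((ModSite.extSh M q).obj N) p

end

/-- The spectral sequence `H^p(C, ℋ^q_Z(M)) ⇒ H^{p+q}_Z(M)`, without assuming `HasExt`. -/
theorem main₃ (M : ModSite.Mod O) [HasInjectiveResolutions (ModSite.Mod O)]
    (Z Z' : AddCommGrpCat.{u}) (hZ : IsZero Z) (hZ' : IsZero Z') :
    ∃ (E : E₂CohomologicalSpectralSequence AddCommGrpCat.{u})
      (a : SpSeq.Abutment E (fun n : ℤ =>
        if 0 ≤ n then AddCommGrpCat.of (ModSite.HZ U M n.toNat) else Z)),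
      (∀ n : ℤ, a.IsFinite n) ∧ SpSeq.IsBounded E ∧
      ∀ p q : ℤ, Nonempty ((E.page 2 le_rfl).X (p, q) ≅
        (if 0 ≤ p ∧ 0 ≤ q then
          AddCommGrpCat.of (ModSite.HC O ((ModSite.HZsh O U q.toNat).obj M) p.toNat)
          else Z')) :=
  haveI := hasExt O
  main₃' O U M Z Z' hZ hZ'

end Groth.Agent.Lib.Helper5.ExtSuppSS
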