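import Groth.Agent.Lib.Helper5.FDRan
import Groth.Agent.Lib.Helper5.DescCrit

/-!
# Cohomological descent for an augmented simplicial space, from a diagram site

If the part of an augmented simplicial space `Y` is isomorphic to a diagram of spaces `D` over
the base for which the unit of the adjunction `pullS D ⊣ limPush D` is an isomorphism and the
higher direct images of the inverse images vanish, then `Y` is of cohomological descent.
-/

set_option autoImplicit false
set_option backward.isDefEq.respectTransparency false
set_option backward.isDefEq.respectTransparency.types false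

universe u

open CategoryTheory CategoryTheory.Limits Opposite TopologicalSpace Pseudofunctor
  Pseudofunctor.CoGrothendieck
open FibDesc FibSite

noncomputable section

namespace Groth.Agent.Lib.Helper5.FDMain

open Groth.Agent.Lib.Lead.FibSite1 Groth.Agent.Lib.Helper5.DSite Groth.Agent.Lib.Helper5.DPull
  Groth.Agent.Lib.Helper5.DeltaSite Groth.Agent.Lib.Helper5.LimPush Groth.Agent.Lib.Helper5.FDSite
  Groth.Agent.Lib.Helper5.FDRan Groth.Agent.Lib.Helper5.LimAdj

attribute [local instance] HasDerivedCategory.standard

variable (Y : (WithInitial SimplexCategory)ᵒᵖ ⥤ TopCat.{u})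

/-- the direct image of the augmentation -/
abbrev Push : DSh (topAug Y) (topAugTop Y) AddCommGrpCat.{u} ⥤ CohTop.Ab (SB Y) :=
  push (topAug Y) (topAugTop Y) AddCommGrpCat.{u}

/-- the inverse image of the augmentation -/
abbrev Pull : CohTop.Ab (SB Y) ⥤ DSh (topAug Y) (topAugTop Y) AddCommGrpCat.{u} :=
  pull (topAug Y) (topAugTop Y) AddCommGrpCat.{u}

instance : (Push Y).Additive := additive_push (topAug Y) (topAugTop Y) AddCommGrpCat.{u}

instance : (Pull Y).Additive := additive_pull (topAug Y) (topAugTop Y) AddCommGrpCat.{u}

instance : PreservesFiniteColimits (Pull Y) :=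
  preservesFiniteColimits_pull (topAug Y) (topAugTop Y) AddCommGrpCat.{u}

instance : PreservesFiniteLimits (Push Y) :=
  have : PreservesLimitsOfSize.{0, 0} (Push Y) :=
    preservesLimits_push (topAug Y) (topAugTop Y) AddCommGrpCat.{u}
  PreservesLimitsOfSize.preservesFiniteLimits _

/-- the adjunction between the inverse and the direct image of the augmentation -/
abbrev adjFD : Pull Y ⊣ Push Y := FibDesc.adj (topAug Y) (topAugTop Y) AddCommGrpCat.{u}

variable {Y} {D : OverS 𝕀.{u} (SB Y)} (c : Cmp Y D)

/-- the direct image of the augmentation is the functor of compatible families -/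
def pushIso' : Push Y ≅ (shEqv c).functor ⋙ limPush D := pushIso c

/-- the adjunction between the inverse image to the diagram site and the direct image of the
augmentation -/
def adj' : pullS D ⋙ (shEqv c).inverse ⊣ Push Y :=
  ((adjL D).comp (shEqv c).symm.toAdjunction).ofNatIsoRight (pushIso c).symm

/-- the inverse image of the augmentation is the inverse image to the diagram site -/
def pullIso : Pull Y ≅ pullS D ⋙ (shEqv c).inverse :=
  (FibDesc.adj (topAug Y) (topAugTop Y) AddCommGrpCat.{u}).leftAdjointUniq (adj' c)

include c in
lemma preservesFiniteLimits_pull : PreservesFiniteLimits (Pull Y) :=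
  preservesFiniteLimits_of_natIso (pullIso c).symm

/-- the composite of the inverse and the direct image -/
def pullPushIso : Pull Y ⋙ Push Y ≅ pullS D ⋙ limPush D :=
  Functor.isoWhiskerRight (pullIso c) (Push Y) ≪≫
    Functor.isoWhiskerLeft (pullS D ⋙ (shEqv c).inverse) (pushIso c) ≪≫
      Functor.associator _ _ _ ≪≫
        Functor.isoWhiskerLeft (pullS D) ((Functor.associator _ _ _).symm ≪≫
          Functor.isoWhiskerRight (shEqv c).counitIso (limPush D) ≪≫ Functor.leftUnitor _)

include c in
lemma isIso_unit (hunit : IsIso (adjL D).unit) :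
    IsIso (FibDesc.adj (topAug Y) (topAugTop Y) AddCommGrpCat.{u}).unit :=
  Adjunction.isIso_unit_of_iso _ (pullPushIso c ≪≫ (asIso (adjL D).unit).symm)

instance : (shEqv c).functor.Additive where
  map_add := by
    intro G G' f g
    apply CategoryTheory.Sheaf.hom_ext
    rfl

instance : PreservesFiniteLimits (limPush D) :=
  have : PreservesLimitsOfSize.{0, 0} (limPush D) := (adjL D).rightAdjoint_preservesLimits
  PreservesLimitsOfSize.preservesFiniteLimits _

include c in
lemma isZero_RD_push
    (hacyc : ∀ (F : CohTop.Ab (SB Y)) (q : ℕ),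
      IsZero (((limPush D).rightDerived (q + 1)).obj ((pullS D).obj F)))
    (F : CohTop.Ab (SB Y)) (q : ℕ) :
    IsZero (((Push Y).rightDerived (q + 1)).obj ((Pull Y).obj F)) := by
  have e1 := (Groth.Agent.Lib.Helper22.DimShift.rightDerivedIsoOfNatIso (pushIso' c) (q + 1)).app
    ((Pull Y).obj F)
  have e2 := (Groth.Agent.Lib.Helper5.PrecompDelta.rightDerivedPrecompIso (shEqv c).functor
    (limPush D) (fun I hI n => by
      haveI : Injective ((shEqv c).functor.obj I) := ((shEqv c).map_injective_iff I).2 hI
      exact Functor.isZero_rightDerived_obj_injective_succ _ n _) (q + 1)).app ((Pull Y).obj F)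
  have e3 : (shEqv c).functor.obj ((Pull Y).obj F) ≅ (pullS D).obj F :=
    (shEqv c).functor.mapIso ((pullIso c).app F) ≪≫ (shEqv c).counitIso.app ((pullS D).obj F)
  exact IsZero.of_iso (hacyc F q)
    (e1 ≪≫ e2 ≪≫ ((limPush D).rightDerived (q + 1)).mapIso e3)

include c in
/-- **the criterion for cohomological descent** -/
theorem isCohDescentTop (hunit : IsIso (adjL D).unit)
    (hacyc : ∀ (F : CohTop.Ab (SB Y)) (q : ℕ),
      IsZero (((limPush D).rightDerived (q + 1)).obj ((pullS D).obj F))) :
    IsCohDescentTop Y := by
  have := preservesFiniteLimits_pull c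
  have := isIso_unit c hunit
  refine ⟨inferInstance, inferInstance, inferInstance, inferInstance, inferInstance,
    preservesFiniteLimits_pull c, ?_⟩
  intro K L
  exact DescCrit.bijective_map (adjFD Y)
    (fun F => inferInstance) (isZero_RD_push c hacyc) K.obj L

end Groth.Agent.Lib.Helper5.FDMain
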