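import Groth.Agent.Lib.Helper5.FDSite

/-!
# The direct image of the augmentation of an augmented simplicial space

The direct image functor from the sheaves on the total site of the part to the sheaves on the
base (right Kan extension to the augmented total site followed by restriction to the base fibre)
corresponds, under the equivalence with the sheaves on a diagram site, to the functor of
compatible families `limPush`.
-/

set_option autoImplicit false
set_option backward.isDefEq.respectTransparency false
set_option backward.isDefEq.respectTransparency.types false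

universe u

open CategoryTheory CategoryTheory.Limits Opposite TopologicalSpace Pseudofunctor
  Pseudofunctor.CoGrothendieck
open FibDesc FibSite

noncomputable section

namespace Groth.Agent.Lib.Helper5.FDRan

open Groth.Agent.Lib.Lead.FibSite1 Groth.Agent.Lib.Helper5.DSite Groth.Agent.Lib.Helper5.DPull
  Groth.Agent.Lib.Helper5.DeltaSite Groth.Agent.Lib.Helper5.LimPush Groth.Agent.Lib.Helper5.FDSite

/-! ### elementwise functoriality -/

section generic

variable {C : Type*} [Category C] (P : Cᵒᵖ ⥤ AddCommGrpCat.{u})

lemma pmap_comp {A B C' : C} (f : A ⟶ B) (g : B ⟶ C') (t : P.obj (op C')) :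
    (P.map f.op).hom ((P.map g.op).hom t) = (P.map (f ≫ g).op).hom t := by
  rw [op_comp, P.map_comp]
  rfl

lemma pmap_congr {A B : C} {f g : A ⟶ B} (h : f = g) (t : P.obj (op B)) :
    (P.map f.op).hom t = (P.map g.op).hom t := by
  rw [h]

lemma pmap_id {A : C} (f : A ⟶ A) (h : f = 𝟙 A) (t : P.obj (op A)) :
    (P.map f.op).hom t = t := by
  rw [h, op_id, P.map_id]
  rfl

end generic

lemma hom_bot_ext {n : (WithInitial SimplexCategory)ᵒᵖ} (a b : n ⟶ bot SimplexCategory) : a = b :=
  Quiver.Hom.unop_inj (WithInitial.starInitial.hom_ext _ _)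

variable (Y : (WithInitial SimplexCategory)ᵒᵖ ⥤ TopCat.{u})

/-- the inclusion of the total category of the part -/
abbrev iF : TotP Y ⥤ TotA Y := incl (topAug Y)

/-- the inclusion of the base fibre -/
abbrev eF : Opens (SB Y) ⥤ TotA Y := eps (topAug Y)

variable {Y} {D : OverS 𝕀.{u} (SB Y)} (c : Cmp Y D)

/-- the augmentation morphisms of the total category -/
def aug (i : 𝕀.{u}) (V : Opens (SB Y)) : (iF Y).obj ((E' c).obj (BVg D V i)) ⟶ (eF Y).obj V :=
  mkT (X := (iF Y).obj ((E' c).obj (BVg D V i))) (X' := (eF Y).obj V)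
    (WithInitial.homTo (AsSmall.down.obj i)).op (by
      intro w hw
      have h1 : D.π i (c.κ.hom.app (op i) (w : (Ypart Y).obj (op i))) ∈ V := hw
      rw [c.hκ] at h1
      exact h1)

/-! ### the right Kan extension -/

section ran

variable (P : (TotP Y)ᵒᵖ ⥤ AddCommGrpCat.{u})

/-- the right Kan extension to the augmented total category -/
abbrev RP : (TotA Y)ᵒᵖ ⥤ AddCommGrpCat.{u} := (iF Y).op.ran.obj P

/-- its counit -/
abbrev εP : (iF Y).op ⋙ RP P ⟶ P := (iF Y).op.ranCounit.app P

/-- the projections of the right Kan extension -/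
def pr {X : TotP Y} {T : TotA Y} (a : (iF Y).obj X ⟶ T) : (RP P).obj (op T) →+ P.obj (op X) :=
  ((RP P).map a.op ≫ (εP P).app (op X)).hom

lemma pr_apply {X : TotP Y} {T : TotA Y} (a : (iF Y).obj X ⟶ T) (y : (RP P).obj (op T)) :
    pr P a y = ((εP P).app (op X)).hom (((RP P).map a.op).hom y) := rfl

lemma pr_congr {X : TotP Y} {T : TotA Y} {a b : (iF Y).obj X ⟶ T} (h : a = b)
    (y : (RP P).obj (op T)) : pr P a y = pr P b y := by
  rw [h]

lemma pr_comp_right {X : TotP Y} {T T' : TotA Y} (a : (iF Y).obj X ⟶ T) (b : T ⟶ T')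
    (y : (RP P).obj (op T')) : pr P a (((RP P).map b.op).hom y) = pr P (a ≫ b) y := by
  rw [pr_apply, pr_apply, pmap_comp]

lemma pr_comp_left {X X' : TotP Y} {T : TotA Y} (t : X' ⟶ X) (a : (iF Y).obj X ⟶ T)
    (y : (RP P).obj (op T)) :
    (P.map t.op).hom (pr P a y) = pr P ((iF Y).map t ≫ a) y := by
  have h := ConcreteCategory.congr_hom ((εP P).naturality t.op) (((RP P).map a.op).hom y)
  rw [← pr_comp_right]
  exact h.symm

lemma pr_map {P P' : (TotP Y)ᵒᵖ ⥤ AddCommGrpCat.{u}} (θ : P ⟶ P') {X : TotP Y} {T : TotA Y}
    (a : (iF Y).obj X ⟶ T) (y : (RP P).obj (op T)) :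
    pr P' a ((((iF Y).op.ran.map θ).app (op T)).hom y) = (θ.app (op X)).hom (pr P a y) := by
  have h1 := ((iF Y).op.ran.map θ).naturality a.op
  have h2 := congr_app ((iF Y).op.ranCounit.naturality θ) (op X)
  have h : ((iF Y).op.ran.map θ).app (op T) ≫ (RP P').map a.op ≫ (εP P').app (op X) =
      ((RP P).map a.op ≫ (εP P).app (op X)) ≫ θ.app (op X) := by
    rw [← Category.assoc, ← h1, Category.assoc, Category.assoc]
    exact congrArg (fun k => (RP P).map a.op ≫ k) h2
  exact ConcreteCategory.congr_hom h y

/-- the compatible family attached to a section of the right Kan extension over the base -/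
def toLP (V : Opens (SB Y)) :
    (RP P).obj (op ((eF Y).obj V)) →+ LPobj D ((E' c).op ⋙ P) V where
  toFun y := ⟨fun i => pr P (aug c i V) y, by
    intro i j α
    change (P.map ((E' c).map (homBVg D α (le_refl V))).op).hom (pr P (aug c i V) y) =
      pr P (aug c j V) y
    rw [pr_comp_left]
    exact pr_congr P (homT_ext _ _ (hom_bot_ext _ _)) y⟩
  map_zero' := Subtype.ext (funext fun i => map_zero _)
  map_add' a b := Subtype.ext (funext fun i => map_add _ _ _)

lemma toLP_val (V : Opens (SB Y)) (y : (RP P).obj (op ((eF Y).obj V))) (i : 𝕀.{u}) :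
    (toLP c P V y).1 i = pr P (aug c i V) y := rfl

/-- the level of a structured arrow -/
abbrev idx {V : Opens (SB Y)} (g : StructuredArrow (op ((eF Y).obj V)) (iF Y).op) : 𝕀.{u} :=
  up g.right.unop.base.unop

/-- the morphism from the target of a structured arrow to the object of its level over the open
subset of the base -/
def toBV {V : Opens (SB Y)} (g : StructuredArrow (op ((eF Y).obj V)) (iF Y).op) :
    g.right.unop ⟶ (E' c).obj (BVg D V (idx g)) :=
  mkP (X := g.right.unop) (X' := (E' c).obj (BVg D V (idx g))) (𝟙 _) (by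
    intro w hw
    refine mem_of_Ymap_id _ w ?_
    change D.π (idx g) (c.κ.hom.app (op (idx g)) (w : (Ypart Y).obj (op (idx g)))) ∈ V
    rw [c.hκ]
    have h1 := memT g.hom.unop w hw
    rw [hom_bot_ext g.hom.unop.base (WithInitial.homTo _).op] at h1
    exact h1)

/-- the projections of the compatible families -/
def projLP (V : Opens (SB Y)) (i : 𝕀.{u}) :
    LPobj D ((E' c).op ⋙ P) V →+ P.obj (op ((E' c).obj (BVg D V i))) where
  toFun x := x.1 i
  map_zero' := rfl
  map_add' _ _ := rfl

/-- the cone of the compatible families -/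
def cLP (V : Opens (SB Y)) :
    Cone (StructuredArrow.proj (op ((eF Y).obj V)) (iF Y).op ⋙ P) where
  pt := AddCommGrpCat.of (LPobj D ((E' c).op ⋙ P) V)
  π :=
    { app := fun g => AddCommGrpCat.ofHom (projLP c P V (idx g)) ≫ P.map (toBV c g).op
      naturality := by
        intro g g' f
        refine AddCommGrpCat.hom_ext (AddMonoidHom.ext fun x => ?_)
        change (P.map (toBV c g').op).hom (x.1 (idx g')) =
          (P.map f.right.unop.op).hom ((P.map (toBV c g).op).hom (x.1 (idx g)))
        have hx := LPobj_compat D ((E' c).op ⋙ P) V x (AsSmall.up.map f.right.unop.base.unop)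
        have e1 : (P.map (toBV c g').op).hom (x.1 (idx g')) =
            (P.map (toBV c g' ≫ (E' c).map (homBVg D
              (AsSmall.up.map f.right.unop.base.unop) (le_refl V))).op).hom (x.1 (idx g)) := by
          rw [← pmap_comp]
          exact congrArg _ hx.symm
        have e2 : (P.map f.right.unop.op).hom ((P.map (toBV c g).op).hom (x.1 (idx g))) =
            (P.map (f.right.unop ≫ toBV c g).op).hom (x.1 (idx g)) :=
          pmap_comp P f.right.unop (toBV c g) _
        exact e1.trans ((pmap_congr P (homP_ext _ _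
          ((Category.id_comp _).trans (Category.comp_id _).symm)) _).trans e2.symm) }

/-- the limit cone of the right Kan extension -/
def hlim (V : Opens (SB Y)) :
    IsLimit ((Functor.RightExtension.mk (RP P) (εP P)).coneAt (op ((eF Y).obj V))) :=
  (iF Y).op.isPointwiseRightKanExtensionRanCounit P (op ((eF Y).obj V))

/-- **the sections of the right Kan extension over the base are the compatible families** -/
def lpEquiv (V : Opens (SB Y)) :
    (RP P).obj (op ((eF Y).obj V)) ≃+ LPobj D ((E' c).op ⋙ P) V where
  toFun := toLP c P V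
  invFun x := ((hlim P V).lift (cLP c P V)).hom x
  left_inv y := by
    have h : AddCommGrpCat.ofHom (toLP c P V) ≫ (hlim P V).lift (cLP c P V) = 𝟙 _ := by
      refine (hlim P V).hom_ext (fun g => ?_)
      rw [Category.assoc, (hlim P V).fac, Category.id_comp]
      refine AddCommGrpCat.hom_ext (AddMonoidHom.ext fun y => ?_)
      change (P.map (toBV c g).op).hom (pr P (aug c (idx g) V) y) = pr P g.hom.unop y
      rw [pr_comp_left]
      exact pr_congr P (homT_ext _ _ (hom_bot_ext _ _)) y
    exact ConcreteCategory.congr_hom h y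
  right_inv x := by
    apply LPobj_ext
    intro i
    have h := ConcreteCategory.congr_hom
      ((hlim P V).fac (cLP c P V) (StructuredArrow.mk (aug c i V).op)) x
    change pr P (aug c i V) (((hlim P V).lift (cLP c P V)).hom x) = x.1 i
    refine h.trans ?_
    exact pmap_id P _ (homP_ext _ _ rfl) (x.1 i)
  map_add' a b := map_add (toLP c P V) a b

lemma toLP_res {V V' : Opens (SB Y)} (h : V' ≤ V) (y : (RP P).obj (op ((eF Y).obj V))) :
    toLP c P V' (((RP P).map ((eF Y).map (homOfLE h)).op).hom y) =
      LPres D ((E' c).op ⋙ P) h (toLP c P V y) := by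
  apply LPobj_ext
  intro i
  change pr P (aug c i V') (((RP P).map ((eF Y).map (homOfLE h)).op).hom y) =
    (P.map ((E' c).map (homBVg D (𝟙 i) h)).op).hom (pr P (aug c i V) y)
  rw [pr_comp_right, pr_comp_left]
  exact pr_congr P (homT_ext _ _ (hom_bot_ext _ _)) y

end ran

/-! ### the direct image -/

/-- the direct image of one sheaf -/
def pushObjIso (G : DSh (topAug Y) (topAugTop Y) AddCommGrpCat.{u}) :
    (push (topAug Y) (topAugTop Y) AddCommGrpCat.{u}).obj G ≅
      (limPush D).obj ((shEqv c).functor.obj G) :=
  (fullyFaithfulSheafToPresheaf _ _).preimageIso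
    (NatIso.ofComponents (fun V => (lpEquiv c G.obj V.unop).toAddCommGrpIso) (by
      intro V V' h
      refine AddCommGrpCat.hom_ext (AddMonoidHom.ext fun y => ?_)
      exact toLP_res c G.obj (leOfHom h.unop) y))

/-- **the direct image of the augmentation is the functor of compatible families** -/
def pushIso : push (topAug Y) (topAugTop Y) AddCommGrpCat.{u} ≅ (shEqv c).functor ⋙ limPush D :=
  NatIso.ofComponents (pushObjIso c) (by
    intro G G' θ
    apply CategoryTheory.Sheaf.hom_ext
    ext V y
    apply LPobj_ext
    intro i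
    exact pr_map θ.hom (aug c i V.unop) y)

end Groth.Agent.Lib.Helper5.FDRan
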