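import Groth.Prelude.Def_FibDesc
import Groth.Agent.Lib.Lead.FibSite1
import Groth.Agent.Lib.Helper5.DeltaCmp

/-!
# The total site of the part of an augmented simplicial space

For an augmented simplicial space `Y`, the family of the sites of open subsets of its levels is
a pre-fibred site; the total site of its non-augmented part is equivalent to the diagram site of
any diagram of spaces isomorphic to the part, and the sheaves on the two correspond.
-/

set_option autoImplicit false
set_option backward.isDefEq.respectTransparency false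
set_option backward.isDefEq.respectTransparency.types false

universe u
open CategoryTheory CategoryTheory.Limits Opposite TopologicalSpace Pseudofunctor Pseudofunctor.CoGrothendieck
open FibDesc FibSite

noncomputable section
namespace Groth.Agent.Lib.Helper5.FDSite

open Groth.Agent.Lib.Lead.FibSite1

variable (Y : (WithInitial SimplexCategory)ᵒᵖ ⥤ TopCat.{u})

theorem preFib : IsPreFibSite (topAug Y) (topAugTop Y) := by
  intro R S f
  change (Opens.map (Y.map f)).IsContinuous (Opens.grothendieckTopology _) (Opens.grothendieckTopology _)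
  infer_instance

theorem preFibPart : IsPreFibSite (part (topAug Y)) (partTop (topAug Y) (topAugTop Y)) := by
  intro R S f
  change (Opens.map (Y.map ((toAug SimplexCategory).map f))).IsContinuous
    (Opens.grothendieckTopology _) (Opens.grothendieckTopology _)
  infer_instance

/-- the total category of the augmented family -/
abbrev TotA := ∫ᶜ (topAug Y)
/-- the total category of the part -/
abbrev TotP := ∫ᶜ (part (topAug Y))

variable {Y}

/-- the open subset of an object of the total category -/
abbrev fibT (X : TotA Y) : Opens (Y.obj X.base) := X.fiber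

/-- the open subset of an object of the total category of the part -/
abbrev fibP (X : TotP Y) : Opens (Y.obj ((toAug SimplexCategory).obj X.base)) := X.fiber

instance (X X' : TotA Y) (b : X.base ⟶ X'.base) :
    Subsingleton (X.fiber ⟶ ((topAug Y).map b.op.toLoc).toFunctor.obj X'.fiber) :=
  inferInstanceAs (Subsingleton (fibT X ⟶ (Opens.map (Y.map b)).obj (fibT X')))

instance (X X' : TotP Y) (b : X.base ⟶ X'.base) :
    Subsingleton (X.fiber ⟶ ((part (topAug Y)).map b.op.toLoc).toFunctor.obj X'.fiber) :=
  inferInstanceAs (Subsingleton (fibP X ⟶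
    (Opens.map (Y.map ((toAug SimplexCategory).map b))).obj (fibP X')))

lemma homT_ext {X X' : TotA Y} (f g : X ⟶ X') (h : f.base = g.base) : f = g :=
  Hom.ext f g h (Subsingleton.elim _ _)

lemma homP_ext {X X' : TotP Y} (f g : X ⟶ X') (h : f.base = g.base) : f = g :=
  Hom.ext f g h (Subsingleton.elim _ _)

/-- morphisms of the total category -/
def mkT {X X' : TotA Y} (b : X.base ⟶ X'.base)
    (h : ∀ w, w ∈ fibT X → Y.map b w ∈ fibT X') : X ⟶ X' :=
  ⟨b, (homOfLE (fun w hw => h w hw) : fibT X ⟶ (Opens.map (Y.map b)).obj (fibT X'))⟩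

/-- morphisms of the total category of the part -/
def mkP {X X' : TotP Y} (b : X.base ⟶ X'.base)
    (h : ∀ w, w ∈ fibP X → Y.map ((toAug SimplexCategory).map b) w ∈ fibP X') : X ⟶ X' :=
  ⟨b, (homOfLE (fun w hw => h w hw) : fibP X ⟶
    (Opens.map (Y.map ((toAug SimplexCategory).map b))).obj (fibP X'))⟩

@[simp] lemma mkT_base {X X' : TotA Y} (b : X.base ⟶ X'.base)
    (h : ∀ w, w ∈ fibT X → Y.map b w ∈ fibT X') : (mkT b h).base = b := rfl

@[simp] lemma mkP_base {X X' : TotP Y} (b : X.base ⟶ X'.base)
    (h : ∀ w, w ∈ fibP X → Y.map ((toAug SimplexCategory).map b) w ∈ fibP X') :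
    (mkP b h).base = b := rfl

lemma memT {X X' : TotA Y} (f : X ⟶ X') (w : Y.obj X.base) (hw : w ∈ fibT X) :
    Y.map f.base w ∈ fibT X' :=
  leOfHom (show fibT X ⟶ (Opens.map (Y.map f.base)).obj (fibT X') from f.fiber) hw

lemma memP {X X' : TotP Y} (f : X ⟶ X') (w : Y.obj ((toAug SimplexCategory).obj X.base))
    (hw : w ∈ fibP X) : Y.map ((toAug SimplexCategory).map f.base) w ∈ fibP X' :=
  leOfHom (show fibP X ⟶
    (Opens.map (Y.map ((toAug SimplexCategory).map f.base))).obj (fibP X') from f.fiber) hw

variable (Y)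

/-- the fibre inclusions of the part and of the augmented family agree -/
def ιInclIso (n : SimplexCategoryᵒᵖ) :
    ι (part (topAug Y)) n ⋙ incl (topAug Y) ≅ ι (topAug Y) ((toAug SimplexCategory).obj n) :=
  NatIso.ofComponents (fun U => Iso.refl _) (by
    intro U V h
    apply homT_ext
    simp
    exact (toAug SimplexCategory).map_id n)

instance epsCont : (eps (topAug Y)).IsContinuous (topAugTop Y (bot _))
    (totAug (topAug Y) (topAugTop Y)) :=
  isContinuous_ι _ (preFib Y) _

instance inclCont : (incl (topAug Y)).IsContinuous (totPart (topAug Y) (topAugTop Y))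
    (totAug (topAug Y) (topAugTop Y)) := by
  rw [isContinuous_iff _ (preFibPart Y)]
  intro n
  have := isContinuous_ι _ (preFib Y) ((toAug SimplexCategory).obj n)
  exact Functor.isContinuous_of_iso (ιInclIso Y n).symm _ _

lemma incl_map_ι_map (n : SimplexCategoryᵒᵖ) {U V : (part (topAug Y)).obj ⟨op n⟩} (h : U ⟶ V) :
    (incl (topAug Y)).map ((ι (part (topAug Y)) n).map h) =
      (ι (topAug Y) ((toAug SimplexCategory).obj n)).map h := by
  apply homT_ext
  simp
  exact (toAug SimplexCategory).map_id n

instance inclCocont : (incl (topAug Y)).IsCocontinuous (totPart (topAug Y) (topAugTop Y))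
    (totAug (topAug Y) (topAugTop Y)) where
  cover_lift {X S} hS := by
    obtain ⟨R, hR, hle⟩ := (mem_totalTopology_iff _ (preFib Y) _ S).1 hS
    refine (mem_totalTopology_iff _ (preFibPart Y) X _).2 ⟨R, hR, ?_⟩
    rintro Z g ⟨W, r, a, hr, rfl⟩
    change S.arrows ((incl (topAug Y)).map (a ≫ (ι (part (topAug Y)) X.base).map r))
    rw [Functor.map_comp, incl_map_ι_map]
    exact hle _ ⟨W, r, (incl (topAug Y)).map a, hr, rfl⟩

/-! ### comparison with a diagram site -/

open Groth.Agent.Lib.Helper5.DSite Groth.Agent.Lib.Helper5.DPull Groth.Agent.Lib.Helper5.DeltaSite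

/-- the base space -/
abbrev SB : TopCat.{u} := Y.obj (bot SimplexCategory)

/-- the part of the augmented simplicial space as a diagram indexed by the small simplex
category -/
def Ypart : 𝕀.{u}ᵒᵖ ⥤ TopCat.{u} := AsSmall.down.op ⋙ toAug SimplexCategory ⋙ Y

/-- the augmentation maps -/
abbrev augMap (i : 𝕀.{u}) : (Ypart Y).obj (op i) ⟶ SB Y :=
  Y.map (WithInitial.homTo (AsSmall.down.obj i)).op

/-- comparison data between the part of the augmented simplicial space and a diagram over the
base -/
structure Cmp (D : OverS 𝕀.{u} (SB Y)) where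
  /-- the isomorphism of diagrams -/
  κ : Ypart Y ≅ D.Y
  hκ : ∀ (i : 𝕀.{u}) (w : (Ypart Y).obj (op i)), D.π i (κ.hom.app (op i) w) = augMap Y i w

variable {Y} {D : OverS 𝕀.{u} (SB Y)} (c : Cmp Y D)

lemma Cmp.hom_inv (i : 𝕀.{u}) (w : (Ypart Y).obj (op i)) :
    c.κ.inv.app (op i) (c.κ.hom.app (op i) w) = w :=
  ConcreteCategory.congr_hom (c.κ.hom_inv_id_app (op i)) w

lemma Cmp.inv_hom (i : 𝕀.{u}) (w : D.Y.obj (op i)) :
    c.κ.hom.app (op i) (c.κ.inv.app (op i) w) = w :=
  ConcreteCategory.congr_hom (c.κ.inv_hom_id_app (op i)) w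

lemma Cmp.hom_nat {i j : 𝕀.{u}} (α : i ⟶ j) (w : (Ypart Y).obj (op j)) :
    c.κ.hom.app (op i) ((Ypart Y).map α.op w) = D.Y.map α.op (c.κ.hom.app (op j) w) :=
  ConcreteCategory.congr_hom (c.κ.hom.naturality α.op) w

lemma Cmp.inv_nat {i j : 𝕀.{u}} (α : i ⟶ j) (w : D.Y.obj (op j)) :
    c.κ.inv.app (op i) (D.Y.map α.op w) = (Ypart Y).map α.op (c.κ.inv.app (op j) w) :=
  ConcreteCategory.congr_hom (c.κ.inv.naturality α.op) w

/-- the functor from the total category of the part to the diagram site -/
def E : TotP Y ⥤ Obj D.Y where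
  obj X := ⟨up X.base.unop, (Opens.map (c.κ.inv.app (op (up X.base.unop)))).obj (fibP X)⟩
  map {X X'} f := DSite.mkHom (AsSmall.up.map f.base.unop) (by
    intro w hw
    change c.κ.inv.app (op (up X'.base.unop)) (D.Y.map (AsSmall.up.map f.base.unop).op w) ∈ fibP X'
    rw [c.inv_nat]
    exact memP f _ hw)
  map_id X := DSite.hom_ext (by
    change AsSmall.up.map (𝟙 X.base).unop = 𝟙 _
    exact AsSmall.up.map_id _)
  map_comp f g := DSite.hom_ext (by
    change AsSmall.up.map (f.base ≫ g.base).unop =
      AsSmall.up.map g.base.unop ≫ AsSmall.up.map f.base.unop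
    exact AsSmall.up.map_comp _ _)

/-- the functor from the diagram site to the total category of the part -/
def E' : Obj D.Y ⥤ TotP Y where
  obj A := ⟨op (AsSmall.down.obj A.i), (Opens.map (c.κ.hom.app (op A.i))).obj A.U⟩
  map {A B} m := mkP (X := ⟨op (AsSmall.down.obj A.i), (Opens.map (c.κ.hom.app (op A.i))).obj A.U⟩)
    (X' := ⟨op (AsSmall.down.obj B.i), (Opens.map (c.κ.hom.app (op B.i))).obj B.U⟩)
    (AsSmall.down.map m.α).op (by
      intro w hw
      change c.κ.hom.app (op B.i) ((Ypart Y).map m.α.op w) ∈ B.U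
      rw [c.hom_nat]
      exact m.mem _ hw)
  map_id A := homP_ext _ _ (by
    change (AsSmall.down.map (𝟙 A.i)).op = 𝟙 _
    rw [AsSmall.down.map_id]
    rfl)
  map_comp m m' := homP_ext _ _ (by
    change (AsSmall.down.map (m'.α ≫ m.α)).op = (AsSmall.down.map m.α).op ≫ (AsSmall.down.map m'.α).op
    rw [AsSmall.down.map_comp]
    rfl)

lemma Ymap_id_apply (n : SimplexCategoryᵒᵖ) (w : Y.obj ((toAug SimplexCategory).obj n)) :
    Y.map ((toAug SimplexCategory).map (𝟙 n)) w = w := by
  rw [CategoryTheory.Functor.map_id, CategoryTheory.Functor.map_id]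
  rfl

lemma mem_of_Ymap_id {n : SimplexCategoryᵒᵖ} (U : Opens (Y.obj ((toAug SimplexCategory).obj n)))
    (w : Y.obj ((toAug SimplexCategory).obj n)) (h : w ∈ U) :
    Y.map ((toAug SimplexCategory).map (𝟙 n)) w ∈ U := by
  rw [Ymap_id_apply]
  exact h

/-- the unit of the equivalence -/
def unitIso : 𝟭 (TotP Y) ≅ E c ⋙ E' c :=
  NatIso.ofComponents (fun X =>
    { hom := mkP (X := X) (X' := (E c ⋙ E' c).obj X) (𝟙 X.base) (by
        intro w hw
        refine mem_of_Ymap_id _ w ?_
        change c.κ.inv.app (op (up X.base.unop)) (c.κ.hom.app (op (up X.base.unop))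
          (w : (Ypart Y).obj (op (up X.base.unop)))) ∈ fibP X
        rw [c.hom_inv]
        exact hw)
      inv := mkP (X := (E c ⋙ E' c).obj X) (X' := X) (𝟙 X.base) (by
        intro w hw
        refine mem_of_Ymap_id (fibP X) w ?_
        have hw' : c.κ.inv.app (op (up X.base.unop)) (c.κ.hom.app (op (up X.base.unop))
          (w : (Ypart Y).obj (op (up X.base.unop)))) ∈ fibP X := hw
        rw [c.hom_inv] at hw'
        exact hw')
      hom_inv_id := homP_ext _ _ (Category.comp_id _)
      inv_hom_id := homP_ext _ _ (Category.comp_id _) })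
    (by
      intro X X' f
      exact homP_ext _ _ ((Category.comp_id _).trans (Category.id_comp _).symm))

/-- the counit of the equivalence -/
def counitIso : E' c ⋙ E c ≅ 𝟭 (Obj D.Y) :=
  NatIso.ofComponents (fun A =>
    { hom := DSite.mkHom (A := (E' c ⋙ E c).obj A) (B := A) (𝟙 A.i) (by
        intro w hw
        refine DeltaAcyc.mem_of_tr_id D A.U w ?_
        have hw' : c.κ.hom.app (op A.i) (c.κ.inv.app (op A.i) (w : D.Y.obj (op A.i))) ∈ A.U := hw
        rw [c.inv_hom] at hw'
        exact hw')
      inv := DSite.mkHom (A := A) (B := (E' c ⋙ E c).obj A) (𝟙 A.i) (by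
        intro w hw
        refine DeltaAcyc.mem_of_tr_id D _ w ?_
        change c.κ.hom.app (op A.i) (c.κ.inv.app (op A.i) (w : D.Y.obj (op A.i))) ∈ A.U
        rw [c.inv_hom]
        exact hw)
      hom_inv_id := DSite.hom_ext (Category.comp_id _)
      inv_hom_id := DSite.hom_ext (Category.comp_id _) })
    (by
      intro A B m
      exact DSite.hom_ext ((Category.id_comp _).trans (Category.comp_id _).symm))

/-- the equivalence between the total category of the part and the diagram site -/
def eqv : TotP Y ≌ Obj D.Y := CategoryTheory.Equivalence.mk (E c) (E' c) (unitIso c) (counitIso c)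

lemma eqv_functor : (eqv c).functor = E c := rfl

lemma eqv_inverse : (eqv c).inverse = E' c := rfl

/-- the object of the total category of the part attached to an open subset of a level -/
abbrev objP (n : SimplexCategoryᵒᵖ) (U : Opens (Y.obj ((toAug SimplexCategory).obj n))) : TotP Y :=
  ⟨n, U⟩

lemma cover_fibre {X : TotP Y} {R : Sieve X.fiber}
    (h : ∀ w ∈ fibP X, ∃ (W : Opens (Y.obj ((toAug SimplexCategory).obj X.base)))
      (g : W ⟶ fibP X), R.arrows g ∧ w ∈ W) :
    R ∈ partTop (topAug Y) (topAugTop Y) X.base X.fiber := h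

lemma cover_fibre' {X : TotP Y} {R : Sieve X.fiber}
    (h : R ∈ partTop (topAug Y) (topAugTop Y) X.base X.fiber) :
    ∀ w ∈ fibP X, ∃ (W : Opens (Y.obj ((toAug SimplexCategory).obj X.base)))
      (g : W ⟶ fibP X), R.arrows g ∧ w ∈ W := h

instance ECocont : (E c).IsCocontinuous (totPart (topAug Y) (topAugTop Y)) (J D.Y) where
  cover_lift {X S} hS := by
    refine (mem_totalTopology_iff _ (preFibPart Y) X _).2
      ⟨(S.functorPullback (E c)).functorPullback (ι (part (topAug Y)) X.base), ?_,
        Sieve.functorPullback_pushforward_le _ _⟩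
    apply cover_fibre
    intro w hw
    have hx : c.κ.hom.app (op (up X.base.unop)) (w : (Ypart Y).obj (op (up X.base.unop))) ∈
        ((E c).obj X).U := by
      change c.κ.inv.app (op (up X.base.unop)) (c.κ.hom.app (op (up X.base.unop))
          (w : (Ypart Y).obj (op (up X.base.unop)))) ∈ fibP X
      rw [c.hom_inv]
      exact hw
    obtain ⟨V, hV, hxV, hSV⟩ := hS _ hx
    have hW : (Opens.map (c.κ.hom.app (op (up X.base.unop)))).obj V ≤ fibP X := by
      intro w' hw'
      have h1 : c.κ.inv.app (op (up X.base.unop)) (c.κ.hom.app (op (up X.base.unop))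
          (w' : (Ypart Y).obj (op (up X.base.unop)))) ∈ fibP X := hV hw'
      rw [c.hom_inv] at h1
      exact h1
    let gW : (Opens.map (c.κ.hom.app (op (up X.base.unop)))).obj V ⟶ fibP X := homOfLE hW
    refine ⟨(Opens.map (c.κ.hom.app (op (up X.base.unop)))).obj V, gW, ?_, hxV⟩
    change S.arrows ((E c).map ((ι (part (topAug Y)) X.base).map gW))
    have e : (E c).map ((ι (part (topAug Y)) X.base).map gW) =
        DSite.mkHom (A := (E c).obj ((ι (part (topAug Y)) X.base).obj
          ((Opens.map (c.κ.hom.app (op (up X.base.unop)))).obj V)))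
          (B := ⟨up X.base.unop, V⟩) (𝟙 _) (by
            intro y hy
            refine DeltaAcyc.mem_of_tr_id D V y ?_
            have h1 : c.κ.hom.app (op (up X.base.unop)) (c.κ.inv.app (op (up X.base.unop))
              (y : D.Y.obj (op (up X.base.unop)))) ∈ V := hy
            rw [c.inv_hom] at h1
            exact h1) ≫ inclO D.Y ((E c).obj X) V hV :=
      DSite.hom_ext ((AsSmall.up.map_id _).trans (Category.comp_id _).symm)
    rw [e]
    exact S.downward_closed hSV _

instance E'Cocont : (E' c).IsCocontinuous (J D.Y) (totPart (topAug Y) (topAugTop Y)) where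
  cover_lift {A S} hS := by
    obtain ⟨R, hR, hle⟩ := (mem_totalTopology_iff _ (preFibPart Y) _ S).1 hS
    intro x hx
    have hw : c.κ.inv.app (op A.i) x ∈ fibP ((E' c).obj A) := by
      change c.κ.hom.app (op A.i) (c.κ.inv.app (op A.i) x) ∈ A.U
      rw [c.inv_hom]
      exact hx
    obtain ⟨W, g, hg, hwW⟩ := cover_fibre' hR _ hw
    have hV : (Opens.map (c.κ.inv.app (op A.i))).obj W ≤ A.U := by
      intro y hy
      have h1 : c.κ.hom.app (op A.i) (c.κ.inv.app (op A.i) y) ∈ A.U := leOfHom g hy
      rw [c.inv_hom] at h1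
      exact h1
    refine ⟨(Opens.map (c.κ.inv.app (op A.i))).obj W, hV, hwW, ?_⟩
    change S.arrows ((E' c).map (inclO D.Y A _ hV))
    have e : (E' c).map (inclO D.Y A _ hV) =
        mkP (X := (E' c).obj ⟨A.i, (Opens.map (c.κ.inv.app (op A.i))).obj W⟩)
          (X' := objP ((E' c).obj A).base W) (𝟙 _) (by
            intro y hy
            refine mem_of_Ymap_id W y ?_
            have h1 : c.κ.inv.app (op A.i) (c.κ.hom.app (op A.i)
              (y : (Ypart Y).obj (op A.i))) ∈ W := hy
            rw [c.hom_inv] at h1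
            exact h1) ≫ (ι (part (topAug Y)) ((E' c).obj A).base).map g :=
      homP_ext _ _ ((congrArg Quiver.Hom.op (AsSmall.down.map_id A.i)).trans
        (Category.comp_id _).symm)
    rw [e]
    exact S.downward_closed (hle _ (Sieve.image_mem_functorPushforward _ _ hg)) _

instance : (eqv c).functor.IsCocontinuous (totPart (topAug Y) (topAugTop Y)) (J D.Y) := ECocont c

instance : (eqv c).inverse.IsCocontinuous (J D.Y) (totPart (topAug Y) (topAugTop Y)) := E'Cocont c

instance : (eqv c).inverse.IsDenseSubsite (J D.Y) (totPart (topAug Y) (topAugTop Y)) :=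
  Equivalence.isDenseSubsite_inverse_of_isCocontinuous _ _ (eqv c)

/-- the equivalence between the sheaves on the total site of the part and the sheaves on the
diagram site -/
def shEqv : DSh (topAug Y) (topAugTop Y) AddCommGrpCat.{u} ≌ Sh D.Y :=
  (eqv c).sheafCongr (totPart (topAug Y) (topAugTop Y)) (J D.Y) AddCommGrpCat.{u}

lemma shEqv_functor_obj_obj (G : DSh (topAug Y) (topAugTop Y) AddCommGrpCat.{u}) :
    ((shEqv c).functor.obj G).obj = (E' c).op ⋙ G.obj := rfl

lemma shEqv_inverse_obj_obj (H : Sh D.Y) :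
    ((shEqv c).inverse.obj H).obj = (E c).op ⋙ H.obj := rfl

lemma shEqv_functor_map_hom {G G' : DSh (topAug Y) (topAugTop Y) AddCommGrpCat.{u}} (θ : G ⟶ G') :
    ((shEqv c).functor.map θ).hom = Functor.whiskerLeft (E' c).op θ.hom := rfl

end Groth.Agent.Lib.Helper5.FDSite
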