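import Mathlib
import Groth.Agent.Lib.Helper28.PullTensor1
import Groth.Agent.Lib.Helper29.QCohGen
import Groth.Agent.Lib.Helper29.QCohFinite

/-!
# Descent of finite type along flat surjective open morphisms (helper5)

`main9837`: for `f : X ⟶ Y` flat, surjective with open underlying map and ANY `O_Y`-module `F`,
if `f^* F` is of finite type then `F` is of finite type.

Ingredients: helper28's stalk-of-pullback isomorphism with its value on unit sections
(`pullStalk_gm_etaSec`), helper29's local form of finite type (`exists_affine_sections_span_eq_top`,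
`generatingSectionsRestrictOfSpan`, `isFiniteType_of_isOpenCover`), and faithful flatness of flat local
homomorphisms.
-/

set_option autoImplicit false
universe u
open CategoryTheory CategoryTheory.Limits AlgebraicGeometry Opposite TopologicalSpace TensorProduct

namespace Groth.Agent.Lib.Helper5.FTDescent

open Groth.Agent.Lib.Helper29.QCoh
open Groth.Agent.Lib.Helper28.StalkTensor

/-! ### Algebra -/

section Algebra

variable {R S : Type*} [CommRing R] [CommRing S] [Algebra R S]
variable {M : Type*} [AddCommGroup M] [Module R M]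

theorem span_one_tmul_eq_top :
    Submodule.span S (Set.range fun m : M => (1 : S) ⊗ₜ[R] m) = (⊤ : Submodule S (S ⊗[R] M)) := by
  rw [eq_top_iff]
  rintro z -
  induction z using TensorProduct.induction_on with
  | zero => exact Submodule.zero_mem _
  | tmul a m =>
    have h : a ⊗ₜ[R] m = a • ((1 : S) ⊗ₜ[R] m) := by
      rw [TensorProduct.smul_tmul', smul_eq_mul, mul_one]
    rw [h]
    exact Submodule.smul_mem _ _ (Submodule.subset_span ⟨m, rfl⟩)
  | add a b ha hb => exact Submodule.add_mem _ ha hb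

theorem exists_fin_span_one_tmul [Module.Finite S (S ⊗[R] M)] :
    ∃ (r : ℕ) (m : Fin r → M),
      Submodule.span S (Set.range fun k => (1 : S) ⊗ₜ[R] m k) = (⊤ : Submodule S (S ⊗[R] M)) := by
  classical
  have hfg : (Submodule.span S (Set.range fun m : M => (1 : S) ⊗ₜ[R] m)).FG := by
    rw [span_one_tmul_eq_top]
    exact Module.Finite.fg_top
  obtain ⟨T', hT'sub, hT'⟩ := (Submodule.fg_span_iff_fg_span_finset_subset _).1 hfg
  have hex : ∀ z ∈ T', ∃ m : M, (1 : S) ⊗ₜ[R] m = z := fun z hz => hT'sub (Finset.mem_coe.2 hz)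
  refine ⟨T'.card, fun k => Classical.choose (hex (T'.equivFin.symm k).1 (T'.equivFin.symm k).2), ?_⟩
  rw [eq_top_iff, ← span_one_tmul_eq_top (R := R) (S := S) (M := M), hT', Submodule.span_le]
  intro z hz
  have hz' : z ∈ T' := Finset.mem_coe.1 hz
  refine Submodule.subset_span ⟨T'.equivFin ⟨z, hz'⟩, ?_⟩
  have h1 := Classical.choose_spec (hex (T'.equivFin.symm (T'.equivFin ⟨z, hz'⟩)).1
    (T'.equivFin.symm (T'.equivFin ⟨z, hz'⟩)).2)
  show (1 : S) ⊗ₜ[R] Classical.choose (hex (T'.equivFin.symm (T'.equivFin ⟨z, hz'⟩)).1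
    (T'.equivFin.symm (T'.equivFin ⟨z, hz'⟩)).2) = z
  rw [h1, Equiv.symm_apply_apply]

theorem span_eq_top_of_span_one_tmul [Module.FaithfullyFlat R S] {ι : Type*} [Fintype ι]
    (m : ι → M)
    (h : Submodule.span S (Set.range fun k => (1 : S) ⊗ₜ[R] m k) =
      (⊤ : Submodule S (S ⊗[R] M))) :
    Submodule.span R (Set.range m) = ⊤ := by
  classical
  rw [← Fintype.range_linearCombination, LinearMap.range_eq_top]
  have hsurj : Function.Surjective ((Fintype.linearCombination R m).baseChange S) := by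
    rw [← LinearMap.range_eq_top, eq_top_iff, ← h, Submodule.span_le]
    rintro _ ⟨k, rfl⟩
    refine ⟨(1 : S) ⊗ₜ[R] (Pi.single k (1 : R)), ?_⟩
    rw [LinearMap.baseChange_tmul, Fintype.linearCombination_apply_single, one_smul]
  have hsurj' : Function.Surjective ((Fintype.linearCombination R m).lTensor S) := fun z => by
    obtain ⟨w, hw⟩ := hsurj z
    exact ⟨w, hw⟩
  exact (Module.FaithfullyFlat.lTensor_surjective_iff_surjective _ _ _).1 hsurj'

theorem span_range_eq_top_of_linearEquiv {A N N' ι : Type*} [Semiring A] [AddCommMonoid N]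
    [AddCommMonoid N'] [Module A N] [Module A N'] (ε : N ≃ₗ[A] N') (v : ι → N) (w : ι → N')
    (h : ∀ k, ε (v k) = w k) (hv : Submodule.span A (Set.range v) = ⊤) :
    Submodule.span A (Set.range w) = ⊤ := by
  rw [eq_top_iff]
  rintro z -
  have hz : ε.symm z ∈ Submodule.span A (Set.range v) := by rw [hv]; trivial
  have key : ∀ a ∈ Submodule.span A (Set.range v), ε a ∈ Submodule.span A (Set.range w) := by
    intro a ha
    induction ha using Submodule.span_induction with
    | mem a ha =>
      obtain ⟨k, rfl⟩ := ha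
      rw [h k]
      exact Submodule.subset_span ⟨k, rfl⟩
    | zero => rw [map_zero]; exact Submodule.zero_mem _
    | add a b _ _ ha hb => rw [map_add]; exact Submodule.add_mem _ ha hb
    | smul c a _ ha => rw [map_smul]; exact Submodule.smul_mem _ _ ha
  have h2 := key _ hz
  rwa [LinearEquiv.apply_symm_apply] at h2

end Algebra

/-! ### Sections and germs -/

section Germs

variable {X : Scheme.{u}}

/-- finitely many stalk elements are germs of sections over a common open -/
theorem exists_common_sections (M : X.Modules) (x : X) {r : ℕ} (m : Fin r → M.presheaf.stalk x) :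
    ∃ (V : X.Opens) (hxV : x ∈ V) (t : Fin r → Γ(M, V)),
      ∀ k, M.presheaf.germ V x hxV (t k) = m k := by
  choose A hxA a ha using fun k => M.presheaf.exists_germ_eq (m k)
  have hx : x ∈ ⨅ k, A k := by
    rw [← SetLike.mem_coe, Opens.coe_iInf]
    exact Set.mem_iInter.mpr hxA
  refine ⟨⨅ k, A k, hx, fun k => res M (iInf_le _ k) (a k), fun k => ?_⟩
  rw [germ_res]
  exact ha k

/-- membership of a germ in the span of finitely many germs spreads to a neighbourhood -/
theorem exists_nhds_germ_mem_span (M : X.Modules) {U V : X.Opens} {r : ℕ} (u : Fin r → Γ(M, V))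
    (s : Γ(M, U)) (x : X) (hxU : x ∈ U) (hxV : x ∈ V)
    (h : M.presheaf.germ U x hxU s ∈ Submodule.span (X.presheaf.stalk x)
        (Set.range fun k => M.presheaf.germ V x hxV (u k))) :
    ∃ (W : X.Opens) (hWU : W ≤ U) (hWV : W ≤ V), x ∈ W ∧ ∀ (z : X) (hz : z ∈ W),
      M.presheaf.germ U z (hWU hz) s ∈ Submodule.span (X.presheaf.stalk z)
        (Set.range fun k => M.presheaf.germ V z (hWV hz) (u k)) := by
  rw [Submodule.mem_span_range_iff_exists_fun] at h
  obtain ⟨c, hc⟩ := h
  have hc' : ∑ k, c k • M.presheaf.germ V x hxV (u k) = M.presheaf.germ U x hxU s := hc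
  choose A hxA a ha using fun k => X.presheaf.exists_germ_eq (c k)
  have hW₀U : U ⊓ V ⊓ ⨅ k, A k ≤ U := inf_le_left.trans inf_le_left
  have hW₀V : U ⊓ V ⊓ ⨅ k, A k ≤ V := inf_le_left.trans inf_le_right
  have hW₀A : ∀ k, U ⊓ V ⊓ ⨅ k, A k ≤ A k := fun k => inf_le_right.trans (iInf_le _ k)
  have hxW₀ : x ∈ U ⊓ V ⊓ ⨅ k, A k := by
    refine ⟨⟨hxU, hxV⟩, ?_⟩
    rw [SetLike.mem_coe, ← SetLike.mem_coe, Opens.coe_iInf]
    exact Set.mem_iInter.mpr hxA
  have hterm : ∀ (z : X) (hz : z ∈ U ⊓ V ⊓ ⨅ k, A k) (k : Fin r),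
      M.presheaf.germ (U ⊓ V ⊓ ⨅ k, A k) z hz
        ((X.presheaf.map (homOfLE (hW₀A k)).op (a k)) • res M hW₀V (u k)) =
      X.presheaf.germ (A k) z (hW₀A k hz) (a k) • M.presheaf.germ V z (hW₀V hz) (u k) := by
    intro z hz k
    rw [germ_smul, germ_res]
    congr 1
    exact X.presheaf.germ_res_apply (homOfLE (hW₀A k)) z hz (a k)
  have hd : M.presheaf.germ (U ⊓ V ⊓ ⨅ k, A k) x hxW₀
      (res M hW₀U s - ∑ k, (X.presheaf.map (homOfLE (hW₀A k)).op (a k)) • res M hW₀V (u k)) = 0 := by
    rw [map_sub, map_sum, germ_res, Finset.sum_congr rfl (fun k _ => hterm x hxW₀ k)]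
    rw [Finset.sum_congr rfl (fun k _ => by rw [ha k]), hc', sub_self]
  obtain ⟨W, hWW₀, hxW, hW⟩ := exists_res_eq_zero_of_germ_eq_zero M x hxW₀ _ hd
  refine ⟨W, hWW₀.trans hW₀U, hWW₀.trans hW₀V, hxW, fun z hz => ?_⟩
  have hzW₀ : z ∈ U ⊓ V ⊓ ⨅ k, A k := hWW₀ hz
  have h0 : M.presheaf.germ (U ⊓ V ⊓ ⨅ k, A k) z hzW₀
      (res M hW₀U s - ∑ k, (X.presheaf.map (homOfLE (hW₀A k)).op (a k)) • res M hW₀V (u k)) = 0 := by
    rw [← germ_res M hWW₀ z hz, hW, map_zero]
  rw [map_sub, map_sum, germ_res, Finset.sum_congr rfl (fun k _ => hterm z hzW₀ k),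
    sub_eq_zero] at h0
  have h1 : M.presheaf.germ U z ((hWW₀.trans hW₀U) hz) s =
      ∑ k, X.presheaf.germ (A k) z (hW₀A k hzW₀) (a k) • M.presheaf.germ V z (hW₀V hzW₀) (u k) := h0
  rw [h1]
  exact Submodule.sum_mem _ fun k _ =>
    Submodule.smul_mem _ _ (Submodule.subset_span ⟨k, rfl⟩)

end Germs

/-! ### The stalk of a pullback -/

section Stalk

variable {X Y : Scheme.{u}} (f : X ⟶ Y) (F : Y.Modules) (z : X)

/-- the underlying module of `extendScalars` is the base change along `toAlgebra`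
(copy of helper18's `extendScalarsEquiv`) -/
noncomputable def extendScalarsEquiv {A B : Type u} [CommRing A] [CommRing B] (φ : A →+* B)
    (M : Type u) [AddCommGroup M] [Module A M] :
    letI := φ.toAlgebra
    ((ModuleCat.extendScalars φ).obj (ModuleCat.of A M)) ≃ₗ[B] (B ⊗[A] M) :=
  letI := φ.toAlgebra
  LinearEquiv.refl B (B ⊗[A] M)

/-- the stalk of a pullback module as a base change of the stalk
(copy of helper18's `stalkPullbackEquiv`) -/
noncomputable def stalkEquiv :
    letI := (f.stalkMap z).hom.toAlgebra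
    (((Scheme.Modules.pullback f).obj F).presheaf.stalk z) ≃ₗ[X.presheaf.stalk z]
      ((X.presheaf.stalk z) ⊗[Y.presheaf.stalk (f.base z)] (F.presheaf.stalk (f.base z))) :=
  letI := (f.stalkMap z).hom.toAlgebra
  (((pullStalkNatIso f z).app F).toLinearEquiv).trans
    (extendScalarsEquiv (f.stalkMap z).hom (F.presheaf.stalk (f.base z)))

theorem stalkEquiv_germ_etaSec (V : Y.Opens) (hz : f.base z ∈ V) (m : Γ(F, V)) :
    letI := (f.stalkMap z).hom.toAlgebra
    stalkEquiv f F z (((Scheme.Modules.pullback f).obj F).presheaf.germ (f ⁻¹ᵁ V) z hz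
        (etaSec f F V m)) =
      (1 : X.presheaf.stalk z) ⊗ₜ[Y.presheaf.stalk (f.base z)]
        (F.presheaf.germ V (f.base z) hz m) :=
  pullStalk_gm_etaSec f z F V hz m

/-- descent of generation of a stalk along the flat local homomorphism of stalks -/
theorem span_germ_eq_top_of_pull [Flat f] {V : Y.Opens} (hz : f.base z ∈ V) {r : ℕ}
    (t : Fin r → Γ(F, V))
    (h : Submodule.span (X.presheaf.stalk z) (Set.range fun k =>
        ((Scheme.Modules.pullback f).obj F).presheaf.germ (f ⁻¹ᵁ V) z hz (etaSec f F V (t k))) = ⊤) :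
    Submodule.span (Y.presheaf.stalk (f.base z))
      (Set.range fun k => F.presheaf.germ V (f.base z) hz (t k)) = ⊤ := by
  letI := (f.stalkMap z).hom.toAlgebra
  have hfl : Module.Flat (Y.presheaf.stalk (f.base z)) (X.presheaf.stalk z) := Flat.stalkMap f z
  have hloc : IsLocalHom (algebraMap (Y.presheaf.stalk (f.base z)) (X.presheaf.stalk z)) :=
    (inferInstance : IsLocalHom (f.stalkMap z).hom)
  have hff : Module.FaithfullyFlat (Y.presheaf.stalk (f.base z)) (X.presheaf.stalk z) :=
    Module.FaithfullyFlat.of_flat_of_isLocalHom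
  apply span_eq_top_of_span_one_tmul (S := X.presheaf.stalk z)
  exact span_range_eq_top_of_linearEquiv (stalkEquiv f F z) _ _
    (fun k => stalkEquiv_germ_etaSec f F z V hz (t k)) h

/-- ascent: if `1 ⊗ germ t_k` generate the base change then the germs of the pulled back sections
generate the stalk of the pullback -/
theorem span_germ_etaSec_eq_top {V : Y.Opens} (hz : f.base z ∈ V) {r : ℕ}
    (t : Fin r → Γ(F, V))
    (h : letI := (f.stalkMap z).hom.toAlgebra
      Submodule.span (X.presheaf.stalk z) (Set.range fun k =>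
        (1 : X.presheaf.stalk z) ⊗ₜ[Y.presheaf.stalk (f.base z)]
          (F.presheaf.germ V (f.base z) hz (t k))) = ⊤) :
    Submodule.span (X.presheaf.stalk z) (Set.range fun k =>
        ((Scheme.Modules.pullback f).obj F).presheaf.germ (f ⁻¹ᵁ V) z hz (etaSec f F V (t k))) = ⊤ := by
  letI := (f.stalkMap z).hom.toAlgebra
  refine span_range_eq_top_of_linearEquiv (stalkEquiv f F z).symm _ _ (fun k => ?_) h
  rw [LinearEquiv.symm_apply_eq]
  exact (stalkEquiv_germ_etaSec f F z V hz (t k)).symm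

end Stalk

/-! ### The main theorem -/

section Main

variable {X Y : Scheme.{u}} (f : X ⟶ Y)

theorem exists_local_gens [Flat f] (hf : IsOpenMap f.base) (F : Y.Modules)
    [hG : ((Scheme.Modules.pullback f).obj F).IsFiniteType] (x : X) :
    ∃ (V : Y.Opens) (_ : f.base x ∈ V) (r : ℕ) (t : Fin r → Γ(F, V)),
      ∀ (y' : Y) (hy' : y' ∈ V), Submodule.span (Y.presheaf.stalk y')
        (Set.range fun k => F.presheaf.germ V y' hy' (t k)) = ⊤ := by
  obtain ⟨U, -, hxU, n, s, hs⟩ :=
    exists_affine_sections_span_eq_top ((Scheme.Modules.pullback f).obj F) x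
  -- finitely many elements of the stalk of `F` generating the base change
  obtain ⟨r, m, hm⟩ : ∃ (r : ℕ) (m : Fin r → F.presheaf.stalk (f.base x)),
      letI := (f.stalkMap x).hom.toAlgebra
      Submodule.span (X.presheaf.stalk x) (Set.range fun k =>
        (1 : X.presheaf.stalk x) ⊗ₜ[Y.presheaf.stalk (f.base x)] m k) = ⊤ := by
    letI := (f.stalkMap x).hom.toAlgebra
    have hfin : Module.Finite (X.presheaf.stalk x)
        (((Scheme.Modules.pullback f).obj F).presheaf.stalk x) := by
      rw [Module.finite_def, ← hs x hxU]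
      exact Submodule.fg_span (Set.finite_range _)
    have hfin' : Module.Finite (X.presheaf.stalk x)
        ((X.presheaf.stalk x) ⊗[Y.presheaf.stalk (f.base x)] (F.presheaf.stalk (f.base x))) :=
      Module.Finite.equiv (stalkEquiv f F x)
    exact exists_fin_span_one_tmul
  obtain ⟨V, hxV, t, ht⟩ := exists_common_sections F (f.base x) m
  -- the germs of the pulled back sections generate at `x`
  have hb : Submodule.span (X.presheaf.stalk x) (Set.range fun k =>
      ((Scheme.Modules.pullback f).obj F).presheaf.germ (f ⁻¹ᵁ V) x hxV (etaSec f F V (t k))) = ⊤ := by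
    apply span_germ_etaSec_eq_top f F x hxV t
    simp only [ht]
    exact hm
  -- spread out
  have hmem : ∀ i, ((Scheme.Modules.pullback f).obj F).presheaf.germ U x hxU (s i) ∈
      Submodule.span (X.presheaf.stalk x) (Set.range fun k =>
        ((Scheme.Modules.pullback f).obj F).presheaf.germ (f ⁻¹ᵁ V) x hxV (etaSec f F V (t k))) := by
    intro i
    rw [hb]
    trivial
  choose W hWU hWV hxW hW using fun i =>
    exists_nhds_germ_mem_span ((Scheme.Modules.pullback f).obj F)
      (fun k => etaSec f F V (t k)) (s i) x hxU hxV (hmem i)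
  have key : ∀ (z : X) (hzV : z ∈ f ⁻¹ᵁ V), z ∈ U → (∀ i, z ∈ W i) →
      Submodule.span (Y.presheaf.stalk (f.base z))
        (Set.range fun k => F.presheaf.germ V (f.base z) hzV (t k)) = ⊤ := by
    intro z hzV hzU hzW
    apply span_germ_eq_top_of_pull f F z hzV t
    rw [eq_top_iff, ← hs z hzU, Submodule.span_le]
    rintro _ ⟨i, rfl⟩
    exact hW i z (hzW i)
  have hopen : IsOpen (f.base '' ((U ⊓ f ⁻¹ᵁ V ⊓ ⨅ i, W i : X.Opens) : Set X)) :=
    hf _ (U ⊓ f ⁻¹ᵁ V ⊓ ⨅ i, W i : X.Opens).isOpen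
  have hle : (⟨f.base '' ((U ⊓ f ⁻¹ᵁ V ⊓ ⨅ i, W i : X.Opens) : Set X), hopen⟩ : Y.Opens) ≤ V := by
    rintro _ ⟨z, hz, rfl⟩
    exact hz.1.2
  have hxW' : x ∈ (U ⊓ f ⁻¹ᵁ V ⊓ ⨅ i, W i : X.Opens) := by
    refine ⟨⟨hxU, hxV⟩, ?_⟩
    rw [SetLike.mem_coe, ← SetLike.mem_coe, Opens.coe_iInf]
    exact Set.mem_iInter.mpr hxW
  refine ⟨⟨f.base '' ((U ⊓ f ⁻¹ᵁ V ⊓ ⨅ i, W i : X.Opens) : Set X), hopen⟩, ⟨x, hxW', rfl⟩, r,
    fun k => res F hle (t k), ?_⟩
  intro y' hy'
  obtain ⟨z, hz, rfl⟩ := hy'
  have hzW : ∀ i, z ∈ W i := by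
    have h2 := hz.2
    rw [SetLike.mem_coe, ← SetLike.mem_coe, Opens.coe_iInf] at h2
    exact fun i => Set.mem_iInter.mp h2 i
  rw [eq_top_iff, ← key z hz.1.2 hz.1.1 hzW, Submodule.span_le]
  rintro _ ⟨k, rfl⟩
  refine Submodule.subset_span ⟨k, ?_⟩
  exact germ_res F hle (f.base z) _ (t k)

theorem main9837 [Flat f] [Surjective f] (hf : IsOpenMap f.base) (F : Y.Modules)
    (h : ((Scheme.Modules.pullback f).obj F).IsFiniteType) : F.IsFiniteType := by
  have hsurj : ∀ y : Y, ∃ x : X, f.base x = y := fun y => f.surjective y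
  choose g hg using hsurj
  choose V hV r t ht using fun y : Y => exists_local_gens f hf F (g y)
  let σ : ∀ y : Y, (F.restrict (V y).ι).GeneratingSections := fun y =>
    generatingSectionsRestrictOfSpan F (V y) (fun k : ULift.{u} (Fin (r y)) => t y k.down)
      (fun y' hy' => by
        rw [eq_top_iff, ← ht y y' hy', Submodule.span_le]
        rintro _ ⟨k, rfl⟩
        exact Submodule.subset_span ⟨⟨k⟩, rfl⟩)
  have hfin : ∀ y, Finite (σ y).I := fun y => inferInstanceAs (Finite (ULift.{u} (Fin (r y))))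
  refine isFiniteType_of_isOpenCover F V ?_ σ
  rw [IsOpenCover, eq_top_iff]
  rintro y -
  have h1 := hV y
  rw [hg y] at h1
  exact Opens.mem_iSup.mpr ⟨y, h1⟩

end Main

end Groth.Agent.Lib.Helper5.FTDescent
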