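import Mathlib
import Groth.Agent.Lib.Helper5.FTDescent

/-!
# fpqc descent of "locally generated by at most `r` sections" for quasi-coherent modules (helper5)

`main9861`: `F` quasi-coherent on `X`, `(f i : X i ⟶ X)` an fpqc covering family with every `(f i)^* F`
locally generated by at most `r` sections; then `F` is locally generated by at most `r` sections.
-/

set_option autoImplicit false
universe u
open CategoryTheory CategoryTheory.Limits AlgebraicGeometry Opposite TopologicalSpace TensorProduct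
open Module

namespace Groth.Agent.Lib.Helper5.FTDescent

open Groth.Agent.Lib.Helper29.QCoh
open Groth.Agent.Lib.Helper28.StalkTensor

/-! ### Algebra -/

section Algebra2

theorem span_one_tmul_of_span {R S : Type*} [CommRing R] [CommRing S] [Algebra R S]
    {M : Type*} [AddCommGroup M] [Module R M] {Γ : Type*} (g : Γ → M)
    (h : Submodule.span R (Set.range g) = ⊤) :
    Submodule.span S (Set.range fun γ => (1 : S) ⊗ₜ[R] g γ) = (⊤ : Submodule S (S ⊗[R] M)) := by
  have key : ∀ n ∈ Submodule.span R (Set.range g),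
      (1 : S) ⊗ₜ[R] n ∈ Submodule.span S (Set.range fun γ => (1 : S) ⊗ₜ[R] g γ) := by
    intro n hn
    induction hn using Submodule.span_induction with
    | mem n hn =>
      obtain ⟨γ, rfl⟩ := hn
      exact Submodule.subset_span ⟨γ, rfl⟩
    | zero => rw [TensorProduct.tmul_zero]; exact Submodule.zero_mem _
    | add a b _ _ ha hb => rw [TensorProduct.tmul_add]; exact Submodule.add_mem _ ha hb
    | smul c a _ ha =>
      rw [TensorProduct.tmul_smul]
      exact Submodule.smul_of_tower_mem _ c ha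
  rw [eq_top_iff, ← span_one_tmul_eq_top (R := R) (S := S) (M := M), Submodule.span_le]
  rintro _ ⟨n, rfl⟩
  exact key n (by rw [h]; trivial)

/-- Nakayama selection: over a local ring, from a spanning family of a module generated by `r`
elements one can select at most `r` members which still span. -/
theorem exists_fin_le_span_of_span {S : Type*} [CommRing S] [IsLocalRing S] {P : Type*}
    [AddCommGroup P] [Module S P] {Γ : Type*} (v : Γ → P)
    (hv : Submodule.span S (Set.range v) = ⊤)
    {r : ℕ} (e : Fin r → P) (he : Submodule.span S (Set.range e) = ⊤) :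
    ∃ (r' : ℕ) (_ : r' ≤ r) (τ : Fin r' → Γ),
      Submodule.span S (Set.range fun k => v (τ k)) = ⊤ := by
  classical
  have hfinP : Module.Finite S P := by
    rw [Module.finite_def, ← he]
    exact Submodule.fg_span (Set.finite_range _)
  have hspanV : Submodule.span (IsLocalRing.ResidueField S)
      (Set.range fun γ => (1 : IsLocalRing.ResidueField S) ⊗ₜ[S] v γ) = ⊤ :=
    span_one_tmul_of_span (R := S) (S := IsLocalRing.ResidueField S) v hv
  obtain ⟨b, hbsub, hbspan, hbli⟩ := exists_linearIndependent (IsLocalRing.ResidueField S)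
    (Set.range fun γ => (1 : IsLocalRing.ResidueField S) ⊗ₜ[S] v γ)
  have hbtop : ⊤ ≤ Submodule.span (IsLocalRing.ResidueField S)
      (Set.range ((↑) : b → (IsLocalRing.ResidueField S) ⊗[S] P)) := by
    rw [Subtype.range_coe, hbspan, hspanV]
  let B : Basis b (IsLocalRing.ResidueField S) ((IsLocalRing.ResidueField S) ⊗[S] P) :=
    Basis.mk hbli hbtop
  have hBfin : Finite b := Module.Finite.finite_basis B
  have hcard : Nat.card b ≤ r := by
    rw [← Module.finrank_eq_nat_card_basis B]
    have h1 : Submodule.span (IsLocalRing.ResidueField S)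
        (Set.range fun i => (1 : IsLocalRing.ResidueField S) ⊗ₜ[S] e i) = ⊤ :=
      span_one_tmul_of_span (R := S) (S := IsLocalRing.ResidueField S) e he
    have h2 : finrank (IsLocalRing.ResidueField S) (Submodule.span (IsLocalRing.ResidueField S)
        (Set.range fun i => (1 : IsLocalRing.ResidueField S) ⊗ₜ[S] e i)) ≤ Fintype.card (Fin r) :=
      finrank_range_le_card (R := IsLocalRing.ResidueField S) _
    rw [h1, finrank_top, Fintype.card_fin] at h2
    exact h2
  have hex : ∀ w : b, ∃ γ : Γ, (1 : IsLocalRing.ResidueField S) ⊗ₜ[S] v γ = (w : _) :=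
    fun w => hbsub w.2
  choose g hg using hex
  have hspan : Submodule.span S (Set.range fun w : b => v (g w)) = ⊤ :=
    IsLocalRing.span_eq_top_of_tmul_eq_basis (fun w : b => v (g w)) B
      (fun w => by rw [hg w, Basis.mk_apply])
  refine ⟨Nat.card b, hcard, fun j => g ((Finite.equivFin b).symm j), ?_⟩
  rw [eq_top_iff, ← hspan, Submodule.span_le]
  rintro _ ⟨w, rfl⟩
  refine Submodule.subset_span ⟨Finite.equivFin b w, ?_⟩
  show v (g ((Finite.equivFin b).symm (Finite.equivFin b w))) = v (g w)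
  rw [Equiv.symm_apply_apply]

end Algebra2

/-! ### Sections of quasi-coherent modules over affine opens -/

section QC

variable {X : Scheme.{u}}

theorem span_range_germ_eq_top (M : X.Modules) [M.IsQuasicoherent] {U : X.Opens}
    (hU : IsAffineOpen U) (x : X) (hx : x ∈ U) :
    Submodule.span (X.presheaf.stalk x)
      (Set.range fun m : Γ(M, U) => M.presheaf.germ U x hx m) = ⊤ := by
  rw [eq_top_iff]
  rintro v -
  obtain ⟨ρ, m, hρ, hρm⟩ := exists_smul_germ_eq M hU x hx v
  obtain ⟨w, hw⟩ := isUnit_germ_of_mem_basicOpen ρ x hx hρ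
  have hv : v = (↑w⁻¹ : X.presheaf.stalk x) • M.presheaf.germ U x hx m := by
    rw [← hρm, ← hw, smul_smul, Units.inv_mul, one_smul]
  rw [hv]
  exact Submodule.smul_mem _ _ (Submodule.subset_span ⟨m, rfl⟩)

set_option backward.isDefEq.respectTransparency false in
/-- local generators data with at most `r` generators: around every point there are at most `r`
sections generating all stalks of a neighbourhood -/
theorem exists_sections_span_eq_top_le (M : X.Modules) {r : ℕ}
    (q : SheafOfModules.LocalGeneratorsData.{u} (R := X.ringCatSheaf) M)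
    (hq : ∀ k, Finite (q.generators k).I ∧ Nat.card (q.generators k).I ≤ r) (x : X) :
    ∃ (U : X.Opens) (_ : x ∈ U) (n : ℕ) (_ : n ≤ r) (s : Fin n → Γ(M, U)),
      ∀ (y : X) (hy : y ∈ U), Submodule.span (X.presheaf.stalk y)
        (Set.range fun i => M.presheaf.germ U y hy (s i)) = ⊤ := by
  have cov := q.coversTop
  rw [Opens.coversTop_iff, IsOpenCover] at cov
  obtain ⟨i, hi⟩ : ∃ i, x ∈ q.X i := by
    have hx : x ∈ (⨆ i, q.X i : X.Opens) := by rw [cov]; trivial
    exact Opens.mem_iSup.mp hx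
  obtain ⟨V, hVaff, hxV, hVle⟩ : ∃ V : X.Opens, IsAffineOpen V ∧ x ∈ V ∧ V ≤ q.X i := by
    obtain ⟨V, hV, hxV, hle⟩ := Opens.isBasis_iff_nbhd.mp X.isBasis_affineOpens hi
    exact ⟨V, hV, hxV, hle⟩
  let j := X.homOfLE (U := V) (V := q.X i) hVle
  have : PreservesColimitsOfSize.{u, u} (Scheme.Modules.restrictFunctor j) := inferInstance
  let Fn := (Scheme.Modules.overEquiv (q.X i)).functor ⋙ Scheme.Modules.restrictFunctor j
  let iso : SheafOfModules.overFunctor X.ringCatSheaf _ ⋙ Fn ≅ Scheme.Modules.restrictFunctor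
      (Scheme.Opens.ι V) := (Functor.associator _ _ _).symm ≪≫
        Functor.isoWhiskerRight (Scheme.Modules.overFunctorEquiv _) _ ≪≫
        (Scheme.Modules.restrictFunctorComp _ _).symm ≪≫
        (Scheme.Modules.restrictFunctorCongr (by simp [j]))
  let σ : (M.restrict V.ι).GeneratingSections :=
    ((q.generators i).map Fn (Scheme.Modules.restrictUnitIso _).symm).ofEpi (iso.app M).hom
  haveI hfin : Finite σ.I := (hq i).1
  have hcard : Nat.card σ.I ≤ r := (hq i).2
  obtain ⟨s, hs⟩ := exists_sections_span_eq_top_of_generatingSections M V σ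
  refine ⟨V, hxV, Nat.card σ.I, hcard, fun k => s ((Finite.equivFin σ.I).symm k), fun y hy => ?_⟩
  rw [← hs y hy]
  congr 1
  exact EquivLike.range_comp (fun k => M.presheaf.germ V y hy (s k)) (Finite.equivFin σ.I).symm

end QC

/-! ### Spreading along a flat morphism -/

section Spread

variable {X' X : Scheme.{u}} (f : X' ⟶ X) [Flat f] (F : X.Modules) (z : X')

theorem exists_nhds_span_germ_eq_top
    {U' : X'.Opens} (hzU' : z ∈ U') {n : ℕ}
    (s : Fin n → Γ((Scheme.Modules.pullback f).obj F, U'))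
    (hs : ∀ (y : X') (hy : y ∈ U'), Submodule.span (X'.presheaf.stalk y)
        (Set.range fun i => ((Scheme.Modules.pullback f).obj F).presheaf.germ U' y hy (s i)) = ⊤)
    {V : X.Opens} (hzV : f.base z ∈ V) {r : ℕ} (t : Fin r → Γ(F, V))
    (hb : Submodule.span (X'.presheaf.stalk z) (Set.range fun k =>
      ((Scheme.Modules.pullback f).obj F).presheaf.germ (f ⁻¹ᵁ V) z hzV (etaSec f F V (t k))) = ⊤) :
    ∃ (W : X'.Opens) (hWV : W ≤ f ⁻¹ᵁ V), z ∈ W ∧ ∀ (z' : X') (hz' : z' ∈ W),
      Submodule.span (X.presheaf.stalk (f.base z'))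
        (Set.range fun k => F.presheaf.germ V (f.base z') (hWV hz') (t k)) = ⊤ := by
  have hmem : ∀ i, ((Scheme.Modules.pullback f).obj F).presheaf.germ U' z hzU' (s i) ∈
      Submodule.span (X'.presheaf.stalk z) (Set.range fun k =>
        ((Scheme.Modules.pullback f).obj F).presheaf.germ (f ⁻¹ᵁ V) z hzV (etaSec f F V (t k))) := by
    intro i
    rw [hb]
    trivial
  choose W hWU hWV hzW hW using fun i =>
    exists_nhds_germ_mem_span ((Scheme.Modules.pullback f).obj F)
      (fun k => etaSec f F V (t k)) (s i) z hzU' hzV (hmem i)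
  have hle : U' ⊓ f ⁻¹ᵁ V ⊓ ⨅ i, W i ≤ f ⁻¹ᵁ V := inf_le_left.trans inf_le_right
  refine ⟨U' ⊓ f ⁻¹ᵁ V ⊓ ⨅ i, W i, hle, ⟨⟨hzU', hzV⟩, ?_⟩, ?_⟩
  · rw [SetLike.mem_coe, ← SetLike.mem_coe, Opens.coe_iInf]
    exact Set.mem_iInter.mpr hzW
  · intro z' hz'
    have hz'W : ∀ i, z' ∈ W i := by
      have h2 := hz'.2
      rw [SetLike.mem_coe, ← SetLike.mem_coe, Opens.coe_iInf] at h2
      exact fun i => Set.mem_iInter.mp h2 i
    apply span_germ_eq_top_of_pull f F z' (hle hz') t
    rw [eq_top_iff, ← hs z' hz'.1.1, Submodule.span_le]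
    rintro _ ⟨i, rfl⟩
    exact hW i z' (hz'W i)

/-- if the stalk of the pullback at `z` is generated by `n ≤ r` elements, then the stalk of `F` at
`f z` is generated by at most `r` elements -/
theorem exists_fin_le_span_stalk {r n : ℕ} (hn : n ≤ r)
    (e : Fin n → ((Scheme.Modules.pullback f).obj F).presheaf.stalk z)
    (he : Submodule.span (X'.presheaf.stalk z) (Set.range e) = ⊤) :
    ∃ (r' : ℕ) (_ : r' ≤ r) (m : Fin r' → F.presheaf.stalk (f.base z)),
      Submodule.span (X.presheaf.stalk (f.base z)) (Set.range m) = ⊤ := by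
  letI := (f.stalkMap z).hom.toAlgebra
  have hfl : Module.Flat (X.presheaf.stalk (f.base z)) (X'.presheaf.stalk z) := Flat.stalkMap f z
  have hloc : IsLocalHom (algebraMap (X.presheaf.stalk (f.base z)) (X'.presheaf.stalk z)) :=
    (inferInstance : IsLocalHom (f.stalkMap z).hom)
  have hff : Module.FaithfullyFlat (X.presheaf.stalk (f.base z)) (X'.presheaf.stalk z) :=
    Module.FaithfullyFlat.of_flat_of_isLocalHom
  have he' : Submodule.span (X'.presheaf.stalk z)
      (Set.range fun i => stalkEquiv f F z (e i)) = ⊤ :=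
    span_range_eq_top_of_linearEquiv (stalkEquiv f F z) _ _ (fun _ => rfl) he
  obtain ⟨r', hr', τ, hτ⟩ := exists_fin_le_span_of_span
    (fun m : F.presheaf.stalk (f.base z) =>
      (1 : X'.presheaf.stalk z) ⊗ₜ[X.presheaf.stalk (f.base z)] m)
    span_one_tmul_eq_top _ he'
  exact ⟨r', hr'.trans hn, τ, span_eq_top_of_span_one_tmul τ hτ⟩

end Spread

/-! ### Finite type descends along fpqc coverings (quasi-coherent case) -/

section Fpqc

variable {ι : Type u} {X : Scheme.{u}} {Xi : ι → Scheme.{u}} (f : ∀ i, Xi i ⟶ X)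

theorem exists_sections_span_of_fpqc (hfl : ∀ i, Flat (f i))
    (hqc : QuasiCompactCover (⟨ι, Xi, f⟩ : PreZeroHypercover.{u} X))
    (F : X.Modules) [F.IsQuasicoherent]
    (hft : ∀ i, ((Scheme.Modules.pullback (f i)).obj F).IsFiniteType)
    {U : X.Opens} (hU : IsAffineOpen U) :
    ∃ (I : Type u) (_ : Finite I) (T : I → Γ(F, U)), ∀ (y : X) (hy : y ∈ U),
      Submodule.span (X.presheaf.stalk y)
        (Set.range fun k => F.presheaf.germ U y hy (T k)) = ⊤ := by
  obtain ⟨n, a, V, hVaff, hVU⟩ := QuasiCompactCover.exists_isAffineOpen_of_isCompact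
    (⟨ι, Xi, f⟩ : PreZeroHypercover.{u} X) hU.isCompact
  have hzU : ∀ (j : Fin n) (z : Xi (a j)), z ∈ V j → (f (a j)).base z ∈ U := by
    intro j z hz
    have : (f (a j)).base z ∈ ⋃ i, (f (a i)) '' (V i) :=
      Set.mem_iUnion.mpr ⟨j, ⟨z, hz, rfl⟩⟩
    rw [hVU] at this
    exact this
  have claim : ∀ (j : Fin n) (z : Xi (a j)) (hz : z ∈ V j),
      ∃ (W : (Xi (a j)).Opens) (hWU : W ≤ (f (a j)) ⁻¹ᵁ U) (_ : z ∈ W) (N : ℕ)
        (T : Fin N → Γ(F, U)), ∀ (z' : Xi (a j)) (hz' : z' ∈ W),
          Submodule.span (X.presheaf.stalk ((f (a j)).base z'))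
            (Set.range fun k => F.presheaf.germ U ((f (a j)).base z') (hWU hz') (T k)) = ⊤ := by
    intro j z hz
    haveI := hfl (a j)
    haveI := hft (a j)
    obtain ⟨U', -, hzU', n', s, hs⟩ :=
      exists_affine_sections_span_eq_top ((Scheme.Modules.pullback (f (a j))).obj F) z
    obtain ⟨N, τ, hτ⟩ : ∃ (N : ℕ) (τ : Fin N → Γ(F, U)),
        letI := ((f (a j)).stalkMap z).hom.toAlgebra
        Submodule.span ((Xi (a j)).presheaf.stalk z) (Set.range fun k =>
          (1 : (Xi (a j)).presheaf.stalk z) ⊗ₜ[X.presheaf.stalk ((f (a j)).base z)]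
            (F.presheaf.germ U ((f (a j)).base z) (hzU j z hz) (τ k))) = ⊤ := by
      letI := ((f (a j)).stalkMap z).hom.toAlgebra
      have hsp : Submodule.span ((Xi (a j)).presheaf.stalk z) (Set.range fun τ : Γ(F, U) =>
          (1 : (Xi (a j)).presheaf.stalk z) ⊗ₜ[X.presheaf.stalk ((f (a j)).base z)]
            (F.presheaf.germ U ((f (a j)).base z) (hzU j z hz) τ)) = ⊤ :=
        span_one_tmul_of_span _ (span_range_germ_eq_top F hU _ (hzU j z hz))
      have he : Submodule.span ((Xi (a j)).presheaf.stalk z) (Set.range fun i =>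
          stalkEquiv (f (a j)) F z
            (((Scheme.Modules.pullback (f (a j))).obj F).presheaf.germ U' z hzU' (s i))) = ⊤ :=
        span_range_eq_top_of_linearEquiv (stalkEquiv (f (a j)) F z) _ _ (fun _ => rfl)
          (hs z hzU')
      obtain ⟨N, -, τ, hτ⟩ := exists_fin_le_span_of_span _ hsp _ he
      exact ⟨N, τ, hτ⟩
    have hb := span_germ_etaSec_eq_top (f (a j)) F z (hzU j z hz) τ hτ
    obtain ⟨W, hWU, hzW, hW⟩ :=
      exists_nhds_span_germ_eq_top (f (a j)) F z hzU' s hs (hzU j z hz) τ hb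
    exact ⟨W, hWU, hzW, N, τ, hW⟩
  choose W hWU hzW N T hT using claim
  have hcpt : ∀ j, ∃ Z : Finset (V j), ((V j : (Xi (a j)).Opens) : Set (Xi (a j))) ⊆
      ⋃ z ∈ Z, ((W j z.1 z.2 : (Xi (a j)).Opens) : Set (Xi (a j))) := fun j =>
    (hVaff j).isCompact.elim_finite_subcover
      (fun z : V j => ((W j z.1 z.2 : (Xi (a j)).Opens) : Set (Xi (a j))))
      (fun z => (W j z.1 z.2).isOpen)
      (fun z hz => Set.mem_iUnion.mpr ⟨⟨z, hz⟩, hzW j z hz⟩)
  choose Z hZ using hcpt
  refine ⟨Σ j : Fin n, Σ z : Z j, ULift.{u} (Fin (N j z.1.1 z.1.2)), inferInstance,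
    fun p => T p.1 p.2.1.1.1 p.2.1.1.2 p.2.2.down, ?_⟩
  intro y hy
  have hy' : y ∈ ⋃ i, (f (a i)) '' (V i) := by rw [hVU]; exact hy
  obtain ⟨j, z', hz', rfl⟩ := Set.mem_iUnion.mp hy'
  obtain ⟨z, hzZ, hz'W⟩ : ∃ z ∈ Z j, z' ∈ W j z.1 z.2 := by
    have h3 := hZ j hz'
    simpa only [Set.mem_iUnion, exists_prop, SetLike.mem_coe] using h3
  rw [eq_top_iff, ← hT j z.1 z.2 z' hz'W, Submodule.span_le]
  rintro _ ⟨k, rfl⟩
  exact Submodule.subset_span ⟨⟨j, ⟨⟨z, hzZ⟩, ⟨k⟩⟩⟩, rfl⟩

theorem isFiniteType_of_fpqc (hfl : ∀ i, Flat (f i))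
    (hqc : QuasiCompactCover (⟨ι, Xi, f⟩ : PreZeroHypercover.{u} X))
    (F : X.Modules) [F.IsQuasicoherent]
    (hft : ∀ i, ((Scheme.Modules.pullback (f i)).obj F).IsFiniteType) : F.IsFiniteType := by
  choose I hI T hT using fun U : X.affineOpens =>
    exists_sections_span_of_fpqc f hfl hqc F hft U.2
  let σ : ∀ U : X.affineOpens, (F.restrict (U : X.Opens).ι).GeneratingSections := fun U =>
    generatingSectionsRestrictOfSpan F U (T U) (hT U)
  have hfin : ∀ U, Finite (σ U).I := fun U => hI U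
  exact isFiniteType_of_isOpenCover F (fun U : X.affineOpens => (U : X.Opens))
    (isOpenCover_affineOpens X) σ

theorem main9861 (hf : Presieve.ofArrows Xi f ∈ Scheme.fpqcPrecoverage X) (F : X.Modules)
    [F.IsQuasicoherent] (r : ℕ)
    (h : ∀ i, ∃ σ : SheafOfModules.LocalGeneratorsData.{u} (R := (Xi i).ringCatSheaf)
        ((Scheme.Modules.pullback (f i)).obj F),
      ∀ k, Finite (σ.generators k).I ∧ Nat.card (σ.generators k).I ≤ r) :
    ∃ σ : SheafOfModules.LocalGeneratorsData.{u} (R := X.ringCatSheaf) F,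
      ∀ k, Finite (σ.generators k).I ∧ Nat.card (σ.generators k).I ≤ r := by
  obtain ⟨hqc0, hfl0⟩ := hf
  have hqc : QuasiCompactCover (⟨ι, Xi, f⟩ : PreZeroHypercover.{u} X) :=
    (Scheme.presieve₀_mem_qcPrecoverage_iff (E := (⟨ι, Xi, f⟩ : PreZeroHypercover.{u} X))).1 hqc0
  obtain ⟨hsurj, hfl⟩ := (Scheme.ofArrows_mem_precoverage_iff _).1 hfl0
  choose q hq using h
  have hft : ∀ i, ((Scheme.Modules.pullback (f i)).obj F).IsFiniteType := fun i =>
    { exists_localGeneratorsData := ⟨q i, { isFiniteType := fun k => ⟨(hq i k).1⟩ }⟩ }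
  haveI : F.IsFiniteType := isFiniteType_of_fpqc f hfl hqc F hft
  have hpt : ∀ y : X, ∃ (N : X.Opens) (_ : y ∈ N) (r' : ℕ) (_ : r' ≤ r) (t : Fin r' → Γ(F, N)),
      ∀ (y' : X) (hy' : y' ∈ N), Submodule.span (X.presheaf.stalk y')
        (Set.range fun k => F.presheaf.germ N y' hy' (t k)) = ⊤ := by
    intro y
    obtain ⟨i, z, rfl⟩ := hsurj y
    haveI := hfl i
    obtain ⟨U', hzU', n, hn, s, hs⟩ := exists_sections_span_eq_top_le _ (q i) (hq i) z
    obtain ⟨r', hr', m, hm⟩ := exists_fin_le_span_stalk (f i) F z hn _ (hs z hzU')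
    obtain ⟨U, -, hyU, n₂, s₂, hs₂⟩ := exists_affine_sections_span_eq_top F ((f i).base z)
    obtain ⟨V, hyV, t, ht⟩ := exists_common_sections F ((f i).base z) m
    have hspan : Submodule.span (X.presheaf.stalk ((f i).base z))
        (Set.range fun k => F.presheaf.germ V ((f i).base z) hyV (t k)) = ⊤ := by
      have e : (fun k => F.presheaf.germ V ((f i).base z) hyV (t k)) = m := funext ht
      rw [e]
      exact hm
    choose W hWU hWV hyW hW using fun j =>
      exists_nhds_germ_mem_span F t (s₂ j) ((f i).base z) hyU hyV (by rw [hspan]; trivial)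
    have hNV : U ⊓ V ⊓ ⨅ j, W j ≤ V := inf_le_left.trans inf_le_right
    refine ⟨U ⊓ V ⊓ ⨅ j, W j, ⟨⟨hyU, hyV⟩, ?_⟩, r', hr', fun k => res F hNV (t k), ?_⟩
    · rw [SetLike.mem_coe, ← SetLike.mem_coe, Opens.coe_iInf]
      exact Set.mem_iInter.mpr hyW
    · intro y' hy'
      have hy'W : ∀ j, y' ∈ W j := by
        have h2 := hy'.2
        rw [SetLike.mem_coe, ← SetLike.mem_coe, Opens.coe_iInf] at h2
        exact fun j => Set.mem_iInter.mp h2 j
      have e : (fun k => F.presheaf.germ (U ⊓ V ⊓ ⨅ j, W j) y' hy' (res F hNV (t k))) =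
          fun k => F.presheaf.germ V y' (hNV hy') (t k) :=
        funext fun k => germ_res F hNV y' hy' (t k)
      rw [e, eq_top_iff, ← hs₂ y' hy'.1.1, Submodule.span_le]
      rintro _ ⟨j, rfl⟩
      exact hW j y' (hy'W j)
  choose N hyN r' hr' t ht using hpt
  have hcov : IsOpenCover N := by
    rw [IsOpenCover, eq_top_iff]
    rintro y -
    exact Opens.mem_iSup.mpr ⟨y, hyN y⟩
  let σ : ∀ y : X, (F.restrict (N y).ι).GeneratingSections := fun y =>
    generatingSectionsRestrictOfSpan F (N y) (fun k : ULift.{u} (Fin (r' y)) => t y k.down)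
      (fun y' hy' => by
        rw [eq_top_iff, ← ht y y' hy', Submodule.span_le]
        rintro _ ⟨k, rfl⟩
        exact Submodule.subset_span ⟨⟨k⟩, rfl⟩)
  refine ⟨{ I := X
            X := N
            coversTop := by rw [Opens.coversTop_iff]; exact hcov
            generators := fun y => generatingSectionsOver F (N y) (σ y) }, fun y => ?_⟩
  have hcard : Nat.card (ULift.{u} (Fin (r' y))) = r' y := by
    rw [Nat.card_congr Equiv.ulift, Nat.card_eq_fintype_card, Fintype.card_fin]
  refine ⟨inferInstanceAs (Finite (ULift.{u} (Fin (r' y)))), ?_⟩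
  show Nat.card (ULift.{u} (Fin (r' y))) ≤ r
  rw [hcard]
  exact hr' y

end Fpqc

end Groth.Agent.Lib.Helper5.FTDescent
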