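import Groth.Agent.Lib.Helper5.PBCSheaf

/-!
# The stalk functor on abelian sheaves is exact
-/

set_option autoImplicit false

universe u

open CategoryTheory CategoryTheory.Limits TopologicalSpace Opposite

noncomputable section

namespace Groth.Agent.Lib.Helper5.StalkFun

variable {S : TopCat.{u}} (z : S)

/-- the stalk functor on abelian sheaves -/
abbrev Stz : CohTop.Ab S ⥤ AddCommGrpCat.{u} :=
  sheafToPresheaf (Opens.grothendieckTopology S) AddCommGrpCat.{u} ⋙
    TopCat.Presheaf.stalkFunctor AddCommGrpCat.{u} z

lemma pfl_stalk : PreservesFiniteLimits (TopCat.Presheaf.stalkFunctor AddCommGrpCat.{u} z) := by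
  unfold TopCat.Presheaf.stalkFunctor
  have : HasExactColimitsOfShape (OpenNhds z)ᵒᵖ AddCommGrpCat.{u} := inferInstance
  have : PreservesFiniteLimits
      (colim : ((OpenNhds z)ᵒᵖ ⥤ AddCommGrpCat.{u}) ⥤ AddCommGrpCat.{u}) := inferInstance
  have : PreservesFiniteLimits
      ((Functor.whiskeringLeft (OpenNhds z)ᵒᵖ (Opens ↑S)ᵒᵖ AddCommGrpCat.{u}).obj
        (OpenNhds.inclusion z).op) :=
    ⟨fun J _ _ => inferInstance⟩
  exact comp_preservesFiniteLimits _ _

instance : PreservesFiniteLimits (Stz z) := by
  have := pfl_stalk z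
  exact comp_preservesFiniteLimits _ _

open Classical in
instance : (Stz z).IsLeftAdjoint :=
  (stalkSkyscraperSheafAdjunction (C := AddCommGrpCat.{u}) z).isLeftAdjoint

instance : PreservesFiniteColimits (Stz z) := inferInstance

instance : (Stz z).Additive := by
  have : PreservesBinaryBiproducts (Stz z) := preservesBinaryBiproducts_of_preservesBinaryProducts _
  exact Functor.additive_of_preservesBinaryBiproducts _

instance : (Stz z).PreservesHomology := inferInstance

/-- a sheaf all of whose stalks vanish is zero -/
theorem isZero_of_isZero_Stz (F : CohTop.Ab S) (h : ∀ z : S, IsZero ((Stz z).obj F)) :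
    IsZero F :=
  PBCSheaf.isZero_of_subsingleton_stalk F (fun z => AddCommGrpCat.subsingleton_of_isZero (h z))

end Groth.Agent.Lib.Helper5.StalkFun
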