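import Groth.Agent.Lib.Helper5.DCmp
import Groth.Agent.Lib.Helper5.DLev
import Groth.Agent.Lib.Helper5.StalkFun

/-!
# The stalks of the higher direct images from a simplicial space

Let `D` be a diagram over `S` indexed by `FinAll`, `z` a point of `S` and `κ : Y' ⟶ D.Y` a
morphism of diagrams which on each level behaves like the inclusion of a compact fibre over `z`
(`FibreData`).  Then the stalk at `z` of `R^q ε_* G` is `R^q` of the functor of equalized global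
sections applied to the inverse image of `G` along `κ`.
-/

set_option autoImplicit false

universe u

open CategoryTheory CategoryTheory.Limits Opposite TopologicalSpace

noncomputable section

namespace Groth.Agent.Lib.Helper5.FibreA

open Groth.Agent.Lib.Helper5.DSite Groth.Agent.Lib.Helper5.DYoneda Groth.Agent.Lib.Helper5.DPull
  Groth.Agent.Lib.Helper5.CechDiag Groth.Agent.Lib.Helper5.FreePsh Groth.Agent.Lib.Helper5.DEps
  Groth.Agent.Lib.Helper5.DLev Groth.Agent.Lib.Helper5.GermFam Groth.Agent.Lib.Helper5.DCmp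
  Groth.Agent.Lib.Helper5.StalkFun Groth.Agent.Lib.Helper22

variable {S : TopCat.{u}} (D : OverS FinAll.{u} S) {Y' : FinAll.{u}ᵒᵖ ⥤ TopCat.{u}}
  (κ₀ : Y' ⟶ D.Y) (z : S)

/-- the fibre diagram, over `S` -/
abbrev Dz : OverS FinAll.{u} S := D.comp κ₀

/-- the morphism of diagrams, with source the diagram underlying `Dz` -/
def κc : (Dz D κ₀).Y ⟶ D.Y := κ₀

local notation "κ" => κc D κ₀

/-- the levels of `κ` behave like inclusions of compact fibres over `z` -/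
structure FibreData : Prop where
  mem : ∀ (n : ℕ) (w : Sp (Dz D κ₀).Y ⟨n⟩), D.π ⟨n⟩ (κa κ ⟨n⟩ w) = z
  rep : ∀ (n : ℕ) (F : CohTop.Ab (Sp D.Y ⟨n⟩)) (W : Opens (Sp (Dz D κ₀).Y ⟨n⟩)) (_ : ∀ w, w ∈ W)
    (s : sec (κa κ ⟨n⟩) F.obj W),
    ∃ (V : Opens S) (_ : z ∈ V) (t : F.obj.obj (op ((Opens.map (D.π ⟨n⟩)).obj V))),
      ∀ h : (∀ w, w ∈ W → κa κ ⟨n⟩ w ∈ (Opens.map (D.π ⟨n⟩)).obj V),
        gf (κa κ ⟨n⟩) F.obj h t = s
  van : ∀ (n : ℕ) (F : CohTop.Ab (Sp D.Y ⟨n⟩)) (W : Opens (Sp (Dz D κ₀).Y ⟨n⟩)) (_ : ∀ w, w ∈ W)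
    (V : Opens S) (_ : z ∈ V) (t : F.obj.obj (op ((Opens.map (D.π ⟨n⟩)).obj V)))
    (h : ∀ w, w ∈ W → κa κ ⟨n⟩ w ∈ (Opens.map (D.π ⟨n⟩)).obj V),
    gf (κa κ ⟨n⟩) F.obj h t = 0 →
      ∃ (V' : Opens S) (hV' : V' ≤ V), z ∈ V' ∧
        (F.obj.map (homOfLE ((Opens.map (D.π ⟨n⟩)).monotone hV')).op).hom t = 0
  acyc : ∀ (n : ℕ) (F : CohTop.Ab (Sp D.Y ⟨n⟩)) [TopCat.Sheaf.IsFlasque F] (q : ℕ),
    Subsingleton (CohTop.H ((GFsh (κa κ ⟨n⟩)).obj F) (q + 1))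

variable {D κ₀ z} (hd : FibreData D κ₀ z)

include hd in
lemma hmem (V : Opens S) (hz : z ∈ V) (n : ℕ) (W : Opens (Sp (Dz D κ₀).Y ⟨n⟩)) :
    ∀ w, w ∈ W → κa κ ⟨n⟩ w ∈ (Opens.map (D.π ⟨n⟩)).obj V := fun w _ => by
  change D.π ⟨n⟩ (κa κ ⟨n⟩ w) ∈ V
  rw [hd.mem n w]
  exact hz

section presheaf

variable (P : (Obj D.Y)ᵒᵖ ⥤ AddCommGrpCat.{u})

/-- the family of germs along the fibre of a section over `π_n⁻¹ V` -/
def gfV (V : Opens S) (hz : z ∈ V) (n : ℕ) :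
    P.obj (op (BV D V n)) →+ (preD κ P).obj (op (BV (Dz D κ₀) ⊤ n)) :=
  gfD κ P (i := ⟨n⟩) (U := (Opens.map (D.π ⟨n⟩)).obj V)
    (W := (Opens.map ((Dz D κ₀).π ⟨n⟩)).obj ⊤) (hmem hd V hz n _)

lemma gfV_face (V : Opens S) (hz : z ∈ V) (n : ℕ) (k : Fin (n + 2)) (x : P.obj (op (BV D V n))) :
    ((preD κ P).map ((powV (Dz D κ₀) ⊤).face n k).op).hom (gfV hd P V hz n x) =
      gfV hd P V hz (n + 1) ((P.map ((powV D V).face n k).op).hom x) :=
  trnD_gfD κ (G := P) (A' := BV (Dz D κ₀) ⊤ (n + 1)) (B' := BV (Dz D κ₀) ⊤ n)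
    ((powV (Dz D κ₀) ⊤).face n k) (UA := (Opens.map (D.π ⟨n + 1⟩)).obj V)
    (UB := (Opens.map (D.π ⟨n⟩)).obj V) ((powV D V).face n k) rfl
    (hmem hd V hz (n + 1) _) (hmem hd V hz n _) x

lemma gfV_dP (V : Opens S) (hz : z ∈ V) (n : ℕ) (x : P.obj (op (BV D V n))) :
    (powV (Dz D κ₀) ⊤).dP (preD κ P) n (gfV hd P V hz n x) =
      gfV hd P V hz (n + 1) ((powV D V).dP P n x) := by
  rw [Pow.dP_apply, Pow.dP_apply, map_sum]
  refine Finset.sum_congr rfl fun k _ => ?_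
  rw [map_zsmul]
  congr 1
  exact gfV_face hd P V hz n k x

lemma gfV_res {V V' : Opens S} (hV' : V' ≤ V) (hz : z ∈ V) (hz' : z ∈ V') (n : ℕ)
    (x : P.obj (op (BV D V n))) :
    gfV hd P V' hz' n ((P.map (homBV D V id hV').op).hom x) = gfV hd P V hz n x :=
  gf_map (κa κ ⟨n⟩) (lev D.Y P ⟨n⟩) ((Opens.map (D.π ⟨n⟩)).monotone hV') (hmem hd V' hz' n _) x

lemma gfV_natural {P' : (Obj D.Y)ᵒᵖ ⥤ AddCommGrpCat.{u}} (θ : P ⟶ P') (V : Opens S) (hz : z ∈ V)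
    (n : ℕ) (x : P.obj (op (BV D V n))) :
    ((preDmap κ θ).app (op (BV (Dz D κ₀) ⊤ n))).hom (gfV hd P V hz n x) =
      gfV hd P' V hz n ((θ.app (op (BV D V n))).hom x) :=
  mapP_gf (κa κ ⟨n⟩) (lev D.Y P ⟨n⟩) (Functor.whiskerLeft (ι D.Y ⟨n⟩).op θ) (hmem hd V hz n _) x

/-- the map from equalized sections over a neighbourhood of `z` to equalized global sections on
the fibre -/
def φz (V : Opens S) (hz : z ∈ V) : EVobj D V P →+ EVobj (Dz D κ₀) ⊤ (preD κ P) where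
  toFun x := ⟨gfV hd P V hz 0 x.1, by
    rw [mem_EVobj, gfV_dP, (mem_EVobj D V P x.1).1 x.2, map_zero]⟩
  map_zero' := Subtype.ext (map_zero _)
  map_add' a b := Subtype.ext (map_add _ _ _)

lemma φz_val (V : Opens S) (hz : z ∈ V) (x : EVobj D V P) :
    (φz hd P V hz x).1 = gfV hd P V hz 0 x.1 := rfl

/-- the map from the stalk of the direct image -/
def ψ : St (epsPre D P) z →+ EVobj (Dz D κ₀) ⊤ (preD κ P) :=
  stalkDesc (epsPre D P) z (EVobj (Dz D κ₀) ⊤ (preD κ P)) (fun V hV => φz hd P V hV)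
    (fun U V hU hV h t => Subtype.ext (gfV_res hd P h hU hV 0 (t : EVobj D U P).1))

lemma ψ_gm (V : Opens S) (hV : z ∈ V) (x : EVobj D V P) :
    ψ hd P (gmP (epsPre D P) V z hV x) = φz hd P V hV x :=
  stalkDesc_gmP (epsPre D P) z (EVobj (Dz D κ₀) ⊤ (preD κ P)) _ _ V hV x

end presheaf

section sheaf

variable (G : Sh D.Y)

include hd in
lemma rep' (n : ℕ) (s : (preD κ G.obj).obj (op (BV (Dz D κ₀) ⊤ n))) :
    ∃ (V : Opens S) (hz : z ∈ V) (t : G.obj.obj (op (BV D V n))), gfV hd G.obj V hz n t = s := by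
  obtain ⟨V, hz, t, ht⟩ := hd.rep n ((ev D.Y ⟨n⟩).obj G)
    ((Opens.map ((Dz D κ₀).π ⟨n⟩)).obj ⊤) (fun _ => trivial) s
  exact ⟨V, hz, t, ht (hmem hd V hz n _)⟩

include hd in
lemma van' (n : ℕ) (V : Opens S) (hz : z ∈ V) (t : G.obj.obj (op (BV D V n)))
    (h0 : gfV hd G.obj V hz n t = 0) :
    ∃ (V' : Opens S) (hV' : V' ≤ V), z ∈ V' ∧ (G.obj.map (homBV D V id hV').op).hom t = 0 := by
  obtain ⟨V', hV', hz', e⟩ := hd.van n ((ev D.Y ⟨n⟩).obj G)
    ((Opens.map ((Dz D κ₀).π ⟨n⟩)).obj ⊤) (fun _ => trivial) V hz t (hmem hd V hz n _) h0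
  exact ⟨V', hV', hz', e⟩

lemma ψ_injective : Function.Injective (ψ hd G.obj) := by
  rw [injective_iff_map_eq_zero]
  intro a ha
  obtain ⟨V, hV, x', rfl⟩ := exists_gmP_eq (epsPre D G.obj) z a
  let x : EVobj D V G.obj := x'
  have h1 : φz hd G.obj V hV x = 0 := (ψ_gm hd G.obj V hV x).symm.trans ha
  have h2 : gfV hd G.obj V hV 0 x.1 = 0 := congrArg Subtype.val h1
  obtain ⟨V', hV', hz', e⟩ := van' hd G 0 V hV x.1 h2
  have e1 : gmP (epsPre D G.obj) V z hV x' =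
      gmP (epsPre D G.obj) V' z hz' (((epsPre D G.obj).map (homOfLE hV').op).hom x') :=
    (gmP_res (epsPre D G.obj) hV' z hz' x').symm
  rw [e1]
  have e2 : ((epsPre D G.obj).map (homOfLE hV').op).hom x' = 0 := by
    have : EVres D hV' G.obj x = 0 := Subtype.ext e
    exact this
  rw [e2, map_zero]

lemma ψ_surjective : Function.Surjective (ψ hd G.obj) := by
  intro s
  obtain ⟨V, hz, t, ht⟩ := rep' hd G 0 s.1
  have hs := (mem_EVobj (Dz D κ₀) ⊤ (preD κ G.obj) s.1).1 s.2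
  have h1 : gfV hd G.obj V hz (0 + 1) ((powV D V).dP G.obj 0 t) = 0 := by
    rw [← gfV_dP, ht]
    exact hs
  obtain ⟨V', hV', hz', e⟩ := van' hd G (0 + 1) V hz _ h1
  let t' : G.obj.obj (op (BV D V' 0)) := (G.obj.map (homBV D V id hV').op).hom t
  have ht' : (powV D V').dP G.obj 0 t' = 0 := by
    have e' := dP_map (powV D V) (powV D V') G.obj 0 (homBV D V id hV') (homBV D V id hV')
      (fun k => DSite.hom_ext rfl) t
    exact e'.trans e
  let x : EVobj D V' G.obj := ⟨t', (mem_EVobj D V' G.obj t').2 ht'⟩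
  refine ⟨gmP (epsPre D G.obj) V' z hz' x, ?_⟩
  rw [ψ_gm]
  apply Subtype.ext
  rw [φz_val]
  exact (gfV_res hd G.obj hV' hz hz' 0 t).trans ht

/-- the stalk of the direct image is the group of equalized global sections on the fibre -/
def ψEquiv : St (epsPre D G.obj) z ≃+ EVobj (Dz D κ₀) ⊤ (preD κ G.obj) :=
  AddEquiv.ofBijective (ψ hd G.obj) ⟨ψ_injective hd G, ψ_surjective hd G⟩

end sheaf

/-- **the stalk of the direct image** -/
def stalkIso : epsPush D ⋙ Stz z ≅ pullD κ ⋙ EVt (Dz D κ₀) :=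
  NatIso.ofComponents (fun G => (ψEquiv hd G).toAddCommGrpIso) (by
    intro G G' θ
    refine AddCommGrpCat.hom_ext (AddMonoidHom.ext fun a => ?_)
    obtain ⟨V, hV, x', rfl⟩ := exists_gmP_eq (epsPre D G.obj) z a
    let x : EVobj D V G.obj := x'
    change ψ hd G'.obj (((TopCat.Presheaf.stalkFunctor AddCommGrpCat.{u} z).map
        (epsPreMap D θ.hom)).hom (gmP (epsPre D G.obj) V z hV x')) =
      EVmap (Dz D κ₀) ⊤ (preDmap κ θ.hom) (ψ hd G.obj (gmP (epsPre D G.obj) V z hV x'))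
    rw [stalkMap_gmP, ψ_gm, ψ_gm]
    apply Subtype.ext
    exact (gfV_natural hd G.obj θ.hom V hV 0 x.1).symm)

/-! ### acyclicity of inverse images of injective sheaves -/

section acyclic

variable (Q : Sh D.Y) [Injective Q]

include hd in
lemma hG_pullD (p q : ℕ) :
    Subsingleton (CohTop.H ((ev (Dz D κ₀).Y ⟨p⟩).obj ((pullD κ).obj Q)) (q + 1)) := by
  haveI := isFlasque_ev D.Y Q ⟨p⟩
  exact PBCSheaf.subsingleton_H_of_iso ((pullDLevIso κ ⟨p⟩).app Q) (q + 1)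
    (hd.acyc p ((ev D.Y ⟨p⟩).obj Q) q)

include hd in
lemma hex_pullD (n : ℕ) (x : ((pullD κ).obj Q).obj.obj (op (BV (Dz D κ₀) ⊤ (n + 1))))
    (hx : (powV (Dz D κ₀) ⊤).dP ((pullD κ).obj Q).obj (n + 1) x = 0) :
    ∃ y : ((pullD κ).obj Q).obj.obj (op (BV (Dz D κ₀) ⊤ n)),
      (powV (Dz D κ₀) ⊤).dP ((pullD κ).obj Q).obj n y = x := by
  obtain ⟨V, hz, t, rfl⟩ := rep' hd Q (n + 1) x
  have h1 : gfV hd Q.obj V hz (n + 1 + 1) ((powV D V).dP Q.obj (n + 1) t) = 0 := by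
    rw [← gfV_dP]
    exact hx
  obtain ⟨V', hV', hz', h0⟩ := van' hd Q (n + 1 + 1) V hz _ h1
  let t' : Q.obj.obj (op (BV D V' (n + 1))) := (Q.obj.map (homBV D V id hV').op).hom t
  have h2 : (powV D V').dP Q.obj (n + 1) t' = 0 := by
    have e' := dP_map (powV D V) (powV D V') Q.obj (n + 1) (homBV D V id hV') (homBV D V id hV')
      (fun k => DSite.hom_ext rfl) t
    exact e'.trans h0
  obtain ⟨u', hu'⟩ := (Pow.isZero_homology_succ_iff (powV D V') Q.obj n).1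
    (hTB (J := J D.Y) (BV D V' 0) Q inferInstance n) t' h2
  refine ⟨gfV hd Q.obj V' hz' n u', ?_⟩
  have e3 := gfV_dP hd Q.obj V' hz' n u'
  refine e3.trans ?_
  rw [hu']
  exact gfV_res hd Q.obj hV' hz hz' (n + 1) t

include hd in
theorem acyc_pullD (n : ℕ) :
    IsZero (((EVt (Dz D κ₀)).rightDerived (n + 1)).obj ((pullD κ).obj Q)) :=
  isZero_EV (Dz D κ₀) ((pullD κ).obj Q) (hG_pullD hd Q) (hex_pullD hd Q) n

end acyclic

/-- **the stalks of the higher direct images** -/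
def stalkRDIso (q : ℕ) (G : Sh D.Y) :
    (Stz z).obj (((epsPush D).rightDerived q).obj G) ≅
      ((EVt (Dz D κ₀)).rightDerived q).obj ((pullD κ).obj G) :=
  (RDPost.postIsoApp (epsPush D) (Stz z) q G).symm ≪≫
    (DimShift.rightDerivedIsoOfNatIso (stalkIso hd) q).app G ≪≫
    (PrecompDelta.rightDerivedPrecompIso (pullD κ) (EVt (Dz D κ₀))
      (fun I hI n => @acyc_pullD _ _ _ _ _ hd I hI n) q).app G

end Groth.Agent.Lib.Helper5.FibreA
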