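import Groth.Agent.Lib.Helper5.PushColim
import Groth.Agent.Lib.Helper17.HomologyColim
import Groth.Agent.S0484

/-!
# `H^i Rf_*` commutes with filtered colimits of uniformly bounded below complexes (helper5)

For `f : X ⟶ Y` quasi-compact and quasi-separated, `J` small filtered and `C : J ⥤ Ch(O_X)` with
`C_j ∈ D^{≥ n}` for all `j`, the functor `H^i ∘ Rf_* ∘ Q` preserves the colimit of `C`
(`nonempty_isColimit_HD_Rpush`), and `f_*`-acyclicity of the unit passes to the colimit
(`isIso_unit_colimit`).

Route: truncate, resolve the diagram by an injective resolution in the functor category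
`J ⥤ Mod(O_X)` (Grothendieck abelian; evaluation preserves injectives), use that a filtered
colimit of injective modules is `f_*`-acyclic (`RpushColim`), that `f_*` and homology commute
with filtered colimits, and Leray's acyclicity lemma (`PlusAcyc`).
-/

set_option autoImplicit false
set_option linter.unusedSectionVars false

universe u

open CategoryTheory CategoryTheory.Limits Opposite AlgebraicGeometry TopologicalSpace CochainComplex

attribute [local instance] HasDerivedCategory.standard

namespace Groth.Agent.Lib.Helper5.FilColimRpush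

section Cocones

variable {J : Type*} [Category J] {ℬ : Type*} [Category ℬ] {𝒞 : Type*} [Category 𝒞]

/-- colimit-ness transfers along an isomorphism of diagrams and a compatible isomorphism of points -/
noncomputable def isColimitOfIsoDiagram {K₁ K₂ : J ⥤ ℬ} (c₁ : Cocone K₁) (c₂ : Cocone K₂)
    (w : K₁ ≅ K₂) (e : c₁.pt ≅ c₂.pt)
    (h : ∀ j, c₁.ι.app j ≫ e.hom = w.hom.app j ≫ c₂.ι.app j)
    (h₂ : IsColimit c₂) : IsColimit c₁ :=
  IsColimit.ofIsoColimit ((IsColimit.precomposeHomEquiv w c₂).symm h₂)
    (Cocone.ext e.symm (fun j => by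
      change (w.hom.app j ≫ c₂.ι.app j) ≫ e.inv = c₁.ι.app j
      rw [← h j, Category.assoc, Iso.hom_inv_id, Category.comp_id]))

/-- if `γ : G ⟶ Φ` is invertible on the diagram and on the point, colimit-ness of the image cocone
transfers from `G` to `Φ` -/
noncomputable def isColimitMapCoconeOfNatTrans {G Φ : 𝒞 ⥤ ℬ} (γ : G ⟶ Φ) {Ψ : J ⥤ 𝒞}
    (c : Cocone Ψ) (h1 : ∀ j, IsIso (γ.app (Ψ.obj j))) (h2 : IsIso (γ.app c.pt))
    (hG : IsColimit (G.mapCocone c)) : IsColimit (Φ.mapCocone c) := by
  haveI := h1
  haveI := h2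
  let w : Ψ ⋙ Φ ≅ Ψ ⋙ G := NatIso.ofComponents (fun j => (asIso (γ.app (Ψ.obj j))).symm) (by
    intro j j' g
    change Φ.map (Ψ.map g) ≫ inv (γ.app (Ψ.obj j')) = inv (γ.app (Ψ.obj j)) ≫ G.map (Ψ.map g)
    rw [IsIso.comp_inv_eq, Category.assoc, γ.naturality, IsIso.inv_hom_id_assoc])
  refine isColimitOfIsoDiagram (Φ.mapCocone c) (G.mapCocone c) w (asIso (γ.app c.pt)).symm ?_ hG
  intro j
  have hn : G.map (c.ι.app j) ≫ γ.app c.pt = γ.app (Ψ.obj j) ≫ Φ.map (c.ι.app j) :=
    γ.naturality (c.ι.app j)
  change Φ.map (c.ι.app j) ≫ inv (γ.app c.pt) = inv (γ.app (Ψ.obj j)) ≫ G.map (c.ι.app j)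
  rw [IsIso.comp_inv_eq, Category.assoc, IsIso.eq_inv_comp]
  exact hn.symm

/-- if `Φ` inverts the components of `β : C ⟶ Ψ` and `colimMap β`, colimit-ness of the image of the
colimit cocone transfers from `Ψ` to `C` -/
noncomputable def isColimitMapCoconeOfInverts (Φ : 𝒞 ⥤ ℬ) {C Ψ : J ⥤ 𝒞} (β : C ⟶ Ψ)
    [HasColimit C] [HasColimit Ψ]
    (h1 : ∀ j, IsIso (Φ.map (β.app j))) (h2 : IsIso (Φ.map (colimMap β)))
    (hΨ : IsColimit (Φ.mapCocone (colimit.cocone Ψ))) :
    IsColimit (Φ.mapCocone (colimit.cocone C)) := by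
  haveI := h1
  haveI := h2
  let w : C ⋙ Φ ≅ Ψ ⋙ Φ := NatIso.ofComponents (fun j => asIso (Φ.map (β.app j))) (by
    intro j j' g
    change Φ.map (C.map g) ≫ Φ.map (β.app j') = Φ.map (β.app j) ≫ Φ.map (Ψ.map g)
    rw [← Φ.map_comp, ← Φ.map_comp, β.naturality])
  refine isColimitOfIsoDiagram (Φ.mapCocone (colimit.cocone C)) (Φ.mapCocone (colimit.cocone Ψ)) w
    (asIso (Φ.map (colimMap β))) ?_ hΨ
  intro j
  change Φ.map (colimit.ι C j) ≫ Φ.map (colimMap β) = Φ.map (β.app j) ≫ Φ.map (colimit.ι Ψ j)
  rw [← Φ.map_comp, ← Φ.map_comp, ι_colimMap]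

/-- a functor preserving the two colimits sends `colimMap α` to an isomorphism if it does so for
the components of `α` -/
lemma isIso_map_colimMap (G : 𝒞 ⥤ ℬ) {K L : J ⥤ 𝒞} [HasColimit K] [HasColimit L]
    [PreservesColimit K G] [PreservesColimit L G] (α : K ⟶ L)
    (h : ∀ j, IsIso (G.map (α.app j))) : IsIso (G.map (colimMap α)) := by
  haveI := h
  let w : K ⋙ G ≅ L ⋙ G := NatIso.ofComponents (fun j => asIso (G.map (α.app j))) (by
    intro j j' g
    change G.map (K.map g) ≫ G.map (α.app j') = G.map (α.app j) ≫ G.map (L.map g)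
    rw [← G.map_comp, ← G.map_comp, α.naturality])
  have h1 : IsColimit (G.mapCocone (colimit.cocone K)) :=
    isColimitOfPreserves G (colimit.isColimit K)
  have h2 : IsColimit (G.mapCocone (colimit.cocone L)) :=
    isColimitOfPreserves G (colimit.isColimit L)
  have e : G.map (colimMap α) = (IsColimit.coconePointsIsoOfNatIso h1 h2 w).hom := by
    refine h1.hom_ext fun j => ?_
    rw [IsColimit.comp_coconePointsIsoOfNatIso_hom]
    change G.map (colimit.ι K j) ≫ G.map (colimMap α) = G.map (α.app j) ≫ G.map (colimit.ι L j)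
    rw [← G.map_comp, ← G.map_comp, ι_colimMap]
  rw [e]
  infer_instance

/-- a natural transformation between two functors both sending a cocone to a colimit cocone is
invertible at the point if it is on the diagram -/
lemma isIso_app_pt_of_isColimit {G Φ : 𝒞 ⥤ ℬ} (γ : G ⟶ Φ) {C : J ⥤ 𝒞} (c : Cocone C)
    (hG : IsColimit (G.mapCocone c)) (hΦ : IsColimit (Φ.mapCocone c))
    (h : ∀ j, IsIso (γ.app (C.obj j))) : IsIso (γ.app c.pt) := by
  haveI := h
  let w : C ⋙ G ≅ C ⋙ Φ := NatIso.ofComponents (fun j => asIso (γ.app (C.obj j))) (by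
    intro j j' g
    exact γ.naturality (C.map g))
  have e : γ.app c.pt = (IsColimit.coconePointsIsoOfNatIso hG hΦ w).hom := by
    refine hG.hom_ext fun j => ?_
    rw [IsColimit.comp_coconePointsIsoOfNatIso_hom]
    exact γ.naturality (c.ι.app j)
  rw [e]
  infer_instance

end Cocones

section FunctorCat

variable (J : Type u) [SmallCategory J] (𝒜 : Type (u + 1)) [Category.{u} 𝒜] [Abelian 𝒜]
  [IsGrothendieckAbelian.{u} 𝒜]

/-- diagram categories over a Grothendieck abelian category are Grothendieck abelian -/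
theorem isGrothendieckAbelian_functor : IsGrothendieckAbelian.{u} (J ⥤ 𝒜) := by
  haveI : IsGrothendieckAbelian.{u} (Jᵒᵖᵒᵖ ⥤ 𝒜) :=
    { ab5OfSize := ⟨fun K _ _ => inferInstance⟩ }
  exact IsGrothendieckAbelian.of_equivalence ((opOpEquivalence J).congrLeft)

variable {J 𝒜}

instance preservesMonomorphisms_evaluationLeftAdjoint (j : J) :
    (evaluationLeftAdjoint 𝒜 j).PreservesMonomorphisms := by
  constructor
  intro M N f hf
  rw [NatTrans.mono_iff_mono_app']
  intro k
  have h : ((evaluationLeftAdjoint 𝒜 j).map f).app k =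
      Limits.Sigma.map (fun _ : j ⟶ k => f) := by
    refine Sigma.hom_ext _ _ fun g => ?_
    simp [evaluationLeftAdjoint]
  have hm : Mono (Limits.Sigma.map (fun _ : j ⟶ k => f)) := inferInstance
  rw [h]
  exact hm

/-- the values of an injective diagram are injective -/
lemma injective_obj_of_injective (E : J ⥤ 𝒜) [Injective E] (j : J) : Injective (E.obj j) :=
  (evaluationAdjunctionRight 𝒜 j).map_injective E inferInstance

end FunctorCat

section Resolution

variable {J : Type u} [SmallCategory J] {𝒜 : Type (u + 1)} [Category.{u} 𝒜] [Abelian 𝒜]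

/-- a `J`-diagram of complexes as a complex of `J`-diagrams -/
noncomputable def ofFunctor (D : J ⥤ CochainComplex 𝒜 ℤ) : CochainComplex (J ⥤ 𝒜) ℤ where
  X p := D ⋙ HomologicalComplex.eval 𝒜 (ComplexShape.up ℤ) p
  d p q :=
    { app := fun j => (D.obj j).d p q
      naturality := fun j j' g => ((D.map g).comm p q) }
  shape p q h := by
    ext j
    change (D.obj j).d p q = 0
    exact (D.obj j).shape p q h
  d_comp_d' p q r _ _ := by
    ext j
    change (D.obj j).d p q ≫ (D.obj j).d q r = 0
    exact (D.obj j).d_comp_d p q r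

/-- a morphism from `ofFunctor D` to a complex of diagrams gives a natural transformation -/
noncomputable def natTransOfHom (D : J ⥤ CochainComplex 𝒜 ℤ) (ℐ : CochainComplex (J ⥤ 𝒜) ℤ)
    (ι : ofFunctor D ⟶ ℐ) : D ⟶ ℐ.asFunctor where
  app j :=
    { f := fun p => (ι.f p).app j
      comm' := fun p q _ => NatTrans.congr_app (ι.comm p q) j }
  naturality j j' g := by
    ext p
    exact (ι.f p).naturality g

lemma quasiIso_natTransOfHom_app (D : J ⥤ CochainComplex 𝒜 ℤ) (ℐ : CochainComplex (J ⥤ 𝒜) ℤ)
    (ι : ofFunctor D ⟶ ℐ) [QuasiIso ι] (j : J) : QuasiIso ((natTransOfHom D ℐ ι).app j) :=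
  (HomologicalComplex.quasiIso_iff_evaluation ι).1 inferInstance j

lemma isStrictlyGE_ofFunctor (D : J ⥤ CochainComplex 𝒜 ℤ) (n : ℤ)
    (h : ∀ j, (D.obj j).IsStrictlyGE n) : (ofFunctor D).IsStrictlyGE n := by
  rw [CochainComplex.isStrictlyGE_iff]
  intro i hi
  refine Functor.isZero _ fun j => ?_
  haveI := h j
  exact (D.obj j).isZero_of_isStrictlyGE n i hi

lemma isStrictlyGE_asFunctor_obj (ℐ : CochainComplex (J ⥤ 𝒜) ℤ) (n : ℤ) [ℐ.IsStrictlyGE n]
    (j : J) : CochainComplex.IsStrictlyGE (ℐ.asFunctor.obj j) n := by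
  rw [CochainComplex.isStrictlyGE_iff]
  intro i hi
  exact ((Functor.isZero_iff _).1 (ℐ.isZero_of_isStrictlyGE n i hi)) j

end Resolution

open Groth.Agent.Lib.Helper17.RFTri Groth.Agent.Lib.Helper17.DerKInj
  Groth.Agent.Lib.Helper17.PushCoh2
  Groth.Agent.Lib.Helper5.GrothSS Groth.Agent.Lib.Helper5.AcyclicRes
  Groth.Agent.Lib.Helper5.RpushAb

section Gamma

universe w₁ w₂ v₁ v₂ u₁ u₂

variable {A : Type u₁} [Category.{v₁} A] [Abelian A] [HasDerivedCategory.{w₁} A]
  {B : Type u₂} [Category.{v₂} B] [Abelian B] [HasDerivedCategory.{w₂} B]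
  (F : A ⥤ B) [F.Additive]
  [(Φ F).HasRightDerivedFunctor (HomotopyCategory.quasiIso A (ComplexShape.up ℤ))]

/-- the unit `Q(F K) ⟶ RF(Q K)` of the total right derived functor, on complexes -/
noncomputable def unitQ (K : CochainComplex A ℤ) :
    DerivedCategory.Q.obj ((F.mapHomologicalComplex (ComplexShape.up ℤ)).obj K) ⟶
      (RF F).obj (DerivedCategory.Q.obj K) :=
  (αF F).app ((HomotopyCategory.quotient _ _).obj K)

lemma unitQ_naturality {K L : CochainComplex A ℤ} (φ : K ⟶ L) :
    DerivedCategory.Q.map ((F.mapHomologicalComplex (ComplexShape.up ℤ)).map φ) ≫ unitQ F L =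
      unitQ F K ≫ (RF F).map (DerivedCategory.Q.map φ) :=
  (αF F).naturality ((HomotopyCategory.quotient _ _).map φ)

variable (i : ℤ)

/-- the comparison `H^i(F K) ⟶ H^i(RF K)`, natural in the complex `K` -/
noncomputable def γ :
    F.mapHomologicalComplex (ComplexShape.up ℤ) ⋙
        HomologicalComplex.homologyFunctor B (ComplexShape.up ℤ) i ⟶
      DerivedCategory.Q ⋙ RF F ⋙ DerivedCategory.homologyFunctor B i where
  app K := (DerivedCategory.homologyFunctorFactors B i).inv.app
      ((F.mapHomologicalComplex (ComplexShape.up ℤ)).obj K) ≫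
    (DerivedCategory.homologyFunctor B i).map (unitQ F K)
  naturality K L φ := by
    have h1 : (HomologicalComplex.homologyFunctor B (ComplexShape.up ℤ) i).map
          ((F.mapHomologicalComplex (ComplexShape.up ℤ)).map φ) ≫
        (DerivedCategory.homologyFunctorFactors B i).inv.app
          ((F.mapHomologicalComplex (ComplexShape.up ℤ)).obj L) =
        (DerivedCategory.homologyFunctorFactors B i).inv.app
          ((F.mapHomologicalComplex (ComplexShape.up ℤ)).obj K) ≫
        (DerivedCategory.homologyFunctor B i).map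
          (DerivedCategory.Q.map ((F.mapHomologicalComplex (ComplexShape.up ℤ)).map φ)) :=
      (DerivedCategory.homologyFunctorFactors B i).inv.naturality
        ((F.mapHomologicalComplex (ComplexShape.up ℤ)).map φ)
    have h2 := unitQ_naturality F φ
    change (HomologicalComplex.homologyFunctor B (ComplexShape.up ℤ) i).map
          ((F.mapHomologicalComplex (ComplexShape.up ℤ)).map φ) ≫
        ((DerivedCategory.homologyFunctorFactors B i).inv.app
          ((F.mapHomologicalComplex (ComplexShape.up ℤ)).obj L) ≫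
        (DerivedCategory.homologyFunctor B i).map (unitQ F L)) =
      ((DerivedCategory.homologyFunctorFactors B i).inv.app
          ((F.mapHomologicalComplex (ComplexShape.up ℤ)).obj K) ≫
        (DerivedCategory.homologyFunctor B i).map (unitQ F K)) ≫
        (DerivedCategory.homologyFunctor B i).map ((RF F).map (DerivedCategory.Q.map φ))
    rw [← Category.assoc, h1, Category.assoc, Category.assoc, ← Functor.map_comp,
      ← Functor.map_comp, h2]

lemma γ_app (K : CochainComplex A ℤ) :
    (γ F i).app K = (DerivedCategory.homologyFunctorFactors B i).inv.app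
      ((F.mapHomologicalComplex (ComplexShape.up ℤ)).obj K) ≫
    (DerivedCategory.homologyFunctor B i).map (unitQ F K) := rfl

lemma isIso_γ_app_iff (K : CochainComplex A ℤ) :
    IsIso ((γ F i).app K) ↔ IsIso ((DerivedCategory.homologyFunctor B i).map (unitQ F K)) := by
  rw [γ_app]
  constructor
  · intro h
    exact IsIso.of_isIso_comp_left ((DerivedCategory.homologyFunctorFactors B i).inv.app
      ((F.mapHomologicalComplex (ComplexShape.up ℤ)).obj K)) _
  · intro h
    infer_instance

/-- `H^i ∘ RF ∘ Q` inverts quasi-isomorphisms -/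
lemma isIso_map_of_quasiIso {K L : CochainComplex A ℤ} (φ : K ⟶ L) [QuasiIso φ] :
    IsIso ((DerivedCategory.Q ⋙ RF F ⋙ DerivedCategory.homologyFunctor B i).map φ) := by
  haveI : IsIso (DerivedCategory.Q.map φ) :=
    (DerivedCategory.isIso_Q_map_iff_quasiIso _ φ).2 inferInstance
  change IsIso ((DerivedCategory.homologyFunctor B i).map ((RF F).map (DerivedCategory.Q.map φ)))
  infer_instance

variable [EnoughInjectives A] [HasInjectiveResolutions A] [PreservesFiniteLimits F]

/-- Leray: `γ` is invertible on bounded below complexes with `F`-acyclic terms -/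
lemma isIso_γ_app (hA : HasKInjRes A) (K : CochainComplex A ℤ) (a : ℤ) [K.IsStrictlyGE a]
    (hK : ∀ n, Acyc F (K.X n)) : IsIso ((γ F i).app K) := by
  haveI : IsIso (unitQ F K) := Groth.Agent.Lib.Helper5.PlusAcyc.isIso_unit_of_acyc F hA K a hK
  rw [γ_app]
  infer_instance

end Gamma

section Sch

variable {X Y : Scheme.{u}} (f : X ⟶ Y) [QuasiCompact f] [QuasiSeparated f]

/-- **a filtered colimit of injective `O_X`-modules is `f_*`-acyclic** (`f` qcqs). -/
theorem acyc_of_isColimit_injective [HasInjectiveResolutions X.Modules]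
    {J : Type u} [SmallCategory J] [IsFiltered J]
    (D : J ⥤ X.Modules) (hD : ∀ j, Injective (D.obj j)) {c : Cocone D} (hc : IsColimit c) :
    Acyc (Scheme.Modules.pushforward f) c.pt := by
  intro k
  obtain ⟨e⟩ := Groth.Agent.Lib.Helper5.RpushAb.main f c.pt (k + 1)
  haveI hX := Groth.Agent.Lib.Helper17.ModSiteColim.toSheaf_preservesColimits X.ringCatSheaf
  haveI : PreservesColimitsOfShape J (TT X) :=
    inferInstanceAs (PreservesColimitsOfShape J (SheafOfModules.toSheaf X.ringCatSheaf))
  haveI : PreservesColimitsOfShape J (Coh.RpushAb f (k + 1)) :=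
    Groth.Agent.Lib.Helper5.RpushColim.preservesColimitsOfShape_RpushAb f (k + 1) J
  have h1 : IsColimit ((TT X ⋙ Coh.RpushAb f (k + 1)).mapCocone c) :=
    isColimitOfPreserves (TT X ⋙ Coh.RpushAb f (k + 1)) hc
  have hz : IsZero ((Coh.RpushAb f (k + 1)).obj ((TT X).obj c.pt)) := by
    refine Groth.Agent.Lib.Helper5.CoprodBdd.isZero_of_isColimit h1 fun j => ?_
    obtain ⟨ej⟩ := Groth.Agent.Lib.Helper5.RpushAb.main f (D.obj j) (k + 1)
    refine IsZero.of_iso ?_ ej.symm
    haveI := hD j
    exact (TT Y).map_isZero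
      (Functor.isZero_rightDerived_obj_injective_succ (Scheme.Modules.pushforward f) k (D.obj j))
  have hz' : IsZero ((TT Y).obj ((Coh.Rpush f (k + 1)).obj c.pt)) := hz.of_iso e
  haveI : (TT Y).Faithful := inferInstanceAs (SheafOfModules.toSheaf Y.ringCatSheaf).Faithful
  rw [IsZero.iff_id_eq_zero]
  apply (TT Y).map_injective
  rw [(TT Y).map_zero]
  exact hz'.eq_of_src _ _

variable [DCoh.HasRpush f] {J : Type u} [SmallCategory J] [IsFiltered J]

/-- **`H^i Rf_*` commutes with filtered colimits of uniformly bounded below complexes.** -/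
theorem nonempty_isColimit_HD_Rpush (C : J ⥤ CochainComplex X.Modules ℤ) [HasColimit C] (n : ℤ)
    (hC : ∀ j : J, (DCoh.toD X (C.obj j)).IsGE n) (i : ℤ) :
    Nonempty (IsColimit ((DerivedCategory.Q ⋙ DCoh.Rpush f ⋙
      DerivedCategory.homologyFunctor Y.Modules i).mapCocone (colimit.cocone C))) := by
  haveI : IsGrothendieckAbelian.{u} X.Modules :=
    Groth.Agent.S0484.result (Opens.grothendieckTopology X) X.ringCatSheaf
  haveI : IsGrothendieckAbelian.{u} Y.Modules :=
    Groth.Agent.S0484.result (Opens.grothendieckTopology Y) Y.ringCatSheaf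
  haveI : EnoughInjectives X.Modules := inferInstance
  haveI : HasInjectiveResolutions X.Modules := inferInstance
  haveI : PreservesFiniteLimits (Scheme.Modules.pushforward f) := by
    haveI := (Scheme.Modules.pullbackPushforwardAdjunction f).rightAdjoint_preservesLimits
    infer_instance
  haveI := isGrothendieckAbelian_functor J X.Modules
  haveI : EnoughInjectives (J ⥤ X.Modules) := inferInstance
  -- step 0: truncation
  let T := (ComplexShape.embeddingUpIntGE n).truncGEFunctor X.Modules
  let τ := (ComplexShape.embeddingUpIntGE n).πTruncGENatTrans X.Modules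
  let C' : J ⥤ CochainComplex X.Modules ℤ := C ⋙ T
  let π : C ⟶ C' :=
    { app := fun j => τ.app (C.obj j)
      naturality := fun j j' g => τ.naturality (C.map g) }
  have hπ : ∀ j, QuasiIso (π.app j) := fun j => by
    haveI : (C.obj j).IsGE n := (DerivedCategory.isGE_Q_obj_iff _ _).1 (hC j)
    exact inferInstanceAs (QuasiIso (CochainComplex.πTruncGE (C.obj j) n))
  have hC' : ∀ j, (C'.obj j).IsStrictlyGE n := fun j =>
    inferInstanceAs ((CochainComplex.truncGE (C.obj j) n).IsStrictlyGE n)
  haveI : (ofFunctor C').IsStrictlyGE n := isStrictlyGE_ofFunctor C' n hC'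
  -- step 1: injective resolution in the functor category
  obtain ⟨ℐ, ι, hι, hℐinj, hℐn⟩ :=
    CochainComplex.Plus.modelCategoryQuillen.exists_quasiIso_injective (ofFunctor C') n
  haveI := hι
  haveI := hℐn
  let Ψ : J ⥤ CochainComplex X.Modules ℤ := ℐ.asFunctor
  let β : C ⟶ Ψ := π ≫ natTransOfHom C' ℐ ι
  have hβ : ∀ j, QuasiIso (β.app j) := fun j => by
    haveI := hπ j
    haveI := quasiIso_natTransOfHom_app C' ℐ ι j
    exact inferInstanceAs (QuasiIso (π.app j ≫ (natTransOfHom C' ℐ ι).app j))
  have hΨinj : ∀ j p, Injective ((Ψ.obj j).X p) := fun j p => by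
    haveI := hℐinj p
    exact injective_obj_of_injective (ℐ.X p) j
  have hΨn : ∀ j, (Ψ.obj j).IsStrictlyGE n := fun j => isStrictlyGE_asFunctor_obj ℐ n j
  -- step 2: the colimit of `Ψ`
  have hev : ∀ p, IsColimit ((HomologicalComplex.eval X.Modules (ComplexShape.up ℤ) p).mapCocone
      (colimit.cocone Ψ)) := fun p => isColimitOfPreserves _ (colimit.isColimit Ψ)
  haveI hcolΨn : (colimit Ψ).IsStrictlyGE n := by
    rw [CochainComplex.isStrictlyGE_iff]
    intro p hp
    refine Groth.Agent.Lib.Helper5.CoprodBdd.isZero_of_isColimit (hev p) fun j => ?_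
    haveI := hΨn j
    exact (Ψ.obj j).isZero_of_isStrictlyGE n p hp
  have hcolΨac : ∀ p, Acyc (Scheme.Modules.pushforward f) ((colimit Ψ).X p) := fun p =>
    acyc_of_isColimit_injective f
      (Ψ ⋙ HomologicalComplex.eval X.Modules (ComplexShape.up ℤ) p) (fun j => hΨinj j p) (hev p)
  have hb : QuasiIso (colimMap β) := by
    rw [quasiIso_iff]
    intro p
    rw [quasiIsoAt_iff_isIso_homologyMap]
    haveI : PreservesColimitsOfShape J
        (HomologicalComplex.homologyFunctor X.Modules (ComplexShape.up ℤ) p) :=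
      Groth.Agent.Lib.Helper17.HomologyColim.preservesColimitsOfShape_homologyFunctor p
    exact isIso_map_colimMap
      (HomologicalComplex.homologyFunctor X.Modules (ComplexShape.up ℤ) p) β (fun j => by
        haveI := hβ j
        exact inferInstanceAs (IsIso (HomologicalComplex.homologyMap (β.app j) p)))
  -- step 3: `f_*` and homology commute with the colimit
  haveI := Groth.Agent.Lib.Helper5.PushColim.preservesFilteredColimits_pushforward f J
  haveI : PreservesColimitsOfShape J
      ((Scheme.Modules.pushforward f).mapHomologicalComplex (ComplexShape.up ℤ)) := inferInstance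
  haveI : PreservesColimitsOfShape J
      (HomologicalComplex.homologyFunctor Y.Modules (ComplexShape.up ℤ) i) :=
    Groth.Agent.Lib.Helper17.HomologyColim.preservesColimitsOfShape_homologyFunctor i
  have hG : IsColimit (((Scheme.Modules.pushforward f).mapHomologicalComplex (ComplexShape.up ℤ) ⋙
      HomologicalComplex.homologyFunctor Y.Modules (ComplexShape.up ℤ) i).mapCocone
        (colimit.cocone Ψ)) := isColimitOfPreserves _ (colimit.isColimit Ψ)
  -- step 4: Leray
  have h1 : IsColimit ((DerivedCategory.Q ⋙ DCoh.Rpush f ⋙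
      DerivedCategory.homologyFunctor Y.Modules i).mapCocone (colimit.cocone Ψ)) :=
    isColimitMapCoconeOfNatTrans (γ (Scheme.Modules.pushforward f) i) (colimit.cocone Ψ)
      (fun j => by
        haveI := hΨn j
        exact isIso_γ_app (Scheme.Modules.pushforward f) i (hA X) (Ψ.obj j) n (fun p k => by
          haveI := hΨinj j p
          exact Functor.isZero_rightDerived_obj_injective_succ (Scheme.Modules.pushforward f) k
            ((Ψ.obj j).X p)))
      (isIso_γ_app (Scheme.Modules.pushforward f) i (hA X) (colimit Ψ) n hcolΨac) hG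
  exact ⟨isColimitMapCoconeOfInverts (DerivedCategory.Q ⋙ DCoh.Rpush f ⋙
      DerivedCategory.homologyFunctor Y.Modules i) β
    (fun j => by
      haveI := hβ j
      exact isIso_map_of_quasiIso (Scheme.Modules.pushforward f) i (β.app j))
    (by
      haveI := hb
      exact isIso_map_of_quasiIso (Scheme.Modules.pushforward f) i (colimMap β)) h1⟩

/-- **`f_*`-acyclicity of the unit passes to filtered colimits of uniformly bounded below
complexes.** -/
theorem isIso_unit_colimit (C : J ⥤ CochainComplex X.Modules ℤ) [HasColimit C] (n : ℤ)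
    (hC : ∀ j : J, (DCoh.toD X (C.obj j)).IsGE n)
    (hac : ∀ j : J, IsIso (unitQ (Scheme.Modules.pushforward f) (C.obj j))) :
    IsIso (unitQ (Scheme.Modules.pushforward f) (colimit C)) := by
  haveI : IsGrothendieckAbelian.{u} X.Modules :=
    Groth.Agent.S0484.result (Opens.grothendieckTopology X) X.ringCatSheaf
  haveI : IsGrothendieckAbelian.{u} Y.Modules :=
    Groth.Agent.S0484.result (Opens.grothendieckTopology Y) Y.ringCatSheaf
  rw [DerivedCategory.isIso_iff]
  intro i
  rw [← isIso_γ_app_iff]
  obtain ⟨hΦ⟩ := nonempty_isColimit_HD_Rpush f C n hC i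
  haveI := Groth.Agent.Lib.Helper5.PushColim.preservesFilteredColimits_pushforward f J
  haveI : PreservesColimitsOfShape J
      ((Scheme.Modules.pushforward f).mapHomologicalComplex (ComplexShape.up ℤ)) := inferInstance
  haveI : PreservesColimitsOfShape J
      (HomologicalComplex.homologyFunctor Y.Modules (ComplexShape.up ℤ) i) :=
    Groth.Agent.Lib.Helper17.HomologyColim.preservesColimitsOfShape_homologyFunctor i
  have hG : IsColimit (((Scheme.Modules.pushforward f).mapHomologicalComplex (ComplexShape.up ℤ) ⋙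
      HomologicalComplex.homologyFunctor Y.Modules (ComplexShape.up ℤ) i).mapCocone
        (colimit.cocone C)) := isColimitOfPreserves _ (colimit.isColimit C)
  refine isIso_app_pt_of_isColimit (γ (Scheme.Modules.pushforward f) i) (colimit.cocone C) hG hΦ
    (fun j => ?_)
  rw [isIso_γ_app_iff]
  haveI := hac j
  infer_instance

end Sch

end Groth.Agent.Lib.Helper5.FilColimRpush
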