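import Groth.Prelude.Def_SpSeq
import Groth.Agent.Lib.Helper22.Horseshoe.Splice
import Mathlib.Algebra.Homology.ShortComplex.SnakeLemma
import Mathlib.CategoryTheory.Functor.OfSequence
import Mathlib.Data.Int.LeastGreatest

/-!
# Filtered injective resolutions (helper5)

A finite chain of monomorphisms `0 = P 0 ↪ P 1 ↪ P 2 ↪ ⋯` has a compatible system of
injective resolutions `X 0 ↪ X 1 ↪ X 2 ↪ ⋯` with (split) monomorphic transition maps.
-/

set_option autoImplicit false
universe v u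
open CategoryTheory CategoryTheory.Limits ZeroObject

namespace Groth.Agent.Lib.Helper5.FilRes

open Groth.Agent.Lib.Helper22.Horseshoe

section General

variable {C : Type u} [Category.{v} C] [Abelian C]

/-- The cokernel of a levelwise monomorphism between short exact sequences is short exact. -/
theorem shortExact_of_cokernel {S₁ S₂ S₃ : ShortComplex C} (φ : S₁ ⟶ S₂) (ψ : S₂ ⟶ S₃)
    (w : φ ≫ ψ = 0) (h₁ : S₁.ShortExact) (h₂ : S₂.ShortExact)
    [Mono φ.τ₁] [Mono φ.τ₂] [Mono φ.τ₃]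
    (c₁ : IsColimit (CokernelCofork.ofπ ψ.τ₁
      (show φ.τ₁ ≫ ψ.τ₁ = 0 by rw [← ShortComplex.comp_τ₁, w, ShortComplex.zero_τ₁])))
    (c₂ : IsColimit (CokernelCofork.ofπ ψ.τ₂
      (show φ.τ₂ ≫ ψ.τ₂ = 0 by rw [← ShortComplex.comp_τ₂, w, ShortComplex.zero_τ₂])))
    (c₃ : IsColimit (CokernelCofork.ofπ ψ.τ₃
      (show φ.τ₃ ≫ ψ.τ₃ = 0 by rw [← ShortComplex.comp_τ₃, w, ShortComplex.zero_τ₃]))) :
    S₃.ShortExact := by
  let Z : ShortComplex C := ShortComplex.mk (0 : (0 : C) ⟶ 0) (0 : (0 : C) ⟶ 0) zero_comp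
  have hZ₁ : IsZero Z.X₁ := isZero_zero C
  have hZ₂ : IsZero Z.X₂ := isZero_zero C
  have hZ₃ : IsZero Z.X₃ := isZero_zero C
  let S : ShortComplex.SnakeInput C :=
    { L₀ := Z
      L₁ := S₁
      L₂ := S₂
      L₃ := S₃
      v₀₁ := 0
      v₁₂ := φ
      v₂₃ := ψ
      w₀₂ := zero_comp
      w₁₃ := w
      h₀ := by
        apply ShortComplex.isLimitOfIsLimitπ <;>
          apply (KernelFork.isLimitMapConeEquiv _ _).2
        · exact KernelFork.IsLimit.ofMonoOfIsZero _ (inferInstance : Mono φ.τ₁) hZ₁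
        · exact KernelFork.IsLimit.ofMonoOfIsZero _ (inferInstance : Mono φ.τ₂) hZ₂
        · exact KernelFork.IsLimit.ofMonoOfIsZero _ (inferInstance : Mono φ.τ₃) hZ₃
      h₃ := by
        apply ShortComplex.isColimitOfIsColimitπ <;>
          apply (CokernelCofork.isColimitMapCoconeEquiv _ _).2
        · exact c₁
        · exact c₂
        · exact c₃
      L₁_exact := h₁.exact
      epi_L₁_g := h₁.epi_g
      L₂_exact := h₂.exact
      mono_L₂_f := h₂.mono_f }
  have e : S₃.Exact := S.L₃_exact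
  have : Epi S₂.g := h₂.epi_g
  have hepi : Epi S₃.g := S.epi_L₃_g
  have hmono : Mono S₃.f := by
    have h2 := S.L₂'_exact
    have hδ : S.L₂'.f = 0 := hZ₃.eq_of_src _ _
    exact h2.mono_g hδ
  exact { exact := e, mono_f := hmono, epi_g := hepi }

/-- A mono together with its cokernel is a short exact sequence. -/
theorem shortExact_cokernel {A B : C} (f : A ⟶ B) [Mono f] :
    (ShortComplex.mk f (cokernel.π f) (cokernel.condition f)).ShortExact where
  exact := ShortComplex.exact_of_g_is_cokernel _ (cokernelIsCokernel f)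
  mono_f := inferInstanceAs (Mono f)
  epi_g := inferInstanceAs (Epi (cokernel.π f))

section OneStep

variable {P P' J E : C} (t : P ⟶ P') [Mono t] (e : P ⟶ J) [Mono e] [Injective J]
  (ι : cokernel t ⟶ E) [Mono ι]

/-- The extended embedding `P' ⟶ J ⊞ E`. -/
noncomputable def ext : P' ⟶ J ⊞ E :=
  biprod.lift (Injective.factorThru e t) (cokernel.π t ≫ ι)

lemma e_inl : e ≫ (biprod.inl : J ⟶ J ⊞ E) = t ≫ ext t e ι := by
  dsimp [ext]
  apply biprod.hom_ext
  · simp [Injective.comp_factorThru]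
  · simp

lemma ext_snd : ext t e ι ≫ biprod.snd = cokernel.π t ≫ ι := by
  simp [ext]

/-- The morphism of short exact sequences `(P ⟶ P' ⟶ P'/P) ⟶ (J ⟶ J ⊞ E ⟶ E)`. -/
noncomputable def φS :
    ShortComplex.mk t (cokernel.π t) (cokernel.condition t) ⟶
      ShortComplex.mk (biprod.inl : J ⟶ J ⊞ E) biprod.snd biprod.inl_snd where
  τ₁ := e
  τ₂ := ext t e ι
  τ₃ := ι
  comm₁₂ := e_inl t e ι
  comm₂₃ := ext_snd t e ι

lemma splitShortExact (J E : C) :
    (ShortComplex.mk (biprod.inl : J ⟶ J ⊞ E) biprod.snd biprod.inl_snd).ShortExact :=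
  (ShortComplex.Splitting.ofHasBinaryBiproduct J E).shortExact

instance mono_ext : Mono (ext t e ι) := by
  have h₁ : Mono (φS t e ι).τ₁ := inferInstanceAs (Mono e)
  have h₃ : Mono (φS t e ι).τ₃ := inferInstanceAs (Mono ι)
  have h₂ : Mono (ShortComplex.mk (biprod.inl : J ⟶ J ⊞ E) biprod.snd biprod.inl_snd).f :=
    inferInstanceAs (Mono (biprod.inl : J ⟶ J ⊞ E))
  exact ShortComplex.mono_τ₂_of_exact_of_mono (φS t e ι) (shortExact_cokernel t).exact

/-- The induced map on cokernels `J/P ⟶ (J ⊞ E)/P'`. -/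
noncomputable def cokerMap : cokernel e ⟶ cokernel (ext t e ι) :=
  cokernel.map e (ext t e ι) t biprod.inl (e_inl t e ι)

lemma π_cokerMap : cokernel.π e ≫ cokerMap t e ι = biprod.inl ≫ cokernel.π (ext t e ι) := by
  simp [cokerMap]

instance mono_cokerMap : Mono (cokerMap t e ι) := by
  let S₃ : ShortComplex C :=
    ShortComplex.mk (cokerMap t e ι)
      (cokernel.map (ext t e ι) ι (cokernel.π t) biprod.snd (ext_snd t e ι)) (by
        apply (cancel_epi (cokernel.π e)).1
        simp [cokerMap])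
  let ψ : ShortComplex.mk (biprod.inl : J ⟶ J ⊞ E) biprod.snd biprod.inl_snd ⟶ S₃ :=
    { τ₁ := cokernel.π e
      τ₂ := cokernel.π (ext t e ι)
      τ₃ := cokernel.π ι
      comm₁₂ := π_cokerMap t e ι
      comm₂₃ := by simp [S₃] }
  have w : φS t e ι ≫ ψ = 0 := by
    apply ShortComplex.hom_ext
    · exact cokernel.condition e
    · exact cokernel.condition (ext t e ι)
    · exact cokernel.condition ι
  have h₁ : Mono (φS t e ι).τ₁ := inferInstanceAs (Mono e)
  have h₂ : Mono (φS t e ι).τ₂ := inferInstanceAs (Mono (ext t e ι))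
  have h₃ : Mono (φS t e ι).τ₃ := inferInstanceAs (Mono ι)
  have hS₃ : S₃.ShortExact :=
    shortExact_of_cokernel (φS t e ι) ψ w (shortExact_cokernel t) (splitShortExact J E)
      (cokernelIsCokernel e) (cokernelIsCokernel (ext t e ι)) (cokernelIsCokernel ι)
  exact hS₃.mono_f

end OneStep

end General

section Tower

variable {C : Type u} [Category.{v} C] [Abelian C] [EnoughInjectives C]

/-- A tower of monomorphisms starting from a zero object. -/
structure MTower (C : Type u) [Category.{v} C] [Abelian C] where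
  /-- the objects -/
  P : ℕ → C
  /-- the transition maps -/
  t : ∀ i, P i ⟶ P (i + 1)
  mono : ∀ i, Mono (t i)
  zero : IsZero (P 0)

attribute [instance] MTower.mono

variable (T : MTower C)

/-- The injective objects `J i = E 0 ⊞ ⋯ ⊞ E (i-1)`. -/
noncomputable def J : ℕ → C
  | 0 => 0
  | i + 1 => J i ⊞ Injective.under (cokernel (T.t i))

instance injective_J : ∀ i, Injective (J T i)
  | 0 => inferInstanceAs (Injective (0 : C))
  | i + 1 => by
    have := injective_J i
    exact inferInstanceAs (Injective (J T i ⊞ Injective.under (cokernel (T.t i))))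

/-- The embeddings `P i ↪ J i`. -/
noncomputable def eM : (i : ℕ) → {e : T.P i ⟶ J T i // Mono e}
  | 0 => ⟨0, ⟨fun _ _ _ => T.zero.eq_of_tgt _ _⟩⟩
  | i + 1 =>
    ⟨ext (T.t i) (eM i).1 (Injective.ι (cokernel (T.t i))), by
      have := (eM i).2
      exact mono_ext (T.t i) (eM i).1 (Injective.ι (cokernel (T.t i)))⟩

/-- The embedding `P i ↪ J i`. -/
noncomputable def e (i : ℕ) : T.P i ⟶ J T i := (eM T i).1

instance mono_e (i : ℕ) : Mono (e T i) := (eM T i).2

/-- The split inclusion `J i ↪ J (i+1)`. -/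
noncomputable def s (i : ℕ) : J T i ⟶ J T (i + 1) :=
  (biprod.inl : J T i ⟶ J T i ⊞ Injective.under (cokernel (T.t i)))

instance mono_s (i : ℕ) : Mono (s T i) :=
  inferInstanceAs (Mono (biprod.inl : J T i ⟶ J T i ⊞ Injective.under (cokernel (T.t i))))

lemma e_s (i : ℕ) : e T i ≫ s T i = T.t i ≫ e T (i + 1) :=
  e_inl (T.t i) (e T i) (Injective.ι (cokernel (T.t i)))

/-- The cokernel tower. -/
noncomputable def next : MTower C where
  P i := cokernel (e T i)
  t i := cokernel.map (e T i) (e T (i + 1)) (T.t i) (s T i) (e_s T i)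
  mono i := mono_cokerMap (T.t i) (e T i) (Injective.ι (cokernel (T.t i)))
  zero := by
    have h : IsZero (J T 0) := isZero_zero C
    have : cokernel.π (e T 0) = 0 := h.eq_of_src _ _
    exact IsZero.of_epi_eq_zero _ this

/-- The projection `J i ⟶ (next T).P i`. -/
noncomputable def πN (i : ℕ) : J T i ⟶ (next T).P i := cokernel.π (e T i)

instance epi_πN (i : ℕ) : Epi (πN T i) := inferInstanceAs (Epi (cokernel.π (e T i)))

lemma e_πN (i : ℕ) : e T i ≫ πN T i = 0 := cokernel.condition (e T i)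

lemma πN_t (i : ℕ) : πN T i ≫ (next T).t i = s T i ≫ πN T (i + 1) :=
  cokernel.π_desc _ _ _

lemma shortExact_πN (i : ℕ) :
    (ShortComplex.mk (e T i) (πN T i) (e_πN T i)).ShortExact :=
  shortExact_cokernel (e T i)

/-- The iterated cokernel towers. -/
noncomputable def iter : ℕ → MTower C
  | 0 => T
  | n + 1 => next (iter n)

/-- The projection `J (iter T n) i ⟶ (iter T (n+1)).P i`. -/
noncomputable def πZ (i n : ℕ) : J (iter T n) i ⟶ (iter T (n + 1)).P i := πN (iter T n) i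

instance epi_πZ (i n : ℕ) : Epi (πZ T i n) := epi_πN (iter T n) i

lemma e_πZ (i n : ℕ) : e (iter T n) i ≫ πZ T i n = 0 := e_πN (iter T n) i

lemma πZ_t (i n : ℕ) :
    πZ T i n ≫ (iter T (n + 1)).t i = s (iter T n) i ≫ πZ T (i + 1) n :=
  πN_t (iter T n) i

lemma shortExact_πZ (i n : ℕ) :
    (ShortComplex.mk (e (iter T n) i) (πZ T i n) (e_πZ T i n)).ShortExact :=
  shortExact_πN (iter T n) i

/-- The differential of the complex at level `i`. -/
noncomputable def dX (i n : ℕ) : J (iter T n) i ⟶ J (iter T (n + 1)) i :=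
  πZ T i n ≫ e (iter T (n + 1)) i

lemma dX_comp (i n : ℕ) : dX T i n ≫ dX T i (n + 1) = 0 := by
  dsimp only [dX]
  rw [Category.assoc, reassoc_of% (e_πZ T i (n + 1)), zero_comp, comp_zero]

/-- The complex at level `i`. -/
noncomputable abbrev Xc (i : ℕ) : CochainComplex C ℕ :=
  CochainComplex.of (fun n => J (iter T n) i) (fun n => dX T i n) (fun n => dX_comp T i n)

lemma Xc_d (i n : ℕ) : (Xc T i).d n (n + 1) = dX T i n :=
  CochainComplex.of_d (V := C) (fun n => J (iter T n) i) (fun n => dX T i n) n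

instance injective_Xc (i n : ℕ) : Injective ((Xc T i).X n) :=
  inferInstanceAs (Injective (J (iter T n) i))

/-- Splicing data for the complex at level `i`. -/
noncomputable abbrev splice (i : ℕ) : Splice (Xc T i) where
  Z n := (iter T n).P i
  i n := e (iter T n) i
  p n := πZ T i n
  w n := e_πZ T i n
  se n := shortExact_πZ T i n
  hd n := Xc_d T i n

lemma s_dX (i n : ℕ) : s (iter T n) i ≫ dX T (i + 1) n = dX T i n ≫ s (iter T (n + 1)) i := by
  dsimp only [dX]
  rw [← Category.assoc, ← πZ_t, Category.assoc, Category.assoc, e_s]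

/-- The transition map between the complexes at levels `i` and `i+1`. -/
noncomputable def sX (i : ℕ) : Xc T i ⟶ Xc T (i + 1) :=
  CochainComplex.ofHom (fun n => s (iter T n) i) (fun n => by
    rw [Xc_d, Xc_d]
    exact s_dX T i n)

lemma sX_f (i n : ℕ) : (sX T i).f n = s (iter T n) i := rfl

instance mono_sX (i : ℕ) : Mono (sX T i) :=
  HomologicalComplex.mono_of_mono_f _ (fun n => mono_s (iter T n) i)

/-- The tower of complexes as a functor. -/
noncomputable def XF : ℕ ⥤ CochainComplex C ℕ := Functor.ofSequence (sX T)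

/-- The tower of objects as a functor. -/
noncomputable def PF : ℕ ⥤ C := Functor.ofSequence T.t

/-- The composite transition maps of complexes. -/
noncomputable def jm {i k : ℕ} (h : i ≤ k) : Xc T i ⟶ Xc T k := (XF T).map (homOfLE h)

/-- The composite transition maps of objects. -/
noncomputable def pm {i k : ℕ} (h : i ≤ k) : T.P i ⟶ T.P k := (PF T).map (homOfLE h)

lemma jm_refl (i : ℕ) : jm T (le_refl i) = 𝟙 (Xc T i) := (XF T).map_id i

lemma pm_refl (i : ℕ) : pm T (le_refl i) = 𝟙 (T.P i) := (PF T).map_id i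

lemma jm_trans {i k l : ℕ} (h : i ≤ k) (h' : k ≤ l) : jm T h ≫ jm T h' = jm T (h.trans h') :=
  ((XF T).map_comp (homOfLE h) (homOfLE h')).symm

lemma pm_trans {i k l : ℕ} (h : i ≤ k) (h' : k ≤ l) : pm T h ≫ pm T h' = pm T (h.trans h') :=
  ((PF T).map_comp (homOfLE h) (homOfLE h')).symm

lemma jm_succ (i : ℕ) : jm T (Nat.le_succ i) = sX T i :=
  Functor.ofSequence_map_homOfLE_succ (sX T) i

lemma pm_succ (i : ℕ) : pm T (Nat.le_succ i) = T.t i :=
  Functor.ofSequence_map_homOfLE_succ T.t i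

lemma mono_jm_add (i d : ℕ) : Mono (jm T (Nat.le_add_right i d)) := by
  induction d with
  | zero =>
    have : jm T (Nat.le_add_right i 0) = 𝟙 (Xc T i) := jm_refl T i
    rw [this]
    infer_instance
  | succ d ih =>
    have : jm T (Nat.le_add_right i (d + 1)) =
        jm T (Nat.le_add_right i d) ≫ jm T (Nat.le_succ (i + d)) := (jm_trans T _ _).symm
    rw [this, jm_succ]
    exact mono_comp _ _

lemma mono_jm {i k : ℕ} (h : i ≤ k) : Mono (jm T h) := by
  obtain ⟨d, rfl⟩ := Nat.exists_eq_add_of_le h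
  exact mono_jm_add T i d

lemma e_jm_add (i d : ℕ) :
    e (iter T 0) i ≫ (jm T (Nat.le_add_right i d)).f 0 =
      pm (iter T 0) (Nat.le_add_right i d) ≫ e (iter T 0) (i + d) := by
  induction d with
  | zero =>
    have h₁ : jm T (Nat.le_add_right i 0) = 𝟙 (Xc T i) := jm_refl T i
    have h₂ : pm (iter T 0) (Nat.le_add_right i 0) = 𝟙 _ := pm_refl (iter T 0) i
    rw [h₁, h₂, HomologicalComplex.id_f]
    exact (Category.comp_id _).trans (Category.id_comp _).symm
  | succ d ih =>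
    have h₁ : jm T (Nat.le_add_right i (d + 1)) =
        jm T (Nat.le_add_right i d) ≫ jm T (Nat.le_succ (i + d)) := (jm_trans T _ _).symm
    have h₂ : pm (iter T 0) (Nat.le_add_right i (d + 1)) =
        pm (iter T 0) (Nat.le_add_right i d) ≫ pm (iter T 0) (Nat.le_succ (i + d)) :=
      (pm_trans (iter T 0) _ _).symm
    rw [h₁, h₂, HomologicalComplex.comp_f, ← Category.assoc, ih, Category.assoc, Category.assoc,
      jm_succ, pm_succ, sX_f]
    congr 1
    exact e_s (iter T 0) (i + d)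

lemma e_jm {i k : ℕ} (h : i ≤ k) :
    e (iter T 0) i ≫ (jm T h).f 0 = pm (iter T 0) h ≫ e (iter T 0) k := by
  obtain ⟨d, rfl⟩ := Nat.exists_eq_add_of_le h
  exact e_jm_add T i d

lemma isZero_Xc_zero (i : ℕ) (hi : i = 0) (n : ℕ) : IsZero ((Xc T i).X n) := by
  subst hi
  exact isZero_zero C

lemma jm_eq_zero {i k : ℕ} (h : i ≤ k) (hi : i = 0) : jm T h = 0 := by
  ext n
  exact (isZero_Xc_zero T i hi n).eq_of_src _ _

lemma isIso_jm {i k : ℕ} (h : i ≤ k) (hik : i = k) : IsIso (jm T h) := by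
  subst hik
  rw [jm_refl]
  infer_instance

lemma splice_i_jm {i k : ℕ} (h : i ≤ k) :
    (splice T i).i 0 ≫ (jm T h).f 0 = pm (iter T 0) h ≫ (splice T k).i 0 :=
  e_jm T h

lemma splice_ι_jm {i k : ℕ} (h : i ≤ k) :
    (splice T i).ι ≫ jm T h =
      (CochainComplex.single₀ C).map (pm (iter T 0) h) ≫ (splice T k).ι := by
  apply HomologicalComplex.from_single_hom_ext
  have h₁ : ((splice T i).ι ≫ jm T h).f 0 = (splice T i).i 0 ≫ (jm T h).f 0 :=
    congrArg (fun z => z ≫ (jm T h).f 0) (Splice.ι_f_zero (splice T i))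
  have h₂ : ((CochainComplex.single₀ C).map (pm (iter T 0) h) ≫ (splice T k).ι).f 0 =
      pm (iter T 0) h ≫ (splice T k).i 0 :=
    (congrArg (fun z => ((CochainComplex.single₀ C).map (pm (iter T 0) h)).f 0 ≫ z)
      (Splice.ι_f_zero (splice T k))).trans
      (congrArg (fun z => z ≫ (splice T k).i 0)
        (CochainComplex.single₀_map_f_zero (pm (iter T 0) h)))
  exact h₁.trans ((splice_i_jm T h).trans h₂.symm)

lemma aug_compat {i k : ℕ} (h : i ≤ k) {A A' : C} (a : A ⟶ (splice T i).Z 0)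
    (a' : A' ⟶ (splice T k).Z 0) (u : A ⟶ A') (hu : a ≫ pm (iter T 0) h = u ≫ a') :
    ((CochainComplex.single₀ C).map a ≫ (splice T i).ι) ≫ jm T h =
      (CochainComplex.single₀ C).map u ≫
        ((CochainComplex.single₀ C).map a' ≫ (splice T k).ι) := by
  rw [Category.assoc, splice_ι_jm, ← Category.assoc, ← Category.assoc, ← Functor.map_comp,
    ← Functor.map_comp]
  exact congrArg (fun z => (CochainComplex.single₀ C).map z ≫ (splice T k).ι) hu

end Tower

section Package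

variable {C : Type u} [Category.{v} C] [Abelian C]

/-- Packaging a compatible family of sub-resolutions as a family of subobjects. -/
theorem package {A : C} (X : InjectiveResolution A) (F : ℤ → Subobject A)
    (Y : ℤ → CochainComplex C ℕ) (j : ∀ p, Y p ⟶ X.cocomplex) (hj : ∀ p, Mono (j p))
    (hle : ∀ p q, p ≤ q → ∃ g : Y q ⟶ Y p, g ≫ j p = j q)
    (Ptop Pbot : ℤ → Prop)
    (htop : ∀ p, Ptop p → IsIso (j p)) (hbot : ∀ p, Pbot p → j p = 0)
    (hinj : ∀ p n, Injective ((Y p).X n))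
    (hι : ∀ p, ∃ ι : (CochainComplex.single₀ C).obj (F p : C) ⟶ Y p,
      ι ≫ j p = (CochainComplex.single₀ C).map (F p).arrow ≫ X.ι ∧ QuasiIso ι) :
    ∃ G : ℤ → Subobject X.cocomplex, Antitone G ∧
      (∀ p, Ptop p → G p = ⊤) ∧ (∀ p, Pbot p → G p = ⊥) ∧
      ∀ p, (∀ n : ℕ, Injective ((G p : CochainComplex C ℕ).X n)) ∧
        ∃ ι : (CochainComplex.single₀ C).obj (F p : C) ⟶ (G p : CochainComplex C ℕ),
          ι ≫ (G p).arrow = (CochainComplex.single₀ C).map (F p).arrow ≫ X.ι ∧ QuasiIso ι := by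
  refine ⟨fun p => @Subobject.mk _ _ _ _ (j p) (hj p), ?_, ?_, ?_, ?_⟩
  · intro p q hpq
    obtain ⟨g, hg⟩ := hle p q hpq
    have := hj p
    have := hj q
    exact Subobject.mk_le_mk_of_comm g hg
  · intro p hp
    have := hj p
    have := htop p hp
    exact Subobject.mk_eq_top_of_isIso (j p)
  · intro p hp
    have := hj p
    exact Subobject.mk_eq_bot_iff_zero.2 (hbot p hp)
  · intro p
    have := hj p
    refine ⟨fun n => ?_, ?_⟩
    · have := hinj p n
      exact Injective.of_iso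
        ((HomologicalComplex.eval C _ n).mapIso (Subobject.underlyingIso (j p)).symm) (hinj p n)
    · obtain ⟨ι, hι₁, hι₂⟩ := hι p
      refine ⟨ι ≫ (Subobject.underlyingIso (j p)).inv, ?_, ?_⟩
      · rw [Category.assoc, Subobject.underlyingIso_arrow, hι₁]
      · infer_instance

end Package

section Fil

variable {C : Type u} [Category.{v} C] [Abelian C] [EnoughInjectives C]

open SpSeq

omit [EnoughInjectives C] in
lemma isZero_of_eq_bot {A : C} (S : Subobject A) (h : S = ⊥) : IsZero (S : C) := by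
  subst h
  exact IsZero.of_iso (isZero_zero C) Subobject.botCoeIsoZero

/-- The tower `P i = F^{b - i}`. -/
noncomputable abbrev towerOf (K : SpSeq.FilObj C) (b : ℤ) (hb : K.fil b = ⊥) : MTower C where
  P i := K.step (b - (i : ℤ))
  t i := (K.fil (b - (i : ℤ))).ofLE (K.fil (b - ((i + 1 : ℕ) : ℤ)))
    (K.anti (by push_cast; omega))
  mono i := inferInstance
  zero := isZero_of_eq_bot _ (by simpa using hb)

lemma pm_arrow_add (K : SpSeq.FilObj C) (b : ℤ) (hb : K.fil b = ⊥) (i d : ℕ) :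
    pm (towerOf K b hb) (Nat.le_add_right i d) ≫ (K.fil (b - ((i + d : ℕ) : ℤ))).arrow =
      (K.fil (b - (i : ℤ))).arrow := by
  induction d with
  | zero =>
    have h : pm (towerOf K b hb) (Nat.le_add_right i 0) = 𝟙 _ := pm_refl (towerOf K b hb) i
    rw [h]
    exact Category.id_comp _
  | succ d ih =>
    have h : pm (towerOf K b hb) (Nat.le_add_right i (d + 1)) =
        pm (towerOf K b hb) (Nat.le_add_right i d) ≫ pm (towerOf K b hb) (Nat.le_succ (i + d)) :=
      (pm_trans (towerOf K b hb) _ _).symm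
    rw [h, pm_succ, Category.assoc]
    have h₂ : (towerOf K b hb).t (i + d) ≫ (K.fil (b - ((i + (d + 1) : ℕ) : ℤ))).arrow =
        (K.fil (b - ((i + d : ℕ) : ℤ))).arrow := Subobject.ofLE_arrow _
    rw [h₂, ih]

lemma pm_arrow (K : SpSeq.FilObj C) (b : ℤ) (hb : K.fil b = ⊥) {i k : ℕ} (h : i ≤ k) :
    pm (towerOf K b hb) h ≫ (K.fil (b - (k : ℤ))).arrow = (K.fil (b - (i : ℤ))).arrow := by
  obtain ⟨d, rfl⟩ := Nat.exists_eq_add_of_le h
  exact pm_arrow_add K b hb i d

/-- The inclusion of the `i`-th level into the ambient object. -/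
noncomputable def arrowZ (K : SpSeq.FilObj C) (b : ℤ) (hb : K.fil b = ⊥) (i : ℕ) :
    (splice (towerOf K b hb) i).Z 0 ⟶ K.obj :=
  (K.fil (b - (i : ℤ))).arrow

instance mono_arrowZ (K : SpSeq.FilObj C) (b : ℤ) (hb : K.fil b = ⊥) (i : ℕ) :
    Mono (arrowZ K b hb i) :=
  inferInstanceAs (Mono (K.fil (b - (i : ℤ))).arrow)

lemma pm_arrowZ (K : SpSeq.FilObj C) (b : ℤ) (hb : K.fil b = ⊥) {i k : ℕ} (h : i ≤ k) :
    pm (iter (towerOf K b hb) 0) h ≫ arrowZ K b hb k = arrowZ K b hb i :=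
  pm_arrow K b hb h

/-- The augmentation `A ⟶ F^{b-m} A`, inverse of the inclusion. -/
noncomputable def aug (K : SpSeq.FilObj C) (b : ℤ) (hb : K.fil b = ⊥) (m : ℕ)
    (ha : K.fil (b - (m : ℤ)) = ⊤) : K.obj ⟶ (splice (towerOf K b hb) m).Z 0 :=
  @inv _ _ _ _ (K.fil (b - (m : ℤ))).arrow ((Subobject.isIso_arrow_iff_eq_top _).2 ha)

lemma aug_arrowZ (K : SpSeq.FilObj C) (b : ℤ) (hb : K.fil b = ⊥) (m : ℕ)
    (ha : K.fil (b - (m : ℤ)) = ⊤) :
    aug K b hb m ha ≫ arrowZ K b hb m = 𝟙 _ :=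
  @IsIso.inv_hom_id _ _ _ _ (K.fil (b - (m : ℤ))).arrow
    ((Subobject.isIso_arrow_iff_eq_top _).2 ha)

lemma arrowZ_aug (K : SpSeq.FilObj C) (b : ℤ) (hb : K.fil b = ⊥) (m : ℕ)
    (ha : K.fil (b - (m : ℤ)) = ⊤) :
    arrowZ K b hb m ≫ aug K b hb m ha = 𝟙 _ :=
  @IsIso.hom_inv_id _ _ _ _ (K.fil (b - (m : ℤ))).arrow
    ((Subobject.isIso_arrow_iff_eq_top _).2 ha)

instance isIso_aug (K : SpSeq.FilObj C) (b : ℤ) (hb : K.fil b = ⊥) (m : ℕ)
    (ha : K.fil (b - (m : ℤ)) = ⊤) : IsIso (aug K b hb m ha) :=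
  ⟨⟨arrowZ K b hb m, aug_arrowZ K b hb m ha, arrowZ_aug K b hb m ha⟩⟩

/-- The injective resolution of the ambient object. -/
noncomputable def resol (K : SpSeq.FilObj C) (b : ℤ) (hb : K.fil b = ⊥) (m : ℕ)
    (ha : K.fil (b - (m : ℤ)) = ⊤) : InjectiveResolution K.obj where
  cocomplex := Xc (towerOf K b hb) m
  injective n := injective_Xc (towerOf K b hb) m n
  ι := (CochainComplex.single₀ C).map (aug K b hb m ha) ≫ (splice (towerOf K b hb) m).ι
  quasiIso := inferInstance

/-- The level of the tower attached to the filtration index `p`. -/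
def ix (b : ℤ) (m : ℕ) (p : ℤ) : ℕ := min m (b - p).toNat

lemma ix_le (b : ℤ) (m : ℕ) (p : ℤ) : ix b m p ≤ m := min_le_left _ _

lemma ix_anti (b : ℤ) (m : ℕ) {p q : ℤ} (h : p ≤ q) : ix b m q ≤ ix b m p := by
  unfold ix
  omega

omit [EnoughInjectives C] in
lemma fil_ix (K : SpSeq.FilObj C) (b : ℤ) (hb : K.fil b = ⊥) (m : ℕ)
    (ha : K.fil (b - (m : ℤ)) = ⊤) (p : ℤ) : K.fil p = K.fil (b - (ix b m p : ℤ)) := by
  unfold ix
  by_cases h₁ : b ≤ p
  · have h0 : min m (b - p).toNat = 0 := by omega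
    rw [h0]
    have h2 : K.fil (b - ((0 : ℕ) : ℤ)) = ⊥ := by simpa using hb
    rw [h2]
    exact le_bot_iff.1 (hb ▸ K.anti h₁)
  · by_cases h₂ : p ≤ b - (m : ℤ)
    · have h0 : min m (b - p).toNat = m := by omega
      rw [h0, ha]
      exact top_le_iff.1 (ha ▸ K.anti h₂)
    · have h0 : b - ((min m (b - p).toNat : ℕ) : ℤ) = p := by omega
      rw [h0]

/-- The identification `F^p ≅ P (ix p)`. -/
noncomputable def isoP (K : SpSeq.FilObj C) (b : ℤ) (hb : K.fil b = ⊥) (m : ℕ)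
    (ha : K.fil (b - (m : ℤ)) = ⊤) (p : ℤ) :
    (K.fil p : C) ⟶ (splice (towerOf K b hb) (ix b m p)).Z 0 :=
  (Subobject.isoOfEq _ _ (fil_ix K b hb m ha p)).hom

instance isIso_isoP (K : SpSeq.FilObj C) (b : ℤ) (hb : K.fil b = ⊥) (m : ℕ)
    (ha : K.fil (b - (m : ℤ)) = ⊤) (p : ℤ) : IsIso (isoP K b hb m ha p) :=
  inferInstanceAs (IsIso (Subobject.isoOfEq _ _ (fil_ix K b hb m ha p)).hom)

lemma isoP_arrowZ (K : SpSeq.FilObj C) (b : ℤ) (hb : K.fil b = ⊥) (m : ℕ)
    (ha : K.fil (b - (m : ℤ)) = ⊤) (p : ℤ) :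
    isoP K b hb m ha p ≫ arrowZ K b hb (ix b m p) = (K.fil p).arrow :=
  Subobject.ofLE_arrow _

/-- The augmentation of the sub-resolution at filtration index `p`. -/
noncomputable def ιp (K : SpSeq.FilObj C) (b : ℤ) (hb : K.fil b = ⊥) (m : ℕ)
    (ha : K.fil (b - (m : ℤ)) = ⊤) (p : ℤ) :
    (CochainComplex.single₀ C).obj (K.fil p : C) ⟶ Xc (towerOf K b hb) (ix b m p) :=
  (CochainComplex.single₀ C).map (isoP K b hb m ha p) ≫ (splice (towerOf K b hb) (ix b m p)).ι

instance quasiIso_ιp (K : SpSeq.FilObj C) (b : ℤ) (hb : K.fil b = ⊥) (m : ℕ)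
    (ha : K.fil (b - (m : ℤ)) = ⊤) (p : ℤ) : QuasiIso (ιp K b hb m ha p) := by
  unfold ιp
  infer_instance

lemma isoP_pm (K : SpSeq.FilObj C) (b : ℤ) (hb : K.fil b = ⊥) (m : ℕ)
    (ha : K.fil (b - (m : ℤ)) = ⊤) (p : ℤ) :
    isoP K b hb m ha p ≫ pm (iter (towerOf K b hb) 0) (ix_le b m p) =
      (K.fil p).arrow ≫ aug K b hb m ha := by
  apply (cancel_mono (arrowZ K b hb m)).1
  rw [Category.assoc, pm_arrowZ, isoP_arrowZ, Category.assoc, aug_arrowZ, Category.comp_id]

lemma ιp_jm (K : SpSeq.FilObj C) (b : ℤ) (hb : K.fil b = ⊥) (m : ℕ)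
    (ha : K.fil (b - (m : ℤ)) = ⊤) (p : ℤ) :
    ιp K b hb m ha p ≫ jm (towerOf K b hb) (ix_le b m p) =
      (CochainComplex.single₀ C).map (K.fil p).arrow ≫ (resol K b hb m ha).ι :=
  aug_compat (towerOf K b hb) (ix_le b m p) (isoP K b hb m ha p) (aug K b hb m ha)
    (K.fil p).arrow (isoP_pm K b hb m ha p)

/-- The core statement for a filtration with `F^b = ⊥` and `F^{b-m} = ⊤`. -/
theorem core (K : SpSeq.FilObj C) (b : ℤ) (hb : K.fil b = ⊥) (m : ℕ)
    (ha : K.fil (b - (m : ℤ)) = ⊤) :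
    ∃ (X : InjectiveResolution K.obj) (G : ℤ → Subobject X.cocomplex), Antitone G ∧
      (∀ p : ℤ, ix b m p = m → G p = ⊤) ∧ (∀ p : ℤ, ix b m p = 0 → G p = ⊥) ∧
      ∀ p : ℤ, (∀ n : ℕ, Injective ((G p : CochainComplex C ℕ).X n)) ∧
        ∃ ι : (CochainComplex.single₀ C).obj (K.step p) ⟶ (G p : CochainComplex C ℕ),
          ι ≫ (G p).arrow = (CochainComplex.single₀ C).map (K.fil p).arrow ≫ X.ι ∧
            QuasiIso ι :=
  ⟨resol K b hb m ha,
    package (resol K b hb m ha) K.fil (fun p => Xc (towerOf K b hb) (ix b m p))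
      (fun p => jm (towerOf K b hb) (ix_le b m p))
      (fun p => mono_jm (towerOf K b hb) (ix_le b m p))
      (fun p q hpq => ⟨jm (towerOf K b hb) (ix_anti b m hpq), jm_trans (towerOf K b hb) _ _⟩)
      (fun p => ix b m p = m) (fun p => ix b m p = 0)
      (fun p hp => isIso_jm (towerOf K b hb) (ix_le b m p) hp)
      (fun p hp => jm_eq_zero (towerOf K b hb) (ix_le b m p) hp)
      (fun p n => injective_Xc (towerOf K b hb) (ix b m p) n)
      (fun p => ⟨ιp K b hb m ha p, ιp_jm K b hb m ha p, quasiIso_ιp K b hb m ha p⟩)⟩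

end Fil

section Final

variable {C : Type u} [Category.{v} C] [Abelian C] [EnoughInjectives C]

open SpSeq

omit [EnoughInjectives C] in
theorem exists_bm (K : SpSeq.FilObj C) (hK : K.IsFinite) :
    ∃ (b : ℤ) (m : ℕ), K.fil b = ⊥ ∧ K.fil (b - (m : ℤ)) = ⊤ ∧
      (∀ p, K.fil p = ⊤ → ix b m p = m) ∧ (∀ p, K.fil p = ⊥ → ix b m p = 0) := by
  obtain ⟨⟨a₀, ha₀⟩, ⟨b₀, hb₀⟩⟩ := hK
  by_cases hdeg : (⊤ : Subobject K.obj) = ⊥
  · refine ⟨b₀, 0, hb₀, ?_, ?_, ?_⟩
    · rw [hdeg]
      simpa using hb₀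
    · intro p _
      unfold ix
      omega
    · intro p _
      unfold ix
      omega
  · -- the least index with `F = ⊥`
    have hlow : ∀ z : ℤ, K.fil z = ⊥ → a₀ ≤ z := by
      intro z hz
      by_contra hlt
      rw [not_le] at hlt
      have : K.fil a₀ ≤ K.fil z := K.anti hlt.le
      rw [ha₀, hz] at this
      exact hdeg (le_bot_iff.1 this)
    obtain ⟨b, hb, hbmin⟩ := Int.exists_least_of_bdd (P := fun z => K.fil z = ⊥)
      ⟨a₀, hlow⟩ ⟨b₀, hb₀⟩
    have hup : ∀ z : ℤ, K.fil z = ⊤ → z ≤ b := by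
      intro z hz
      by_contra hlt
      rw [not_le] at hlt
      have : K.fil z ≤ K.fil b := K.anti hlt.le
      rw [hz, hb] at this
      exact hdeg (le_bot_iff.1 this)
    obtain ⟨a, ha, hamax⟩ := Int.exists_greatest_of_bdd (P := fun z => K.fil z = ⊤)
      ⟨b, hup⟩ ⟨a₀, ha₀⟩
    have hab : a ≤ b := hup a ha
    refine ⟨b, (b - a).toNat, hb, ?_, ?_, ?_⟩
    · have : b - ((b - a).toNat : ℤ) = a := by omega
      rw [this]
      exact ha
    · intro p hp
      have := hamax p hp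
      unfold ix
      omega
    · intro p hp
      have := hbmin p hp
      unfold ix
      omega

/-- Existence of filtered injective resolutions for finite filtrations. -/
theorem main (K : SpSeq.FilObj C) (hK : K.IsFinite) :
    ∃ (X : InjectiveResolution K.obj) (G : ℤ → Subobject X.cocomplex), Antitone G ∧
      (∀ i : ℤ, K.fil i = ⊤ → G i = ⊤) ∧ (∀ i : ℤ, K.fil i = ⊥ → G i = ⊥) ∧
      ∀ i : ℤ, (∀ j : ℕ, Injective ((G i : CochainComplex C ℕ).X j)) ∧
        ∃ ι : (CochainComplex.single₀ C).obj (K.step i) ⟶ (G i : CochainComplex C ℕ),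
          ι ≫ (G i).arrow = (CochainComplex.single₀ C).map (K.fil i).arrow ≫ X.ι ∧
            QuasiIso ι := by
  obtain ⟨b, m, hb, ha, hT, hB⟩ := exists_bm K hK
  obtain ⟨X, G, hG, hGT, hGB, hres⟩ := core K b hb m ha
  exact ⟨X, G, hG, fun i hi => hGT i (hT i hi), fun i hi => hGB i (hB i hi), hres⟩

end Final

end Groth.Agent.Lib.Helper5.FilRes
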