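import Groth.Agent.Lib.Helper25.FilCxHom
import Mathlib.Algebra.Homology.ExactSequence
import Mathlib.Algebra.Homology.Refinements

/-!
# Weak Serre classes and the spectral sequence of a filtered complex

If all the terms of one page of the spectral sequence of a filtered complex (with degreewise
finite filtration) lie in a weak Serre class, so does the cohomology.
-/

namespace Groth.Agent.Lib.Helper5.FilSerre

open CategoryTheory CategoryTheory.Limits SpSeq SpSeq.FilCx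
open Groth.Agent.Lib.Helper25.SubElem Groth.Agent.Lib.Helper25.FilCxBasic
open Groth.Agent.Lib.Helper25.FilCxHom

universe v u
variable {A : Type u} [Category.{v} A] [Abelian A]

/-! ## Part 0 : weak Serre classes -/

lemma exact_mk₄ {X₀ X₁ X₂ X₃ X₄ : A} (f : X₀ ⟶ X₁) (g : X₁ ⟶ X₂) (k : X₂ ⟶ X₃) (l : X₃ ⟶ X₄)
    (w1 : f ≫ g = 0) (w2 : g ≫ k = 0) (w3 : k ≫ l = 0)
    (h1 : (ShortComplex.mk f g w1).Exact) (h2 : (ShortComplex.mk g k w2).Exact)
    (h3 : (ShortComplex.mk k l w3).Exact) :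
    (ComposableArrows.mk₄ f g k l).Exact :=
  ComposableArrows.exact_of_δ₀ h1.exact_toComposableArrows
    (ComposableArrows.exact_of_δ₀ h2.exact_toComposableArrows h3.exact_toComposableArrows)

/-- The closure properties of a weak Serre class that we use. -/
structure WS (P : ObjectProperty A) : Prop where
  iso : ∀ {X Y : A}, (X ≅ Y) → P X → P Y
  zero : ∃ Z : A, IsZero Z ∧ P Z
  mid : ∀ {X₀ X₁ X₂ X₃ X₄ : A} (f : X₀ ⟶ X₁) (g : X₁ ⟶ X₂) (k : X₂ ⟶ X₃) (l : X₃ ⟶ X₄)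
    (w1 : f ≫ g = 0) (w2 : g ≫ k = 0) (w3 : k ≫ l = 0),
    (ShortComplex.mk f g w1).Exact → (ShortComplex.mk g k w2).Exact →
    (ShortComplex.mk k l w3).Exact → P X₀ → P X₁ → P X₃ → P X₄ → P X₂

lemma WS.mk' (P : ObjectProperty A) [P.IsClosedUnderIsomorphisms]
    (h0 : ∃ Z : A, IsZero Z ∧ P Z)
    (hP : ∀ S : ComposableArrows A 4, S.Exact → P (S.obj 0) → P (S.obj 1) → P (S.obj 3) →
      P (S.obj 4) → P (S.obj 2)) : WS P where
  iso e h := P.prop_of_iso e h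
  zero := h0
  mid f g k l w1 w2 w3 h1 h2 h3 p0 p1 p3 p4 :=
    hP (ComposableArrows.mk₄ f g k l) (exact_mk₄ f g k l w1 w2 w3 h1 h2 h3) p0 p1 p3 p4

variable {P : ObjectProperty A}

lemma WS.of_isZero (hW : WS P) {X : A} (hX : IsZero X) : P X := by
  obtain ⟨Z, hZ, hPZ⟩ := hW.zero
  exact hW.iso (hZ.iso hX) hPZ

lemma WS.ker (hW : WS P) {U X Y : A} (i : U ⟶ X) (g : X ⟶ Y) [hi : Mono i] (w : i ≫ g = 0)
    (hex : (ShortComplex.mk i g w).Exact) (hX : P X) (hY : P Y) : P U := by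
  obtain ⟨Z, hZ, hPZ⟩ := hW.zero
  exact hW.mid (0 : Z ⟶ Z) (0 : Z ⟶ U) i g zero_comp zero_comp w
    (ShortComplex.exact_of_isZero_X₂ _ hZ)
    ((ShortComplex.exact_iff_mono _ rfl).2 hi) hex hPZ hPZ hX hY

lemma WS.coker (hW : WS P) {X Y C : A} (f : X ⟶ Y) (q : Y ⟶ C) [hq : Epi q] (w : f ≫ q = 0)
    (hex : (ShortComplex.mk f q w).Exact) (hX : P X) (hY : P Y) : P C := by
  obtain ⟨Z, hZ, hPZ⟩ := hW.zero
  exact hW.mid f q (0 : C ⟶ Z) (0 : Z ⟶ Z) w comp_zero comp_zero hex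
    ((ShortComplex.exact_iff_epi _ rfl).2 hq) (ShortComplex.exact_of_isZero_X₂ _ hZ)
    hX hY hPZ hPZ

lemma WS.ext (hW : WS P) {X Y C : A} (f : X ⟶ Y) (q : Y ⟶ C) [hf : Mono f] [hq : Epi q]
    (w : f ≫ q = 0) (hex : (ShortComplex.mk f q w).Exact) (hX : P X) (hC : P C) : P Y := by
  obtain ⟨Z, hZ, hPZ⟩ := hW.zero
  exact hW.mid (0 : Z ⟶ X) f q (0 : C ⟶ Z) zero_comp w comp_zero
    ((ShortComplex.exact_iff_mono _ rfl).2 hf) hex
    ((ShortComplex.exact_iff_epi _ rfl).2 hq) hPZ hX hC hPZ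

lemma exact_comp_mono {X₁ X₂ X₃ Y : A} (f : X₁ ⟶ X₂) (g : X₂ ⟶ X₃) (w : f ≫ g = 0)
    (hS : (ShortComplex.mk f g w).Exact) (m : X₃ ⟶ Y) [Mono m] :
    (ShortComplex.mk f (g ≫ m) (by rw [reassoc_of% w, zero_comp])).Exact := by
  rw [ShortComplex.exact_iff_exact_up_to_refinements] at hS ⊢
  intro W y hy
  dsimp at y hy ⊢
  exact hS y (by
    dsimp
    exact (cancel_mono m).1 (by simpa using hy))

/-- Two epimorphisms with the same source and the same kernel have isomorphic targets. -/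
noncomputable def isoOfEpis {X Y Z : A} (f : X ⟶ Y) (g : X ⟶ Z) [Epi f] [Epi g]
    (hfg : ∀ ⦃W : A⦄ (x : W ⟶ X), x ≫ f = 0 ↔ x ≫ g = 0) : Y ≅ Z where
  hom := Abelian.epiDesc f g ((hfg _).1 (kernel.condition f))
  inv := Abelian.epiDesc g f ((hfg _).2 (kernel.condition g))
  hom_inv_id := by
    rw [← cancel_epi f, Abelian.comp_epiDesc_assoc, Abelian.comp_epiDesc, Category.comp_id]
  inv_hom_id := by
    rw [← cancel_epi g, Abelian.comp_epiDesc_assoc, Abelian.comp_epiDesc, Category.comp_id]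

lemma mod_law {α : Type*} [Lattice α] [IsModularLattice α] (a c d : α) (h : c ≤ a) :
    a ⊓ (c ⊔ d) = c ⊔ (a ⊓ d) := by
  rw [sup_comm c d, ← inf_sup_assoc_of_le d h, sup_comm]

/-! ## Part I : elements of subquotients -/

section Subquot

variable {X : A}

/-- The projection `Z ⟶ Z / B`. -/
noncomputable def sqπ (Z B : Subobject X) (h : B ≤ Z) : (Z : A) ⟶ subquot Z B h :=
  cokernel.π (B.ofLE Z h)

instance epi_sqπ (Z B : Subobject X) (h : B ≤ Z) : Epi (sqπ Z B h) :=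
  (inferInstance : Epi (cokernel.π (B.ofLE Z h)))

lemma sqπ_eq_zero_iff (Z B : Subobject X) (h : B ≤ Z) {W : A} (x : W ⟶ (Z : A)) :
    x ≫ sqπ Z B h = 0 ↔ B.Factors (x ≫ Z.arrow) := by
  constructor
  · intro hx
    have hx' : x ≫ cokernel.π (B.ofLE Z h) = 0 := hx
    have h1 : x = Abelian.monoLift (B.ofLE Z h) x hx' ≫ B.ofLE Z h :=
      (Abelian.monoLift_comp _ _ _).symm
    rw [h1, Category.assoc, Subobject.ofLE_arrow]
    exact Subobject.factors_comp_arrow _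
  · intro hx
    have h1 : x = B.factorThru (x ≫ Z.arrow) hx ≫ B.ofLE Z h := by
      rw [← cancel_mono Z.arrow, Category.assoc, Subobject.ofLE_arrow,
        Subobject.factorThru_arrow]
    have h2 : B.ofLE Z h ≫ sqπ Z B h = 0 := cokernel.condition _
    rw [h1, Category.assoc, h2, comp_zero]

/-- The class in `Z / B` of a generalised element of `Z`. -/
noncomputable def sqmk (Z B : Subobject X) (h : B ≤ Z) {W : A} (z : W ⟶ X) (hz : Z.Factors z) :
    W ⟶ subquot Z B h :=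
  Z.factorThru z hz ≫ sqπ Z B h

lemma sqmk_eq_zero_iff (Z B : Subobject X) (h : B ≤ Z) {W : A} (z : W ⟶ X) (hz : Z.Factors z) :
    sqmk Z B h z hz = 0 ↔ B.Factors z := by
  unfold sqmk
  rw [sqπ_eq_zero_iff, Subobject.factorThru_arrow]

lemma comp_sqmk (Z B : Subobject X) (h : B ≤ Z) {W W' : A} (a : W' ⟶ W) (z : W ⟶ X)
    (hz : Z.Factors z) :
    a ≫ sqmk Z B h z hz = sqmk Z B h (a ≫ z) (Subobject.factors_of_factors_right a hz) := by
  unfold sqmk
  rw [← Category.assoc, Subobject.factorThru_right]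

lemma sqmk_sub (Z B : Subobject X) (h : B ≤ Z) {W : A} (z z' : W ⟶ X) (hz : Z.Factors z)
    (hz' : Z.Factors z') :
    sqmk Z B h z hz - sqmk Z B h z' hz' = sqmk Z B h (z - z') (factors_sub _ _ _ hz hz') := by
  unfold sqmk
  rw [← Preadditive.sub_comp]
  congr 1
  rw [← cancel_mono Z.arrow, Preadditive.sub_comp, Subobject.factorThru_arrow,
    Subobject.factorThru_arrow, Subobject.factorThru_arrow]

lemma sqmk_eq_iff (Z B : Subobject X) (h : B ≤ Z) {W : A} (z z' : W ⟶ X) (hz : Z.Factors z)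
    (hz' : Z.Factors z') :
    sqmk Z B h z hz = sqmk Z B h z' hz' ↔ B.Factors (z - z') := by
  rw [← sub_eq_zero, sqmk_sub, sqmk_eq_zero_iff]

lemma sqmk_surj (Z B : Subobject X) (h : B ≤ Z) {W : A} (y : W ⟶ subquot Z B h) :
    ∃ (W' : A) (π : W' ⟶ W) (_ : Epi π) (z : W' ⟶ X) (hz : Z.Factors z),
      π ≫ y = sqmk Z B h z hz := by
  obtain ⟨W', π, hπ, x, hx⟩ := surjective_up_to_refinements_of_epi (sqπ Z B h) y
  refine ⟨W', π, hπ, x ≫ Z.arrow, Subobject.factors_comp_arrow x, ?_⟩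
  unfold sqmk
  rw [hx, Subobject.factorThru_comp_arrow]

lemma sqπ_eq_sqmk (Z B : Subobject X) (h : B ≤ Z) :
    sqπ Z B h = sqmk Z B h Z.arrow (Subobject.factors_self Z) := by
  unfold sqmk
  rw [Subobject.factorThru_self, Category.id_comp]

lemma comp_sqπ (Z B : Subobject X) (h : B ≤ Z) {W : A} (x : W ⟶ (Z : A)) :
    x ≫ sqπ Z B h = sqmk Z B h (x ≫ Z.arrow) (Subobject.factors_comp_arrow x) := by
  unfold sqmk
  rw [Subobject.factorThru_comp_arrow]

/-- The inclusion `Z' / B ⟶ Z / B` for `B ≤ Z' ≤ Z`. -/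
noncomputable def sqι (Z Z' B : Subobject X) (h' : B ≤ Z') (hz : Z' ≤ Z) :
    subquot Z' B h' ⟶ subquot Z B (h'.trans hz) :=
  cokernel.desc (B.ofLE Z' h') (Z'.ofLE Z hz ≫ sqπ Z B (h'.trans hz)) (by
    rw [← Category.assoc, Subobject.ofLE_comp_ofLE]
    exact cokernel.condition _)

lemma sqπ_sqι (Z Z' B : Subobject X) (h' : B ≤ Z') (hz : Z' ≤ Z) :
    sqπ Z' B h' ≫ sqι Z Z' B h' hz = Z'.ofLE Z hz ≫ sqπ Z B (h'.trans hz) :=
  cokernel.π_desc _ _ _

lemma sqmk_sqι (Z Z' B : Subobject X) (h' : B ≤ Z') (hz : Z' ≤ Z) {W : A} (z : W ⟶ X)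
    (hz' : Z'.Factors z) :
    sqmk Z' B h' z hz' ≫ sqι Z Z' B h' hz =
      sqmk Z B (h'.trans hz) z (Subobject.factors_of_le z hz hz') := by
  unfold sqmk
  rw [Category.assoc, sqπ_sqι, ← Category.assoc, ← Subobject.factorThru_ofLE]

/-- The projection `Z / B ⟶ Z / Z'` for `B ≤ Z' ≤ Z`. -/
noncomputable def sqq (Z Z' B : Subobject X) (h' : B ≤ Z') (hz : Z' ≤ Z) :
    subquot Z B (h'.trans hz) ⟶ subquot Z Z' hz :=
  cokernel.desc (B.ofLE Z (h'.trans hz)) (sqπ Z Z' hz) (by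
    have h1 : B.ofLE Z (h'.trans hz) = B.ofLE Z' h' ≫ Z'.ofLE Z hz :=
      (Subobject.ofLE_comp_ofLE _ _ _ _ _).symm
    have h2 : Z'.ofLE Z hz ≫ sqπ Z Z' hz = 0 := cokernel.condition _
    rw [h1, Category.assoc, h2, comp_zero])

lemma sqπ_sqq (Z Z' B : Subobject X) (h' : B ≤ Z') (hz : Z' ≤ Z) :
    sqπ Z B (h'.trans hz) ≫ sqq Z Z' B h' hz = sqπ Z Z' hz :=
  cokernel.π_desc _ _ _

lemma sqmk_sqq (Z Z' B : Subobject X) (h' : B ≤ Z') (hz : Z' ≤ Z) {W : A} (z : W ⟶ X)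
    (hz0 : Z.Factors z) :
    sqmk Z B (h'.trans hz) z hz0 ≫ sqq Z Z' B h' hz = sqmk Z Z' hz z hz0 := by
  unfold sqmk
  rw [Category.assoc, sqπ_sqq]

instance mono_sqι (Z Z' B : Subobject X) (h' : B ≤ Z') (hz : Z' ≤ Z) :
    Mono (sqι Z Z' B h' hz) := by
  apply Preadditive.mono_of_cancel_zero
  intro W y hy
  obtain ⟨W', π, hπ, z, hz', hzy⟩ := sqmk_surj Z' B h' y
  have h1 : sqmk Z' B h' z hz' ≫ sqι Z Z' B h' hz = 0 := by
    rw [← hzy, Category.assoc, hy, comp_zero]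
  rw [sqmk_sqι, sqmk_eq_zero_iff] at h1
  rw [← cancel_epi π, comp_zero, hzy, sqmk_eq_zero_iff]
  exact h1

instance epi_sqq (Z Z' B : Subobject X) (h' : B ≤ Z') (hz : Z' ≤ Z) :
    Epi (sqq Z Z' B h' hz) :=
  epi_of_epi_fac (sqπ_sqq Z Z' B h' hz)

lemma sq_zero (Z Z' B : Subobject X) (h' : B ≤ Z') (hz : Z' ≤ Z) :
    sqι Z Z' B h' hz ≫ sqq Z Z' B h' hz = 0 := by
  rw [← cancel_epi (sqπ Z' B h'), comp_zero, ← Category.assoc, sqπ_sqι, Category.assoc,
    sqπ_sqq, sqπ_eq_zero_iff, Subobject.ofLE_arrow]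
  exact Subobject.factors_self _

lemma sq_exact (Z Z' B : Subobject X) (h' : B ≤ Z') (hz : Z' ≤ Z) :
    (ShortComplex.mk (sqι Z Z' B h' hz) (sqq Z Z' B h' hz) (sq_zero Z Z' B h' hz)).Exact := by
  rw [ShortComplex.exact_iff_exact_up_to_refinements]
  intro W y hy
  dsimp at y hy ⊢
  obtain ⟨W', π, hπ, z, hz0, hzy⟩ := sqmk_surj Z B (h'.trans hz) y
  have h1 : sqmk Z Z' hz z hz0 = 0 := by
    rw [← sqmk_sqq Z Z' B h' hz, ← hzy, Category.assoc, hy, comp_zero]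
  rw [sqmk_eq_zero_iff] at h1
  exact ⟨W', π, hπ, sqmk Z' B h' z h1, by rw [hzy, sqmk_sqι]⟩

lemma nonempty_iso_subquot_of_eq {Z Z' B B' : Subobject X} (h : B ≤ Z) (h' : B' ≤ Z')
    (hZ : Z = Z') (hB : B = B') : Nonempty (subquot Z B h ≅ subquot Z' B' h') := by
  subst hZ hB
  exact ⟨Iso.refl _⟩

/-- A class map is an epimorphism when its image together with the denominator spans. -/
lemma epi_sqmk {V : A} (S S' : Subobject X) (hS : S' ≤ S) (g : V ⟶ X) (hg : S.Factors g)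
    (hsup : S ≤ imageSubobject g ⊔ S') : Epi (sqmk S S' hS g hg) := by
  rw [epi_iff_surjective_up_to_refinements]
  intro W y
  obtain ⟨W₁, π₁, hπ₁, z, hz, hzy⟩ := sqmk_surj S S' hS y
  have hz' : (imageSubobject g ⊔ S').Factors z := Subobject.factors_of_le _ hsup hz
  rw [sup_factors_iff] at hz'
  obtain ⟨W₂, π₂, hπ₂, a, s', ha', hs', hsum⟩ := hz'
  rw [imageSubobject_factors_iff] at ha'
  obtain ⟨W₃, π₃, hπ₃, v, hv⟩ := ha'
  refine ⟨W₃, π₃ ≫ π₂ ≫ π₁, inferInstance, v, ?_⟩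
  rw [Category.assoc, Category.assoc, hzy, comp_sqmk, comp_sqmk, comp_sqmk, sqmk_eq_iff,
    hsum, ← hv, Preadditive.comp_add, add_sub_cancel_left]
  exact Subobject.factors_of_factors_right _ hs'

end Subquot

/-! ## Part II : the isomorphism lemma -/

lemma pullback_img_sup {X Y : A} (h : X ⟶ Y) (B : Subobject X) (T : Subobject Y) :
    (Subobject.pullback h).obj (img h B ⊔ T) = B ⊔ (Subobject.pullback h).obj T := by
  apply le_antisymm
  · rw [le_iff_forall_factors]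
    intro W x hx
    rw [pullback_factors_iff, sup_factors_iff] at hx
    obtain ⟨W₁, π₁, hπ₁, b', t, hb', ht, hsum⟩ := hx
    rw [img_factors_iff] at hb'
    obtain ⟨W₂, π₂, hπ₂, b, hb, hbb⟩ := hb'
    refine factors_of_epi_comp_eq _ (π₂ ≫ π₁) x (b + ((π₂ ≫ π₁) ≫ x - b)) (by abel)
      (Subobject.factors_add _ _ (Subobject.sup_factors_of_factors_left hb)
        (Subobject.sup_factors_of_factors_right ?_))
    rw [pullback_factors_iff, Preadditive.sub_comp, Category.assoc, Category.assoc, hsum,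
      Preadditive.comp_add, hbb, add_sub_cancel_left]
    exact Subobject.factors_of_factors_right _ ht
  · exact sup_le ((le_pullback_img h B).trans ((Subobject.pullback h).monotone le_sup_left))
      ((Subobject.pullback h).monotone le_sup_right)

lemma nonempty_iso_of_lattice {X Y : A} (h : X ⟶ Y) (S S' : Subobject X) (T T' : Subobject Y)
    (hS : S' ≤ S) (hT : T' ≤ T) (A₀ : Subobject X)
    (ha : A₀ ⊔ S' = S) (hb : img h A₀ ⊔ T' = T)
    (hc : A₀ ⊓ S' = A₀ ⊓ (Subobject.pullback h).obj T') :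
    Nonempty (subquot S S' hS ≅ subquot T T' hT) := by
  have hA₀S : A₀ ≤ S := ha ▸ le_sup_left
  have hAT : img h A₀ ≤ T := hb ▸ le_sup_left
  have hfac1 : S.Factors A₀.arrow := Subobject.factors_of_le _ hA₀S (Subobject.factors_self _)
  have hfac2 : T.Factors (A₀.arrow ≫ h) :=
    Subobject.factors_of_le _ hAT (img_factors_comp h A₀ A₀.arrow (Subobject.factors_self _))
  have hφ : Epi (sqmk S S' hS A₀.arrow hfac1) := by
    apply epi_sqmk
    rw [← ha]
    refine sup_le_sup_right ?_ _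
    rw [imageSubobject_mono, Subobject.mk_arrow]
  have hψ : Epi (sqmk T T' hT (A₀.arrow ≫ h) hfac2) := by
    apply epi_sqmk
    rw [← hb]
    exact le_rfl
  refine ⟨isoOfEpis (sqmk S S' hS A₀.arrow hfac1) (sqmk T T' hT (A₀.arrow ≫ h) hfac2) ?_⟩
  intro W x
  rw [comp_sqmk, comp_sqmk, sqmk_eq_zero_iff, sqmk_eq_zero_iff]
  have h1 : S'.Factors (x ≫ A₀.arrow) ↔ (A₀ ⊓ S').Factors (x ≫ A₀.arrow) := by
    rw [Subobject.inf_factors]
    exact ⟨fun h => ⟨Subobject.factors_comp_arrow x, h⟩, fun h => h.2⟩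
  have h2 : T'.Factors (x ≫ A₀.arrow ≫ h) ↔
      (A₀ ⊓ (Subobject.pullback h).obj T').Factors (x ≫ A₀.arrow) := by
    rw [Subobject.inf_factors, pullback_factors_iff, Category.assoc]
    exact ⟨fun h => ⟨Subobject.factors_comp_arrow x, h⟩, fun h => h.2⟩
  rw [h1, h2, hc]

/-- Abstract form of the isomorphism `Z_r / Z_{r+1} ≅ B_{r+1} / B_r`. -/
lemma nonempty_iso_ZB_abstract {X Y : A} (d : X ⟶ Y) (F0 F1 : Subobject X) (G0 G1 : Subobject Y)
    (hF : F1 ≤ F0) (hG : G1 ≤ G0)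
    (hS : (F0 ⊓ (Subobject.pullback d).obj G1) ⊔ F1 ≤ (F0 ⊓ (Subobject.pullback d).obj G0) ⊔ F1)
    (hT : (G0 ⊓ img d F1) ⊔ G1 ≤ (G0 ⊓ img d F0) ⊔ G1) :
    Nonempty (subquot ((F0 ⊓ (Subobject.pullback d).obj G0) ⊔ F1)
        ((F0 ⊓ (Subobject.pullback d).obj G1) ⊔ F1) hS ≅
      subquot ((G0 ⊓ img d F0) ⊔ G1) ((G0 ⊓ img d F1) ⊔ G1) hT) := by
  have hP : (Subobject.pullback d).obj G1 ≤ (Subobject.pullback d).obj G0 :=
    (Subobject.pullback d).monotone hG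
  apply nonempty_iso_of_lattice d _ _ _ _ hS hT (F0 ⊓ (Subobject.pullback d).obj G0)
  · rw [← sup_assoc]
    congr 1
    exact sup_eq_left.2 (inf_le_inf_left _ hP)
  · rw [img_inf_pullback, ← sup_assoc, inf_comm (img d F0) G0]
    congr 1
    exact sup_eq_left.2 (inf_le_inf_left _ (img_mono d hF))
  · have e1 : G0 ⊓ img d F1 = img d (F1 ⊓ (Subobject.pullback d).obj G0) := by
      rw [img_inf_pullback, inf_comm]
    rw [e1, pullback_img_sup,
      mod_law _ _ _ (inf_le_inf_left _ hP : F0 ⊓ (Subobject.pullback d).obj G1 ≤ _),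
      mod_law _ _ _ (inf_le_inf_right _ hF : F1 ⊓ (Subobject.pullback d).obj G0 ≤ _)]
    have e2 : (F0 ⊓ (Subobject.pullback d).obj G0) ⊓ F1 =
        F1 ⊓ (Subobject.pullback d).obj G0 :=
      le_antisymm (le_inf inf_le_right (inf_le_left.trans inf_le_right))
        (le_inf (le_inf (inf_le_left.trans hF) inf_le_right) inf_le_left)
    have e3 : (F0 ⊓ (Subobject.pullback d).obj G0) ⊓ (Subobject.pullback d).obj G1 =
        F0 ⊓ (Subobject.pullback d).obj G1 :=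
      le_antisymm (le_inf (inf_le_left.trans inf_le_left) inf_le_right)
        (le_inf (le_inf inf_le_left (inf_le_right.trans hP)) inf_le_right)
    rw [e2, e3, sup_comm]

/-- Abstract form of the isomorphism `gr^p H ≅ Z_∞ / B_∞`. -/
lemma nonempty_iso_gr_abstract {X : A} (F0 F1 Zc Bd : Subobject X) (hF : F1 ≤ F0)
    (hZB : Bd ≤ Zc)
    (hS : (F1 ⊓ Zc) ⊔ Bd ≤ (F0 ⊓ Zc) ⊔ Bd) (hT : (F0 ⊓ Bd) ⊔ F1 ≤ (F0 ⊓ Zc) ⊔ F1) :
    Nonempty (subquot ((F0 ⊓ Zc) ⊔ Bd) ((F1 ⊓ Zc) ⊔ Bd) hS ≅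
      subquot ((F0 ⊓ Zc) ⊔ F1) ((F0 ⊓ Bd) ⊔ F1) hT) := by
  apply nonempty_iso_of_lattice (𝟙 X) _ _ _ _ hS hT (F0 ⊓ Zc)
  · rw [← sup_assoc]
    congr 1
    exact sup_eq_left.2 (inf_le_inf_right _ hF)
  · rw [img_id, ← sup_assoc]
    congr 1
    exact sup_eq_left.2 (inf_le_inf_left _ hZB)
  · rw [Subobject.pullback_id,
      mod_law _ _ _ (inf_le_inf_right _ hF : F1 ⊓ Zc ≤ F0 ⊓ Zc),
      mod_law _ _ _ (inf_le_inf_left _ hZB : F0 ⊓ Bd ≤ F0 ⊓ Zc)]
    have e2 : (F0 ⊓ Zc) ⊓ Bd = F0 ⊓ Bd :=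
      le_antisymm (le_inf (inf_le_left.trans inf_le_left) inf_le_right)
        (le_inf (le_inf inf_le_left (inf_le_right.trans hZB)) inf_le_right)
    have e3 : (F0 ⊓ Zc) ⊓ F1 = F1 ⊓ Zc :=
      le_antisymm (le_inf inf_le_right (inf_le_left.trans inf_le_right))
        (le_inf (le_inf (inf_le_left.trans hF) inf_le_right) inf_le_left)
    rw [e2, e3, sup_comm]

/-! ## Part III : the pages -/

section Pages

variable (K : SpSeq.FilCx A)

lemma BSub_succ (r : ℕ) (p n : ℤ) : K.BSub r p (n + 1) =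
    (K.filX p (n + 1) ⊓ img (K.obj.d n (n + 1)) (K.filX (p - r + 1) n)) ⊔
      K.filX (p + 1) (n + 1) := by
  have key : ∀ (m : ℤ) (_ : m = n) (q : ℤ),
      imageSubobject ((K.filX q m).arrow ≫ K.obj.d m (n + 1)) =
        img (K.obj.d n (n + 1)) (K.filX q n) := by
    rintro m rfl q
    rfl
  unfold SpSeq.FilCx.BSub
  rw [key (n + 1 - 1) (by omega)]

lemma BZ (r r' : ℕ) (p n : ℤ) : K.BSub r p n ≤ K.ZSub r' p n :=
  sup_le_sup_right (inf_le_inf_left _ (K.image_d_le_pullback n _ _)) _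

lemma ZZ (r : ℕ) (p n : ℤ) : K.ZSub (r + 1) p n ≤ K.ZSub r p n :=
  ZSub_anti K p n (Nat.le_succ r)

lemma BB (r : ℕ) (p n : ℤ) : K.BSub r p n ≤ K.BSub (r + 1) p n :=
  BSub_mono K p n (Nat.le_succ r)

lemma BBot_le_ZTop (p n : ℤ) : K.BBot p n ≤ K.ZTop p n :=
  sup_le_sup_right (inf_le_inf_left _ (image_le_kernel K (n - 1) n (n + 1))) _

lemma nonempty_iso_Z_B (r : ℕ) (p n p' n' : ℤ) (hp : p' = p + r) (hn : n' = n + 1) :
    Nonempty (subquot (K.ZSub r p n) (K.ZSub (r + 1) p n) (ZZ K r p n) ≅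
      subquot (K.BSub (r + 1) p' n') (K.BSub r p' n') (BB K r p' n')) := by
  subst hp hn
  have hF : K.filX (p + 1) n ≤ K.filX p n := K.filX_anti n (by omega)
  have hG : K.filX (p + r + 1) (n + 1) ≤ K.filX (p + r) (n + 1) := K.filX_anti (n + 1) (by omega)
  obtain ⟨e⟩ := nonempty_iso_ZB_abstract (K.obj.d n (n + 1)) (K.filX p n) (K.filX (p + 1) n)
    (K.filX (p + r) (n + 1)) (K.filX (p + r + 1) (n + 1)) hF hG
    (sup_le_sup_right (inf_le_inf_left _ ((Subobject.pullback _).monotone hG)) _)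
    (sup_le_sup_right (inf_le_inf_left _ (img_mono _ hF)) _)
  have i1 : p + ((r + 1 : ℕ) : ℤ) = p + r + 1 := by omega
  have i2 : p + (r : ℤ) - ((r + 1 : ℕ) : ℤ) + 1 = p := by omega
  have i3 : p + (r : ℤ) - (r : ℤ) + 1 = p + 1 := by omega
  obtain ⟨e1⟩ := nonempty_iso_subquot_of_eq (ZZ K r p n)
    (sup_le_sup_right (inf_le_inf_left _ ((Subobject.pullback (K.obj.d n (n + 1))).monotone hG)) _)
    (rfl : K.ZSub r p n = (K.filX p n ⊓
      (Subobject.pullback (K.obj.d n (n + 1))).obj (K.filX (p + r) (n + 1))) ⊔ K.filX (p + 1) n)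
    (show K.ZSub (r + 1) p n = (K.filX p n ⊓
      (Subobject.pullback (K.obj.d n (n + 1))).obj (K.filX (p + r + 1) (n + 1))) ⊔
        K.filX (p + 1) n by
      unfold SpSeq.FilCx.ZSub
      rw [i1])
  obtain ⟨e2⟩ := nonempty_iso_subquot_of_eq
    (sup_le_sup_right (inf_le_inf_left _ (img_mono (K.obj.d n (n + 1)) hF)) _)
    (BB K r (p + r) (n + 1))
    (show (K.filX (p + r) (n + 1) ⊓ img (K.obj.d n (n + 1)) (K.filX p n)) ⊔
        K.filX (p + r + 1) (n + 1) = K.BSub (r + 1) (p + r) (n + 1) by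
      rw [BSub_succ, i2])
    (show (K.filX (p + r) (n + 1) ⊓ img (K.obj.d n (n + 1)) (K.filX (p + 1) n)) ⊔
        K.filX (p + r + 1) (n + 1) = K.BSub r (p + r) (n + 1) by
      rw [BSub_succ, i3])
  exact ⟨e1 ≪≫ e ≪≫ e2⟩

variable {K}

/-- One step: from page `s` to page `s + 1`. -/
lemma page_succ (hW : WS P) (s : ℕ) (hs : ∀ p n : ℤ, P (K.E s p n)) (p' n' : ℤ) :
    P (K.E (s + 1) p' n') := by
  -- `U = Z_{s+1} / B_s`
  have hU : ∀ p n : ℤ, P (subquot (K.ZSub (s + 1) p n) (K.BSub s p n) (BZ K s (s + 1) p n)) := by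
    intro p n
    obtain ⟨e⟩ := nonempty_iso_Z_B K s p n (p + s) (n + 1) rfl rfl
    have hex := exact_comp_mono _ _ _
      (sq_exact (K.ZSub s p n) (K.ZSub (s + 1) p n) (K.BSub s p n) (BZ K s (s + 1) p n)
        (ZZ K s p n))
      (e.hom ≫ sqι (K.ZSub (s + 1) (p + s) (n + 1)) (K.BSub (s + 1) (p + s) (n + 1))
          (K.BSub s (p + s) (n + 1)) (BB K s _ _) (BZ K (s + 1) (s + 1) _ _) ≫
        sqι (K.ZSub s (p + s) (n + 1)) (K.ZSub (s + 1) (p + s) (n + 1))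
          (K.BSub s (p + s) (n + 1)) (BZ K s (s + 1) _ _) (ZZ K s _ _))
    exact hW.ker _ _ _ hex (hs p n) (hs (p + s) (n + 1))
  -- `V = Z_s / Z_{s+1}`
  have hV : ∀ p n : ℤ, P (subquot (K.ZSub s p n) (K.ZSub (s + 1) p n) (ZZ K s p n)) := by
    intro p n
    exact hW.coker _ _ _
      (sq_exact (K.ZSub s p n) (K.ZSub (s + 1) p n) (K.BSub s p n) (BZ K s (s + 1) p n)
        (ZZ K s p n)) (hU p n) (hs p n)
  -- `W = B_{s+1} / B_s`
  have hWq : P (subquot (K.BSub (s + 1) p' n') (K.BSub s p' n') (BB K s p' n')) := by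
    obtain ⟨e⟩ := nonempty_iso_Z_B K s (p' - s) (n' - 1) p' n' (by omega) (by omega)
    exact hW.iso e (hV _ _)
  change P (subquot (K.ZSub (s + 1) p' n') (K.BSub (s + 1) p' n')
    (K.BSub_le_ZSub (s + 1) p' n'))
  exact hW.coker _ _ _
    (sq_exact (K.ZSub (s + 1) p' n') (K.BSub (s + 1) p' n') (K.BSub s p' n') (BB K s _ _)
      (BZ K (s + 1) (s + 1) _ _)) hWq (hU p' n')

lemma page_ge (hW : WS P) (r : ℕ) (hr : ∀ p n : ℤ, P (K.E r p n)) (s : ℕ) (hrs : r ≤ s) :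
    ∀ p n : ℤ, P (K.E s p n) := by
  induction s, hrs using Nat.le_induction with
  | base => exact hr
  | succ s _ ih => exact fun p n => page_succ hW s ih p n

lemma page_infty (hW : WS P) (hK : ∀ n : ℤ, (K.XFil n).IsFinite) (r : ℕ)
    (hr : ∀ p n : ℤ, P (K.E r p n)) (p n : ℤ) :
    P (subquot (K.ZTop p n) (K.BBot p n) (BBot_le_ZTop K p n)) := by
  obtain ⟨_, ⟨b, hb⟩⟩ := hK (n + 1)
  obtain ⟨⟨a, ha⟩, _⟩ := hK (n - 1)
  change K.filX b (n + 1) = ⊥ at hb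
  change K.filX a (n - 1) = ⊤ at ha
  obtain ⟨s, hs1, hs2, hs3⟩ : ∃ s : ℕ, r ≤ s ∧ b ≤ p + s ∧ p - s + 1 ≤ a :=
    ⟨max r (max (b - p).toNat (p + 1 - a).toNat), le_max_left _ _, by omega, by omega⟩
  obtain ⟨e⟩ := nonempty_iso_subquot_of_eq (K.BSub_le_ZSub s p n) (BBot_le_ZTop K p n)
    (ZSub_eq_ZTop_of_bot K (filX_eq_bot_of_le K hb hs2))
    (BSub_eq_BBot_of_top K (filX_eq_top_of_le K ha hs3))
  exact hW.iso e (page_ge hW r hr s hs1 p n)

end Pages

/-! ## Part IV : the filtration on cohomology -/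

section Abut

variable (K : SpSeq.FilCx A)

/-- `(F^p ⊓ Ker d) ⊔ Im d` as a subobject of `K^n`. -/
noncomputable def Wf (p n : ℤ) : Subobject (K.obj.X n) :=
  (K.filX p n ⊓ kernelSubobject (K.obj.d n (n + 1))) ⊔ imageSubobject (K.obj.d (n - 1) n)

lemma Wf_anti (n : ℤ) {p q : ℤ} (h : p ≤ q) : Wf K q n ≤ Wf K p n :=
  sup_le_sup_right (inf_le_inf_right _ (K.filX_anti n h)) _

lemma nonempty_iso_Wf (p q n : ℤ) (hq : q = p + 1) (h : Wf K q n ≤ Wf K p n) :
    Nonempty (subquot (Wf K p n) (Wf K q n) h ≅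
      subquot (K.ZTop p n) (K.BBot p n) (BBot_le_ZTop K p n)) := by
  subst hq
  exact nonempty_iso_gr_abstract (K.filX p n) (K.filX (p + 1) n)
    (kernelSubobject (K.obj.d n (n + 1))) (imageSubobject (K.obj.d (n - 1) n))
    (K.filX_anti n (by omega)) (image_le_kernel K (n - 1) n (n + 1)) h (BBot_le_ZTop K p n)

variable {K}

lemma P_Wf (hW : WS P) (n : ℤ)
    (hE : ∀ p : ℤ, P (subquot (K.ZTop p n) (K.BBot p n) (BBot_le_ZTop K p n))) (p : ℤ) :
    ∀ (k : ℕ) (q : ℤ) (_ : q = p + k) (h : Wf K q n ≤ Wf K p n),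
      P (subquot (Wf K p n) (Wf K q n) h) := by
  intro k
  induction k with
  | zero =>
    intro q hq h
    have hq' : q = p := by simpa using hq
    subst hq'
    exact hW.of_isZero (isZero_subquot_of_eq _ _ h rfl)
  | succ k ih =>
    intro q hq h
    have h1 : Wf K q n ≤ Wf K (p + k) n := Wf_anti K n (by omega)
    have h2 : Wf K (p + k) n ≤ Wf K p n := Wf_anti K n (by omega)
    have hP1 : P (subquot (Wf K (p + k) n) (Wf K q n) h1) := by
      obtain ⟨e⟩ := nonempty_iso_Wf K (p + k) q n (by omega) h1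
      exact hW.iso e.symm (hE (p + k))
    have hP2 := ih (p + k) rfl h2
    exact hW.ext _ _ _ (sq_exact (Wf K p n) (Wf K (p + k) n) (Wf K q n) h1 h2) hP1 hP2

end Abut

lemma nonempty_iso_homology (L : CochainComplex A ℤ) (n : ℤ)
    (h : imageSubobject (L.d (n - 1) n) ≤ kernelSubobject (L.d n (n + 1))) :
    Nonempty (subquot (kernelSubobject (L.d n (n + 1))) (imageSubobject (L.d (n - 1) n)) h ≅
      L.homology n) := by
  have hnext : (ComplexShape.up ℤ).next n = n + 1 := CochainComplex.next ℤ n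
  have hprev : (ComplexShape.up ℤ).prev n = n - 1 := CochainComplex.prev ℤ n
  have hk : (kernelSubobject (L.d n (n + 1))).arrow ≫ L.d n (n + 1) = 0 :=
    kernelSubobject_arrow_comp _
  have hepi : Epi (L.liftCycles (kernelSubobject (L.d n (n + 1))).arrow (n + 1) hnext hk ≫
      L.homologyπ n) := by
    rw [epi_iff_surjective_up_to_refinements]
    intro W γ
    obtain ⟨W', π, hπ, z, hz, hzγ⟩ := L.eq_liftCycles_homologyπ_up_to_refinements γ (n + 1) hnext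
    refine ⟨W', π, hπ, factorThruKernelSubobject (L.d n (n + 1)) z hz, ?_⟩
    rw [hzγ, ← Category.assoc, L.comp_liftCycles]
    congr 1
    rw [← cancel_mono (L.iCycles n), HomologicalComplex.liftCycles_i,
      HomologicalComplex.liftCycles_i, factorThruKernelSubobject_comp_arrow]
  refine ⟨isoOfEpis (sqπ _ _ h) (L.liftCycles (kernelSubobject (L.d n (n + 1))).arrow (n + 1)
    hnext hk ≫ L.homologyπ n) ?_⟩
  intro W x
  rw [sqπ_eq_zero_iff, ← Category.assoc, L.comp_liftCycles,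
    L.liftCycles_comp_homologyπ_eq_zero_iff_up_to_refinements (n - 1) n (n + 1) hprev hnext,
    imageSubobject_factors_iff]

/-- The main theorem. -/
theorem main (K : SpSeq.FilCx A) (hK : ∀ n : ℤ, (K.XFil n).IsFinite) (P : ObjectProperty A)
    [P.IsClosedUnderIsomorphisms] (h0 : ∃ Z : A, IsZero Z ∧ P Z)
    (hP : ∀ S : ComposableArrows A 4, S.Exact → P (S.obj 0) → P (S.obj 1) → P (S.obj 3) →
      P (S.obj 4) → P (S.obj 2))
    (r : ℕ) (hr : ∀ p n : ℤ, P (K.E r p n)) (n : ℤ) : P (K.obj.homology n) := by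
  have hW : WS P := WS.mk' P h0 hP
  obtain ⟨⟨a, ha⟩, ⟨b, hb⟩⟩ := hK n
  change K.filX a n = ⊤ at ha
  change K.filX b n = ⊥ at hb
  have ha' : K.filX (min a b) n = ⊤ := filX_eq_top_of_le K ha (min_le_left _ _)
  have hab : min a b ≤ b := min_le_right _ _
  have hZB := image_le_kernel K (n - 1) n (n + 1)
  have hWa : Wf K (min a b) n = kernelSubobject (K.obj.d n (n + 1)) := by
    unfold Wf
    rw [ha', top_inf_eq, sup_eq_left]
    exact hZB
  have hWb : Wf K b n = imageSubobject (K.obj.d (n - 1) n) := by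
    unfold Wf
    rw [hb, bot_inf_eq, bot_sup_eq]
  have h1 := P_Wf hW n (fun p => page_infty hW hK r hr p n) (min a b) (b - min a b).toNat b
    (by omega) (Wf_anti K n hab)
  obtain ⟨e1⟩ := nonempty_iso_subquot_of_eq (Wf_anti K n hab) hZB hWa hWb
  obtain ⟨e2⟩ := nonempty_iso_homology K.obj n hZB
  exact hW.iso (e1 ≪≫ e2) h1

end Groth.Agent.Lib.Helper5.FilSerre
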