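import Groth.Prelude.Def_ModSite
import Groth.Prelude.Def_AlgSpPerf
import Mathlib.RingTheory.Finiteness.Projective
import Mathlib.CategoryTheory.Idempotents.Basic

/-!
# Direct summands of finite free modules on a ringed site with a final object

Global sections are fully faithful on direct summands of finite free modules, take values in
finite projective modules, and every finite projective module arises.
-/

set_option autoImplicit false

universe u

open CategoryTheory Limits Opposite

noncomputable section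

namespace Groth.Agent.Lib.Helper5.FinFreeSummand

section abstract

universe v₁ u₁ v₂ u₂

variable {𝒜 : Type u₁} [Category.{v₁} 𝒜] [Preadditive 𝒜] {ℬ : Type u₂} [Category.{v₂} ℬ]
  [Preadditive ℬ] (Γ : 𝒜 ⥤ ℬ) [Γ.Additive]

/-- a presentation of `E` as a retract of `U^n` -/
structure Decomp (U E : 𝒜) (n : ℕ) where
  /-- the inclusions -/
  ι : Fin n → (U ⟶ E)
  /-- the projections -/
  π : Fin n → (E ⟶ U)
  sum : ∑ k, π k ≫ ι k = 𝟙 E

variable {Γ}

theorem bijective_map_of_decomp {U E : 𝒜} {n : ℕ} (d : Decomp U E n) (E' : 𝒜)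
    (hU : Function.Bijective (fun φ : U ⟶ E' => Γ.map φ)) :
    Function.Bijective (fun φ : E ⟶ E' => Γ.map φ) := by
  constructor
  · intro φ ψ h
    have h' : Γ.map φ = Γ.map ψ := h
    have h1 : ∀ k, d.ι k ≫ φ = d.ι k ≫ ψ := by
      intro k
      apply hU.1
      show Γ.map (d.ι k ≫ φ) = Γ.map (d.ι k ≫ ψ)
      rw [Γ.map_comp, Γ.map_comp, h']
    calc φ = (∑ k, d.π k ≫ d.ι k) ≫ φ := by rw [d.sum, Category.id_comp]
      _ = ∑ k, d.π k ≫ d.ι k ≫ φ := by
        rw [Preadditive.sum_comp]
        exact Finset.sum_congr rfl fun k _ => Category.assoc _ _ _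
      _ = ∑ k, d.π k ≫ d.ι k ≫ ψ := Finset.sum_congr rfl fun k _ => by rw [h1 k]
      _ = (∑ k, d.π k ≫ d.ι k) ≫ ψ := by
        rw [Preadditive.sum_comp]
        exact (Finset.sum_congr rfl fun k _ => Category.assoc _ _ _).symm
      _ = ψ := by rw [d.sum, Category.id_comp]
  · intro g
    choose φ hφ using fun k => hU.2 (Γ.map (d.ι k) ≫ g)
    refine ⟨∑ k, d.π k ≫ φ k, ?_⟩
    show Γ.map (∑ k, d.π k ≫ φ k) = g
    have h2 : ∀ k, Γ.map (φ k) = Γ.map (d.ι k) ≫ g := hφ
    calc Γ.map (∑ k, d.π k ≫ φ k) = ∑ k, Γ.map (d.π k) ≫ Γ.map (d.ι k) ≫ g := by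
          rw [Functor.map_sum]
          exact Finset.sum_congr rfl fun k _ => by rw [Γ.map_comp, h2 k]
      _ = Γ.map (∑ k, d.π k ≫ d.ι k) ≫ g := by
          rw [Functor.map_sum, Preadditive.sum_comp]
          exact Finset.sum_congr rfl fun k _ => by rw [Γ.map_comp, Category.assoc]
      _ = g := by rw [d.sum, Γ.map_id, Category.id_comp]

/-- retracts of `Γ F` come from retracts of `F` when `Γ` is fully faithful on endomorphisms of
`F` -/
theorem exists_retract_of_retract_map [IsIdempotentComplete 𝒜] {F : 𝒜}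
    (hF : Function.Bijective (fun φ : F ⟶ F => Γ.map φ)) {M : ℬ} (s : M ⟶ Γ.obj F)
    (t : Γ.obj F ⟶ M) (hst : s ≫ t = 𝟙 M) :
    ∃ (E : 𝒜) (i : E ⟶ F) (r : F ⟶ E), i ≫ r = 𝟙 E ∧ Nonempty (Γ.obj E ≅ M) := by
  obtain ⟨e, he⟩ := hF.2 (t ≫ s)
  have he' : Γ.map e = t ≫ s := he
  have hee : e ≫ e = e := by
    apply hF.1
    show Γ.map (e ≫ e) = Γ.map e
    rw [Γ.map_comp, he', Category.assoc, reassoc_of% hst]
  obtain ⟨E, i, r, hir, hri⟩ := IsIdempotentComplete.idempotents_split F e hee
  refine ⟨E, i, r, hir, ⟨⟨Γ.map i ≫ t, s ≫ Γ.map r, ?_, ?_⟩⟩⟩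
  · calc (Γ.map i ≫ t) ≫ s ≫ Γ.map r = Γ.map i ≫ (t ≫ s) ≫ Γ.map r := by
          simp only [Category.assoc]
      _ = Γ.map ((i ≫ r) ≫ (i ≫ r)) := by
          rw [← he', ← hri]
          simp only [Functor.map_comp, Category.assoc]
      _ = 𝟙 _ := by rw [hir, Category.id_comp, Γ.map_id]
  · calc (s ≫ Γ.map r) ≫ Γ.map i ≫ t = s ≫ Γ.map (r ≫ i) ≫ t := by
          simp only [Functor.map_comp, Category.assoc]
      _ = (s ≫ t) ≫ (s ≫ t) := by
          rw [hri, he']
          simp only [Category.assoc]
      _ = 𝟙 _ := by rw [hst, Category.id_comp]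

end abstract

section site

variable {C : Type u} [SmallCategory C] {J : GrothendieckTopology C} (O : Sheaf J CommRingCat.{u})

/-- the structure sheaf as a module -/
abbrev UU : ModSite.Mod O := SheafOfModules.unit (ModSite.ringSh O)

/-- the finite free module -/
abbrev FF (n : ℕ) : ModSite.Mod O :=
  SheafOfModules.free (R := ModSite.ringSh O) (ULift.{u} (Fin n))

/-- the `k`-th projection of the finite free module -/
def proj (n : ℕ) (k : Fin n) : FF O n ⟶ UU O :=
  Sigma.desc (fun j : ULift.{u} (Fin n) => if j.down = k then 𝟙 (UU O) else 0)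

lemma ι_proj (n : ℕ) (j k : Fin n) :
    SheafOfModules.ιFree (R := ModSite.ringSh O) (ULift.up.{u} j) ≫ proj O n k =
      if j = k then 𝟙 (UU O) else 0 := by
  exact Sigma.ι_desc (fun j : ULift.{u} (Fin n) => if j.down = k then 𝟙 (UU O) else 0)
    (ULift.up.{u} j)

lemma sum_proj_ι (n : ℕ) :
    ∑ k, proj O n k ≫ SheafOfModules.ιFree (R := ModSite.ringSh O) (ULift.up.{u} k) =
      𝟙 (FF O n) := by
  apply Sigma.hom_ext
  rintro ⟨j⟩
  have h1 : SheafOfModules.ιFree (R := ModSite.ringSh O) (ULift.up.{u} j) ≫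
      ∑ k, proj O n k ≫ SheafOfModules.ιFree (R := ModSite.ringSh O) (ULift.up.{u} k) =
      SheafOfModules.ιFree (R := ModSite.ringSh O) (ULift.up.{u} j) := by
    rw [Preadditive.comp_sum]
    have : ∀ k ∈ Finset.univ, SheafOfModules.ιFree (R := ModSite.ringSh O) (ULift.up.{u} j) ≫
        proj O n k ≫ SheafOfModules.ιFree (R := ModSite.ringSh O) (ULift.up.{u} k) =
        if j = k then SheafOfModules.ιFree (R := ModSite.ringSh O) (ULift.up.{u} k) else 0 := by
      intro k _
      rw [← Category.assoc, ι_proj]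
      split_ifs
      · rw [Category.id_comp]
      · rw [zero_comp]
    rw [Finset.sum_congr rfl this, Finset.sum_ite_eq]
    simp
  exact h1.trans (Category.comp_id _).symm

/-- the standard decomposition of the finite free module -/
def decompFF (n : ℕ) : Decomp (UU O) (FF O n) n where
  ι k := SheafOfModules.ιFree (R := ModSite.ringSh O) (ULift.up.{u} k)
  π k := proj O n k
  sum := sum_proj_ι O n

variable {O}

/-- direct summands of finite free modules have decompositions -/
theorem exists_decomp (E : ModSite.Mod O)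
    (hE : DCoh.IsFinFreeSummandMod (ModSite.ringSh O) E) :
    ∃ n : ℕ, Nonempty (Decomp (UU O) E n) := by
  obtain ⟨n, i, p, hip⟩ := hE
  refine ⟨n, ⟨⟨fun k => (decompFF O n).ι k ≫ p, fun k => i ≫ (decompFF O n).π k, ?_⟩⟩⟩
  calc ∑ k, (i ≫ (decompFF O n).π k) ≫ (decompFF O n).ι k ≫ p
      = i ≫ (∑ k, (decompFF O n).π k ≫ (decompFF O n).ι k) ≫ p := by
        rw [Preadditive.sum_comp, Preadditive.comp_sum]
        exact Finset.sum_congr rfl fun k _ => by simp only [Category.assoc]
    _ = 𝟙 E := by rw [(decompFF O n).sum, Category.id_comp, hip]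

/-- a module with a decomposition is a direct summand of a finite free module -/
theorem isFinFreeSummand_of_decomp (E : ModSite.Mod O) {n : ℕ} (d : Decomp (UU O) E n) :
    DCoh.IsFinFreeSummandMod (ModSite.ringSh O) E := by
  refine ⟨n, ∑ k, d.π k ≫ (decompFF O n).ι k,
    Sigma.desc (fun j : ULift.{u} (Fin n) => d.ι j.down), ?_⟩
  rw [Preadditive.sum_comp]
  have : ∀ k ∈ Finset.univ, (d.π k ≫ (decompFF O n).ι k) ≫
      Sigma.desc (fun j : ULift.{u} (Fin n) => d.ι j.down) = d.π k ≫ d.ι k := by
    intro k _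
    rw [Category.assoc]
    congr 1
    show Sigma.ι _ _ ≫ _ = _
    rw [Sigma.ι_desc]
  rw [Finset.sum_congr rfl this, d.sum]

variable (O) (X : C) (hX : IsTerminal X)

/-- global sections -/
abbrev Gam : ModSite.Mod O ⥤ ModuleCat.{u} ((ModSite.ringSh O).obj.obj (op X)) :=
  SheafOfModules.evaluation (ModSite.ringSh O) (op X)

lemma Gam_map {E E' : ModSite.Mod O} (φ : E ⟶ E') : (Gam O X).map φ = φ.val.app (op X) := rfl

instance : (Gam O X).Additive where
  map_add := rfl

variable {O X}

include hX in
lemma sections_ext_terminal {M : ModSite.Mod O} (s t : M.sections)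
    (h : s.val (op X) = t.val (op X)) : s = t := by
  apply PresheafOfModules.sections_ext
  intro Y
  have hs := PresheafOfModules.sections_property s (hX.from Y.unop).op
  have ht := PresheafOfModules.sections_property t (hX.from Y.unop).op
  rw [← hs, ← ht]
  exact congrArg _ h

/-- the section with given value over the final object -/
def sectionOf (M : ModSite.Mod O) (m : M.val.obj (op X)) : M.sections :=
  PresheafOfModules.sectionsMk (fun Y => M.val.map (hX.from Y.unop).op m) (by
    intro Y Z f
    have h : (hX.from Y.unop).op ≫ f = (hX.from Z.unop).op :=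
      congrArg Quiver.Hom.op (hX.hom_ext (f.unop ≫ hX.from Y.unop) (hX.from Z.unop))
    rw [← PresheafOfModules.congr_map_apply M.val h m]
    exact (PresheafOfModules.map_comp_apply M.val _ _ m).symm)

lemma sectionOf_val (M : ModSite.Mod O) (m : M.val.obj (op X)) :
    (sectionOf hX M m).val (op X) = m := by
  show M.val.map (hX.from X).op m = m
  rw [hX.hom_ext (hX.from X) (𝟙 X), op_id, PresheafOfModules.map_id]
  rfl

include hX in
theorem bijective_unit (E' : ModSite.Mod O) :
    Function.Bijective (fun φ : UU O ⟶ E' => (Gam O X).map φ) := by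
  constructor
  · intro φ ψ h
    apply E'.unitHomEquiv.injective
    apply sections_ext_terminal hX
    rw [SheafOfModules.unitHomEquiv_apply_coe, SheafOfModules.unitHomEquiv_apply_coe]
    have h' : φ.val.app (op X) = ψ.val.app (op X) := h
    rw [h']
  · intro g
    refine ⟨E'.unitHomEquiv.symm (sectionOf hX E' (g.hom (1 : (ModSite.ringSh O).obj.obj (op X)))), ?_⟩
    apply ModuleCat.hom_ext
    apply LinearMap.ext
    intro (a : (ModSite.ringSh O).obj.obj (op X))
    set φ := E'.unitHomEquiv.symm
      (sectionOf hX E' (g.hom (1 : (ModSite.ringSh O).obj.obj (op X)))) with hφ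
    have h1 : (φ.val.app (op X)).hom (1 : (ModSite.ringSh O).obj.obj (op X)) =
        g.hom (1 : (ModSite.ringSh O).obj.obj (op X)) := by
      have := SheafOfModules.unitHomEquiv_apply_coe E' φ (op X)
      rw [hφ, Equiv.apply_symm_apply, sectionOf_val] at this
      exact this.symm
    have ha : a = a • (1 : (ModSite.ringSh O).obj.obj (op X)) := by
      rw [smul_eq_mul, mul_one]
    show (φ.val.app (op X)).hom a = g.hom a
    calc (φ.val.app (op X)).hom a
        = (φ.val.app (op X)).hom (a • (1 : (ModSite.ringSh O).obj.obj (op X))) := by rw [← ha]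
      _ = a • (φ.val.app (op X)).hom (1 : (ModSite.ringSh O).obj.obj (op X)) :=
          map_smul _ _ _
      _ = a • g.hom (1 : (ModSite.ringSh O).obj.obj (op X)) := by
          rw [h1]
          rfl
      _ = g.hom (a • (1 : (ModSite.ringSh O).obj.obj (op X))) := (map_smul _ _ _).symm
      _ = g.hom a := by rw [← ha]

include hX in
/-- **Global sections are fully faithful on direct summands of finite free modules.** -/
theorem bijective_of_isFinFreeSummand (E E' : ModSite.Mod O)
    (hE : DCoh.IsFinFreeSummandMod (ModSite.ringSh O) E) :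
    Function.Bijective (fun φ : E ⟶ E' => φ.val.app (op X)) := by
  obtain ⟨n, ⟨d⟩⟩ := exists_decomp E hE
  exact bijective_map_of_decomp (Γ := Gam O X) d E' (bijective_unit hX E')


variable (O X) in
/-- the ring of global sections -/
abbrev AA : RingCat.{u} := (ModSite.ringSh O).obj.obj (op X)

variable (O X) in
/-- global sections of the structure sheaf -/
abbrev GU : ModuleCat.{u} (AA O X) := (Gam O X).obj (UU O)

instance : Module.Free (AA O X) (GU O X) := inferInstanceAs (Module.Free (AA O X) (AA O X))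

instance : Module.Finite (AA O X) (GU O X) := inferInstanceAs (Module.Finite (AA O X) (AA O X))

variable {E : ModSite.Mod O} {n : ℕ} (d : Decomp (UU O) E n)

/-- the coordinates of a global section -/
def toPi : (Gam O X).obj E →ₗ[AA O X] (Fin n → GU O X) :=
  LinearMap.pi (fun k => ((Gam O X).map (d.π k)).hom)

/-- the global section with given coordinates -/
def ofPi : (Fin n → GU O X) →ₗ[AA O X] (Gam O X).obj E :=
  ∑ k, ((Gam O X).map (d.ι k)).hom ∘ₗ LinearMap.proj k

lemma toPi_apply (x : (Gam O X).obj E) (k : Fin n) :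
    toPi (X := X) d x k = ((Gam O X).map (d.π k)).hom x := rfl

lemma ofPi_apply (v : Fin n → GU O X) :
    ofPi (X := X) d v = ∑ k, ((Gam O X).map (d.ι k)).hom (v k) := by
  unfold ofPi
  rw [LinearMap.sum_apply]
  rfl

lemma ofPi_toPi : (ofPi (X := X) d) ∘ₗ (toPi (X := X) d) = LinearMap.id := by
  have key : ∑ k, (Gam O X).map (d.π k) ≫ (Gam O X).map (d.ι k) = 𝟙 ((Gam O X).obj E) := by
    have : ∀ k ∈ Finset.univ, (Gam O X).map (d.π k) ≫ (Gam O X).map (d.ι k) =
        (Gam O X).map (d.π k ≫ d.ι k) := fun k _ => ((Gam O X).map_comp _ _).symm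
    rw [Finset.sum_congr rfl this, ← Functor.map_sum, d.sum, (Gam O X).map_id]
  apply LinearMap.ext
  intro x
  have h := congrArg (fun t => t.hom x) key
  simp only [ModuleCat.hom_sum, LinearMap.sum_apply] at h
  rw [LinearMap.comp_apply, ofPi_apply]
  exact h

/-- **Global sections of a direct summand of a finite free module are finite projective.** -/
theorem finite_projective_of_isFinFreeSummand (E : ModSite.Mod O)
    (hE : DCoh.IsFinFreeSummandMod (ModSite.ringSh O) E) :
    Module.Finite (AA O X) (E.val.obj (op X)) ∧ Module.Projective (AA O X) (E.val.obj (op X)) := by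
  obtain ⟨n, ⟨d⟩⟩ := exists_decomp E hE
  have h := ofPi_toPi (X := X) d
  constructor
  · refine Module.Finite.of_surjective (ofPi (X := X) d) ?_
    intro x
    exact ⟨toPi (X := X) d x, congrArg (fun t => t x) h⟩
  · exact Module.Projective.of_split (toPi (X := X) d) (ofPi (X := X) d) h

lemma toPi_ofPi_decompFF (n : ℕ) :
    (toPi (X := X) (decompFF O n)) ∘ₗ (ofPi (X := X) (decompFF O n)) = LinearMap.id := by
  apply LinearMap.ext
  intro v
  funext j
  rw [LinearMap.comp_apply, toPi_apply, ofPi_apply, map_sum]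
  have : ∀ k ∈ Finset.univ, ((Gam O X).map ((decompFF O n).π j)).hom
      (((Gam O X).map ((decompFF O n).ι k)).hom (v k)) = if k = j then v k else 0 := by
    intro k _
    have h1 : (Gam O X).map ((decompFF O n).ι k) ≫ (Gam O X).map ((decompFF O n).π j) =
        if k = j then 𝟙 _ else 0 := by
      rw [← Functor.map_comp]
      have : (decompFF O n).ι k ≫ (decompFF O n).π j = if k = j then 𝟙 (UU O) else 0 :=
        ι_proj O n k j
      rw [this]
      split_ifs
      · exact (Gam O X).map_id _
      · exact (Gam O X).map_zero _ _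
    have h2 := congrArg (fun t => t.hom (v k)) h1
    refine h2.trans ?_
    split_ifs <;> rfl
  rw [Finset.sum_congr rfl this, Finset.sum_ite_eq']
  simp

include hX in
/-- **Every finite projective module is the module of global sections of a direct summand of a
finite free module.** -/
theorem exists_isFinFreeSummand (M : ModuleCat.{u} (AA O X)) [Module.Finite (AA O X) M]
    [Module.Projective (AA O X) M] :
    ∃ E : ModSite.Mod O, DCoh.IsFinFreeSummandMod (ModSite.ringSh O) E ∧
      Nonempty (E.val.obj (op X) ≅ M) := by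
  obtain ⟨n, f, g, -, -, hfg⟩ := Module.Finite.exists_comp_eq_id_of_projective (AA O X) M
  let f₁ : (Fin n → GU O X) →ₗ[AA O X] M := f
  let g₁ : M →ₗ[AA O X] (Fin n → GU O X) := g
  have hfg₁ : f₁ ∘ₗ g₁ = LinearMap.id := hfg
  let s : M ⟶ (Gam O X).obj (FF O n) :=
    ModuleCat.ofHom (X := M) (Y := (Gam O X).obj (FF O n)) (ofPi (X := X) (decompFF O n) ∘ₗ g₁)
  let t : (Gam O X).obj (FF O n) ⟶ M :=
    ModuleCat.ofHom (X := (Gam O X).obj (FF O n)) (Y := M) (f₁ ∘ₗ toPi (X := X) (decompFF O n))
  have hst : s ≫ t = 𝟙 M := by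
    apply ModuleCat.hom_ext
    apply LinearMap.ext
    intro m
    show f₁ (toPi (X := X) (decompFF O n) (ofPi (X := X) (decompFF O n) (g₁ m))) = m
    have h1 := congrArg (fun t => t (g₁ m)) (toPi_ofPi_decompFF (O := O) (X := X) n)
    have h2 : toPi (X := X) (decompFF O n) (ofPi (X := X) (decompFF O n) (g₁ m)) = g₁ m := h1
    rw [h2]
    exact congrArg (fun t => t m) hfg₁
  have hFF : DCoh.IsFinFreeSummandMod (ModSite.ringSh O) (FF O n) :=
    isFinFreeSummand_of_decomp (FF O n) (decompFF O n)
  have hF : Function.Bijective (fun φ : FF O n ⟶ FF O n => (Gam O X).map φ) :=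
    bijective_of_isFinFreeSummand hX (FF O n) (FF O n) hFF
  obtain ⟨E, i, r, hir, ⟨e⟩⟩ := exists_retract_of_retract_map (Γ := Gam O X) hF s t hst
  exact ⟨E, ⟨n, i, r, hir⟩, ⟨e⟩⟩

end site

end Groth.Agent.Lib.Helper5.FinFreeSummand
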