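import Groth.Agent.Lib.Helper5.FinFreeSummand
import Groth.Prelude.Def_FlatMod2
import Mathlib.CategoryTheory.ObjectProperty.FullSubcategory

/-!
# Retracts of finite free modules on a scheme and finite projective modules of global sections
-/

set_option autoImplicit false

universe u

open CategoryTheory Limits Opposite AlgebraicGeometry

noncomputable section

namespace Groth.Agent.Lib.Helper5.FinFreeSummandScheme

open Groth.Agent.Lib.Helper5.FinFreeSummand

section sigma

universe v₁ u₁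

variable {𝒜 : Type u₁} [Category.{v₁} 𝒜] [Preadditive 𝒜] (U : 𝒜) (n : ℕ)
  [HasCoproduct (fun _ : Fin n => U)]

/-- the `k`-th projection of `U^n` -/
def sproj (k : Fin n) : (∐ fun _ : Fin n => U) ⟶ U :=
  Sigma.desc (fun j => if j = k then 𝟙 U else 0)

lemma ι_sproj (j k : Fin n) :
    Sigma.ι (fun _ : Fin n => U) j ≫ sproj U n k = if j = k then 𝟙 U else 0 :=
  Sigma.ι_desc _ _

lemma sum_sproj_ι : ∑ k, sproj U n k ≫ Sigma.ι (fun _ : Fin n => U) k = 𝟙 _ := by
  apply Sigma.hom_ext
  intro j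
  have h1 : Sigma.ι (fun _ : Fin n => U) j ≫
      ∑ k, sproj U n k ≫ Sigma.ι (fun _ : Fin n => U) k = Sigma.ι (fun _ : Fin n => U) j := by
    rw [Preadditive.comp_sum]
    have : ∀ k ∈ Finset.univ, Sigma.ι (fun _ : Fin n => U) j ≫
        sproj U n k ≫ Sigma.ι (fun _ : Fin n => U) k =
        if j = k then Sigma.ι (fun _ : Fin n => U) k else 0 := by
      intro k _
      rw [← Category.assoc, ι_sproj]
      split_ifs
      · rw [Category.id_comp]
      · rw [zero_comp]
    rw [Finset.sum_congr rfl this, Finset.sum_ite_eq]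
    simp
  exact h1.trans (Category.comp_id _).symm

variable {U n}

/-- a retract of `U^n` has a decomposition -/
def decompOfRetract {E : 𝒜} (i : E ⟶ ∐ fun _ : Fin n => U) (r : (∐ fun _ : Fin n => U) ⟶ E)
    (h : i ≫ r = 𝟙 E) : Decomp U E n where
  ι k := Sigma.ι (fun _ : Fin n => U) k ≫ r
  π k := i ≫ sproj U n k
  sum := by
    calc ∑ k, (i ≫ sproj U n k) ≫ Sigma.ι (fun _ : Fin n => U) k ≫ r
        = i ≫ (∑ k, sproj U n k ≫ Sigma.ι (fun _ : Fin n => U) k) ≫ r := by
          rw [Preadditive.sum_comp, Preadditive.comp_sum]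
          exact Finset.sum_congr rfl fun k _ => by simp only [Category.assoc]
      _ = 𝟙 E := by rw [sum_sproj_ι, Category.id_comp, h]

/-- an object with a decomposition is a retract of `U^n` -/
theorem retract_of_decomp {E : 𝒜} (d : Decomp U E n) :
    ∃ (i : E ⟶ ∐ fun _ : Fin n => U) (r : (∐ fun _ : Fin n => U) ⟶ E), i ≫ r = 𝟙 E := by
  refine ⟨∑ k, d.π k ≫ Sigma.ι (fun _ : Fin n => U) k, Sigma.desc (fun j => d.ι j), ?_⟩
  rw [Preadditive.sum_comp]
  have : ∀ k ∈ Finset.univ, (d.π k ≫ Sigma.ι (fun _ : Fin n => U) k) ≫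
      Sigma.desc (fun j => d.ι j) = d.π k ≫ d.ι k := by
    intro k _
    rw [Category.assoc, Sigma.ι_desc]
  rw [Finset.sum_congr rfl this, d.sum]

end sigma

section scheme

variable (X : Scheme.{u})

/-- retracts of finite free modules -/
abbrev PP : ObjectProperty X.Modules := fun M =>
  ∃ (n : ℕ) (i : M ⟶ FlatMod.freeMod X n) (r : FlatMod.freeMod X n ⟶ M), i ≫ r = 𝟙 M

/-- finite projective modules -/
abbrev QQ : ObjectProperty (ModuleCat.{u} (Γ(X, ⊤))) := fun N =>
  Module.Finite (Γ(X, ⊤)) N ∧ Module.Projective (Γ(X, ⊤)) N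

/-- global sections -/
abbrev GamX : X.Modules ⥤ ModuleCat.{u} (Γ(X, ⊤)) :=
  Gam X.sheaf (⊤ : X.Opens)

variable {X}

lemma isFinFreeSummand_of_PP (M : X.Modules) (hM : PP X M) :
    DCoh.IsFinFreeSummandMod (ModSite.ringSh X.sheaf) M := by
  obtain ⟨n, i, r, h⟩ := hM
  exact isFinFreeSummand_of_decomp (O := X.sheaf) M (decompOfRetract i r h)

lemma PP_of_isFinFreeSummand (M : X.Modules)
    (hM : DCoh.IsFinFreeSummandMod (ModSite.ringSh X.sheaf) M) : PP X M := by
  obtain ⟨n, ⟨d⟩⟩ := exists_decomp (O := X.sheaf) M hM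
  obtain ⟨i, r, h⟩ := retract_of_decomp d
  exact ⟨n, i, r, h⟩

lemma QQ_of_PP (M : X.Modules) (hM : PP X M) : QQ X ((GamX X).obj M) :=
  finite_projective_of_isFinFreeSummand (O := X.sheaf) (X := (⊤ : X.Opens)) M
    (isFinFreeSummand_of_PP M hM)

/-- global sections on retracts of finite free modules -/
abbrev GG : (PP X).FullSubcategory ⥤ (QQ X).FullSubcategory :=
  (QQ X).lift ((PP X).ι ⋙ GamX X) (fun M => QQ_of_PP M.obj M.property)

instance : ((PP X).ι ⋙ GamX X).Faithful where
  map_injective {M N} f g h := by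
    have hb := bijective_of_isFinFreeSummand (O := X.sheaf) (X := (⊤ : X.Opens)) isTerminalTop
      M.obj N.obj (isFinFreeSummand_of_PP M.obj M.property)
    apply (PP X).ι.map_injective
    exact hb.1 h

instance : ((PP X).ι ⋙ GamX X).Full where
  map_surjective {M N} g := by
    have hb := bijective_of_isFinFreeSummand (O := X.sheaf) (X := (⊤ : X.Opens)) isTerminalTop
      M.obj N.obj (isFinFreeSummand_of_PP M.obj M.property)
    obtain ⟨φ, hφ⟩ := hb.2 g
    obtain ⟨ψ, hψ⟩ := (PP X).ι.map_surjective φ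
    refine ⟨ψ, ?_⟩
    show (GamX X).map ((PP X).ι.map ψ) = g
    rw [hψ]
    exact hφ

instance : (GG (X := X)).EssSurj where
  mem_essImage N := by
    obtain ⟨E, hE, ⟨e⟩⟩ := @exists_isFinFreeSummand _ _ _ X.sheaf (⊤ : X.Opens)
      isTerminalTop N.obj N.property.1 N.property.2
    exact ⟨⟨E, PP_of_isFinFreeSummand E hE⟩, ⟨(QQ X).isoMk e⟩⟩

instance : (GG (X := X)).IsEquivalence where

/-- **The equivalence** between retracts of finite free modules and finite projective modules of
global sections. -/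
theorem nonempty_equivalence :
    Nonempty ((PP X).FullSubcategory ≌ (QQ X).FullSubcategory) :=
  ⟨(GG (X := X)).asEquivalence⟩

end scheme

end Groth.Agent.Lib.Helper5.FinFreeSummandScheme
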