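import Mathlib

/-!
# Finite parts of quasi-finite schemes over a local ring

`specializes_closedFibre_of_isClosedMap`: over a local ring, if `f : X ⟶ Spec R` is a closed map
then every point specializes to a point of the closed fibre.
`map_mem_of_closedFibre_subset`: a morphism over `Spec R` maps an open `WX` with `WX ⟶ Spec R`
closed into any open `WY` containing the closed fibre.
-/

set_option autoImplicit false

open CategoryTheory Limits AlgebraicGeometry

namespace Groth.Agent.Lib.Helper5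

universe u

theorem specializes_closedFibre_of_isClosedMap {R : Type u} [CommRing R] [IsLocalRing R]
    {X : Scheme.{u}} (f : X ⟶ Spec (CommRingCat.of R)) (hf : IsClosedMap f) (x : X) :
    ∃ x₀ : X, x ⤳ x₀ ∧ f x₀ = IsLocalRing.closedPoint R := by
  have h1 : IsClosed (f '' closure {x}) := hf _ isClosed_closure
  have h2 : f x ∈ f '' closure {x} := ⟨x, subset_closure rfl, rfl⟩
  have h3 : f x ⤳ IsLocalRing.closedPoint R := IsLocalRing.specializes_closedPoint _
  have h4 := h1.stableUnderSpecialization h3 h2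
  obtain ⟨x₀, hx₀, hfx₀⟩ := h4
  exact ⟨x₀, specializes_iff_mem_closure.mpr hx₀, hfx₀⟩

theorem map_mem_of_closedFibre_subset {R : Type u} [CommRing R] [IsLocalRing R]
    {X Y : Scheme.{u}} (f : X ⟶ Spec (CommRingCat.of R)) (f' : Y ⟶ Spec (CommRingCat.of R))
    (WX : X.Opens) (hWX : IsClosedMap (WX.ι ≫ f))
    (WY : Y.Opens) (hWY : ∀ y : Y, f' y = IsLocalRing.closedPoint R → y ∈ WY)
    (g : X ⟶ Y) (hg : g ≫ f' = f) (x : X) (hx : x ∈ WX) : g x ∈ WY := by
  obtain ⟨x₀', hs, hx₀'⟩ := specializes_closedFibre_of_isClosedMap (WX.ι ≫ f) hWX ⟨x, hx⟩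
  have h1 : x ⤳ WX.ι x₀' := hs.map WX.ι.continuous
  have h2 : g x ⤳ g (WX.ι x₀') := h1.map g.continuous
  have h3 : f' (g (WX.ι x₀')) = IsLocalRing.closedPoint R := by
    rw [← hx₀', ← hg]
    rfl
  exact h2.mem_open WY.isOpen (hWY _ h3)

end Groth.Agent.Lib.Helper5
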