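import Mathlib.RingTheory.Flat.EquationalCriterion
import Mathlib.RingTheory.RingHom.Flat
import Mathlib.Algebra.Category.Ring.FilteredColimits
import Mathlib.CategoryTheory.Limits.ConcreteCategory.Basic

set_option autoImplicit false

universe u

namespace Groth.Agent.Lib.Helper5

open CategoryTheory CategoryTheory.Limits

variable {J : Type u} [SmallCategory J] [IsFiltered J] (F : J ⥤ CommRingCat.{u})
  (t : Cocone F) (ht : IsColimit t)

include ht in
theorem exists_rep_family (j₀ : J) :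
    ∀ (l : ℕ) (x : Fin l → t.pt), ∃ (j : J) (_ : j₀ ⟶ j) (b : Fin l → F.obj j),
      ∀ i, t.ι.app j (b i) = x i := by
  intro l
  induction l with
  | zero => intro x; exact ⟨j₀, 𝟙 _, Fin.elim0, fun i => i.elim0⟩
  | succ l ih =>
    intro x
    obtain ⟨j₁, φ₁, b, hb⟩ := ih (fun i => x i.succ)
    obtain ⟨j₂, y, hy⟩ := Concrete.isColimit_exists_rep F ht (x 0)
    refine ⟨IsFiltered.max j₁ j₂, φ₁ ≫ IsFiltered.leftToMax j₁ j₂,
      Fin.cons (F.map (IsFiltered.rightToMax j₁ j₂) y)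
        (fun i => F.map (IsFiltered.leftToMax j₁ j₂) (b i)), ?_⟩
    intro i
    refine Fin.cases ?_ (fun i => ?_) i
    · rw [Fin.cons_zero, ← hy, ← ConcreteCategory.comp_apply, t.w]
    · rw [Fin.cons_succ, ← hb i, ← ConcreteCategory.comp_apply, t.w]

include ht in
/-- A filtered colimit of flat ring maps out of `F.obj j₀` is flat. -/
theorem flat_ι_of_isColimit (j₀ : J) (hflat : ∀ (j : J) (φ : j₀ ⟶ j), (F.map φ).hom.Flat) :
    (t.ι.app j₀).hom.Flat := by
  let ι₀ : F.obj j₀ →+* t.pt := (t.ι.app j₀).hom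
  show ι₀.Flat
  let _ : Algebra (F.obj j₀) t.pt := ι₀.toAlgebra
  show Module.Flat (F.obj j₀) t.pt
  apply Module.Flat.of_forall_isTrivialRelation
  intro l f x hfx
  obtain ⟨j, φ, b, hb⟩ := exists_rep_family F t ht j₀ l x
  have h0 : t.ι.app j (∑ i, F.map φ (f i) * b i) = t.ι.app j 0 := by
    rw [map_sum, map_zero, ← hfx]
    refine Finset.sum_congr rfl fun i _ => ?_
    rw [map_mul, hb i, ← ConcreteCategory.comp_apply, t.w, Algebra.smul_def]
    rfl
  obtain ⟨k, g, g', hgg'⟩ := (Concrete.isColimit_rep_eq_iff_exists F ht _ _).mp h0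
  let _ : Algebra (F.obj j₀) (F.obj k) := (F.map (φ ≫ g)).hom.toAlgebra
  have : Module.Flat (F.obj j₀) (F.obj k) := hflat k (φ ≫ g)
  have hrel : ∑ i, f i • (F.map g (b i)) = 0 := by
    rw [map_zero, map_sum] at hgg'
    rw [← hgg']
    refine Finset.sum_congr rfl fun i _ => ?_
    rw [map_mul, Algebra.smul_def, ← ConcreteCategory.comp_apply, ← F.map_comp]
    rfl
  obtain ⟨κ, a, y, hy, ha⟩ := Module.Flat.isTrivialRelation_of_sum_smul_eq_zero hrel
  let ιk : F.obj k →+* t.pt := (t.ι.app k).hom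
  refine ⟨κ, a, fun m => ιk (y m), ?_, ha⟩
  intro i
  have h1 : x i = ιk (F.map g (b i)) := by
    rw [← hb i]
    show t.ι.app j (b i) = t.ι.app k (F.map g (b i))
    rw [← ConcreteCategory.comp_apply, t.w]
  have hy' : F.map g (b i) = ∑ m, a i m • y m := hy i
  rw [h1, hy', map_sum]
  refine Finset.sum_congr rfl fun m _ => ?_
  rw [Algebra.smul_def, Algebra.smul_def, map_mul]
  congr 1
  show t.ι.app k (F.map (φ ≫ g) (a i m)) = t.ι.app j₀ (a i m)
  rw [← ConcreteCategory.comp_apply, t.w]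

end Groth.Agent.Lib.Helper5
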