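import Mathlib.AlgebraicGeometry.Morphisms.Flat
import Mathlib.AlgebraicGeometry.Cover.QuasiCompact
import Mathlib.AlgebraicGeometry.Sites.Fpqc
import Mathlib.AlgebraicGeometry.Limits

set_option autoImplicit false
universe v u

namespace Groth.Agent.Lib.Helper5

open AlgebraicGeometry CategoryTheory Limits

theorem range_sigmaDesc {σ : Type*} [Small.{u} σ] (g : σ → Scheme.{u}) {T : Scheme.{u}}
    (α : ∀ i, g i ⟶ T) : Set.range (Sigma.desc α) = ⋃ i, Set.range (α i) := by
  have key : ∀ (k : σ) (w : g k), Sigma.desc α (Sigma.ι g k w) = α k w := fun k w => by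
    rw [← Scheme.Hom.comp_apply, Sigma.ι_desc]
  ext t
  simp only [Set.mem_range, Set.mem_iUnion]
  constructor
  · rintro ⟨z, rfl⟩
    obtain ⟨k, w, rfl⟩ := (sigmaOpenCover g).exists_eq z
    exact ⟨k, w, (key k w).symm⟩
  · rintro ⟨k, w, rfl⟩
    exact ⟨Sigma.ι g k w, key k w⟩

theorem isOpen_sigma_iff {σ : Type*} [Small.{u} σ] (g : σ → Scheme.{u})
    (A : Set (∐ g : Scheme.{u})) : IsOpen A ↔ ∀ i, IsOpen ((Sigma.ι g i) ⁻¹' A) := by
  constructor
  · intro hA i
    exact hA.preimage (Sigma.ι g i).continuous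
  · intro h
    rw [(sigmaOpenCover g).isOpenCover_opensRange.isOpen_iff_inter]
    intro i
    rw [Scheme.Hom.coe_opensRange, ← Set.image_preimage_eq_inter_range]
    exact ((sigmaOpenCover g).f i).isOpenEmbedding.isOpenMap _ (h i)

/-- A quasi-compact flat covering family is submersive: a subset whose preimages in all members
are open is open. -/
theorem isOpen_of_forall_isOpen_preimage_of_quasiCompactCover {T : Scheme.{u}}
    (𝒰 : PreZeroHypercover.{v} T) [QuasiCompactCover 𝒰] (hflat : ∀ i, Flat (𝒰.f i))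
    (s : Set T) (hs : ∀ i, IsOpen ((𝒰.f i) ⁻¹' s)) : IsOpen s := by
  rw [T.affineCover.isOpenCover_opensRange.isOpen_iff_inter]
  intro j
  let U : T.Opens := (T.affineCover.f j).opensRange
  have hU : IsAffineOpen U := isAffineOpen_opensRange _
  change IsOpen (s ∩ (U : Set T))
  obtain ⟨n, idx, V, hV, hVU⟩ :=
    QuasiCompactCover.exists_isAffineOpen_of_isCompact 𝒰 hU.isCompact
  have hVaff : ∀ k, IsAffine (V k).toScheme := hV
  let g : Fin n → Scheme.{u} := fun k => (V k).toScheme
  let α : ∀ k, g k ⟶ T := fun k => (V k).ι ≫ 𝒰.f (idx k)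
  let p : (∐ g : Scheme.{u}) ⟶ T := Sigma.desc α
  have hαflat : ∀ k, Flat (α k) := fun k => inferInstance
  have hpflat : Flat p := inferInstance
  have hprange : Set.range p = (U : Set T) := by
    rw [range_sigmaDesc, ← hVU]
    refine Set.iUnion_congr fun k => ?_
    change Set.range ((V k).ι ≫ 𝒰.f (idx k)) = _
    rw [Scheme.Hom.comp_base, TopCat.coe_comp, Set.range_comp, Scheme.Opens.range_ι]
  have hsub : Set.range p ⊆ Set.range U.ι := by
    rw [hprange, Scheme.Opens.range_ι]
  let q : (∐ g : Scheme.{u}) ⟶ U.toScheme := IsOpenImmersion.lift U.ι p hsub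
  have hq : q ≫ U.ι = p := IsOpenImmersion.lift_fac _ _ _
  have hqflat : Flat q := by
    have := MorphismProperty.IsStableUnderBaseChange.hasOfPostcompProperty_monomorphisms
      (P := @Flat.{u})
    refine MorphismProperty.of_postcomp (W := @Flat) (W' := MorphismProperty.monomorphisms _)
      q U.ι (MorphismProperty.monomorphisms.infer_property _) ?_
    rw [hq]; exact hpflat
  have hUaff : IsAffine U.toScheme := hU
  have hqsurj : Surjective q := by
    refine ⟨fun u => ?_⟩
    have : u.1 ∈ Set.range p := hprange ▸ u.2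
    obtain ⟨z, hz⟩ := this
    refine ⟨z, U.ι.isOpenEmbedding.injective ?_⟩
    rw [← Scheme.Hom.comp_apply, hq, hz]
    rfl
  have hquot := Flat.isQuotientMap_of_surjective q
  have h1 : IsOpen (q ⁻¹' (U.ι ⁻¹' s)) := by
    rw [← Set.preimage_comp, ← TopCat.coe_comp, ← Scheme.Hom.comp_base, hq, isOpen_sigma_iff]
    intro k
    rw [← Set.preimage_comp, ← TopCat.coe_comp, ← Scheme.Hom.comp_base, Sigma.ι_desc]
    change IsOpen (((V k).ι ≫ 𝒰.f (idx k)) ⁻¹' s)
    rw [Scheme.Hom.comp_base, TopCat.coe_comp, Set.preimage_comp]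
    exact (hs (idx k)).preimage (V k).ι.continuous
  have h2 : IsOpen (U.ι ⁻¹' s) := hquot.isOpen_preimage.mp h1
  have h3 : s ∩ (U : Set T) = U.ι '' (U.ι ⁻¹' s) := by
    rw [Set.image_preimage_eq_inter_range, Scheme.Opens.range_ι]
  rw [h3]
  exact U.ι.isOpenEmbedding.isOpenMap _ h2

end Groth.Agent.Lib.Helper5
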