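import Groth.Agent.Lib.Helper5.CechAcyclic

/-
Helper5: for a monomorphism `Y ⟶ X` of sheaves of sets, `ℤ[Y]^# ⟶ ℤ[X]^#` is a monomorphism whose
cokernel is a retract of `ℤ[X/Y]^#`; consequently, for a totally acyclic abelian sheaf `F`, the
restriction `H^0(X, F) ⟶ H^0(Y, F)` is surjective.
-/

set_option autoImplicit false

universe u

open CategoryTheory Limits Opposite Abelian

namespace Groth.Agent.Lib.Helper5.FreeMono

open Groth.Agent.Lib.Helper5.CechRes

section Abstract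

variable {𝒜 : Type*} [Category 𝒜] [Abelian 𝒜] {A B T P : 𝒜} {a : A ⟶ B} {b : A ⟶ T}
  {inl : B ⟶ P} {inr : T ⟶ P}

/-- If `b : A ⟶ T` factors through `a : A ⟶ B`, the cokernel of `a` is a retract of the pushout of
`a` and `b`. -/
lemma exists_retract_of_isPushout (h : IsPushout a b inl inr) (c : B ⟶ T) (hc : a ≫ c = b) :
    ∃ (s : cokernel a ⟶ P) (r : P ⟶ cokernel a), s ≫ r = 𝟙 _ := by
  have h1 : a ≫ cokernel.π a = b ≫ (0 : T ⟶ cokernel a) := by rw [cokernel.condition, comp_zero]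
  have h2 : a ≫ (inl - c ≫ inr) = 0 := by
    rw [Preadditive.comp_sub, ← Category.assoc, hc, h.w, sub_self]
  refine ⟨cokernel.desc a (inl - c ≫ inr) h2, h.desc (cokernel.π a) 0 h1, ?_⟩
  rw [← cancel_epi (cokernel.π a), ← Category.assoc, cokernel.π_desc, Preadditive.sub_comp,
    h.inl_desc, Category.assoc, h.inr_desc, comp_zero, sub_zero, Category.comp_id]

lemma ext_eq_zero_of_retract [HasExt.{u} 𝒜] {Q P F : 𝒜} (s : Q ⟶ P) (r : P ⟶ Q)
    (hsr : s ≫ r = 𝟙 Q) (n : ℕ) (hP : ∀ x : Ext.{u} P F n, x = 0) (x : Ext.{u} Q F n) : x = 0 := by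
  have h : (Ext.mk₀ s).comp ((Ext.mk₀ r).comp x (zero_add n)) (zero_add n) = x := by
    rw [Ext.mk₀_comp_mk₀_assoc, hsr, Ext.mk₀_id_comp]
  rw [← h, hP ((Ext.mk₀ r).comp x (zero_add n)), Ext.comp_zero]

end Abstract

variable {C : Type u} [SmallCategory C] {J : GrothendieckTopology C}

instance mono_Φ_map {Y X : Sheaf J (Type u)} (ι : Y ⟶ X) [Mono ι] : Mono ((Φ J).map ι) := by
  have h1 : Mono ((sheafToPresheaf J (Type u)).map ι) := inferInstance
  have h2 : Mono (((Functor.whiskeringRight Cᵒᵖ _ _).obj AddCommGrpCat.free.{u}).map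
      ((sheafToPresheaf J (Type u)).map ι)) := by
    rw [NatTrans.mono_iff_mono_app]
    intro U
    have : Mono (((sheafToPresheaf J (Type u)).map ι).app U) :=
      (NatTrans.mono_iff_mono_app _).1 h1 U
    exact inferInstanceAs (Mono (AddCommGrpCat.free.{u}.map (((sheafToPresheaf J (Type u)).map ι).app U)))
  exact inferInstanceAs (Mono ((presheafToSheaf J AddCommGrpCat.{u}).map
    (((Functor.whiskeringRight Cᵒᵖ _ _).obj AddCommGrpCat.free.{u}).map
      ((sheafToPresheaf J (Type u)).map ι))))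

/-- For a totally acyclic `F` and a monomorphism `ι : Y ⟶ X` of sheaves of sets, the higher `Ext`
groups out of `ℤ[X]^#/ℤ[Y]^#` vanish. -/
lemma ext_cokernel_eq_zero (F : Sheaf J AddCommGrpCat.{u}) (hF : CohCx.IsTotallyAcyclic F)
    {Y X : Sheaf J (Type u)} (ι : Y ⟶ X) (n : ℕ)
    (x : Ext (cokernel ((Φ J).map ι)) F (n + 1)) : x = 0 := by
  haveI := (adjΦ J).leftAdjoint_preservesColimits
  have hpo := (IsPushout.of_hasPushout ι (terminal.from Y)).map (Φ J)
  obtain ⟨s, r, hsr⟩ := exists_retract_of_isPushout hpo ((Φ J).map (terminal.from X)) (by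
    rw [← Functor.map_comp]
    congr 1
    exact Subsingleton.elim _ _)
  exact ext_eq_zero_of_retract s r hsr (n + 1)
    (fun y => (hF (pushout ι (terminal.from Y)) n).elim y 0) x

/-- For a totally acyclic `F`, sections extend along monomorphisms of sheaves of sets. -/
theorem exists_extension (F : Sheaf J AddCommGrpCat.{u}) (hF : CohCx.IsTotallyAcyclic F)
    {Y X : Sheaf J (Type u)} (ι : Y ⟶ X) [Mono ι] (y : (Φ J).obj Y ⟶ F) :
    ∃ x : (Φ J).obj X ⟶ F, (Φ J).map ι ≫ x = y := by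
  let S : ShortComplex (Sheaf J AddCommGrpCat.{u}) :=
    ShortComplex.mk ((Φ J).map ι) (cokernel.π _) (cokernel.condition _)
  have hS : S.ShortExact :=
    { exact := ShortComplex.exact_cokernel _
      mono_f := mono_Φ_map ι
      epi_g := inferInstanceAs (Epi (cokernel.π ((Φ J).map ι))) }
  obtain ⟨x₂, hx₂⟩ := Ext.contravariant_sequence_exact₁ hS F (Ext.mk₀ y) (zero_add 1)
    (ext_cokernel_eq_zero F hF ι 0 _)
  obtain ⟨x, rfl⟩ := (Ext.mk₀_bijective _ _).2 x₂
  rw [Ext.mk₀_comp_mk₀] at hx₂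
  exact ⟨x, (Ext.mk₀_bijective _ _).1 hx₂⟩

end Groth.Agent.Lib.Helper5.FreeMono
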