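import Groth.Agent.Lib.Helper5.GrothAcyc

/-
Helper5: consequences of the long exact sequence of right derived functors of a left exact
functor `S` for a short exact sequence `0 → X₁ → X₂ → X₃ → 0`: two-out-of-three for `S`-acyclic
objects and exactness of `0 → S X₁ → S X₂ → S X₃ → 0`.
-/

set_option autoImplicit false
set_option maxSynthPendingDepth 3

open CategoryTheory Limits

namespace Groth.Agent.Lib.Helper5.GrothSS

open Groth.Agent.Lib.Helper8.RDPlus

universe w v v' u u'

variable {B : Type u} [Category.{v} B] [Abelian B] [HasDerivedCategory.{w} B] [EnoughInjectives B]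
  {E : Type u'} [Category.{v'} E] [Abelian E]
  (S : B ⥤ E) [S.Additive] [HasInjectiveResolutions B]

/-- `Φ⁰(g[0])` is an epimorphism iff `S(g)` is. -/
lemma epi_Phi_zero_map_iff [PreservesFiniteLimits S] {M M' : B} (g : M ⟶ M') :
    Epi (((Phi S).shift (0 : ℤ)).map ((DerivedCategory.Plus.singleFunctor B 0).map g)) ↔
      Epi (S.map g) := by
  let R := Classical.choice (HasInjectiveResolution.out (Z := M))
  let R' := Classical.choice (HasInjectiveResolution.out (Z := M'))
  let φ : InjectiveResolution.Hom R R' g :=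
    ⟨InjectiveResolution.desc g R' R, by
      simpa using InjectiveResolution.desc_commutes_zero g R' R⟩
  have n1 := PhiIsoOfQuasiIso_naturality S (singlePlusMap g) 0 0 R.ι' R'.ι' φ.hom'
    (InjectiveResolution.Hom.ι'_comp_hom' φ) 0
  have n2 := resH0Iso_naturality S φ
  exact (epi_iff_of_sq _ _ _ _ n1).trans (epi_iff_of_sq _ _ _ _ n2).symm

variable (X : ShortComplex B) (hX : X.ShortExact)

include hX in
lemma acyc_mid (h1 : Acyc S X.X₁) (h3 : Acyc S X.X₃) : Acyc S X.X₂ := by
  rw [acyc_iff] at h1 h3 ⊢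
  intro n hn
  exact ((Phi S).homologySequence_exact₂ _ (singleTriangle_distinguished X hX)
    n).isZero_of_both_zeros ((h1 n hn).eq_of_src _ _) ((h3 n hn).eq_of_tgt _ _)

include hX in
lemma acyc_ker_of_epi [PreservesFiniteLimits S] (h2 : Acyc S X.X₂) (h3 : Acyc S X.X₃)
    (hg : Epi (S.map X.g)) : Acyc S X.X₁ := by
  rw [acyc_iff] at h2 h3 ⊢
  intro n hn
  obtain ⟨m, rfl⟩ : ∃ m, n = m + 1 := ⟨n - 1, by lia⟩
  have hex := (Phi S).homologySequence_exact₁ _ (singleTriangle_distinguished X hX) m (m + 1) rfl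
  refine hex.isZero_of_both_zeros ?_ ((h2 (m + 1) hn).eq_of_tgt _ _)
  by_cases hm : m = 0
  · subst hm
    exact ((Phi S).homologySequence_epi_shift_map_mor₂_iff _ (singleTriangle_distinguished X hX)
      0 (0 + 1) rfl).1 ((epi_Phi_zero_map_iff S X.g).2 hg)
  · exact (h3 m (by lia)).eq_of_src _ _

include hX in
lemma map_shortExact_of_epi [PreservesFiniteLimits S] (hg : Epi (S.map X.g)) :
    (X.map S).ShortExact := by
  have := hX.mono_f
  have : Mono (X.map S).f := inferInstanceAs (Mono (S.map X.f))
  have : Epi (X.map S).g := hg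
  refine ShortComplex.ShortExact.mk ?_
  exact ShortComplex.exact_of_f_is_kernel _ (KernelFork.mapIsLimit _ hX.fIsKernel S)

end Groth.Agent.Lib.Helper5.GrothSS
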