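import Groth.Agent.Lib.Helper16.LocCohDepth
import Groth.Agent.Lib.Helper5.ExtCechLC
import Mathlib.Algebra.Homology.DerivedCategory.Ext.Linear

/-!
# Vanishing of local cohomology below the depth, including the degenerate case

For a finite module `M` over a Noetherian ring and an ideal `I`:
`H^i_I(M) = 0` for all `i < n` iff `n ≤ depth_I(M)` (with `depth_I(M) = ⊤` when `IM = M`).
The same for the cohomology of the extended Čech complex of generators of `I`.
-/

set_option autoImplicit false
universe u
open CategoryTheory Opposite Limits Abelian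

namespace Groth.Agent.Lib.Helper5.LCDepth

open Groth.Agent.Lib.Helper16.LC Groth.Agent.Lib.Helper16.Depth

variable {R : Type u} [CommRing R] (I : Ideal R)
  (M : Type u) [AddCommGroup M] [Module R M]

/-- if `IM = M` for a finite module `M` then all `Ext^i(R/I^k, M)` vanish -/
theorem subsingleton_E_of_smul_top_eq_top [Module.Finite R M]
    (hIM : I • (⊤ : Submodule R M) = ⊤) (i k : ℕ) :
    Subsingleton (E I i (ModuleCat.of R M) k) := by
  obtain ⟨r, hr1, hr0⟩ := Submodule.exists_sub_one_mem_and_smul_eq_zero_of_fg_of_le_smul I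
    (⊤ : Submodule R M) Module.Finite.fg_top (by rw [hIM])
  have ha : 1 - r ∈ I := by
    have := I.neg_mem hr1
    rwa [neg_sub] at this
  have hact : ∀ m : M, (1 - r) • m = m := by
    intro m
    rw [sub_smul, one_smul, hr0 m Submodule.mem_top, sub_zero]
  have hactk : ∀ m : M, ((1 - r) ^ k) • m = m := by
    intro m
    induction k with
    | zero => rw [pow_zero, one_smul]
    | succ k ih => rw [pow_succ, mul_smul, hact, ih]
  have hk : (1 - r) ^ k ∈ I ^ k := Ideal.pow_mem_pow ha k
  refine subsingleton_of_forall_eq 0 fun x => ?_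
  have h1 : ((1 - r) ^ k) • x = x := by
    rw [Ext.smul_eq_comp_mk₀]
    have hid : ((1 - r) ^ k) • 𝟙 (ModuleCat.of R M) = 𝟙 (ModuleCat.of R M) := by
      apply ModuleCat.hom_ext
      apply LinearMap.ext
      intro m
      exact hactk m
    rw [hid, Ext.comp_mk₀_id]
  have h2 : ((1 - r) ^ k) • x = 0 := by
    have hx : x = (Ext.mk₀ (𝟙 (Q I k))).comp x (zero_add i) := (Ext.mk₀_id_comp x).symm
    have hz : ((1 - r) ^ k) • 𝟙 (Q I k) = 0 := by
      apply ModuleCat.hom_ext
      apply LinearMap.ext
      intro y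
      obtain ⟨s, rfl⟩ := Ideal.Quotient.mk_surjective y
      change ((1 - r) ^ k) • (Ideal.Quotient.mk (I ^ k) s) = 0
      rw [← Ideal.Quotient.mk_eq_mk, ← Submodule.Quotient.mk_smul, Ideal.Quotient.mk_eq_mk,
        Ideal.Quotient.eq_zero_iff_mem, smul_eq_mul]
      exact Ideal.mul_mem_right _ _ hk
    rw [hx, ← Ext.smul_comp, ← Ext.mk₀_smul, hz, Ext.mk₀_zero, Ext.zero_comp]
  rw [← h1, h2]

variable [IsNoetherianRing R] [Module.Finite R M]

/-- vanishing of local cohomology below `n` is `n ≤ depth_I(M)` -/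
theorem forall_lt_subsingleton_H_iff (n : ℕ) :
    (∀ i : ℕ, i < n → Subsingleton (LocCoh.H I i M)) ↔ (n : ℕ∞) ≤ LocCoh.idealDepth I M := by
  by_cases hIM : I • (⊤ : Submodule R M) = ⊤
  · rw [idealDepth_eq_top_of_smul_top_eq_top I M hIM]
    refine ⟨fun _ => le_top, fun _ i _ => ?_⟩
    exact subsingleton_H_of_forall I i (ModuleCat.of R M)
      (fun k => subsingleton_E_of_smul_top_eq_top I M hIM i k)
  · constructor
    · intro h
      by_contra hlt
      rw [not_le] at hlt
      obtain ⟨m, hm⟩ : ∃ m : ℕ, LocCoh.idealDepth I M = m :=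
        ⟨_, (ENat.natCast_toNat (ne_top_of_lt hlt)).symm⟩
      rw [hm] at hlt
      have hmn : m < n := by exact_mod_cast hlt
      have hnt := nontrivial_H_of_idealDepth_eq I M hIM m hm
      exact not_subsingleton _ (h m hmn)
    · intro h i hi
      exact subsingleton_H_of_lt_idealDepth I M hIM n h i hi

/-- vanishing of the cohomology of the extended Čech complex below `n` is `n ≤ depth_I(M)` -/
theorem forall_lt_subsingleton_extCechH_iff (fs : List R) (n : ℕ) :
    (∀ i : ℕ, i < n → Subsingleton (DerCA.extCechH fs (ModuleCat.of R M) (i : ℤ))) ↔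
      (n : ℕ∞) ≤ LocCoh.idealDepth (Ideal.span {x | x ∈ fs}) M := by
  rw [← forall_lt_subsingleton_H_iff]
  refine forall_congr' fun i => forall_congr' fun _ => ?_
  obtain ⟨e⟩ := Groth.Agent.Lib.Helper5.ExtCechH0.nonempty_extCechH_iso_localCohomology fs
    (ModuleCat.of R M) i
  exact e.toLinearEquiv.toEquiv.subsingleton_congr

end Groth.Agent.Lib.Helper5.LCDepth
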