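import Groth.Agent.Lib.Helper5.HZAffineOpen
import Groth.Agent.Lib.Helper5.HZshBasis
import Groth.Agent.Lib.Helper5.LCDepth
import Groth.Agent.Lib.Helper10.HartogsConv
import Groth.Agent.Lib.Helper11.DepthLoc

/-!
# Local cohomology sheaves and depth

On a locally Noetherian scheme, for a coherent module `F` and an open `U` with closed complement
`Y`: `ℋ^i_Y(F) = 0` for all `i < n` iff `depth F_x ≥ n` for all `x ∈ Y`.
-/

set_option autoImplicit false

universe u

open CategoryTheory CategoryTheory.Limits AlgebraicGeometry Opposite TopologicalSpace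
open Groth.Agent.Lib.Helper29.QCoh Groth.Agent.Lib.Helper10.Hartogs
open Groth.Agent.Lib.Helper10.HartogsConv

namespace Groth.Agent.Lib.Helper5.HZDepth

variable {X : Scheme.{u}} [IsLocallyNoetherian X] (F : X.Modules) [F.IsQuasicoherent]
  [F.IsFiniteType] (U : X.Opens)

/-- a finite list of functions on the affine open `W` whose non-vanishing loci cover `W ∩ U` -/
theorem exists_list_cover {W : X.Opens} (hW : IsAffineOpen W) :
    ∃ fs : List Γ(X, W), Ideal.span {x | x ∈ fs} = nonvanIdeal W (W ⊓ U) ∧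
      ∀ x : X, x ∈ W ⊓ U ↔ ∃ f ∈ fs, x ∈ X.basicOpen f := by
  have : IsNoetherianRing Γ(X, W) := IsLocallyNoetherian.component_noetherian ⟨W, hW⟩
  obtain ⟨s, hs⟩ := (isNoetherianRing_iff_ideal_fg Γ(X, W)).1 inferInstance (nonvanIdeal W (W ⊓ U))
  have hset : {x | x ∈ s.toList} = (s : Set Γ(X, W)) := by
    ext x
    simp
  refine ⟨s.toList, by rw [hset]; exact hs, fun x => ⟨fun hx => ?_, ?_⟩⟩
  · obtain ⟨a, ha, hxa⟩ := hW.exists_basicOpen_le (V := W ⊓ U) ⟨x, hx⟩ hx.1
    have haI : a ∈ nonvanIdeal W (W ⊓ U) := (mem_nonvanIdeal a).2 ha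
    by_contra hcon
    push_neg at hcon
    have hle : Ideal.span (s : Set Γ(X, W)) ≤ (hW.primeIdealOf ⟨x, hx.1⟩).asIdeal := by
      rw [Ideal.span_le]
      intro f hf
      have hf' : f ∈ s.toList := by simpa using hf
      have := hcon f hf'
      rw [mem_basicOpen_iff_notMem_primeIdealOf hW x hx.1, not_not] at this
      exact this
    rw [hs] at hle
    exact (mem_basicOpen_iff_notMem_primeIdealOf hW x hx.1 a).1 hxa (hle haI)
  · rintro ⟨f, hf, hxf⟩
    have hf' : f ∈ (s : Set Γ(X, W)) := by simpa using hf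
    have hfI : f ∈ nonvanIdeal W (W ⊓ U) := by
      rw [← hs]
      exact Ideal.subset_span hf'
    exact (mem_nonvanIdeal f).1 hfI hxf

/-- the affine-local form of the depth criterion -/
theorem affine_iff {W : X.Opens} (hW : IsAffineOpen W) (n : ℕ) :
    (∀ i : ℕ, i < n →
      Subsingleton (LocCohZ.HZ (X := X.carrier) (Coh.toAb F) i (inf_le_left : W ⊓ U ≤ W))) ↔
      ∀ (x : X), x ∈ W → x ∉ U →
        (n : ℕ∞) ≤ LocCoh.depth (X.presheaf.stalk x) (F.presheaf.stalk x) := by
  have : IsNoetherianRing Γ(X, W) := IsLocallyNoetherian.component_noetherian ⟨W, hW⟩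
  have : Module.Finite Γ(X, W) Γ(F, W) := module_finite_of_isFiniteType F hW
  obtain ⟨fs, hI, hcov⟩ := exists_list_cover U hW
  have e1 : (∀ i : ℕ, i < n →
      Subsingleton (LocCohZ.HZ (X := X.carrier) (Coh.toAb F) i (inf_le_left : W ⊓ U ≤ W))) ↔
      (n : ℕ∞) ≤ LocCoh.idealDepth (nonvanIdeal W (W ⊓ U)) Γ(F, W) := by
    rw [← hI, ← Groth.Agent.Lib.Helper5.LCDepth.forall_lt_subsingleton_extCechH_iff]
    refine forall_congr' fun i => forall_congr' fun _ => ?_
    obtain ⟨e⟩ := Groth.Agent.Lib.Helper5.HZAffineOpen.nonempty_extCechH_addEquiv_HZ W F hW U fs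
      hcov i
    exact e.symm.toEquiv.subsingleton_congr
  rw [e1]
  constructor
  · intro h x hxW hxU
    rw [depth_stalk_eq_depth_localized F hW x hxW]
    refine h.trans (Groth.Agent.Lib.Helper11.DepthLoc.idealDepth_le_depth_localization _ _ _ ?_)
    intro a ha
    by_contra hne
    have hxa : x ∈ X.basicOpen a := (mem_basicOpen_iff_notMem_primeIdealOf hW x hxW a).mpr hne
    exact hxU (((mem_nonvanIdeal a).mp ha) hxa).2
  · intro h
    apply Groth.Agent.Lib.Helper11.DepthLoc.le_idealDepth_of_forall_le_depth_localization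
    intro p hp hIp
    obtain ⟨x, hxW, rfl⟩ := exists_point_primeIdealOf_eq hW p
    have hxU : x ∉ U := by
      intro hxU
      obtain ⟨f, hf, hxf⟩ := (hcov x).1 ⟨hxW, hxU⟩
      have hfI : f ∈ nonvanIdeal W (W ⊓ U) := by
        rw [← hI]
        exact Ideal.subset_span hf
      exact (mem_basicOpen_iff_notMem_primeIdealOf hW x hxW f).1 hxf (hIp hfI)
    rw [← depth_stalk_eq_depth_localized F hW x hxW]
    exact h x hxW hxU

/-- **Local cohomology sheaves and depth.** -/
theorem isZero_HZsh_lt_iff_depth (n : ℕ) :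
    (∀ i : ℕ, i < n → IsZero ((LocCohZ.HZsh (X := X.carrier) U i).obj (Coh.toAb F))) ↔
      ∀ x : X, x ∉ (U : Set X) →
        (n : ℕ∞) ≤ LocCoh.depth (X.presheaf.stalk x) (F.presheaf.stalk x) := by
  have hB : ∀ (V : X.Opens) (x : X), x ∈ V → ∃ W : X.Opens, IsAffineOpen W ∧ x ∈ W ∧ W ≤ V := by
    intro V x hx
    obtain ⟨_, ⟨W, hW, rfl⟩, hxW, hWV⟩ := X.isBasis_affineOpens.exists_subset_of_mem_open
      hx V.isOpen
    exact ⟨W, hW, hxW, hWV⟩
  rw [Groth.Agent.Lib.Helper5.SectSupp.isZero_HZsh_lt_iff_basis (X := X.carrier) U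
    (fun W : X.Opens => IsAffineOpen W) hB (Coh.toAb F) n]
  constructor
  · intro h x hx
    obtain ⟨W, hW, hxW, -⟩ := hB ⊤ x trivial
    exact (affine_iff F U hW n).1 (h W hW) x hxW hx
  · intro h W hW
    exact (affine_iff F U hW n).2 fun x _ hx => h x hx

end Groth.Agent.Lib.Helper5.HZDepth
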