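import Groth.Agent.Lib.Helper5.HZDepth
import Groth.Agent.Lib.Helper16.LocCohLocalVanish
import Groth.Agent.Lib.Helper16.LocCohGrothVanish

/-!
# Vanishing of local cohomology sheaves above the dimension of the local rings

On a locally Noetherian scheme, for a quasi-coherent module `F` and an open `U` with closed
complement `Y`: if `dim O_{X,x} < i` for all `x ∈ Y` then `ℋ^i_Y(F) = 0`.
-/

set_option autoImplicit false

universe u

open CategoryTheory CategoryTheory.Limits AlgebraicGeometry Opposite TopologicalSpace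
open Groth.Agent.Lib.Helper29.QCoh Groth.Agent.Lib.Helper10.Hartogs
open Groth.Agent.Lib.Helper10.HartogsConv

namespace Groth.Agent.Lib.Helper5.HZDim

variable {X : Scheme.{u}} [IsLocallyNoetherian X] (F : X.Modules) [F.IsQuasicoherent]
  (U : X.Opens)

theorem subsingleton_HZ_of_dim_lt {W : X.Opens} (hW : IsAffineOpen W) (i : ℕ)
    (hi : ∀ x : X, x ∉ (U : Set X) → ringKrullDim (X.presheaf.stalk x) < (i : WithBot ℕ∞)) :
    Subsingleton (LocCohZ.HZ (X := X.carrier) (Coh.toAb F) i (inf_le_left : W ⊓ U ≤ W)) := by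
  have : IsNoetherianRing Γ(X, W) := IsLocallyNoetherian.component_noetherian ⟨W, hW⟩
  obtain ⟨fs, hI, hcov⟩ := Groth.Agent.Lib.Helper5.HZDepth.exists_list_cover U hW
  obtain ⟨e⟩ := Groth.Agent.Lib.Helper5.HZAffineOpen.nonempty_extCechH_addEquiv_HZ W F hW U fs
    hcov i
  obtain ⟨e'⟩ := Groth.Agent.Lib.Helper5.ExtCechH0.nonempty_extCechH_iso_localCohomology fs
    (ModuleCat.of Γ(X, W) Γ(F, W)) i
  suffices h : Subsingleton (LocCoh.H (Ideal.span {x | x ∈ fs}) i Γ(F, W)) by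
    have h2 : Subsingleton (DerCA.extCechH fs (ModuleCat.of Γ(X, W) Γ(F, W)) (i : ℤ)) :=
      e'.toLinearEquiv.toEquiv.subsingleton_congr.2 h
    exact e.symm.toEquiv.subsingleton_congr.2 h2
  apply Groth.Agent.Lib.Helper16.LC.subsingleton_H_of_forall_prime
  intro p hp hIp
  obtain ⟨x, hxW, rfl⟩ := exists_point_primeIdealOf_eq hW p
  have hxU : x ∉ U := by
    intro hxU
    obtain ⟨f, hf, hxf⟩ := (hcov x).1 ⟨hxW, hxU⟩
    exact (mem_basicOpen_iff_notMem_primeIdealOf hW x hxW f).1 hxf (hIp (Ideal.subset_span hf))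
  have hdim : ringKrullDim (Localization.AtPrime (hW.primeIdealOf ⟨x, hxW⟩).asIdeal) <
      (i : WithBot ℕ∞) := by
    let _ : Algebra Γ(X, W) (X.presheaf.stalk x) :=
      TopCat.Presheaf.algebra_section_stalk X.presheaf ⟨x, hxW⟩
    have hloc : IsLocalization.AtPrime (X.presheaf.stalk x)
        (hW.primeIdealOf ⟨x, hxW⟩).asIdeal := hW.isLocalization_stalk ⟨x, hxW⟩
    have e := IsLocalization.algEquiv (hW.primeIdealOf ⟨x, hxW⟩).asIdeal.primeCompl
      (Localization.AtPrime (hW.primeIdealOf ⟨x, hxW⟩).asIdeal) (X.presheaf.stalk x)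
    rw [ringKrullDim_eq_of_ringEquiv e.toRingEquiv]
    exact hi x hxU
  have : IsNoetherianRing (Localization.AtPrime (hW.primeIdealOf ⟨x, hxW⟩).asIdeal) :=
    IsLocalization.isNoetherianRing (hW.primeIdealOf ⟨x, hxW⟩).asIdeal.primeCompl _ inferInstance
  exact Groth.Agent.Lib.Helper16.LC.subsingleton_H_of_supportDim_lt _ _ i
    ((Module.supportDim_le_ringKrullDim _ _).trans_lt hdim) i le_rfl

theorem isZero_HZsh_of_dim_lt (i : ℕ)
    (hi : ∀ x : X, x ∉ (U : Set X) → ringKrullDim (X.presheaf.stalk x) < (i : WithBot ℕ∞)) :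
    IsZero ((LocCohZ.HZsh (X := X.carrier) U i).obj (Coh.toAb F)) := by
  have hB : ∀ (V : X.Opens) (x : X), x ∈ V → ∃ W : X.Opens, IsAffineOpen W ∧ x ∈ W ∧ W ≤ V := by
    intro V x hx
    obtain ⟨_, ⟨W, hW, rfl⟩, hxW, hWV⟩ := X.isBasis_affineOpens.exists_subset_of_mem_open
      hx V.isOpen
    exact ⟨W, hW, hxW, hWV⟩
  exact Groth.Agent.Lib.Helper5.SectSupp.isZero_HZsh_of_basis (X := X.carrier) U
    (fun W : X.Opens => IsAffineOpen W) hB i (Coh.toAb F)
    (fun W hW => subsingleton_HZ_of_dim_lt F U hW i hi)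

end Groth.Agent.Lib.Helper5.HZDim
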