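import Groth.Agent.Lib.Helper5.ExtSuppSS2
import Groth.Agent.Lib.Helper5.FreeMono
import Groth.Agent.Lib.Helper5.Deg0

/-!
# Cohomology with supports does not depend on the ring:
`Ext^n_O(O/O_U, M) ≃ Ext^n_ℤ(ℤ/ℤ_U, M)`
-/

set_option autoImplicit false

universe u

open CategoryTheory Limits Opposite Abelian

namespace Groth.Agent.Lib.Helper5.HZLink

open Groth.Agent.Lib.Helper5.CechRes Groth.Agent.Lib.Helper22.ExtCompare

variable {C : Type u} [SmallCategory C] {J : GrothendieckTopology C}

section Sets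

/-- the canonical section of `eps J U` over `U` -/
noncomputable def γ (U : C) : (ToposFin.eps J U).obj.obj (op U) :=
  (toSheafify J (yoneda.obj U)).app (op U) (𝟙 U)

/-- the value of a map out of `eps J U` at the canonical section -/
noncomputable def val (U : C) {S : Sheaf J (Type u)} (φ : ToposFin.eps J U ⟶ S) :
    S.obj.obj (op U) :=
  φ.hom.app (op U) (γ U)

lemma val_eq (U : C) {S : Sheaf J (Type u)} (φ : ToposFin.eps J U ⟶ S) :
    val U φ = yonedaEquiv ((sheafificationAdjunction J (Type u)).homEquiv (yoneda.obj U) S φ) := by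
  rw [Adjunction.homEquiv_unit]
  rfl

lemma val_injective (U : C) (S : Sheaf J (Type u)) :
    Function.Injective (val U (J := J) (S := S)) := by
  intro φ φ' h
  rw [val_eq, val_eq] at h
  exact ((sheafificationAdjunction J (Type u)).homEquiv (yoneda.obj U) S).injective
    (yonedaEquiv.injective h)

noncomputable instance uniqueTop (V : Cᵒᵖ) : Unique ((⊤_ (Sheaf J (Type u))).obj.obj V) :=
  Types.isTerminalEquivUnique _
    (IsTerminal.isTerminalObj (sheafToPresheaf J (Type u) ⋙ (evaluation _ _).obj V) _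
      terminalIsTerminal)

/-- the map from the terminal sheaf given by a compatible family of sections -/
noncomputable def secMap (S : Sheaf J (Type u)) (s : ∀ V : Cᵒᵖ, S.obj.obj V)
    (hs : ∀ ⦃X Y : Cᵒᵖ⦄ (f : X ⟶ Y), S.obj.map f (s X) = s Y) : ⊤_ (Sheaf J (Type u)) ⟶ S :=
  ⟨{ app := fun V => ↾(fun _ => s V)
     naturality := fun X Y f => by
      ext x
      exact (hs f).symm }⟩

lemma secMap_app (S : Sheaf J (Type u)) (s : ∀ V : Cᵒᵖ, S.obj.obj V)
    (hs : ∀ ⦃X Y : Cᵒᵖ⦄ (f : X ⟶ Y), S.obj.map f (s X) = s Y) (V : Cᵒᵖ)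
    (x : (⊤_ (Sheaf J (Type u))).obj.obj V) : (secMap S s hs).hom.app V x = s V := rfl

lemma secMap_surj (S : Sheaf J (Type u)) (φ : ⊤_ (Sheaf J (Type u)) ⟶ S) :
    ∃ (s : ∀ V : Cᵒᵖ, S.obj.obj V) (hs : ∀ ⦃X Y : Cᵒᵖ⦄ (f : X ⟶ Y), S.obj.map f (s X) = s Y),
      secMap S s hs = φ := by
  refine ⟨fun V => φ.hom.app V default, fun X Y f => ?_, ?_⟩
  · have h := ConcreteCategory.congr_hom (φ.hom.naturality f) default
    refine h.symm.trans ?_
    change φ.hom.app Y _ = φ.hom.app Y default
    congr 1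
    exact Subsingleton.elim _ _
  · apply Sheaf.hom_ext
    ext V x
    change φ.hom.app V default = φ.hom.app V x
    congr 1
    exact Subsingleton.elim _ _

end Sets


section Mod

variable (O : Sheaf J CommRingCat.{u})

/-- the forgetful functor to abelian sheaves -/
noncomputable abbrev toAb : ModSite.Mod O ⥤ Sheaf J AddCommGrpCat.{u} :=
  SheafOfModules.toSheaf.{u} (ModSite.ringSh O)

variable {O}

/-- a global section of a module, as a map from the terminal sheaf of sets -/
noncomputable def secOf (G : ModSite.Mod O) (s : G.sections) :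
    ⊤_ (Sheaf J (Type u)) ⟶ (Uf J).obj ((toAb O).obj G) :=
  secMap _ (fun V => s.1 V) (fun _ _ f => s.2 f)

lemma secOf_bijective (G : ModSite.Mod O) : Function.Bijective (secOf G) := by
  constructor
  · intro s t h
    apply Subtype.ext
    funext V
    have h1 : (secOf G s).hom.app V default = (secOf G t).hom.app V default := by rw [h]
    exact h1
  · intro φ
    obtain ⟨s, hs, h⟩ := secMap_surj _ φ
    exact ⟨⟨s, fun f => hs f⟩, h⟩

lemma secOf_nat {M N : ModSite.Mod O} (p : M ⟶ N) (s : M.sections) :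
    secOf M s ≫ (Uf J).map ((toAb O).map p) = secOf N (SheafOfModules.sectionsMap p s) := by
  apply Sheaf.hom_ext
  ext V x
  rfl

variable (O)

/-- the unit section `ℤ[pt] ⟶ O` -/
noncomputable def ι₀ : (Φ J).obj (⊤_ (Sheaf J (Type u))) ⟶ (toAb O).obj (ModSite.unit O) :=
  ((adjΦ J).homEquiv _ _).symm (secOf (ModSite.unit O) ((ModSite.unit O).unitHomEquiv (𝟙 _)))

variable {O}

lemma key₀ {G : ModSite.Mod O} (g : ModSite.unit O ⟶ G) :
    ι₀ O ≫ (toAb O).map g = ((adjΦ J).homEquiv _ _).symm (secOf G (G.unitHomEquiv g)) := by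
  apply ((adjΦ J).homEquiv _ _).injective
  rw [Equiv.apply_symm_apply, Adjunction.homEquiv_naturality_right]
  unfold ι₀
  rw [Equiv.apply_symm_apply]
  refine (secOf_nat g _).trans ?_
  congr 1

lemma bij₀ (G : ModSite.Mod O) :
    Function.Bijective (fun g : ModSite.unit O ⟶ G => ι₀ O ≫ (toAb O).map g) := by
  have : (fun g : ModSite.unit O ⟶ G => ι₀ O ≫ (toAb O).map g) =
      ((adjΦ J).homEquiv _ _).symm ∘ (secOf G) ∘ G.unitHomEquiv := by
    funext g
    exact key₀ g
  rw [this]
  exact (Equiv.bijective _).comp ((secOf_bijective G).comp (Equiv.bijective _))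

end Mod


section Link

open Groth.Agent.Lib.Helper17.IHom Groth.Agent.Lib.Helper17.Tensor

variable {O : Sheaf J CommRingCat.{u}} (U : C)

lemma val_homEquiv_zero (F : Sheaf J AddCommGrpCat.{u}) :
    val U ((adjΦ J).homEquiv (ToposFin.eps J U) F 0) = (0 : (F.obj.obj (op U) : Type u)) := by
  rw [Adjunction.homEquiv_unit]
  rfl

lemma restr_map_eq_zero_of_sec {G : ModSite.Mod O} (g : ModSite.unit O ⟶ G)
    (h : g.val.app (op U) (1 : (ModSite.ringSh O).obj.obj (op U)) = 0) :
    (ModSite.restr O U).map g = 0 := by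
  have h1 : ∀ (V : C) (f : V ⟶ U),
      g.val.app (op V) (1 : (ModSite.ringSh O).obj.obj (op V)) = 0 := by
    intro V f
    have e := PresheafOfModules.naturality_apply g.val f.op
      (1 : (ModSite.ringSh O).obj.obj (op U))
    have e1 : (ModSite.unit O).val.map f.op (1 : (ModSite.ringSh O).obj.obj (op U)) =
        (1 : (ModSite.ringSh O).obj.obj (op V)) :=
      PresheafOfModules.unit_map_one (ModSite.ringSh O).obj f.op
    rw [e1] at e
    refine e.trans ?_
    rw [h]
    exact map_zero _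
  have h2 : ((ModSite.restr O U).obj G).unitHomEquiv
      ((ModSite.restr O U).map g : ModSite.unit (O.over U) ⟶ (ModSite.restr O U).obj G) =
      ((ModSite.restr O U).obj G).unitHomEquiv 0 := by
    apply Subtype.ext
    funext Y
    refine (h1 Y.unop.left Y.unop.hom).trans ?_
    rfl
  exact ((ModSite.restr O U).obj G).unitHomEquiv.injective h2

lemma sec_eq_zero_of_restr_map {G : ModSite.Mod O} (g : ModSite.unit O ⟶ G)
    (h : (ModSite.restr O U).map g = 0) :
    g.val.app (op U) (1 : (ModSite.ringSh O).obj.obj (op U)) = 0 :=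
  congrArg (fun ψ : (ModSite.restr O U).obj (ModSite.unit O) ⟶ (ModSite.restr O U).obj G =>
    ψ.val.app (op (Over.mk (𝟙 U))) (1 : (ModSite.ringSh O).obj.obj (op U))) h

variable (O)

/-- the map `ℤ[U] ⟶ ℤ[pt]` -/
noncomputable abbrev zt : (Φ J).obj (ToposFin.eps J U) ⟶ (Φ J).obj (⊤_ (Sheaf J (Type u))) :=
  (Φ J).map (terminal.from (ToposFin.eps J U))

variable {O} in
lemma key_iff {G : ModSite.Mod O} (g : ModSite.unit O ⟶ G) :
    zt (J := J) U ≫ ι₀ O ≫ (toAb O).map g = 0 ↔ (ModSite.restr O U).map g = 0 := by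
  rw [key₀, ← Adjunction.homEquiv_naturality_left_symm, Equiv.symm_apply_eq]
  constructor
  · intro h
    apply restr_map_eq_zero_of_sec U g
    have h1 := congrArg (val U) h
    rw [val_homEquiv_zero] at h1
    exact h1
  · intro h
    apply val_injective U
    rw [val_homEquiv_zero]
    exact sec_eq_zero_of_restr_map U g h

/-- the comparison `ℤ/ℤ_U ⟶ O/O_U` -/
noncomputable def ι' : ToposFin.quotZ (ToposFin.eps J U) ⟶
    (toAb O).obj ((ModSite.quotOn O U).obj (ModSite.unit O)) :=
  cokernel.desc (zt (J := J) U) (ι₀ O ≫ (toAb O).map (QS.π O U (ModSite.unit O)))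
    ((key_iff U _).2 ((QS.isNullOn_quotOn' O U _).eq_of_tgt _ _))

lemma π_ι' : cokernel.π (zt (J := J) U) ≫ ι' O U =
    ι₀ O ≫ (toAb O).map (QS.π O U (ModSite.unit O)) := cokernel.π_desc _ _ _

lemma bij' (G : ModSite.Mod O) :
    Function.Bijective (fun f : (ModSite.quotOn O U).obj (ModSite.unit O) ⟶ G =>
      ι' O U ≫ (toAb O).map f) := by
  constructor
  · intro f f' h
    have h1 : cokernel.π (zt (J := J) U) ≫ ι' O U ≫ (toAb O).map f =
        cokernel.π (zt (J := J) U) ≫ ι' O U ≫ (toAb O).map f' := congrArg _ h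
    rw [← Category.assoc, ← Category.assoc, π_ι', Category.assoc, Category.assoc,
      ← Functor.map_comp, ← Functor.map_comp] at h1
    exact QS.quot_hom_ext O U ((bij₀ G).1 h1)
  · intro h
    obtain ⟨g, hg⟩ := (bij₀ G).2 (cokernel.π (zt (J := J) U) ≫ h)
    have hg' : ι₀ O ≫ (toAb O).map g = cokernel.π (zt (J := J) U) ≫ h := hg
    have h0 : zt (J := J) U ≫ ι₀ O ≫ (toAb O).map g = 0 := by
      rw [hg', ← Category.assoc, cokernel.condition, zero_comp]
    have hr : (ModSite.restr O U).map g = 0 := (key_iff U g).1 h0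
    refine ⟨QS.descQ O U g hr, ?_⟩
    change ι' O U ≫ (toAb O).map (QS.descQ O U g hr) = h
    rw [← cancel_epi (cokernel.π (zt (J := J) U)), ← Category.assoc, π_ι', Category.assoc,
      ← Functor.map_comp, QS.π_descQ, hg']

variable [HasExt.{u} (ModSite.Mod O)]

/-- **Cohomology with supports does not depend on the ring.** -/
theorem nonempty_ext_quot_addEquiv_HZ (M : ModSite.Mod O) (n : ℕ) :
    Nonempty (Ext ((ModSite.quotOn O U).obj (ModSite.unit O)) M n ≃+ ModSite.HZ U M n) := by
  haveI : EnoughInjectives (ModSite.Mod O) := Groth.Agent.S0485.result J (ModSite.ringSh O)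
  haveI := Groth.Agent.Lib.Helper17.ModSiteExact.toSheaf_preservesFiniteColimits (ModSite.ringSh O)
  exact nonempty_ext_addEquiv (Deg0.deg0OfBij (toAb O) (ι' O U) (bij' O U)) (fun _ => True)
    (fun F _ => (injSC_shortExact F).map_of_exact (toAb O)) (fun _ _ => trivial)
    (fun F _ n x => FreeMono.ext_cokernel_eq_zero _
      (ModAcyclic.isTotallyAcyclic_toSheaf _ (injSC F).X₂) (terminal.from _) n x) n M trivial

omit [HasExt.{u} (ModSite.Mod O)] in
/-- totally acyclic sheaves have no higher cohomology with supports -/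
lemma subsingleton_HZ_succ (M : ModSite.Mod O) (hM : CohCx.IsTotallyAcyclic (ModSite.toAb M))
    (n : ℕ) : Subsingleton (ModSite.HZ U M (n + 1)) :=
  ⟨fun x y => (FreeMono.ext_cokernel_eq_zero _ hM (terminal.from (ToposFin.eps J U)) n x).trans
    (FreeMono.ext_cokernel_eq_zero _ hM (terminal.from (ToposFin.eps J U)) n y).symm⟩

end Link

end Groth.Agent.Lib.Helper5.HZLink
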