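import Groth.Prelude.Def_SuppFam
import Groth.Agent.Lib.Helper5.SectSuppDim
import Groth.Agent.Lib.Helper22.SheafExact
import Groth.Agent.Lib.Helper22.DimShiftIso
import Groth.Agent.Lib.Helper22.CohTop.Pushforward
import Groth.Agent.Lib.Helper22.CohTop.Restrict

/-!
# The local cohomology sheaves for a locally closed subset are the sheafified presheaves of
cohomology with supports

For opens `W ≤ V` of `X` (`Z = V ∖ W`) and an abelian sheaf `F`:
`R^q(sectSuppLC h)(F) ≅ sheafify (V' ↦ H^q_{Z ∩ V'}(V ∩ V', F))`.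
-/

set_option autoImplicit false

universe u

open CategoryTheory CategoryTheory.Limits Opposite TopologicalSpace Abelian

noncomputable section

namespace Groth.Agent.Lib.Helper5.HZpreSheaf

open Groth.Agent.Lib.Helper5.SectSupp Groth.Agent.Lib.Helper22.CohTop

variable {X : TopCat.{u}} {W V : Opens X} (h : W ≤ V)

/-! ### postcomposition as a map of presheaves -/

/-- postcomposition by an Ext class as a morphism of presheaves -/
def post {F G : CohTop.Ab X} {k : ℕ} (α : Ext F G k) (i j : ℕ) (hij : i + k = j) :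
    SuppFam.HZpre F i h ⟶ SuppFam.HZpre G j h where
  app V' := AddCommGrpCat.ofHom (α.postcomp _ hij)
  naturality V' V'' g := by
    ext x
    exact Ext.comp_assoc (Ext.mk₀ _) x α (zero_add i) hij (by omega)

lemma post_app_apply {F G : CohTop.Ab X} {k : ℕ} (α : Ext F G k) (i j : ℕ) (hij : i + k = j)
    (V' : (Opens X)ᵒᵖ) (x : LocCohZ.HZ F i (inf_le_inf_right (unop V') h)) :
    ((post h α i j hij).app V').hom x = x.comp α hij := rfl

variable {S : ShortComplex (CohTop.Ab X)} (hS : S.ShortExact)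

lemma δ_bijective [Injective S.X₂] (A : CohTop.Ab X) (q : ℕ) :
    Function.Bijective (hS.extClass.postcomp A (rfl : (q + 1) + 1 = q + 2)) := by
  constructor
  · rw [injective_iff_map_eq_zero]
    intro x hx
    obtain ⟨x₂, rfl⟩ := Ext.covariant_sequence_exact₃ A hS x rfl hx
    have h0 : x₂ = 0 := Ext.eq_zero_of_injective x₂
    rw [h0, Ext.zero_comp]
  · intro x₁
    have h0 : x₁.comp (Ext.mk₀ S.f) (add_zero _) = 0 := Ext.eq_zero_of_injective _
    exact Ext.covariant_sequence_exact₁ A hS x₁ h0 rfl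

lemma δ_surjective_zero [Injective S.X₂] (A : CohTop.Ab X) :
    Function.Surjective (hS.extClass.postcomp A (rfl : 0 + 1 = 1)) := by
  intro x₁
  have h0 : x₁.comp (Ext.mk₀ S.f) (add_zero _) = 0 := Ext.eq_zero_of_injective _
  exact Ext.covariant_sequence_exact₁ A hS x₁ h0 rfl

lemma isIso_post_δ [Injective S.X₂] (q : ℕ) :
    IsIso (post h hS.extClass (q + 1) (q + 2) rfl) := by
  haveI : ∀ V', IsIso ((post h hS.extClass (q + 1) (q + 2) rfl).app V') := fun V' => by
    rw [ConcreteCategory.isIso_iff_bijective]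
    exact δ_bijective hS _ q
  exact NatIso.isIso_of_isIso_app _

/-- the short complex of presheaves `HZpre I 0 → HZpre Q 0 → HZpre F 1` -/
def sc0 : ShortComplex ((Opens X)ᵒᵖ ⥤ AddCommGrpCat.{u}) :=
  ShortComplex.mk (post h (Ext.mk₀ S.g) 0 0 rfl) (post h hS.extClass 0 1 rfl) (by
    ext V' x
    change (x.comp (Ext.mk₀ S.g) (add_zero 0)).comp hS.extClass (zero_add 1) = 0
    rw [Ext.comp_assoc_of_second_deg_zero, hS.comp_extClass, Ext.comp_zero])

lemma sc0_exact : (sc0 h hS).Exact := by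
  apply Groth.Agent.Lib.Helper22.SheafExact.exact_of_evaluation
  intro V'
  rw [ShortComplex.ab_exact_iff]
  intro x hx
  obtain ⟨x₂, hx₂⟩ := Ext.covariant_sequence_exact₃ _ hS x rfl hx
  exact ⟨x₂, hx₂⟩

instance epi_post_δ_zero [Injective S.X₂] : Epi (post h hS.extClass 0 1 rfl) := by
  haveI : ∀ V', Epi ((post h hS.extClass 0 1 rfl).app V') := fun V' => by
    rw [AddCommGrpCat.epi_iff_surjective]
    exact δ_surjective_zero hS _
  exact NatTrans.epi_of_epi_app _

/-- sheafification -/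
abbrev L : ((Opens X)ᵒᵖ ⥤ AddCommGrpCat.{u}) ⥤ CohTop.Ab X :=
  presheafToSheaf (Opens.grothendieckTopology X) AddCommGrpCat.{u}

/-- `T^1(F) ≅ coker (T^0(I) → T^0(Q))` -/
def T1Iso [Injective S.X₂] :
    (L (X := X)).obj (SuppFam.HZpre S.X₁ 1 h) ≅
      cokernel ((L (X := X)).map (post h (Ext.mk₀ S.g) 0 0 rfl)) := by
  have hex : ((sc0 h hS).map (L (X := X))).Exact := (sc0_exact h hS).map (L (X := X))
  haveI : Epi ((sc0 h hS).map (L (X := X))).g :=
    inferInstanceAs (Epi ((L (X := X)).map (post h hS.extClass 0 1 rfl)))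
  exact (hex.gIsCokernel).coconePointUniqueUpToIso (colimit.isColimit _)

/-! ### degree zero -/

section deg0

lemma addEquiv₀_mk₀_comp {A B F : CohTop.Ab X} (z : A ⟶ B) (x : Ext B F 0) :
    Ext.addEquiv₀ ((Ext.mk₀ z).comp x (zero_add 0)) = z ≫ Ext.addEquiv₀ x := by
  apply Ext.addEquiv₀.symm.injective
  rw [AddEquiv.symm_apply_apply, Ext.addEquiv₀_symm_apply, ← Ext.mk₀_comp_mk₀,
    Ext.mk₀_addEquiv₀_apply]

lemma sect0Equiv_resZ (F : CohTop.Ab X) {W₁ V₁ W₂ V₂ : Opens X} (h₁ : W₁ ≤ V₁) (h₂ : W₂ ≤ V₂)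
    (hW : W₂ ≤ W₁) (hV : V₂ ≤ V₁) (x : LocCohZ.HZ F 0 h₁) :
    (LocCohZ.sect0Equiv F h₂ (LocCohZ.resZ F 0 h₁ h₂ hW hV x)).1 =
      res F hV (LocCohZ.sect0Equiv F h₁ x).1 := by
  rw [sect0Equiv_apply, sect0Equiv_apply]
  change CohFree.evalGen _ V₂ F (cokernel.π _ ≫
    Ext.addEquiv₀ ((Ext.mk₀ (LocCohZ.zqMap h₁ h₂ hW hV)).comp x (zero_add 0))) = _
  rw [addEquiv₀_mk₀_comp]
  have hπ : cokernel.π (CohCx.freeSheafMap (Opens.grothendieckTopology X) (homOfLE h₂)) ≫
      LocCohZ.zqMap h₁ h₂ hW hV =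
      CohCx.freeSheafMap (Opens.grothendieckTopology X) (homOfLE hV) ≫
        cokernel.π (CohCx.freeSheafMap (Opens.grothendieckTopology X) (homOfLE h₁)) := by
    unfold LocCohZ.zqMap
    exact cokernel.π_desc _ _ _
  rw [← Category.assoc, hπ, Category.assoc, CohFree.evalGen_freeSheafMap_comp]

variable (F : CohTop.Ab X)

/-- the sheaf `Γ_Z(F|_V)` on `V` -/
abbrev GV : CohTop.Ab (TopCat.of V) :=
  (LocCohZ.sectSuppF (SuppFam.inOpen V W)).obj (CohTop.restr F V)

/-- the open `V' ∩ V` of `V` -/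
abbrev Vb (V' : Opens X) : Opens (TopCat.of V) := (Opens.map (CohCx.incl V)).obj V'

lemma le_img (V' : Opens X) : V ⊓ V' ≤ (ιU V).obj (Vb (V := V) V') := by
  rintro x ⟨hxV, hxV'⟩
  exact ⟨⟨x, hxV⟩, hxV', rfl⟩

lemma img_le (V' : Opens X) : (ιU V).obj (Vb (V := V) V') ≤ V ⊓ V' := by
  rintro _ ⟨y, hy, rfl⟩
  exact ⟨y.2, hy⟩

include h in
lemma le_img_inf (V' : Opens X) :
    W ⊓ V' ≤ (ιU V).obj (Vb (V := V) V' ⊓ SuppFam.inOpen V W) := by
  rintro x ⟨hxW, hxV'⟩
  exact ⟨⟨x, h hxW⟩, ⟨hxV', hxW⟩, rfl⟩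

lemma img_inf_le (V' : Opens X) :
    (ιU V).obj (Vb (V := V) V' ⊓ SuppFam.inOpen V W) ≤ W ⊓ V' := by
  rintro _ ⟨y, ⟨hy1, hy2⟩, rfl⟩
  exact ⟨hy2, hy1⟩

/-- the underlying section over `V ∩ V'` of a section of `Γ_Z(F|_V)` over `V' ∩ V` -/
def κfun (V' : Opens X) : (GV (W := W) (V := V) F).obj.obj (op (Vb V')) →+ F.obj.obj (op (V ⊓ V')) :=
  (res F (le_img V')).comp
    ((ι (SuppFam.inOpen V W) (CohTop.restr F V)).hom.app (op (Vb V'))).hom

include h in
lemma κfun_mem (V' : Opens X) (t : (GV (W := W) (V := V) F).obj.obj (op (Vb V'))) :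
    κfun F V' t ∈ LocCohZ.sectZ F (inf_le_inf_right V' h) := by
  rw [AddMonoidHom.mem_ker]
  have h1 := res_ι_apply (SuppFam.inOpen V W) (CohTop.restr F V) (Vb V') t
  have h2 : res F ((ιU V).monotone (inf_le_left : Vb (V := V) V' ⊓ SuppFam.inOpen V W ≤ Vb V'))
      (((ι (SuppFam.inOpen V W) (CohTop.restr F V)).hom.app (op (Vb V'))).hom t) = 0 := h1
  change res F (inf_le_inf_right V' h) (res F (le_img V') _) = 0
  rw [res_res]
  have h3 := res_res F ((ιU V).monotone
    (inf_le_left : Vb (V := V) V' ⊓ SuppFam.inOpen V W ≤ Vb V')) (le_img_inf h V')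
    (((ι (SuppFam.inOpen V W) (CohTop.restr F V)).hom.app (op (Vb V'))).hom t)
  rw [h2, map_zero] at h3
  exact h3.symm

/-- the comparison map on sections -/
def κhom (V' : Opens X) : (GV (W := W) (V := V) F).obj.obj (op (Vb V')) →+
    LocCohZ.HZ F 0 (inf_le_inf_right V' h) :=
  (LocCohZ.sect0Equiv F (inf_le_inf_right V' h)).symm.toAddMonoidHom.comp
    ((κfun F V').codRestrict _ (κfun_mem h F V'))

lemma sect0Equiv_κhom (V' : Opens X) (t : (GV (W := W) (V := V) F).obj.obj (op (Vb V'))) :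
    (LocCohZ.sect0Equiv F (inf_le_inf_right V' h) (κhom h F V' t)).1 = κfun F V' t := by
  change (LocCohZ.sect0Equiv F _ ((LocCohZ.sect0Equiv F _).symm _)).1 = _
  rw [AddEquiv.apply_symm_apply]
  rfl

lemma κhom_bijective (V' : Opens X) : Function.Bijective (κhom h F V') := by
  constructor
  · rw [injective_iff_map_eq_zero]
    intro t ht
    have h1 : κfun F V' t = 0 := by
      rw [← sect0Equiv_κhom h F V' t, ht, map_zero]
      rfl
    apply ι_app_injective (SuppFam.inOpen V W) (CohTop.restr F V) (Vb V')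
    rw [map_zero]
    have h2 := res_res F (le_img (V := V) V') (img_le (V := V) V')
      (((ι (SuppFam.inOpen V W) (CohTop.restr F V)).hom.app (op (Vb V'))).hom t)
    have h3 : res F (le_img (V := V) V')
      (((ι (SuppFam.inOpen V W) (CohTop.restr F V)).hom.app (op (Vb V'))).hom t) = 0 := h1
    rw [h3, map_zero] at h2
    have h4 : res F (le_refl ((ιU V).obj (Vb (V := V) V')))
        (((ι (SuppFam.inOpen V W) (CohTop.restr F V)).hom.app (op (Vb V'))).hom t) =
        ((ι (SuppFam.inOpen V W) (CohTop.restr F V)).hom.app (op (Vb V'))).hom t :=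
      ConcreteCategory.congr_hom (F.obj.map_id (op ((ιU V).obj (Vb V')))) _
    exact h4.symm.trans h2.symm
  · intro y
    set s := LocCohZ.sect0Equiv F (inf_le_inf_right V' h) y with hs
    have hs0 : res F (inf_le_inf_right V' h) s.1 = 0 := s.2
    have h0 : ((CohTop.restr F V).obj.map (homOfLE
        (inf_le_left : Vb (V := V) V' ⊓ SuppFam.inOpen V W ≤ Vb V')).op).hom
        (res F (img_le (V := V) V') s.1) = 0 := by
      change res F ((ιU V).monotone
        (inf_le_left : Vb (V := V) V' ⊓ SuppFam.inOpen V W ≤ Vb V'))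
        (res F (img_le (V := V) V') s.1) = 0
      rw [res_res]
      have h3 := res_res F (inf_le_inf_right V' h) (img_inf_le (W := W) (V := V) V') s.1
      rw [hs0, map_zero] at h3
      exact h3.symm
    obtain ⟨t, ht⟩ := exists_of_res_eq_zero (SuppFam.inOpen V W) (CohTop.restr F V) (Vb V')
      (res F (img_le (V := V) V') s.1) h0
    refine ⟨t, ?_⟩
    apply (LocCohZ.sect0Equiv F (inf_le_inf_right V' h)).injective
    apply Subtype.ext
    rw [sect0Equiv_κhom]
    have e1 : res F (le_img (V := V) V')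
        (((ι (SuppFam.inOpen V W) (CohTop.restr F V)).hom.app (op (Vb V'))).hom t) =
        res F (le_img (V := V) V') (res F (img_le (V := V) V') s.1) :=
      congrArg (fun z => res F (le_img (V := V) V') z) ht
    refine e1.trans ?_
    rw [res_res]
    exact ConcreteCategory.congr_hom (F.obj.map_id (op (V ⊓ V'))) s.1

/-- the comparison of presheaves `Γ_Z(F) ⟶ H^0_{Z ∩ -}` -/
def κ : ((SuppFam.sectSuppLC h).obj F).obj ⟶ SuppFam.HZpre F 0 h where
  app V' := AddCommGrpCat.ofHom (κhom h F (unop V'))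
  naturality V' V'' g := by
    ext t
    apply (LocCohZ.sect0Equiv F (inf_le_inf_right (unop V'') h)).injective
    apply Subtype.ext
    change (LocCohZ.sect0Equiv F _ (κhom h F (unop V'')
      (((GV (W := W) (V := V) F).obj.map ((Opens.map (CohCx.incl V)).map g.unop).op).hom t))).1 =
      (LocCohZ.sect0Equiv F _ (LocCohZ.resZ F 0 _ _ _ _ (κhom h F (unop V') t))).1
    rw [sect0Equiv_resZ, sect0Equiv_κhom, sect0Equiv_κhom]
    change res F (le_img (unop V'')) (((ι (SuppFam.inOpen V W) (CohTop.restr F V)).hom.app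
      (op (Vb (unop V'')))).hom (res (GV (W := W) (V := V) F)
        (leOfHom ((Opens.map (CohCx.incl V)).map g.unop)) t)) =
      res F _ (res F (le_img (unop V')) _)
    rw [app_res, res_res]
    change res F (le_img (unop V'')) (res F ((ιU V).monotone
      (leOfHom ((Opens.map (CohCx.incl V)).map g.unop))) _) = _
    rw [res_res]
    rfl

lemma isIso_κ : IsIso (κ h F) := by
  haveI : ∀ V', IsIso ((κ h F).app V') := fun V' => by
    rw [ConcreteCategory.isIso_iff_bijective]
    exact κhom_bijective h F (unop V')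
  exact NatIso.isIso_of_isIso_app _

lemma κ_naturality {F F' : CohTop.Ab X} (φ : F ⟶ F') :
    ((SuppFam.sectSuppLC h).map φ).hom ≫ κ h F' =
      κ h F ≫ post h (Ext.mk₀ φ) 0 0 rfl := by
  ext V' t
  apply (LocCohZ.sect0Equiv F' (inf_le_inf_right (unop V') h)).injective
  apply Subtype.ext
  change (LocCohZ.sect0Equiv F' _ (κhom h F' (unop V')
    ((((LocCohZ.sectSuppF (SuppFam.inOpen V W)).map ((CohTop.restrFunctor V).map φ)).hom.app
      (op (Vb (unop V')))).hom t))).1 =
    (LocCohZ.sect0Equiv F' _ ((κhom h F (unop V') t).comp (Ext.mk₀ φ) (add_zero 0))).1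
  rw [sect0Equiv_comp_mk₀, sect0Equiv_κhom, sect0Equiv_κhom]
  change res F' (le_img (unop V')) (((ι (SuppFam.inOpen V W) (CohTop.restr F' V)).hom.app
    (op (Vb (unop V')))).hom _) = (φ.hom.app _).hom (res F (le_img (unop V')) _)
  rw [sectSuppF_map_ι_apply]
  exact (app_res φ (le_img (V := V) (unop V')) _).symm

/-- `Γ_Z(F) ≅ T^0(F)` -/
def θ : (SuppFam.sectSuppLC h).obj F ≅ (L (X := X)).obj (SuppFam.HZpre F 0 h) :=
  haveI := isIso_κ h F
  (asIso ((sheafificationAdjunction (Opens.grothendieckTopology X) AddCommGrpCat.{u}).counit.app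
    ((SuppFam.sectSuppLC h).obj F))).symm ≪≫ (L (X := X)).mapIso (asIso (κ h F))

lemma θ_naturality {F F' : CohTop.Ab X} (φ : F ⟶ F') :
    (SuppFam.sectSuppLC h).map φ ≫ (θ h F').hom =
      (θ h F).hom ≫ (L (X := X)).map (post h (Ext.mk₀ φ) 0 0 rfl) := by
  haveI := isIso_κ h F
  haveI := isIso_κ h F'
  have hc := (sheafificationAdjunction (Opens.grothendieckTopology X)
    AddCommGrpCat.{u}).counit.naturality ((SuppFam.sectSuppLC h).map φ)
  simp only [Functor.comp_obj, Functor.id_obj, Functor.comp_map, Functor.id_map] at hc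
  change _ ≫ (inv ((sheafificationAdjunction (Opens.grothendieckTopology X)
      AddCommGrpCat.{u}).counit.app ((SuppFam.sectSuppLC h).obj F')) ≫
      (L (X := X)).map (κ h F')) =
    (inv ((sheafificationAdjunction (Opens.grothendieckTopology X)
      AddCommGrpCat.{u}).counit.app ((SuppFam.sectSuppLC h).obj F)) ≫
      (L (X := X)).map (κ h F)) ≫ _
  rw [Category.assoc, ← Functor.map_comp, ← κ_naturality, Functor.map_comp, ← Category.assoc,
    ← Category.assoc]
  congr 1
  have hc' : (L (X := X)).map ((SuppFam.sectSuppLC h).map φ).hom ≫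
      (sheafificationAdjunction (Opens.grothendieckTopology X)
        AddCommGrpCat.{u}).counit.app ((SuppFam.sectSuppLC h).obj F') =
      (sheafificationAdjunction (Opens.grothendieckTopology X)
        AddCommGrpCat.{u}).counit.app ((SuppFam.sectSuppLC h).obj F) ≫
        (SuppFam.sectSuppLC h).map φ := hc
  rw [IsIso.comp_inv_eq, Category.assoc, hc', IsIso.inv_hom_id_assoc]

end deg0

/-! ### the main theorem -/

instance preservesFiniteLimits_sectSuppLC : PreservesFiniteLimits (SuppFam.sectSuppLC h) := by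
  unfold SuppFam.sectSuppLC
  haveI h1 : PreservesFiniteLimits (CohTop.restrFunctor V) := inferInstance
  haveI h2 : PreservesFiniteLimits
      (LocCohZ.sectSuppF (X := TopCat.of V) (SuppFam.inOpen V W)) :=
    preservesFiniteLimits_sectSuppF _
  haveI h3 : PreservesFiniteLimits (CohTop.push (CohCx.incl V)) := by
    have h' : PreservesLimitsOfSize.{0, 0} (CohTop.push (CohCx.incl V)) :=
      (TopCat.Sheaf.pullbackPushforwardAdjunction AddCommGrpCat.{u}
        (CohCx.incl V)).rightAdjoint_preservesLimits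
    exact PreservesLimitsOfSize.preservesFiniteLimits _
  haveI h23 : PreservesFiniteLimits
      (LocCohZ.sectSuppF (X := TopCat.of V) (SuppFam.inOpen V W) ⋙ CohTop.push (CohCx.incl V)) :=
    comp_preservesFiniteLimits _ _
  exact comp_preservesFiniteLimits _ _


theorem nonempty_iso_succ (q : ℕ) : ∀ F : CohTop.Ab X,
    Nonempty ((SuppFam.HZshLC h (q + 1)).obj F ≅
      (L (X := X)).obj (SuppFam.HZpre F (q + 1) h)) := by
  induction q with
  | zero =>
    intro F
    have hS := Groth.Agent.Lib.Helper22.DimShift.injSC_shortExact F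
    have e1 : (SuppFam.HZshLC h 1).obj F ≅ cokernel ((SuppFam.sectSuppLC h).map (Groth.Agent.Lib.Helper22.DimShift.injSC F).g) :=
      Groth.Agent.Lib.Helper22.DimShift.rightDerivedOneIso (SuppFam.sectSuppLC h) (Groth.Agent.Lib.Helper22.DimShift.injSC F) hS
    have e2 : cokernel ((SuppFam.sectSuppLC h).map (Groth.Agent.Lib.Helper22.DimShift.injSC F).g) ≅
        cokernel ((L (X := X)).map (post h (Ext.mk₀ (Groth.Agent.Lib.Helper22.DimShift.injSC F).g) 0 0 rfl)) :=
      cokernel.mapIso _ _ (θ h (Groth.Agent.Lib.Helper22.DimShift.injSC F).X₂) (θ h (Groth.Agent.Lib.Helper22.DimShift.injSC F).X₃) (θ_naturality h (Groth.Agent.Lib.Helper22.DimShift.injSC F).g)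
    exact ⟨e1 ≪≫ e2 ≪≫ (T1Iso h hS).symm⟩
  | succ q ih =>
    intro F
    have hS := Groth.Agent.Lib.Helper22.DimShift.injSC_shortExact F
    have e1 : (SuppFam.HZshLC h (q + 2)).obj F ≅ (SuppFam.HZshLC h (q + 1)).obj (Groth.Agent.Lib.Helper22.DimShift.injSC F).X₃ :=
      Groth.Agent.Lib.Helper22.DimShift.rightDerivedSuccSuccIso (SuppFam.sectSuppLC h) (Groth.Agent.Lib.Helper22.DimShift.injSC F) hS q
    obtain ⟨e2⟩ := ih (Groth.Agent.Lib.Helper22.DimShift.injSC F).X₃
    haveI := isIso_post_δ h hS q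
    exact ⟨e1 ≪≫ e2 ≪≫ (L (X := X)).mapIso (asIso (post h hS.extClass (q + 1) (q + 2) rfl))⟩

theorem nonempty_iso (q : ℕ) (F : CohTop.Ab X) :
    Nonempty ((SuppFam.HZshLC h q).obj F ≅
      (presheafToSheaf (Opens.grothendieckTopology X) AddCommGrpCat.{u}).obj
        (SuppFam.HZpre F q h)) := by
  cases q with
  | zero =>
    exact ⟨((SuppFam.sectSuppLC h).rightDerivedZeroIsoSelf).app F ≪≫ θ h F⟩
  | succ q => exact nonempty_iso_succ h q F

end Groth.Agent.Lib.Helper5.HZpreSheaf
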