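import Groth.Agent.S8347
import Groth.Agent.Lib.Helper5.SpSeqOneCol

/-!
# A spectral sequence with a single nonzero term in ONE total degree

The version of S8347 where the vanishing hypothesis is only required in the total degree `n`
under consideration.
-/

set_option autoImplicit false
universe v u
open CategoryTheory CategoryTheory.Limits
open SpSeq

namespace Groth.Agent.Lib.Helper5.SpSeqStat

theorem corner {C : Type u} [Category.{v} C] [Abelian C] {r₀ : ℤ}
    (E : CohomologicalSpectralSequence C r₀) {H : ℤ → C} (a : SpSeq.Abutment E H)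
    (r : ℤ) (hr : r₀ ≤ r) (n q₀ : ℤ)
    (hdeg : ∀ q' : ℤ, q' ≠ q₀ → IsZero ((E.page r hr).X (n - q', q')))
    (hdisc : (a.filObj n).IsDiscrete) (hexh : a.IsExhaustive n)
    (hst : SpSeq.StationaryAt E (n - q₀, q₀) r) :
    Nonempty (H n ≅ (E.page r hr).X (n - q₀, q₀)) := by
  classical
  obtain ⟨p₀, hp₀⟩ : ∃ p₀, p₀ = n - q₀ := ⟨_, rfl⟩
  have hq : q₀ = n - p₀ := by lia
  -- graded pieces vanish away from `p₀`
  have hgr : ∀ p : ℤ, p ≠ p₀ → IsZero (SpSeq.grPiece (a.fil n) (a.anti n) p) := by
    intro p hp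
    obtain ⟨e⟩ := Groth.Agent.S8347.nonempty_beta a n p
    refine IsZero.of_iso ?_ e.symm
    have h1 : IsZero ((E.page r hr).X (p, n - p)) := by
      have h2 := hdeg (n - p) (by lia)
      have h3 : (n - (n - p), n - p) = (p, n - p) := Prod.ext (by simp) rfl
      rwa [h3] at h2
    rcases le_total r (a.rk (p, n - p)) with hle | hle
    · exact isZero_page_of_le E r hr _ h1 _ hle
    · obtain ⟨e'⟩ := nonempty_pageIso_of_stationary E
        (p, n - p) _ (a.stat (p, n - p)) r hle
      exact h1.of_iso e'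
  have hstep : ∀ p : ℤ, p ≠ p₀ → a.fil n (p + 1) = a.fil n p := fun p hp =>
    fil_succ_eq_of_isZero_gr _ _ _ (hgr p hp)
  -- the filtration vanishes above `p₀`
  have hbot : a.fil n (p₀ + 1) = ⊥ := by
    obtain ⟨b, hb⟩ := hdisc
    change a.fil n b = ⊥ at hb
    rcases le_total b (p₀ + 1) with hle | hle
    · exact le_bot_iff.mp (hb ▸ a.anti n hle)
    · have key : ∀ k : ℤ, k ≤ b → p₀ + 1 ≤ k → a.fil n k = ⊥ := by
        intro k hk
        induction k, hk using Int.leInductionDown with
        | base => exact fun _ => hb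
        | pred k hk ih =>
          intro hk'
          have h1 := hstep (k - 1) (by lia)
          rw [sub_add_cancel] at h1
          rw [← h1]
          exact ih (by lia)
      exact key _ hle le_rfl
  -- and is everything from `p₀` down
  have htop : a.fil n p₀ = ⊤ := by
    have key : ∀ k : ℤ, k ≤ p₀ → a.fil n k = a.fil n p₀ := by
      intro k hk
      induction k, hk using Int.leInductionDown with
      | base => rfl
      | pred k hk ih =>
        have h1 := hstep (k - 1) (by lia)
        rw [sub_add_cancel] at h1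
        rw [← h1]
        exact ih
    refine top_le_iff.mp (hexh.2 ?_)
    rintro _ ⟨k, rfl⟩
    change a.fil n k ≤ a.fil n p₀
    rcases le_total k p₀ with hle | hle
    · exact (key k hle).le
    · exact a.anti n hle
  have e1 : SpSeq.grPiece (a.fil n) (a.anti n) p₀ ≅ H n :=
    subquotTopBotIso _ _ _ htop hbot
  obtain ⟨e2⟩ := Groth.Agent.S8347.nonempty_beta a n p₀
  have hpq : (n - q₀, q₀) = (p₀, n - p₀) := Prod.ext hp₀.symm hq
  have hst' : SpSeq.StationaryAt E (p₀, n - p₀) r := by
    have := hst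
    rwa [hpq] at this
  obtain ⟨e3⟩ := nonempty_pageIso_of_stationary' E
    (p₀, n - p₀) r _ hst' (a.stat (p₀, n - p₀))
  have e4 : (E.page r hr).X (n - q₀, q₀) ≅ (E.page r hst'.1).X (p₀, n - p₀) :=
    eqToIso (by rw [hpq])
  exact ⟨e1.symm ≪≫ e2.symm ≪≫ e3.symm ≪≫ e4.symm⟩

end Groth.Agent.Lib.Helper5.SpSeqStat
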