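import Groth.Agent.S6029
import Groth.Agent.Lib.Helper5.SpSeqCorner
import Groth.Agent.Lib.Helper5.HZKoszul

/-!
# The corner of the local-to-global spectral sequence for cohomology with supports

If `ℋ^i_Z(F) = 0` for `i < d` then `Γ(X, ℋ^d_Z(F)) ≅ H^d_Z(X, F)`.
-/

set_option autoImplicit false
universe u
open CategoryTheory CategoryTheory.Limits TopologicalSpace Opposite Abelian

namespace Groth.Agent.Lib.Helper5.HZshCorner

open Groth.Agent.Lib.Helper5.SpSeqStat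

variable {X : TopCat.{u}}

lemma subsingleton_ext_of_isZero {P G : CohTop.Ab X} (hG : IsZero G) (n : ℕ) :
    Subsingleton (Ext P G n) := by
  refine subsingleton_of_forall_eq 0 fun x => ?_
  rw [← Ext.comp_mk₀_id x, hG.eq_of_src (𝟙 G) 0, Ext.mk₀_zero, Ext.comp_zero]

theorem nonempty_sections_HZsh_addEquiv_HZc (F : CohTop.Ab X) (U : Opens X) (d : ℕ)
    (hvan : ∀ i : ℕ, i < d → IsZero ((LocCohZ.HZsh U i).obj F)) :
    Nonempty (((LocCohZ.HZsh U d).obj F).obj.obj (op ⊤) ≃+ LocCohZ.HZc F d U) := by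
  obtain ⟨E, a, hfin, -, hE2⟩ := Groth.Agent.S6029.result F U
  have hz : ∀ pq : ℤ × ℤ, (pq.1 < 0 ∨ pq.2 < d) → IsZero ((E.page 2 le_rfl).X pq) := by
    rintro ⟨p, q⟩ hpq
    obtain ⟨e⟩ := hE2 p q
    refine IsZero.of_iso ?_ e
    split_ifs with h
    · have hq : q.toNat < d := by
        have : q < d := by
          rcases hpq with h' | h'
          · exact absurd h.1 (not_le.2 h')
          · exact h'
        omega
      have : Subsingleton (CohTop.HU ((LocCohZ.HZsh U q.toNat).obj F) p.toNat ⊤) :=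
        subsingleton_ext_of_isZero (hvan q.toNat hq) p.toNat
      exact AddCommGrpCat.isZero_of_subsingleton _
    · exact AddCommGrpCat.isZero_of_subsingleton _
  have hz' : ∀ (r : ℤ) (hr : 2 ≤ r) (pq : ℤ × ℤ), (pq.1 < 0 ∨ pq.2 < d) →
      IsZero ((E.page r hr).X pq) :=
    fun r hr pq hpq => isZero_page_of_le E 2 le_rfl pq (hz pq hpq) r hr
  obtain ⟨e⟩ := corner E a 2 le_rfl (d : ℤ) (d : ℤ)
    (fun q' hq' => by
      apply hz
      rcases lt_or_gt_of_ne hq' with h | h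
      · exact Or.inr h
      · exact Or.inl (by simp; lia))
    (hfin d).2 (isExhaustive_of_isFinite E a d (hfin d))
    (by
      refine ⟨le_rfl, fun r' h₀ hr' => ⟨?_, ?_⟩⟩
      · exact (hz' r' h₀ _ (Or.inl (by simp; lia))).eq_of_src _ _
      · exact (hz' r' h₀ _ (Or.inr (by simp; lia))).eq_of_tgt _ _)
  obtain ⟨e2⟩ := hE2 ((d : ℤ) - d) d
  have h1 : (if 0 ≤ (d : ℤ) then AddCommGrpCat.of (LocCohZ.HZc F (d : ℤ).toNat U)
      else AddCommGrpCat.of PUnit.{u + 1}) = AddCommGrpCat.of (LocCohZ.HZc F d U) := by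
    rw [if_pos (Int.natCast_nonneg d), Int.toNat_natCast]
  have h2 : (if 0 ≤ (d : ℤ) - d ∧ 0 ≤ (d : ℤ) then
      AddCommGrpCat.of (CohTop.HU ((LocCohZ.HZsh U (d : ℤ).toNat).obj F) ((d : ℤ) - d).toNat ⊤)
        else AddCommGrpCat.of PUnit.{u + 1}) =
      AddCommGrpCat.of (CohTop.HU ((LocCohZ.HZsh U d).obj F) 0 ⊤) := by
    rw [if_pos ⟨by simp, Int.natCast_nonneg d⟩, Int.toNat_natCast, sub_self, Int.toNat_zero]
  have e3 : AddCommGrpCat.of (LocCohZ.HZc F d U) ≅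
      AddCommGrpCat.of (CohTop.HU ((LocCohZ.HZsh U d).obj F) 0 ⊤) :=
    eqToIso h1.symm ≪≫ e ≪≫ e2 ≪≫ eqToIso h2
  exact ⟨(Groth.Agent.Lib.Helper5.HZKoszul.eSect ((LocCohZ.HZsh U d).obj F) ⊤).symm.trans
    e3.symm.addCommGroupIsoToAddEquiv⟩

end Groth.Agent.Lib.Helper5.HZshCorner
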