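import Mathlib
import Groth.Agent.Lib.Helper17.RGammaZPlus

/-!
# Quasi-coherence of the local cohomology sheaves `ℋ^q_Z(M)` of a quasi-coherent module

Bridge between `Functor.rightDerived` (computed by an `ℕ`-indexed injective resolution) and the
`ℤ`-indexed K-injective complexes of helper17's `RGammaZPlus` development, and reduction of a general
quasi-compact open immersion `j` to the inclusion of its range.
-/

set_option autoImplicit false
universe u

open CategoryTheory Limits AlgebraicGeometry

namespace Groth.Agent.Lib.Helper5.HZshMQCoh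

section Extend

variable {C D : Type*} [Category C] [Category D] [Preadditive C] [Preadditive D]
  [HasZeroObject C] [HasZeroObject D] (F : C ⥤ D) [F.Additive]
  {ι ι' : Type*} {c : ComplexShape ι} {c' : ComplexShape ι'} (e : c.Embedding c')
  (K : HomologicalComplex C c)

/-- componentwise comparison of `F (extend K)` and `extend (F K)` -/
noncomputable def mapX : ∀ o : Option ι,
    F.obj (HomologicalComplex.extend.X K o) ≅
      HomologicalComplex.extend.X ((F.mapHomologicalComplex c).obj K) o
  | some _ => Iso.refl _
  | none => F.mapZeroObject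

lemma mapX_d (o o' : Option ι) :
    (mapX F K o).hom ≫ HomologicalComplex.extend.d ((F.mapHomologicalComplex c).obj K) o o' =
      F.map (HomologicalComplex.extend.d K o o') ≫ (mapX F K o').hom :=
  match o, o' with
  | none, _ => by
      rw [HomologicalComplex.extend.d_none_eq_zero _ _ _ rfl,
        HomologicalComplex.extend.d_none_eq_zero _ _ _ rfl, Functor.map_zero, zero_comp, comp_zero]
  | some i, some j => by
      change 𝟙 _ ≫ F.map (K.d i j) = F.map (K.d i j) ≫ 𝟙 _
      rw [Category.id_comp, Category.comp_id]
  | some _, none => by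
      rw [HomologicalComplex.extend.d_none_eq_zero' _ _ _ rfl,
        HomologicalComplex.extend.d_none_eq_zero' _ _ _ rfl, Functor.map_zero, zero_comp, comp_zero]

/-- an additive functor commutes with the extension by zero of complexes -/
noncomputable def mapExtendIso :
    (F.mapHomologicalComplex c').obj (K.extend e) ≅
      ((F.mapHomologicalComplex c).obj K).extend e :=
  HomologicalComplex.Hom.isoOfComponents (fun i' => mapX F K (e.r i'))
    (fun i' j' _ => mapX_d F K (e.r i') (e.r j'))

end Extend

section Bridge

variable {A B : Type*} [Category A] [Category B] [Abelian A] [Abelian B]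
  (F : A ⥤ B) [F.Additive] [HasInjectiveResolutions A]

/-- the right derived functors are computed by the `ℤ`-indexed injective resolution -/
noncomputable def rightDerivedIso {M : A} (R : InjectiveResolution M) (q : ℕ) :
    (F.rightDerived q).obj M ≅
      ((F.mapHomologicalComplex (ComplexShape.up ℤ)).obj R.cochainComplex).homology (q : ℤ) :=
  R.isoRightDerivedObj F q ≪≫
    (HomologicalComplex.extendHomologyIso ((F.mapHomologicalComplex _).obj R.cocomplex)
      ComplexShape.embeddingUpNat (j := q) (j' := (q : ℤ)) rfl).symm ≪≫
    ((HomologicalComplex.homologyFunctor B (ComplexShape.up ℤ) (q : ℤ)).mapIso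
      (mapExtendIso F ComplexShape.embeddingUpNat R.cocomplex)).symm

/-- natural isomorphisms induce isomorphisms of right derived functors -/
noncomputable def rdIso {F G : A ⥤ B} [F.Additive] [G.Additive] (α : F ≅ G) (n : ℕ) :
    F.rightDerived n ≅ G.rightDerived n where
  hom := NatTrans.rightDerived α.hom n
  inv := NatTrans.rightDerived α.inv n
  hom_inv_id := by rw [← NatTrans.rightDerived_comp, α.hom_inv_id, NatTrans.rightDerived_id]
  inv_hom_id := by rw [← NatTrans.rightDerived_comp, α.inv_hom_id, NatTrans.rightDerived_id]

variable {M : A} (R : InjectiveResolution M)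

omit [HasInjectiveResolutions A] in
lemma isZero_homology_of_ne (n : ℤ) (hn : n ≠ 0) : IsZero (R.cochainComplex.homology n) := by
  rcases lt_or_gt_of_ne hn with h | h
  · exact CochainComplex.isZero_of_isGE R.cochainComplex 0 n h
  · exact CochainComplex.isZero_of_isLE R.cochainComplex 0 n h

/-- the zeroth cohomology of the resolution -/
noncomputable def homologyZeroIso : R.cochainComplex.homology 0 ≅ M :=
  (asIso (HomologicalComplex.homologyMap R.ι' 0)).symm ≪≫
    HomologicalComplex.singleObjHomologySelfIso (ComplexShape.up ℤ) 0 M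

end Bridge

section Scheme

variable {U X : Scheme.{u}} (j : U ⟶ X) [IsOpenImmersion j]

/-- a morphism is killed by the unit `F ⟶ j_* j^* F` iff it vanishes on the opens inside the range -/
lemma comp_unit_eq_zero_iff (W : X.Opens) (hW : W = j.opensRange) {T F : X.Modules} (x : T ⟶ F) :
    x ≫ (Scheme.Modules.restrictAdjunction j).unit.app F = 0 ↔
      ∀ V : X.Opens, x.app V ≫ F.presheaf.map (homOfLE (inf_le_right : W ⊓ V ≤ V)).op = 0 := by
  subst hW
  have e : ∀ V : X.Opens, j ''ᵁ j ⁻¹ᵁ V = j.opensRange ⊓ V := j.image_preimage_eq_opensRange_inf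
  constructor
  · intro h V
    have h1 : x.app V ≫ F.presheaf.map (homOfLE (j.image_preimage_le V)).op = 0 :=
      congrArg (fun y => Scheme.Modules.Hom.app y V) h
    have h2 : (homOfLE (inf_le_right : j.opensRange ⊓ V ≤ V)).op =
        (homOfLE (j.image_preimage_le V)).op ≫ (eqToHom (e V).symm).op := rfl
    rw [h2, Functor.map_comp, ← Category.assoc, h1, zero_comp]
  · intro h
    apply Scheme.Modules.hom_ext
    intro V
    have h2 : (homOfLE (j.image_preimage_le V)).op =
        (homOfLE (inf_le_right : j.opensRange ⊓ V ≤ V)).op ≫ (eqToHom (e V)).op := rfl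
    change x.app V ≫ F.presheaf.map (homOfLE (j.image_preimage_le V)).op = 0
    rw [h2, Functor.map_comp, ← Category.assoc, h V, zero_comp]

variable {V' : Scheme.{u}} (j' : V' ⟶ X) [IsOpenImmersion j']

/-- `Γ_Z` only depends on the range of the open immersion: objectwise -/
noncomputable def kerIso (h : j.opensRange = j'.opensRange) (F : X.Modules) :
    kernel ((Scheme.Modules.restrictAdjunction j).unit.app F) ≅
      kernel ((Scheme.Modules.restrictAdjunction j').unit.app F) where
  hom := kernel.lift _ (kernel.ι _)
    ((comp_unit_eq_zero_iff j' j.opensRange h _).2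
      ((comp_unit_eq_zero_iff j j.opensRange rfl _).1 (kernel.condition _)))
  inv := kernel.lift _ (kernel.ι _)
    ((comp_unit_eq_zero_iff j j.opensRange rfl _).2
      ((comp_unit_eq_zero_iff j' j.opensRange h _).1 (kernel.condition _)))
  hom_inv_id := by
    rw [← cancel_mono (kernel.ι _), Category.assoc, kernel.lift_ι, kernel.lift_ι,
      Category.id_comp]
  inv_hom_id := by
    rw [← cancel_mono (kernel.ι _), Category.assoc, kernel.lift_ι, kernel.lift_ι,
      Category.id_comp]

lemma kerIso_hom_ι (h : j.opensRange = j'.opensRange) (F : X.Modules) :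
    (kerIso j j' h F).hom ≫ kernel.ι _ = kernel.ι _ := kernel.lift_ι _ _ _

lemma gammaZ_map_ι {F G : X.Modules} (φ : F ⟶ G) :
    (DCoh.gammaZ j).map φ ≫ kernel.ι ((Scheme.Modules.restrictAdjunction j).unit.app G) =
      kernel.ι ((Scheme.Modules.restrictAdjunction j).unit.app F) ≫ φ :=
  kernel.lift_ι _ _ _

/-- `Γ_Z` only depends on the range of the open immersion -/
noncomputable def gammaZIso (h : j.opensRange = j'.opensRange) :
    DCoh.gammaZ j ≅ DCoh.gammaZ j' :=
  NatIso.ofComponents
    (fun F => (kerIso j j' h F : (DCoh.gammaZ j).obj F ≅ (DCoh.gammaZ j').obj F)) (by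
    intro F G φ
    apply (cancel_mono (kernel.ι ((Scheme.Modules.restrictAdjunction j').unit.app G))).1
    have e1 : ((DCoh.gammaZ j).map φ ≫ (kerIso j j' h G).hom) ≫
        kernel.ι ((Scheme.Modules.restrictAdjunction j').unit.app G) =
        kernel.ι ((Scheme.Modules.restrictAdjunction j).unit.app F) ≫ φ :=
      (Category.assoc _ _ _).trans
        ((congrArg (fun z => (DCoh.gammaZ j).map φ ≫ z) (kerIso_hom_ι j j' h G)).trans
          (gammaZ_map_ι j φ))
    have e2 : ((kerIso j j' h F).hom ≫ (DCoh.gammaZ j').map φ) ≫
        kernel.ι ((Scheme.Modules.restrictAdjunction j').unit.app G) =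
        kernel.ι ((Scheme.Modules.restrictAdjunction j).unit.app F) ≫ φ :=
      (Category.assoc _ _ _).trans
        ((congrArg (fun z => (kerIso j j' h F).hom ≫ z) (gammaZ_map_ι j' φ)).trans
          ((Category.assoc _ _ _).symm.trans
            (congrArg (fun z => z ≫ φ) (kerIso_hom_ι j j' h F))))
    exact e1.trans e2.symm)

end Scheme

section Main

open Groth.Agent.Lib.Helper17.RGammaZPlus Groth.Agent.Lib.Helper17.MVAbs

variable {X : Scheme.{u}}

lemma isQuasicoherent_of_isZero (M₀ : X.Modules) (h₀ : M₀.IsQuasicoherent)
    (N : X.Modules) (hN : IsZero N) : N.IsQuasicoherent := by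
  have h1 : (kernel (𝟙 M₀)).IsQuasicoherent :=
    Groth.Agent.Lib.Helper29.QCoh.isQuasicoherent_kernel _
  have h2 : IsZero (kernel (𝟙 M₀)) := by
    rw [IsZero.iff_id_eq_zero, ← cancel_mono (kernel.ι _)]
    have := kernel.condition (𝟙 M₀)
    rw [Category.comp_id] at this
    rw [this, comp_zero, zero_comp]
  exact (SheafOfModules.isQuasicoherent X.ringCatSheaf).prop_of_iso (h2.iso hN) h1

theorem isQuasicoherent_rightDerived_opens (W : X.Opens) [QuasiCompact W.ι]
    [HasInjectiveResolutions X.Modules] (M : X.Modules) (hM : M.IsQuasicoherent) (q : ℕ) :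
    (((DCoh.gammaZ W.ι).rightDerived q).obj M).IsQuasicoherent := by
  let R : InjectiveResolution M := injectiveResolution M
  have hq : ∀ p, (R.cochainComplex.homology p).IsQuasicoherent := by
    intro p
    by_cases hp : p = 0
    · subst hp
      exact (SheafOfModules.isQuasicoherent X.ringCatSheaf).prop_of_iso
        (homologyZeroIso R).symm hM
    · exact isQuasicoherent_of_isZero M hM _ (isZero_homology_of_ne R p hp)
  exact (SheafOfModules.isQuasicoherent X.ringCatSheaf).prop_of_iso
    (rightDerivedIso (DCoh.gammaZ W.ι) R q).symm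
    (isQuasicoherent_homology_gammaZ W R.cochainComplex (fun n => inferInstance) hq q)

theorem isQuasicoherent_rightDerived {U : Scheme.{u}} (j : U ⟶ X) [IsOpenImmersion j]
    [QuasiCompact j] [HasInjectiveResolutions X.Modules] (M : X.Modules)
    (hM : M.IsQuasicoherent) (q : ℕ) :
    (((DCoh.gammaZ j).rightDerived q).obj M).IsQuasicoherent := by
  have : QuasiCompact j.opensRange.ι := by
    have : QuasiCompact (j.isoOpensRange.inv ≫ j) := inferInstance
    rwa [j.isoOpensRange_inv_comp] at this
  have h : j.opensRange = j.opensRange.ι.opensRange := (Scheme.Opens.opensRange_ι _).symm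
  exact (SheafOfModules.isQuasicoherent X.ringCatSheaf).prop_of_iso
    ((rdIso (gammaZIso j j.opensRange.ι h) q).app M).symm
    (isQuasicoherent_rightDerived_opens j.opensRange M hM q)

end Main

end Groth.Agent.Lib.Helper5.HZshMQCoh
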