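import Groth.Agent.Lib.Helper5.HZshMQCoh

/-!
# Vanishing of the local cohomology sheaves above the number of local equations

Sharp version of helper17's Mayer–Vietoris induction (`PhiInd`): if `W` is a union of `n` basic opens
of an affine open `V₀`, then `(j_* j^* I)|_{V₀}` (for `j : W ⟶ X`) has no cohomology in degrees `≥ n`
(`≥ 1` if `n = 0`...) for `I` an injective resolution of a quasi-coherent module.  Consequently the
local cohomology sheaves `ℋ^i_T(F)` vanish for `i > c` when `T` is locally cut out by `c` equations.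
-/

set_option autoImplicit false
universe u

open CategoryTheory Limits Opposite AlgebraicGeometry TopologicalSpace CochainComplex

namespace Groth.Agent.Lib.Helper5.HZshVanish

open Groth.Agent.Lib.Helper17.SecFun Groth.Agent.Lib.Helper17.PhiW Groth.Agent.Lib.Helper17.MVAbs
open Groth.Agent.Lib.Helper17.PushCoh Groth.Agent.Lib.Helper17.PhiInd
open Groth.Agent.Lib.Helper17.RGammaZ Groth.Agent.Lib.Helper5.HZshMQCoh

section General

variable {X S : Scheme.{u}} (f : X ⟶ S) (V₀ : S.Opens)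

/-- sharp vanishing predicate -/
def Q (W : X.Opens) (N : ℤ) : Prop :=
  ∀ I : CochainComplex X.Modules ℤ, Good I → (∀ i : ℤ, 0 < i → IsZero (I.homology i)) →
    ∀ m : ℤ, N ≤ m → IsZero ((Cx (ΦW f V₀ W) I).homology m)

variable {f V₀}

lemma Q_mono {W : X.Opens} {N N' : ℤ} (h : Q f V₀ W N) (hN : N ≤ N') : Q f V₀ W N' :=
  fun I hI hz m hm => h I hI hz m (hN.trans hm)

lemma Q_base (hV₀ : IsAffineOpen V₀) {W : X.Opens} (hW : IsAffineOpen W)
    (hWV : W ≤ f ⁻¹ᵁ V₀) : Q f V₀ W 1 := by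
  intro I hI hz m hm
  have := hI.kinj
  have : IsIso (cmp (ΦW f V₀ W) I m) :=
    isIso_cmp (secData f V₀ W) (fun V hV => isAffineOpen_uW hV₀ hW hWV V hV) I hI.qc m
  exact IsZero.of_iso ((ΦW f V₀ W).map_isZero (hz m (by omega))) (asIso (cmp (ΦW f V₀ W) I m))

lemma Q_mv (W1 W2 : X.Opens) {N1 N2 N12 : ℤ} (h1 : Q f V₀ W1 N1) (h2 : Q f V₀ W2 N2)
    (h12 : Q f V₀ (W1 ⊓ W2) N12) : Q f V₀ (W1 ⊔ W2) (max (max N1 N2) (N12 + 1)) := by
  intro I hI hz m hm
  have hm1 : N1 ≤ m := le_trans (le_trans (le_max_left _ _) (le_max_left _ _)) hm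
  have hm2 : N2 ≤ m := le_trans (le_trans (le_max_right _ _) (le_max_left _ _)) hm
  have hm12 : N12 ≤ m - 1 := by
    have := le_trans (le_max_right (max N1 N2) (N12 + 1)) hm
    omega
  exact mv_isZero I (mv_shortExact f V₀ W1 W2 I hI.inj) m (h1 I hI hz m hm1) (h2 I hI hz m hm2)
    (h12 I hI hz (m - 1) hm12)

lemma isZero_of_subsingleton_sections {Y : Scheme.{u}} (N : Y.Modules)
    (h : ∀ V : Y.Opens, Subsingleton Γ(N, V)) : IsZero N := by
  rw [IsZero.iff_id_eq_zero]
  apply Scheme.Modules.hom_ext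
  intro V
  ext x
  exact (h V).elim _ _

lemma subsingleton_sections_bot (M : X.Modules) {A : X.Opens} (hA : A = ⊥) :
    Subsingleton Γ(M, A) := by
  have ht : IsTerminal ((⟨M.presheaf, M.isSheaf⟩ : TopCat.Sheaf Ab X).obj.obj (op A)) :=
    TopCat.Sheaf.isTerminalOfEqEmpty _ hA
  have hz : IsZero (M.presheaf.obj (op A)) :=
    IsZero.of_iso (isZero_zero _) (ht.uniqueUpToIso HasZeroObject.zeroIsTerminal)
  exact AddCommGrpCat.subsingleton_of_isZero hz

lemma isZero_ΦW_bot (M : X.Modules) : IsZero ((ΦW f V₀ ⊥).obj M) := by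
  apply isZero_of_subsingleton_sections
  intro V
  have hA : uW f V₀ ⊥ V = ⊥ := by rw [uW_eq, bot_inf_eq]
  exact subsingleton_sections_bot M hA

lemma Q_bot (N : ℤ) : Q f V₀ ⊥ N := by
  intro I _ _ m _
  have h : IsZero ((Cx (ΦW f V₀ ⊥) I).X m) := by
    show IsZero ((ΦW f V₀ ⊥).obj (I.X m))
    exact isZero_ΦW_bot (I.X m)
  have h2 : IsZero ((Cx (ΦW f V₀ ⊥) I).sc m).homology :=
    ShortComplex.isZero_homology_of_isZero_X₂ ((Cx (ΦW f V₀ ⊥) I).sc m) h
  exact h2

/-- `ΦW` only depends on `W ⊓ f⁻¹ V₀` -/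
lemma isIso_resΦ_app {W W' : X.Opens} (h : W' ≤ W) (hW : W ⊓ f ⁻¹ᵁ V₀ ≤ W') (M : X.Modules) :
    IsIso ((resΦ f V₀ h).app M) := by
  refine Scheme.Modules.Hom.isIso_iff_isIso_app.mpr fun V => ?_
  have hA : uW f V₀ W' V = uW f V₀ W V := le_antisymm (uW_anti f V₀ h V) (by
    rw [uW_eq, uW_eq]
    refine le_inf ?_ inf_le_right
    exact (inf_le_inf_left W ((Opens.map f.base).monotone (V₀.ι_image_le V))).trans hW)
  have e0 := resΦ_app_app f V₀ h M V
  rw [e0]
  show IsIso (M.presheaf.map (homOfLE (uW_anti f V₀ h V)).op)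
  rw [show homOfLE (uW_anti f V₀ h V) = eqToHom hA from Subsingleton.elim _ _, eqToHom_op,
    eqToHom_map]
  infer_instance

lemma Q_of_inf {W W' : X.Opens} (h : W' ≤ W) (hW : W ⊓ f ⁻¹ᵁ V₀ ≤ W') {N : ℤ}
    (hQ : Q f V₀ W' N) : Q f V₀ W N := by
  intro I hI hz m hm
  have : ∀ M, IsIso ((resΦ f V₀ h).app M) := fun M => isIso_resΦ_app h hW M
  have : IsIso (resΦ f V₀ h) := NatIso.isIso_of_isIso_app _
  exact IsZero.of_iso (hQ I hI hz m hm)
    ((HomologicalComplex.homologyFunctor _ _ m).mapIso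
      ((NatIso.mapHomologicalComplex (asIso (resΦ f V₀ h)) (ComplexShape.up ℤ)).app I))

/-- the sharp bound for a union of `n` members of a family of affine opens stable under
intersections -/
lemma Q_sup (hV₀ : IsAffineOpen V₀) (𝒟 : Set X.Opens)
    (hD : ∀ W ∈ 𝒟, IsAffineOpen W ∧ W ≤ f ⁻¹ᵁ V₀)
    (hinf : ∀ W ∈ 𝒟, ∀ W' ∈ 𝒟, W ⊓ W' ∈ 𝒟) :
    ∀ (n : ℕ) (s : Finset X.Opens), s.card ≤ n → (∀ W ∈ s, W ∈ 𝒟) →
      Q f V₀ (s.sup id) (n : ℤ) := by
  classical
  intro n
  induction n with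
  | zero =>
    intro s hs _
    have : s = ∅ := Finset.card_eq_zero.1 (Nat.le_zero.1 hs)
    subst this
    rw [Finset.sup_empty]
    exact Q_bot _
  | succ n ih =>
    intro s hs hsD
    by_cases h : s.card ≤ n
    · exact Q_mono (ih s h hsD) (by push_cast; omega)
    · have hc : s.card = n + 1 := by omega
      obtain ⟨D, s', hDs', rfl, hcard⟩ := Finset.card_eq_succ.1 hc
      rw [Finset.sup_insert]
      have hDm : D ∈ 𝒟 := hsD D (Finset.mem_insert_self _ _)
      have h1 : Q f V₀ D 1 := Q_base hV₀ (hD D hDm).1 (hD D hDm).2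
      have h2 : Q f V₀ (s'.sup id) (n : ℤ) :=
        ih s' hcard.le (fun W hW => hsD W (Finset.mem_insert_of_mem hW))
      have h12 : Q f V₀ (D ⊓ s'.sup id) (n : ℤ) := by
        have e : D ⊓ s'.sup id = (s'.image (fun W => D ⊓ W)).sup id := by
          rw [Finset.sup_image, Finset.sup_inf_distrib_left]
          rfl
        rw [e]
        refine ih _ (Finset.card_image_le.trans hcard.le) ?_
        intro W hW
        obtain ⟨W', hW', rfl⟩ := Finset.mem_image.1 hW
        exact hinf _ hDm _ (hsD W' (Finset.mem_insert_of_mem hW'))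
      refine Q_mono (Q_mv D (s'.sup id) h1 h2 h12) ?_
      push_cast
      exact max_le (max_le (by omega) (by omega)) (by omega)

end General

section Local

variable {X : Scheme.{u}}

/-- `(j_* j^* M)|_{V₀}` as a value of `ΦW` -/
noncomputable def resPushRestrictIso (U V₀ : X.Opens) :
    ZClos.resPush U ⋙ Scheme.Modules.restrictFunctor V₀.ι ≅ ΦW (𝟙 X) V₀ U :=
  Functor.isoWhiskerLeft (ZClos.resPush U)
    ((Functor.leftUnitor _).symm ≪≫
      Functor.isoWhiskerRight (Scheme.Modules.pushforwardId X).symm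
        (Scheme.Modules.restrictFunctor V₀.ι))

/-- composition of functors applied to a complex -/
noncomputable def cxCompIso {A B C : Type*} [Category A] [Category B] [Category C]
    [Abelian A] [Abelian B] [Abelian C] (F : A ⥤ B) (G : B ⥤ C) [F.Additive] [G.Additive]
    (I : CochainComplex A ℤ) : Cx G (Cx F I) ≅ Cx (F ⋙ G) I :=
  HomologicalComplex.Hom.isoOfComponents (fun n => Iso.refl _) (by
    intro i j _
    exact (Category.id_comp _).trans (Category.comp_id _).symm)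

theorem isZero_restrict_homology_resPush (U V₀ : X.Opens) (hV₀ : IsAffineOpen V₀)
    (gs : Finset Γ(X, V₀)) (hU : U ⊓ V₀ = gs.sup (fun g => X.basicOpen g))
    (I : CochainComplex X.Modules ℤ) (hI : Good I)
    (hz : ∀ i : ℤ, 0 < i → IsZero (I.homology i)) (m : ℤ) (hm : (gs.card : ℤ) ≤ m) :
    IsZero ((Scheme.Modules.restrictFunctor V₀.ι).obj ((Cx (ZClos.resPush U) I).homology m)) := by
  classical
  -- the sharp bound
  have hQ0 : Q (𝟙 X) V₀ ((gs.image (fun g => X.basicOpen g)).sup id) (gs.card : ℤ) := by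
    refine Q_sup hV₀ (Set.range (fun g : Γ(X, V₀) => X.basicOpen g)) ?_ ?_ gs.card _
      Finset.card_image_le ?_
    · rintro W ⟨g, rfl⟩
      exact ⟨hV₀.basicOpen g, X.basicOpen_le g⟩
    · rintro W ⟨g, rfl⟩ W' ⟨g', rfl⟩
      exact ⟨g * g', X.basicOpen_mul g g'⟩
    · intro W hW
      obtain ⟨g, _, rfl⟩ := Finset.mem_image.1 hW
      exact ⟨g, rfl⟩
  have hQ1 : Q (𝟙 X) V₀ (U ⊓ V₀) (gs.card : ℤ) := by
    rw [hU]
    rw [Finset.sup_image] at hQ0
    exact hQ0
  have hQ : Q (𝟙 X) V₀ U (gs.card : ℤ) :=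
    Q_of_inf (inf_le_left : U ⊓ V₀ ≤ U) (le_refl _) hQ1
  have h0 := hQ I hI hz m hm
  refine IsZero.of_iso h0 ?_
  exact (Groth.Agent.Lib.Helper17.HDU3.mapHCHomologyIso (Scheme.Modules.restrictFunctor V₀.ι)
      (Cx (ZClos.resPush U) I) m).symm ≪≫
    (HomologicalComplex.homologyFunctor _ _ m).mapIso
      (cxCompIso (ZClos.resPush U) (Scheme.Modules.restrictFunctor V₀.ι) I ≪≫
        (NatIso.mapHomologicalComplex (resPushRestrictIso U V₀) (ComplexShape.up ℤ)).app I)

/-- local vanishing of the cohomology of `Γ_Z I` -/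
theorem isZero_restrict_homology_gammaZ (U V₀ : X.Opens) (hV₀ : IsAffineOpen V₀)
    (gs : Finset Γ(X, V₀)) (hU : U ⊓ V₀ = gs.sup (fun g => X.basicOpen g))
    (I : CochainComplex X.Modules ℤ) (hI : Good I)
    (hz : ∀ i : ℤ, 0 < i → IsZero (I.homology i)) (i : ℤ) (hi : (gs.card : ℤ) < i) :
    IsZero ((Scheme.Modules.restrictFunctor V₀.ι).obj
      ((Cx (DCoh.gammaZ U.ι) I).homology i)) := by
  have hS := scCx_shortExact U I hI.inj
  have hp : (ComplexShape.up ℤ).Rel (i - 1) i := by simp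
  have hex := (hS.homology_exact₁ (i - 1) i hp).map (Scheme.Modules.restrictFunctor V₀.ι)
  have h3 : IsZero ((Scheme.Modules.restrictFunctor V₀.ι).obj
      ((Cx (ZClos.resPush U) I).homology (i - 1))) :=
    isZero_restrict_homology_resPush U V₀ hV₀ gs hU I hI hz (i - 1) (by omega)
  have h2 : IsZero ((Scheme.Modules.restrictFunctor V₀.ι).obj (I.homology i)) :=
    (Scheme.Modules.restrictFunctor V₀.ι).map_isZero (hz i (by omega))
  exact hex.isZero_of_both_zeros (h3.eq_of_src _ _) (h2.eq_of_tgt _ _)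

end Local

section Main

variable {X : Scheme.{u}}

lemma good_cochainComplex (F : X.Modules) (hF : F.IsQuasicoherent)
    (R : InjectiveResolution F) : Good R.cochainComplex where
  kinj := inferInstance
  inj := fun n => inferInstance
  qc := by
    intro p
    by_cases hp : p = 0
    · subst hp
      exact (SheafOfModules.isQuasicoherent X.ringCatSheaf).prop_of_iso
        (homologyZeroIso R).symm hF
    · exact isQuasicoherent_of_isZero F hF _ (isZero_homology_of_ne R p hp)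

theorem isZero_rightDerived (U : X.Opens) [HasInjectiveResolutions X.Modules]
    (c : ℕ) (hT : ∀ x : X, ∃ (V : X.Opens) (fs : Finset Γ(X, V)), x ∈ V ∧ fs.card ≤ c ∧
      X.zeroLocus (U := V) (↑fs : Set Γ(X, V)) ∩ (V : Set ↥X) = (U : Set ↥X)ᶜ ∩ (V : Set ↥X))
    (F : X.Modules) (hF : F.IsQuasicoherent) (i : ℕ) (hi : c < i) :
    IsZero (((DCoh.gammaZ U.ι).rightDerived i).obj F) := by
  classical
  let R : InjectiveResolution F := injectiveResolution F
  have hI : Good R.cochainComplex := good_cochainComplex F hF R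
  have hz : ∀ k : ℤ, 0 < k → IsZero (R.cochainComplex.homology k) :=
    fun k hk => isZero_homology_of_ne R k (by omega)
  refine IsZero.of_iso ?_ (rightDerivedIso (DCoh.gammaZ U.ι) R i)
  apply Groth.Agent.Lib.Helper28.DCohRes.isZero_of_locally
  intro x
  obtain ⟨V, fs, hxV, hcard, hloc⟩ := hT x
  obtain ⟨V₀, hV₀, hxV₀, hV₀V⟩ : ∃ V₀ : X.Opens, IsAffineOpen V₀ ∧ x ∈ V₀ ∧ V₀ ≤ V :=
    (Opens.isBasis_iff_nbhd.1 X.isBasis_affineOpens) hxV
  let r : Γ(X, V) → Γ(X, V₀) := fun a => (X.presheaf.map (homOfLE hV₀V).op).hom a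
  have hr : ∀ a : Γ(X, V), X.basicOpen (r a) = V₀ ⊓ X.basicOpen a :=
    fun a => X.basicOpen_res a (homOfLE hV₀V).op
  let gs : Finset Γ(X, V₀) := fs.image r
  have hU : U ⊓ V₀ = gs.sup (fun g => X.basicOpen g) := by
    apply le_antisymm
    · intro y hy
      have hyV : y ∈ V := hV₀V hy.2
      have hy1 : y ∉ X.zeroLocus (U := V) (↑fs : Set Γ(X, V)) := by
        intro h0
        have : y ∈ (U : Set ↥X)ᶜ ∩ (V : Set ↥X) := hloc ▸ ⟨h0, hyV⟩
        exact this.1 hy.1
      rw [Scheme.mem_zeroLocus_iff] at hy1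
      push Not at hy1
      obtain ⟨a, ha, hya⟩ := hy1
      have hmem : r a ∈ gs := Finset.mem_image_of_mem r ha
      have hle : X.basicOpen (r a) ≤ gs.sup (fun g => X.basicOpen g) :=
        Finset.le_sup (f := fun g => X.basicOpen g) hmem
      apply hle
      rw [hr a]
      exact ⟨hy.2, hya⟩
    · apply Finset.sup_le
      intro g hg
      obtain ⟨a, ha, rfl⟩ := Finset.mem_image.1 hg
      rw [hr a]
      intro y hy
      refine ⟨?_, hy.1⟩
      by_contra hyU
      have hyV : y ∈ V := hV₀V hy.1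
      have : y ∈ X.zeroLocus (U := V) (↑fs : Set Γ(X, V)) ∩ (V : Set ↥X) := hloc ▸ ⟨hyU, hyV⟩
      exact (Scheme.mem_zeroLocus_iff X _ y).1 this.1 a ha hy.2
  refine ⟨V₀.toScheme, V₀.ι, inferInstance, ?_, ?_⟩
  · rw [Scheme.Opens.range_ι]
    exact hxV₀
  · refine isZero_restrict_homology_gammaZ U V₀ hV₀ gs hU R.cochainComplex hI hz (i : ℤ) ?_
    have : gs.card ≤ fs.card := Finset.card_image_le
    have : (gs.card : ℤ) ≤ (c : ℤ) := by exact_mod_cast this.trans hcard
    have : (c : ℤ) < (i : ℤ) := by exact_mod_cast hi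
    omega

end Main

end Groth.Agent.Lib.Helper5.HZshVanish
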