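import Groth.Agent.Lib.Helper5.HyCechSite
import Groth.Agent.Lib.Helper5.HyOver
import Groth.Agent.Lib.Helper22.Cech.OverInj

/-!
# Čech cohomology of a hypercovering of an object: injective sheaves and degree zero
-/

set_option autoImplicit false

universe u

open CategoryTheory CategoryTheory.Limits Opposite Simplicial

noncomputable section

namespace Groth.Agent.Lib.Helper5.HyOverCech

open Groth.Agent.Lib.Helper5.HyCechSite Groth.Agent.Lib.Helper5.HyOver

variable {C : Type u} [SmallCategory C] (J : GrothendieckTopology C)

/-- a sheaf whose underlying presheaf is injective is injective -/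
lemma injective_of_injective_obj (G : Sheaf J AddCommGrpCat.{u}) (h : Injective G.obj) :
    Injective G where
  factors {A B} g f _ := by
    haveI : Mono f.hom := (sheafToPresheaf J AddCommGrpCat.{u}).map_mono f
    refine ⟨⟨Injective.factorThru g.hom f.hom⟩, ?_⟩
    apply Sheaf.hom_ext
    exact Injective.comp_factorThru g.hom f.hom

/-- the underlying presheaf of an injective sheaf is injective -/
lemma injective_obj (I : Sheaf J AddCommGrpCat.{u}) [Injective I] : Injective I.obj :=
  Injective.injective_of_adjoint (sheafificationAdjunction J AddCommGrpCat.{u}) I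

variable (X : C)

/-- **the restriction of an injective sheaf to a localized site is injective** -/
instance injective_over (I : Sheaf J AddCommGrpCat.{u}) [Injective I] : Injective (I.over X) := by
  haveI := injective_obj J I
  exact injective_of_injective_obj (J.over X) (I.over X)
    (Groth.Agent.Lib.Helper22.Cech.OverInj.injective_res (U := X) I.obj)

variable (K : SimplicialObject (FormalCoproduct.{u} (Over X)))
  [∀ (n : ℕ) (F : (SimplexCategory.Truncated n)ᵒᵖ ⥤ FormalCoproduct.{u} (Over X)),
    (SimplexCategory.Truncated.inclusion n).op.HasRightKanExtension F]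
  (hK : Hyper.IsHypercovering J X K)

include hK in
/-- **the Čech cohomology of an injective sheaf with respect to a hypercovering vanishes** -/
theorem isZero_cechH_succ_of_injective (I : Sheaf J AddCommGrpCat.{u}) [Injective I] (p : ℕ) :
    IsZero (Hyper.cechH X K I.obj (p + 1)) :=
  isZero_homology_succ_of_injective (J.over X) K (isHypercoveringSite_over J X K hK) (I.over X) p

include hK in
/-- **`Ȟ⁰(K, F) = F(X)` for a hypercovering `K` of `X`** -/
theorem nonempty_cechH_zero_iso (F : Sheaf J AddCommGrpCat.{u}) :
    Nonempty (Hyper.cechH X K F.obj 0 ≅ F.obj.obj (op X)) := by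
  obtain ⟨e⟩ := nonempty_h0_iso (J.over X) K (isHypercoveringSite_over J X K hK) (F.over X)
  have hT : IsInitial (op (Over.mk (𝟙 X))) := initialOpOfTerminal Over.mkIdTerminal
  exact ⟨e ≪≫ (limit.isLimit (F.over X).obj).conePointUniqueUpToIso
    (limitOfDiagramInitial hT (F.over X).obj)⟩

end Groth.Agent.Lib.Helper5.HyOverCech
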