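import Groth.Agent.Lib.Helper5.HyCechSS
import Groth.Agent.Lib.Helper5.HyOverCech
import Groth.Agent.Lib.Helper5.SiteSS
import Groth.Agent.Lib.Helper5.PrecompDelta
import Groth.Agent.Lib.Helper5.SpSeqOneCol

/-!
# Čech cohomology of acyclic sheaves with respect to a hypercovering of an object
-/

set_option autoImplicit false
set_option maxSynthPendingDepth 3

universe u

open CategoryTheory CategoryTheory.Limits Opposite Simplicial Abelian
open scoped ZeroObject

noncomputable section

namespace Groth.Agent.Lib.Helper5.HyAcyc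

open Groth.Agent.Lib.Helper5.HyCechSite Groth.Agent.Lib.Helper5.HyOver
  Groth.Agent.Lib.Helper5.HyOverCech Groth.Agent.Lib.Helper5.HyCechSS
  Groth.Agent.Lib.Helper5.SiteSS

section Terminal

variable {D : Type u} [SmallCategory D] (JD : GrothendieckTopology D) {T : D} (hT : IsTerminal T)

/-- morphisms from the constant sheaf `ℤ` are the sections over a terminal object -/
def sectIso : ExtDer.G (Zc JD) ≅ ΓV JD T :=
  NatIso.ofComponents (fun F =>
    (((constantSheafAdj JD AddCommGrpCat.{u} hT).homAddEquiv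
      (AddCommGrpCat.of (ULift.{u} ℤ)) F).trans
      (AddCommGrpCat.uliftZMultiplesAddEquiv _)).toAddCommGrpIso) (by
    intro F G φ
    refine AddCommGrpCat.hom_ext (AddMonoidHom.ext fun x => ?_)
    change (AddCommGrpCat.uliftZMultiplesAddEquiv _)
      ((constantSheafAdj JD AddCommGrpCat.{u} hT).homEquiv _ _ (x ≫ φ)) = _
    rw [Adjunction.homEquiv_naturality_right]
    rfl)

include hT in
lemma subsingleton_H_of_terminal (G : Sheaf JD AddCommGrpCat.{u}) (n : ℕ)
    (h : Subsingleton (CohSite.HU G (n + 1) T)) : Subsingleton (Sheaf.H G (n + 1)) := by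
  have e1 := (ExtDer.extIsoOfIso (Zc JD) (ΓV JD T) (sectIso JD hT).symm (n + 1)).app G
  have e2 := RΓVObjIso JD T (n + 1) G
  have e : AddCommGrpCat.of (Sheaf.H G (n + 1)) ≅ AddCommGrpCat.of (CohSite.HU G (n + 1) T) :=
    e1.symm ≪≫ e2
  exact e.addCommGroupIsoToAddEquiv.toEquiv.subsingleton

end Terminal

section Over

variable {C : Type u} [SmallCategory C] (J : GrothendieckTopology C) (X : C)

/-- restriction to the localized site -/
abbrev jP : Sheaf J AddCommGrpCat.{u} ⥤ Sheaf (J.over X) AddCommGrpCat.{u} :=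
  J.overPullback AddCommGrpCat.{u} X

instance : (jP J X).Additive where
  map_add := rfl

instance : PreservesFiniteLimits (jP J X) := by
  haveI : (jP J X).IsRightAdjoint := inferInstance
  infer_instance

instance : PreservesFiniteColimits (jP J X) := by
  haveI : PreservesColimitsOfSize.{u, u} (jP J X) :=
    ((Over.forget X).sheafAdjunctionCocontinuous AddCommGrpCat.{u}
      (J.over X) J).leftAdjoint_preservesColimits
  infer_instance

/-- sections of the restriction -/
def overΓIso (V : Over X) : jP J X ⋙ ΓV (J.over X) V ≅ ΓV J V.left :=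
  NatIso.ofComponents (fun _ => Iso.refl _) (by
    intro F G φ
    exact (Category.comp_id _).trans (Category.id_comp _).symm)

lemma subsingleton_HU_over (F : Sheaf J AddCommGrpCat.{u}) (V : Over X) (q : ℕ)
    (h : Subsingleton (CohSite.HU F (q + 1) V.left)) :
    Subsingleton (CohSite.HU (F.over X) (q + 1) V) := by
  have hacyc : ∀ I : Sheaf J AddCommGrpCat.{u}, Injective I → ∀ n : ℕ,
      IsZero (((ΓV (J.over X) V).rightDerived (n + 1)).obj ((jP J X).obj I)) := by
    intro I hI n
    haveI := hI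
    haveI : Injective ((jP J X).obj I) := injective_over J X I
    exact Functor.isZero_rightDerived_obj_injective_succ _ n _
  have e1 := (PrecompDelta.rightDerivedPrecompIso (jP J X) (ΓV (J.over X) V) hacyc (q + 1)).app F
  have e2 := (ExtDer.rightDerivedMapIso (overΓIso J X V) (q + 1)).app F
  have e3 := RΓVObjIso J V.left (q + 1) F
  have e4 := RΓVObjIso (J.over X) V (q + 1) (F.over X)
  have e : AddCommGrpCat.of (CohSite.HU (F.over X) (q + 1) V) ≅
      AddCommGrpCat.of (CohSite.HU F (q + 1) V.left) :=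
    e4.symm ≪≫ e1.symm ≪≫ e2 ≪≫ e3
  exact e.addCommGroupIsoToAddEquiv.toEquiv.subsingleton

/-- the cohomology presheaf of degree zero is the sheaf itself -/
def H0PresheafIso (G : Sheaf J AddCommGrpCat.{u}) :
    (sheafBotEquivalence AddCommGrpCat.{u}).inverse.obj (G.cohomologyPresheaf 0) ≅
      (PshSh.T J).obj G :=
  (PshSh.RTIso J G 0).symm ≪≫ ((PshSh.T J).rightDerivedZeroIsoSelf).app G

variable (K : SimplicialObject (FormalCoproduct.{u} (Over X)))
  [∀ (n : ℕ) (F : (SimplexCategory.Truncated n)ᵒᵖ ⥤ FormalCoproduct.{u} (Over X)),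
    (SimplexCategory.Truncated.inclusion n).op.HasRightKanExtension F]
  (hK : Hyper.IsHypercovering J X K)

include hK in
/-- **the Čech cohomology of an acyclic sheaf with respect to a hypercovering vanishes** -/
theorem isZero_cechH_succ_of_acyclic (F : Sheaf J AddCommGrpCat.{u})
    (hF : ∀ (U : C) (q : ℕ), Subsingleton (CohSite.HU F (q + 1) U)) (p : ℕ) :
    IsZero (Hyper.cechH X K F.obj (p + 1)) := by
  have hK' := isHypercoveringSite_over J X K hK
  have hZ : IsZero (AddCommGrpCat.of PUnit.{u + 1}) := AddCommGrpCat.isZero_of_subsingleton _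
  obtain ⟨E, a, hfin, hb, hE⟩ := exists_spectralSequence (J.over X) K hK' (F.over X)
  have hzero : ∀ q : ℕ, IsZero ((F.over X).cohomologyPresheaf (q + 1)) := fun q =>
    Functor.isZero _ (fun V => by
      haveI : Subsingleton (CohSite.HU (F.over X) (q + 1) V.unop) :=
        subsingleton_HU_over J X F V.unop q (hF _ q)
      exact AddCommGrpCat.isZero_of_subsingleton _)
  have hz : ∀ p q : ℤ, q ≠ 0 → IsZero ((E.page 2 le_rfl).X (p, q)) := by
    intro p q hq
    obtain ⟨e⟩ := hE p q
    by_cases h : 0 ≤ p ∧ 0 ≤ q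
    · rw [if_pos h] at e
      refine IsZero.of_iso ?_ e
      obtain ⟨q', hq'⟩ : ∃ q' : ℕ, q.toNat = q' + 1 := ⟨q.toNat - 1, by omega⟩
      rw [hq']
      exact Functor.map_isZero
        (HomologicalComplex.homologyFunctor AddCommGrpCat.{u} (ComplexShape.up ℕ) p.toNat)
        (Functor.map_isZero (Cf K) (hzero q'))
    · rw [if_neg h] at e
      exact IsZero.of_iso hZ e
  obtain ⟨e1⟩ := SpSeqStat.oneRow E a ((p + 1 : ℕ) : ℤ) (hfin _) hz
  obtain ⟨e2⟩ := hE ((p + 1 : ℕ) : ℤ) 0
  rw [if_pos ⟨Int.natCast_nonneg _, le_rfl⟩] at e2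
  rw [if_pos (Int.natCast_nonneg _)] at e1
  simp only [Int.toNat_natCast, Int.toNat_zero] at e1 e2
  haveI : Subsingleton (Sheaf.H (F.over X) (p + 1)) :=
    subsingleton_H_of_terminal (J.over X) (Over.mkIdTerminal (X := X)) (F.over X) p
      (subsingleton_HU_over J X F (Over.mk (𝟙 X)) p (hF _ p))
  have h1 : IsZero (AddCommGrpCat.of (Sheaf.H (F.over X) (p + 1))) :=
    AddCommGrpCat.isZero_of_subsingleton _
  have h2 : IsZero ((Hyper.cechCxSite K ((F.over X).cohomologyPresheaf 0)).homology (p + 1)) :=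
    IsZero.of_iso (IsZero.of_iso h1 e1.symm) e2.symm
  have e3 : Hyper.cechCxSite K ((F.over X).cohomologyPresheaf 0) ≅
      Hyper.cechCxSite K (F.over X).obj :=
    (Ef K).mapIso (H0PresheafIso (J.over X) (F.over X))
  exact IsZero.of_iso h2
    ((HomologicalComplex.homologyFunctor AddCommGrpCat.{u} (ComplexShape.up ℕ) (p + 1)).mapIso
      e3.symm)

end Over

end Groth.Agent.Lib.Helper5.HyAcyc
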