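import Groth.Agent.Lib.Helper5.HyCone

/-!
# Compatible families of facets are compatible families on the skeleton of the boundary
-/

set_option autoImplicit false

universe u

open CategoryTheory CategoryTheory.Limits Opposite Simplicial

namespace Groth.Agent.Lib.Helper5.HyBridge

open Groth.Agent.Lib.Helper5.HyCone

variable {C : Type u} [Category.{u} C] (P : SimplexCategoryᵒᵖ ⥤ (Cᵒᵖ ⥤ Type u))

/-- the simplices of shape `Δ` over `T` -/
abbrev Sg (Δ : SimplexCategory) (T : C) : Type u := (P.obj (op Δ)).obj (op T)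

/-- the simplicial operators -/
def sopg {Δ Δ' : SimplexCategory} (θ : Δ' ⟶ Δ) {T : C} (x : Sg P Δ T) : Sg P Δ' T :=
  (P.map θ.op).app (op T) x

/-- restriction -/
def rsg {Δ : SimplexCategory} {T T' : C} (f : T' ⟶ T) (x : Sg P Δ T) : Sg P Δ T' :=
  (P.obj (op Δ)).map f.op x

lemma sopg_id {Δ : SimplexCategory} {T : C} (x : Sg P Δ T) : sopg P (𝟙 Δ) x = x := by
  change (P.map (𝟙 Δ).op).app (op T) x = x
  rw [op_id, P.map_id]
  rfl

lemma sopg_comp {Δ Δ' Δ'' : SimplexCategory} (θ' : Δ'' ⟶ Δ') (θ : Δ' ⟶ Δ) {T : C}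
    (x : Sg P Δ T) : sopg P (θ' ≫ θ) x = sopg P θ' (sopg P θ x) := by
  change (P.map (θ' ≫ θ).op).app (op T) x = _
  rw [op_comp, P.map_comp]
  rfl

lemma sopg_rsg {Δ Δ' : SimplexCategory} (θ : Δ' ⟶ Δ) {T T' : C} (f : T' ⟶ T) (x : Sg P Δ T) :
    sopg P θ (rsg P f x) = rsg P f (sopg P θ x) := by
  have h := congrArg (fun φ => φ x) ((P.map θ.op).naturality f.op)
  exact h

variable {P} {T : C} {n : ℕ}

lemma not_surjective_of_len_le {Δ : SimplexCategory} {N : ℕ} (hΔ : Δ.len ≤ N) (σ : Δ ⟶ ⦋N + 1⦌) :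
    ¬ Function.Surjective σ.toOrderHom := by
  intro hs
  haveI : Epi σ := SimplexCategory.epi_iff_surjective.2 hs
  have h := SimplexCategory.len_le_of_epi σ
  have h' : (⦋N + 1⦌ : SimplexCategory).len = N + 1 := rfl
  omega

/-- the facets determine the values on the simplices which factor through them -/
lemma wd_lt (b : Fin (n + 3) → Sx P (n + 1) T) (hb : Compat P (n + 1) b)
    {Δ : SimplexCategory} (α β : Δ ⟶ ⦋n + 1⦌) (i j : Fin (n + 3)) (hij : i < j)
    (h : α ≫ SimplexCategory.δ i = β ≫ SimplexCategory.δ j) :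
    sopg P α (b i) = sopg P β (b j) := by
  obtain ⟨j', rfl⟩ : ∃ j', Fin.succ j' = j :=
    Fin.exists_succ_eq.2 (Fin.ne_of_gt (lt_of_le_of_lt (Fin.zero_le i) hij))
  have hi : i ≠ Fin.last (n + 2) :=
    Fin.ne_of_lt (lt_of_lt_of_le hij (Fin.le_last _))
  obtain ⟨i', rfl⟩ : ∃ i', Fin.castSucc i' = i := Fin.exists_castSucc_eq.2 hi
  have hij' : i' ≤ j' := Fin.castSucc_lt_succ_iff.1 hij
  have hmiss : ∀ x, α.toOrderHom x ≠ j' := by
    intro x hx
    have h1 := congrArg (fun φ => φ.toOrderHom x) h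
    have h2 : (i'.castSucc).succAbove (α.toOrderHom x) = (j'.succ).succAbove (β.toOrderHom x) := h1
    rw [hx, Fin.succAbove_of_le_castSucc _ _ (Fin.castSucc_le_castSucc_iff.2 hij')] at h2
    exact Fin.succAbove_ne _ _ h2.symm
  obtain ⟨ρ, rfl⟩ := SimplexCategory.eq_comp_δ_of_not_surjective' α j' hmiss
  have h3 : (ρ ≫ SimplexCategory.δ i') ≫ SimplexCategory.δ j'.succ =
      β ≫ SimplexCategory.δ j'.succ := by
    rw [Category.assoc, SimplexCategory.δ_comp_δ hij', ← Category.assoc]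
    exact h
  have h4 : ρ ≫ SimplexCategory.δ i' = β := (cancel_mono _).1 h3
  rw [← h4, sopg_comp, sopg_comp]
  exact congrArg (sopg P ρ) (hb i' j' hij').symm

lemma wd (b : Fin (n + 3) → Sx P (n + 1) T) (hb : Compat P (n + 1) b)
    {Δ : SimplexCategory} (α β : Δ ⟶ ⦋n + 1⦌) (i j : Fin (n + 3))
    (h : α ≫ SimplexCategory.δ i = β ≫ SimplexCategory.δ j) :
    sopg P α (b i) = sopg P β (b j) := by
  rcases lt_trichotomy i j with hij | rfl | hij
  · exact wd_lt b hb α β i j hij h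
  · rw [(cancel_mono _).1 h]
  · exact (wd_lt b hb β α j i hij h.symm).symm

/-- the family on the skeleton attached to a compatible family of facets -/
noncomputable def fam (b : Fin (n + 3) → Sx P (n + 1) T) {Δ : SimplexCategory}
    (hΔ : Δ.len ≤ n + 1) (σ : Δ ⟶ ⦋n + 2⦌) : Sg P Δ T :=
  sopg P (SimplexCategory.eq_comp_δ_of_not_surjective σ
      (not_surjective_of_len_le hΔ σ)).choose_spec.choose
    (b (SimplexCategory.eq_comp_δ_of_not_surjective σ (not_surjective_of_len_le hΔ σ)).choose)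

lemma fam_eq (b : Fin (n + 3) → Sx P (n + 1) T) (hb : Compat P (n + 1) b)
    {Δ : SimplexCategory} (hΔ : Δ.len ≤ n + 1) (α : Δ ⟶ ⦋n + 1⦌) (i : Fin (n + 3)) :
    fam b hΔ (α ≫ SimplexCategory.δ i) = sopg P α (b i) := by
  have h := (SimplexCategory.eq_comp_δ_of_not_surjective (α ≫ SimplexCategory.δ i)
    (not_surjective_of_len_le hΔ _)).choose_spec.choose_spec
  exact wd b hb _ α _ i h.symm

lemma fam_comp (b : Fin (n + 3) → Sx P (n + 1) T) (hb : Compat P (n + 1) b)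
    {Δ Δ' : SimplexCategory} (hΔ : Δ.len ≤ n + 1) (hΔ' : Δ'.len ≤ n + 1) (τ : Δ' ⟶ Δ)
    (σ : Δ ⟶ ⦋n + 2⦌) : sopg P τ (fam b hΔ σ) = fam b hΔ' (τ ≫ σ) := by
  obtain ⟨i, α, rfl⟩ := SimplexCategory.eq_comp_δ_of_not_surjective σ
    (not_surjective_of_len_le hΔ σ)
  rw [fam_eq b hb hΔ α i, ← Category.assoc, fam_eq b hb hΔ' (τ ≫ α) i, sopg_comp]

lemma fam_δ (b : Fin (n + 3) → Sx P (n + 1) T) (hb : Compat P (n + 1) b) (i : Fin (n + 3)) :
    fam b (Δ := ⦋n + 1⦌) (le_refl _) (SimplexCategory.δ i) = b i := by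
  have h := fam_eq b hb (Δ := ⦋n + 1⦌) (le_refl _) (𝟙 _) i
  rw [Category.id_comp] at h
  rw [h]
  exact sopg_id P (b i)

end Groth.Agent.Lib.Helper5.HyBridge
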