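import Groth.Agent.Lib.Helper5.HyDict
import Groth.Agent.Lib.Helper5.ExtDerived

/-!
# Čech cohomology of a hypercovering of a site: injective sheaves and degree zero
-/

set_option autoImplicit false

universe u

open CategoryTheory CategoryTheory.Limits Opposite Simplicial

noncomputable section

namespace Groth.Agent.Lib.Helper5.HyCechSite

open Groth.Agent.Lib.Helper5.HyCone Groth.Agent.Lib.Helper5.HyChain
  Groth.Agent.Lib.Helper5.HySheaf Groth.Agent.Lib.Helper5.HyFC
  Groth.Agent.Lib.Helper5.HySite Groth.Agent.Lib.Helper5.HyDict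

variable {C : Type u} [SmallCategory C] (J : GrothendieckTopology C)
  (K : SimplicialObject (FormalCoproduct.{u} C))

/-- the Čech complex functor on sheaves -/
abbrev Tc : Sheaf J AddCommGrpCat.{u} ⥤ CochainComplex AddCommGrpCat.{u} ℕ :=
  sheafToPresheaf J AddCommGrpCat.{u} ⋙ FormalCoproduct.cochainComplexFunctor K

/-- the constant sheaf `ℤ` -/
abbrev Zc : Sheaf J AddCommGrpCat.{u} :=
  (constantSheaf J AddCommGrpCat.{u}).obj (AddCommGrpCat.of (ULift.{u} ℤ))

/-! ### the map from global sections to cocycles of degree zero -/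

section Kappa

variable (F : Sheaf J AddCommGrpCat.{u})

/-- the cochain of degree zero attached to a global section -/
def k0 : AddCommGrpCat.of (Zc J ⟶ F) ⟶ (Hyper.cechCxSite K F.obj).X 0 :=
  AddCommGrpCat.ofHom ((φ J K 0 F).toAddMonoidHom.comp (Preadditive.leftComp F (εK J (PK K))))

lemma k0_apply (γ : Zc J ⟶ F) : (k0 J K F).hom γ = φ J K 0 F (εK J (PK K) ≫ γ) := rfl

lemma k0_d : k0 J K F ≫ (Hyper.cechCxSite K F.obj).d 0 1 = 0 := by
  refine AddCommGrpCat.hom_ext (AddMonoidHom.ext fun γ => ?_)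
  change ((Hyper.cechCxSite K F.obj).d 0 1).hom (φ J K 0 F (εK J (PK K) ≫ γ)) = 0
  rw [← φ_d, ← Category.assoc, d_εK, zero_comp, map_zero]

/-- the cocycle of degree zero attached to a global section -/
def κ : AddCommGrpCat.of (Zc J ⟶ F) ⟶ (Hyper.cechCxSite K F.obj).cycles 0 :=
  (Hyper.cechCxSite K F.obj).liftCycles (k0 J K F) 1 (by simp) (k0_d J K F)

lemma κ_i : κ J K F ≫ (Hyper.cechCxSite K F.obj).iCycles 0 = k0 J K F :=
  HomologicalComplex.liftCycles_i _ _ _ _ _

lemma κ_i_apply (γ : Zc J ⟶ F) :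
    ((Hyper.cechCxSite K F.obj).iCycles 0).hom ((κ J K F).hom γ) =
      φ J K 0 F (εK J (PK K) ≫ γ) :=
  congrArg (fun ψ => ψ.hom γ) (κ_i J K F)

variable {F} in
lemma κ_naturality {F' : Sheaf J AddCommGrpCat.{u}} (g : F ⟶ F') :
    (ExtDer.G (Zc J)).map g ≫ κ J K F' =
      κ J K F ≫ HomologicalComplex.cyclesMap ((Tc J K).map g) 0 := by
  rw [← cancel_mono ((Hyper.cechCxSite K F'.obj).iCycles 0)]
  have h1 : (κ J K F ≫ HomologicalComplex.cyclesMap ((Tc J K).map g) 0) ≫
      (Hyper.cechCxSite K F'.obj).iCycles 0 = k0 J K F ≫ ((Tc J K).map g).f 0 := by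
    rw [Category.assoc]
    refine (congrArg (fun z => κ J K F ≫ z)
      (HomologicalComplex.cyclesMap_i ((Tc J K).map g) 0)).trans ?_
    rw [← Category.assoc]
    exact congrArg (fun z => z ≫ ((Tc J K).map g).f 0) (κ_i J K F)
  have h2 : ((ExtDer.G (Zc J)).map g ≫ κ J K F') ≫ (Hyper.cechCxSite K F'.obj).iCycles 0 =
      (ExtDer.G (Zc J)).map g ≫ k0 J K F' := by
    rw [Category.assoc]
    exact congrArg (fun z => (ExtDer.G (Zc J)).map g ≫ z) (κ_i J K F')
  refine h2.trans (Eq.trans ?_ h1.symm)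
  refine AddCommGrpCat.hom_ext (AddMonoidHom.ext fun γ => ?_)
  change φ J K 0 F' (εK J (PK K) ≫ γ ≫ g) =
    (((FormalCoproduct.cochainComplexFunctor K).map g.hom).f 0).hom
      (φ J K 0 F (εK J (PK K) ≫ γ))
  rw [← φ_nat, Category.assoc]

end Kappa

section Hyper

variable [∀ (n : ℕ) (F : (SimplexCategory.Truncated n)ᵒᵖ ⥤ FormalCoproduct.{u} C),
  (SimplexCategory.Truncated.inclusion n).op.HasRightKanExtension F]
  (hK : Hyper.IsHypercoveringSite J K)

include hK in
/-- **the Čech complex of an injective sheaf is exact in positive degrees** -/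
theorem isZero_homology_succ_of_injective (I : Sheaf J AddCommGrpCat.{u}) [Injective I] (p : ℕ) :
    IsZero ((Hyper.cechCxSite K I.obj).homology (p + 1)) := by
  have hP := locFill J hK
  rw [← HomologicalComplex.exactAt_iff_isZero_homology,
    HomologicalComplex.exactAt_iff' _ p (p + 1) (p + 2) (by simp) (by simp),
    ShortComplex.ab_exact_iff]
  intro x hx
  have hx' : ((Hyper.cechCxSite K I.obj).d (p + 1) (p + 2)).hom x = 0 := hx
  let β : (Kc J (PK K)).X (p + 1) ⟶ I := (φ J K (p + 1) I).symm x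
  have hβ : (Kc J (PK K)).d (p + 2) (p + 1) ≫ β = 0 := by
    apply (φ J K (p + 2) I).injective
    rw [φ_d, map_zero, AddEquiv.apply_symm_apply]
    exact hx'
  have hex : ((Kc J (PK K)).sc' (p + 2) (p + 1) p).Exact :=
    (HomologicalComplex.exactAt_iff' (Kc J (PK K)) (p + 2) (p + 1) p (by simp) (by simp)).1
      (exactAt_succ J hP p)
  let γ : (Kc J (PK K)).X p ⟶ I := hex.descToInjective β hβ
  have hγ : (Kc J (PK K)).d (p + 1) p ≫ γ = β := hex.comp_descToInjective β hβ
  refine ⟨φ J K p I γ, ?_⟩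
  change ((Hyper.cechCxSite K I.obj).d p (p + 1)).hom (φ J K p I γ) = x
  rw [← φ_d, hγ, AddEquiv.apply_symm_apply]

include hK in
lemma κ_bijective (F : Sheaf J AddCommGrpCat.{u}) : Function.Bijective (κ J K F).hom := by
  have hP := locFill J hK
  have inj_i : Function.Injective ((Hyper.cechCxSite K F.obj).iCycles 0).hom :=
    (AddCommGrpCat.mono_iff_injective _).1 inferInstance
  constructor
  · rw [injective_iff_map_eq_zero]
    intro γ hγ
    have h1 : φ J K 0 F (εK J (PK K) ≫ γ) = 0 := by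
      rw [← κ_i_apply, hγ, map_zero]
    have h2 : εK J (PK K) ≫ γ = 0 := (φ J K 0 F).injective (h1.trans (map_zero _).symm)
    have := epi_εK J hP
    exact (cancel_epi (εK J (PK K))).1 (h2.trans comp_zero.symm)
  · intro z
    let x := ((Hyper.cechCxSite K F.obj).iCycles 0).hom z
    have hx : ((Hyper.cechCxSite K F.obj).d 0 1).hom x = 0 :=
      congrArg (fun ψ => ψ.hom z) ((Hyper.cechCxSite K F.obj).iCycles_d 0 1)
    let β : (Kc J (PK K)).X 0 ⟶ F := (φ J K 0 F).symm x
    have hβ : (Kc J (PK K)).d 1 0 ≫ β = 0 := by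
      apply (φ J K 1 F).injective
      rw [φ_d, map_zero, AddEquiv.apply_symm_apply]
      exact hx
    have := epi_εK J hP
    have hc := (exact_zero J hP).gIsCokernel
    let γ : Zc J ⟶ F := hc.desc (CokernelCofork.ofπ β hβ)
    have hγ : εK J (PK K) ≫ γ = β := hc.fac (CokernelCofork.ofπ β hβ) WalkingParallelPair.one
    refine ⟨γ, inj_i ?_⟩
    rw [κ_i_apply, hγ, AddEquiv.apply_symm_apply]

/-- the natural transformation from global sections to `Ȟ⁰` -/
def τ : ExtDer.G (Zc J) ⟶ Tc J K ⋙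
    HomologicalComplex.homologyFunctor AddCommGrpCat.{u} (ComplexShape.up ℕ) 0 where
  app F := κ J K F ≫ (Hyper.cechCxSite K F.obj).homologyπ 0
  naturality F F' g := by
    have h1 : ((ExtDer.G (Zc J)).map g ≫ κ J K F') ≫ (Hyper.cechCxSite K F'.obj).homologyπ 0 =
        (κ J K F ≫ HomologicalComplex.cyclesMap ((Tc J K).map g) 0) ≫
          (Hyper.cechCxSite K F'.obj).homologyπ 0 :=
      congrArg (fun z => z ≫ (Hyper.cechCxSite K F'.obj).homologyπ 0) (κ_naturality J K g)
    have h2 : HomologicalComplex.cyclesMap ((Tc J K).map g) 0 ≫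
        (Hyper.cechCxSite K F'.obj).homologyπ 0 =
        (Hyper.cechCxSite K F.obj).homologyπ 0 ≫
          HomologicalComplex.homologyMap ((Tc J K).map g) 0 :=
      (HomologicalComplex.homologyπ_naturality ((Tc J K).map g) 0).symm
    exact (Category.assoc _ _ _).symm.trans (h1.trans ((Category.assoc _ _ _).trans
      ((congrArg (fun z => κ J K F ≫ z) h2).trans (Category.assoc _ _ _).symm)))

include hK in
lemma isIso_τ_app (F : Sheaf J AddCommGrpCat.{u}) : IsIso ((τ J K).app F) := by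
  haveI : IsIso (κ J K F) := (ConcreteCategory.isIso_iff_bijective _).2 (κ_bijective J K hK F)
  change IsIso (κ J K F ≫ (Hyper.cechCxSite K F.obj).homologyπ 0)
  infer_instance

include hK in
/-- **`Ȟ⁰(K, -)` is the functor of global sections** -/
theorem nonempty_H0Iso : Nonempty (Tc J K ⋙
    HomologicalComplex.homologyFunctor AddCommGrpCat.{u} (ComplexShape.up ℕ) 0 ≅
      ExtDer.G (Zc J)) := by
  haveI : ∀ F, IsIso ((τ J K).app F) := isIso_τ_app J K hK
  haveI : IsIso (τ J K) := NatIso.isIso_of_isIso_app _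
  exact ⟨(asIso (τ J K)).symm⟩

end Hyper

/-! ### global sections -/

section Global

instance : (Functor.const Cᵒᵖ : AddCommGrpCat.{u} ⥤ Cᵒᵖ ⥤ AddCommGrpCat.{u}).Additive where
  map_add := by
    intro X Y f g
    ext j
    rfl

/-- morphisms from the constant sheaf `ℤ` are the global sections -/
def globalEquiv (F : Sheaf J AddCommGrpCat.{u}) : (Zc J ⟶ F) ≃+ (limit F.obj : AddCommGrpCat.{u}) :=
  ((sheafificationAdjunction J AddCommGrpCat.{u}).homAddEquiv
      ((Functor.const Cᵒᵖ).obj (AddCommGrpCat.of (ULift.{u} ℤ))) F).trans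
    (((constLimAdj (J := Cᵒᵖ) (C := AddCommGrpCat.{u})).homAddEquiv
      (AddCommGrpCat.of (ULift.{u} ℤ)) F.obj).trans
      (AddCommGrpCat.uliftZMultiplesAddEquiv (limit F.obj)))

variable [∀ (n : ℕ) (F : (SimplexCategory.Truncated n)ᵒᵖ ⥤ FormalCoproduct.{u} C),
  (SimplexCategory.Truncated.inclusion n).op.HasRightKanExtension F]
  (hK : Hyper.IsHypercoveringSite J K)

include hK in
/-- **`Ȟ⁰(K, F)` is the group of global sections of `F`** -/
theorem nonempty_h0_iso (F : Sheaf J AddCommGrpCat.{u}) :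
    Nonempty ((Hyper.cechCxSite K F.obj).homology 0 ≅ limit F.obj) := by
  haveI := isIso_τ_app J K hK F
  exact ⟨(asIso ((τ J K).app F)).symm ≪≫ (globalEquiv J F).toAddCommGrpIso⟩

end Global

end Groth.Agent.Lib.Helper5.HyCechSite
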