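import Groth.Agent.Lib.Helper5.HyCone

/-!
# Cycles of the free chain complex of a simplicial presheaf with local fillers are locally
boundaries
-/

set_option autoImplicit false

universe u

open CategoryTheory CategoryTheory.Limits Opposite Simplicial

namespace Groth.Agent.Lib.Helper5.HyChain

open Groth.Agent.Lib.Helper5.HyCone

/-! ### free abelian groups -/

section Free

variable {α β : Type u}

lemma map_eq_of_eqOn (A : Set α) (f g : α → β) (h : ∀ a ∈ A, f a = g a)
    (z : FreeAbelianGroup α) (hz : z ∈ AddSubgroup.closure (FreeAbelianGroup.of '' A)) :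
    FreeAbelianGroup.map f z = FreeAbelianGroup.map g z := by
  induction hz using AddSubgroup.closure_induction with
  | mem x hx =>
    obtain ⟨a, ha, rfl⟩ := hx
    rw [FreeAbelianGroup.map_of_apply, FreeAbelianGroup.map_of_apply, h a ha]
  | zero => rw [map_zero, map_zero]
  | add x y _ _ hx hy => rw [map_add, map_add, hx, hy]
  | neg x _ hx => rw [map_neg, map_neg, hx]

lemma exists_finite_support (z : FreeAbelianGroup α) :
    ∃ A : Set α, A.Finite ∧ z ∈ AddSubgroup.closure (FreeAbelianGroup.of '' A) := by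
  refine FreeAbelianGroup.induction_on z ?_ ?_ ?_ ?_
  · exact ⟨∅, Set.finite_empty, zero_mem _⟩
  · intro x
    exact ⟨{x}, Set.finite_singleton x,
      AddSubgroup.subset_closure ⟨x, Set.mem_singleton x, rfl⟩⟩
  · intro x _
    exact ⟨{x}, Set.finite_singleton x,
      neg_mem (AddSubgroup.subset_closure ⟨x, Set.mem_singleton x, rfl⟩)⟩
  · rintro x y ⟨A, hA, hx⟩ ⟨B, hB, hy⟩
    refine ⟨A ∪ B, hA.union hB, add_mem ?_ ?_⟩
    · exact AddSubgroup.closure_mono (Set.image_mono Set.subset_union_left) hx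
    · exact AddSubgroup.closure_mono (Set.image_mono Set.subset_union_right) hy

lemma map_const (v : β) (z : FreeAbelianGroup α) :
    FreeAbelianGroup.map (fun _ : α => v) z =
      (FreeAbelianGroup.lift (fun _ : α => (1 : ℤ)) z) • FreeAbelianGroup.of v := by
  refine FreeAbelianGroup.induction_on z ?_ ?_ ?_ ?_
  · rw [map_zero, map_zero, zero_smul]
  · intro x
    rw [FreeAbelianGroup.map_of_apply, FreeAbelianGroup.lift_apply_of, one_smul]
  · intro x hx
    rw [map_neg, map_neg, hx, neg_smul]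
  · intro x y hx hy
    rw [map_add, map_add, hx, hy, add_smul]

lemma map_map (f : α → β) {γ : Type u} (g : β → γ) (z : FreeAbelianGroup α) :
    FreeAbelianGroup.map g (FreeAbelianGroup.map f z) = FreeAbelianGroup.map (fun a => g (f a)) z := by
  refine FreeAbelianGroup.induction_on z ?_ ?_ ?_ ?_
  · rw [map_zero, map_zero, map_zero]
  · intro x
    rw [FreeAbelianGroup.map_of_apply, FreeAbelianGroup.map_of_apply,
      FreeAbelianGroup.map_of_apply]
  · intro x hx
    rw [map_neg, map_neg, map_neg, hx]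
  · intro x y hx hy
    rw [map_add, map_add, map_add, hx, hy]

end Free

/-! ### chains -/

section Chains

variable {C : Type u} [Category.{u} C] (J : GrothendieckTopology C)
  (P : SimplexCategoryᵒᵖ ⥤ (Cᵒᵖ ⥤ Type u))

/-- chains -/
abbrev Ch (n : ℕ) (T : C) : Type u := FreeAbelianGroup (Sx P n T)

/-- the boundary -/
noncomputable def bd (n : ℕ) (T : C) (z : Ch P (n + 1) T) : Ch P n T :=
  ∑ i : Fin (n + 2), (-1 : ℤ) ^ (i : ℕ) • FreeAbelianGroup.map (fc P i) z

/-- restriction of chains -/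
noncomputable def res {n : ℕ} {T T' : C} (f : T' ⟶ T) (z : Ch P n T) : Ch P n T' :=
  FreeAbelianGroup.map (rs P f) z

/-- the augmentation -/
noncomputable def aug (T : C) (z : Ch P 0 T) : ℤ := FreeAbelianGroup.lift (fun _ => (1 : ℤ)) z

lemma bd_zero (n : ℕ) (T : C) : bd P n T 0 = 0 := by
  unfold bd
  simp

lemma map_bd {T T' : C} (n : ℕ) (c : ∀ k, Sx P k T → Sx P (k + 1) T') (z : Ch P (n + 1) T) :
    FreeAbelianGroup.map (c n) (bd P n T z) =
      ∑ i : Fin (n + 2), (-1 : ℤ) ^ (i : ℕ) •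
        FreeAbelianGroup.map (fun x => c n (fc P i x)) z := by
  unfold bd
  rw [map_sum]
  refine Finset.sum_congr rfl (fun i _ => ?_)
  rw [map_zsmul, map_map]

/-- the sets of the iterated faces of a finite set of simplices -/
def Wset {m : ℕ} {T : C} (A : Set (Sx P m T)) (k : ℕ) : Set (Sx P k T) :=
  ⋃ x ∈ A, Set.range (fun θ : ⦋k⦌ ⟶ ⦋m⦌ => sop P θ x)

lemma finite_Wset {m : ℕ} {T : C} (A : Set (Sx P m T)) (hA : A.Finite) (k : ℕ) :
    (Wset P A k).Finite :=
  Set.Finite.biUnion hA (fun x _ => Set.finite_range _)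

lemma fc_mem_Wset {m : ℕ} {T : C} (A : Set (Sx P m T)) (k : ℕ) (x : Sx P (k + 1) T)
    (hx : x ∈ Wset P A (k + 1)) (i : Fin (k + 2)) : fc P i x ∈ Wset P A k := by
  simp only [Wset, Set.mem_iUnion, Set.mem_range] at hx ⊢
  obtain ⟨a, ha, θ, rfl⟩ := hx
  exact ⟨a, ha, SimplexCategory.δ i ≫ θ, (fc_sop P i θ a).symm⟩

lemma subset_Wset {m : ℕ} {T : C} (A : Set (Sx P m T)) : A ⊆ Wset P A m := by
  intro a ha
  simp only [Wset, Set.mem_iUnion, Set.mem_range]
  exact ⟨a, ha, 𝟙 _, sop_id P a⟩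

variable {P} (hP : LocFill J P)

include hP in
/-- **cycles of positive degree are locally boundaries** -/
theorem exists_boundary_succ (m : ℕ) (T : C) (z : Ch P (m + 1) T) (hz : bd P m T z = 0) :
    ∃ S : Sieve T, S ∈ J T ∧ ∀ ⦃T' : C⦄ (f : T' ⟶ T), S f →
      ∃ w : Ch P (m + 2) T', bd P (m + 1) T' w = res P f z := by
  obtain ⟨A, hA, hzA⟩ := exists_finite_support z
  obtain ⟨S, hS, h⟩ := exists_cone J hP (W := Wset P A) (finite_Wset P A hA)
    (fun k x hx i => fc_mem_Wset P A k x hx i) (m + 2)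
  refine ⟨S, hS, fun T' f hf => ?_⟩
  obtain ⟨D⟩ := h f hf
  refine ⟨FreeAbelianGroup.map (D.c (m + 1)) z, ?_⟩
  have h0 : FreeAbelianGroup.map (fc P 0) (FreeAbelianGroup.map (D.c (m + 1)) z) =
      FreeAbelianGroup.map (rs P f) z := by
    rw [map_map]
    exact map_eq_of_eqOn A _ _
      (fun a ha => (D.hc (m + 1) (Nat.lt_succ_self _) a (subset_Wset P A ha)).1) z hzA
  have hs : ∀ i : Fin (m + 2),
      FreeAbelianGroup.map (fc P i.succ) (FreeAbelianGroup.map (D.c (m + 1)) z) =
      FreeAbelianGroup.map (fun x => D.c m (fc P i x)) z := by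
    intro i
    rw [map_map]
    exact map_eq_of_eqOn A _ _
      (fun a ha => (D.hc (m + 1) (Nat.lt_succ_self _) a (subset_Wset P A ha)).2 i) z hzA
  have h1 := map_bd P m D.c z
  rw [hz, map_zero] at h1
  unfold bd
  rw [Fin.sum_univ_succ, h0]
  have h2 : ∑ i : Fin (m + 2), (-1 : ℤ) ^ ((i.succ : Fin (m + 3)) : ℕ) •
      FreeAbelianGroup.map (fc P i.succ) (FreeAbelianGroup.map (D.c (m + 1)) z) = 0 := by
    have h3 : ∀ i : Fin (m + 2), (-1 : ℤ) ^ ((i.succ : Fin (m + 3)) : ℕ) •
        FreeAbelianGroup.map (fc P i.succ) (FreeAbelianGroup.map (D.c (m + 1)) z) =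
        -((-1 : ℤ) ^ (i : ℕ) • FreeAbelianGroup.map (fun x => D.c m (fc P i x)) z) := by
      intro i
      rw [hs i, Fin.val_succ, pow_succ, mul_neg_one, neg_smul]
    rw [Finset.sum_congr rfl (fun i _ => h3 i), Finset.sum_neg_distrib, ← h1, neg_zero]
  rw [h2, add_zero]
  simp [res]

include hP in
/-- **chains of degree zero with vanishing augmentation are locally boundaries** -/
theorem exists_boundary_zero (T : C) (z : Ch P 0 T) (hz : aug P T z = 0) :
    ∃ S : Sieve T, S ∈ J T ∧ ∀ ⦃T' : C⦄ (f : T' ⟶ T), S f →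
      ∃ w : Ch P 1 T', bd P 0 T' w = res P f z := by
  obtain ⟨A, hA, hzA⟩ := exists_finite_support z
  obtain ⟨S, hS, h⟩ := exists_cone J hP (W := Wset P A) (finite_Wset P A hA)
    (fun k x hx i => fc_mem_Wset P A k x hx i) 1
  refine ⟨S, hS, fun T' f hf => ?_⟩
  obtain ⟨D⟩ := h f hf
  refine ⟨FreeAbelianGroup.map (D.c 0) z, ?_⟩
  have h0 : FreeAbelianGroup.map (fc P 0) (FreeAbelianGroup.map (D.c 0) z) =
      FreeAbelianGroup.map (rs P f) z := by
    rw [map_map]
    exact map_eq_of_eqOn A _ _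
      (fun a ha => (D.hc 0 Nat.zero_lt_one a (subset_Wset P A ha)).1) z hzA
  have hs : FreeAbelianGroup.map (fc P (1 : Fin 2)) (FreeAbelianGroup.map (D.c 0) z) = 0 := by
    rw [map_map]
    have e := map_eq_of_eqOn A (fun x => fc P (1 : Fin 2) (D.c 0 x)) (fun _ => D.v₀)
      (fun a ha => (D.hc 0 Nat.zero_lt_one a (subset_Wset P A ha)).2 0) z hzA
    rw [e, map_const]
    have hz' : FreeAbelianGroup.lift (fun _ : Sx P 0 T => (1 : ℤ)) z = 0 := hz
    rw [hz', zero_smul]
  unfold bd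
  rw [Fin.sum_univ_two, h0, hs]
  simp [res]

end Chains

end Groth.Agent.Lib.Helper5.HyChain
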