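import Mathlib

/-!
# Local cones in a simplicial presheaf with local fillers

Let `P` be a simplicial presheaf of sets on a site `(C, J)` such that, locally, `P₀` is not empty
and every compatible family of facets of a simplex is the boundary of a simplex.  Then every cycle
of the complex of free abelian groups `ℤ[P_•(T)]` is locally a boundary (cone construction).
-/

set_option autoImplicit false

universe u

open CategoryTheory CategoryTheory.Limits Opposite Simplicial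

namespace Groth.Agent.Lib.Helper5.HyCone

variable {C : Type u} [Category.{u} C]

/-! ### sections of a simplicial presheaf -/

section Basic

variable (P : SimplexCategoryᵒᵖ ⥤ (Cᵒᵖ ⥤ Type u))

/-- the `n`-simplices over `T` -/
abbrev Sx (n : ℕ) (T : C) : Type u := (P.obj (op ⦋n⦌)).obj (op T)

/-- restriction of simplices -/
def rs {n : ℕ} {T T' : C} (f : T' ⟶ T) (x : Sx P n T) : Sx P n T' :=
  (P.obj (op ⦋n⦌)).map f.op x

/-- the simplicial operators -/
def sop {n k : ℕ} (θ : ⦋k⦌ ⟶ ⦋n⦌) {T : C} (x : Sx P n T) : Sx P k T :=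
  (P.map θ.op).app (op T) x

lemma rs_id {n : ℕ} {T : C} (x : Sx P n T) : rs P (𝟙 T) x = x := by
  change (P.obj (op ⦋n⦌)).map (𝟙 T).op x = x
  rw [op_id, (P.obj (op ⦋n⦌)).map_id]
  rfl

lemma rs_comp {n : ℕ} {T T' T'' : C} (g : T'' ⟶ T') (f : T' ⟶ T) (x : Sx P n T) :
    rs P (g ≫ f) x = rs P g (rs P f x) := by
  change (P.obj (op ⦋n⦌)).map (g ≫ f).op x = _
  rw [op_comp, (P.obj (op ⦋n⦌)).map_comp]
  rfl

lemma sop_id {n : ℕ} {T : C} (x : Sx P n T) : sop P (𝟙 ⦋n⦌) x = x := by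
  change (P.map (𝟙 ⦋n⦌).op).app (op T) x = x
  rw [op_id, P.map_id]
  rfl

lemma sop_comp {n k l : ℕ} (θ' : ⦋l⦌ ⟶ ⦋k⦌) (θ : ⦋k⦌ ⟶ ⦋n⦌) {T : C} (x : Sx P n T) :
    sop P (θ' ≫ θ) x = sop P θ' (sop P θ x) := by
  change (P.map (θ' ≫ θ).op).app (op T) x = _
  rw [op_comp, P.map_comp]
  rfl

lemma sop_rs {n k : ℕ} (θ : ⦋k⦌ ⟶ ⦋n⦌) {T T' : C} (f : T' ⟶ T) (x : Sx P n T) :
    sop P θ (rs P f x) = rs P f (sop P θ x) := by
  have h := congrArg (fun φ => φ x) ((P.map θ.op).naturality f.op)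
  exact h

/-- the faces -/
def fc {n : ℕ} (i : Fin (n + 2)) {T : C} (x : Sx P (n + 1) T) : Sx P n T :=
  sop P (SimplexCategory.δ i) x

lemma fc_rs {n : ℕ} (i : Fin (n + 2)) {T T' : C} (f : T' ⟶ T) (x : Sx P (n + 1) T) :
    fc P i (rs P f x) = rs P f (fc P i x) := sop_rs P _ f x

lemma fc_fc {n : ℕ} (i j : Fin (n + 2)) (h : i ≤ j) {T : C} (x : Sx P (n + 2) T) :
    fc P i (fc P j.succ x) = fc P j (fc P i.castSucc x) := by
  change sop P (SimplexCategory.δ i) (sop P (SimplexCategory.δ j.succ) x) =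
    sop P (SimplexCategory.δ j) (sop P (SimplexCategory.δ i.castSucc) x)
  rw [← sop_comp, ← sop_comp, SimplexCategory.δ_comp_δ h]

lemma fc_sop {n k : ℕ} (i : Fin (k + 2)) (θ : ⦋k + 1⦌ ⟶ ⦋n⦌) {T : C} (x : Sx P n T) :
    fc P i (sop P θ x) = sop P (SimplexCategory.δ i ≫ θ) x := (sop_comp P _ θ x).symm

end Basic

/-! ### local statements -/

section Local

variable (J : GrothendieckTopology C)

lemma loc_bind {T : C} {Q₁ Q₂ : ∀ ⦃T' : C⦄, (T' ⟶ T) → Prop}
    (h1 : ∃ S : Sieve T, S ∈ J T ∧ ∀ ⦃T' : C⦄ (f : T' ⟶ T), S f → Q₁ f)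
    (h2 : ∀ ⦃T' : C⦄ (f : T' ⟶ T), Q₁ f →
      ∃ R : Sieve T', R ∈ J T' ∧ ∀ ⦃T'' : C⦄ (g : T'' ⟶ T'), R g → Q₂ (g ≫ f)) :
    ∃ S : Sieve T, S ∈ J T ∧ ∀ ⦃T' : C⦄ (f : T' ⟶ T), S f → Q₂ f := by
  obtain ⟨S, hS, hQ⟩ := h1
  choose R hR hRQ using fun (T' : C) (f : T' ⟶ T) (hf : S f) => h2 f (hQ f hf)
  refine ⟨Sieve.bind S (fun T' f hf => R T' f hf),
    J.bind_covering hS (fun T' f hf => hR T' f hf), ?_⟩
  rintro T'' h ⟨T', g, f, hf, hg, rfl⟩
  exact hRQ T' f hf g hg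

lemma loc_finite {T : C} {α : Type*} (A : Finset α) (Q : α → ∀ ⦃T' : C⦄, (T' ⟶ T) → Prop)
    (h : ∀ a ∈ A, ∃ S : Sieve T, S ∈ J T ∧ ∀ ⦃T' : C⦄ (f : T' ⟶ T), S f → Q a f) :
    ∃ S : Sieve T, S ∈ J T ∧ ∀ ⦃T' : C⦄ (f : T' ⟶ T), S f → ∀ a ∈ A, Q a f := by
  classical
  induction A using Finset.induction_on with
  | empty => exact ⟨⊤, J.top_mem T, fun _ _ _ a ha => absurd ha (Finset.notMem_empty a)⟩
  | insert a A ha ih =>
    obtain ⟨S₁, hS₁, h1⟩ := h a (Finset.mem_insert_self a A)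
    obtain ⟨S₂, hS₂, h2⟩ := ih (fun b hb => h b (Finset.mem_insert_of_mem hb))
    refine ⟨S₁ ⊓ S₂, J.intersection_covering hS₁ hS₂, fun T' f hf b hb => ?_⟩
    rcases Finset.mem_insert.1 hb with rfl | hb
    · exact h1 f hf.1
    · exact h2 f hf.2 b hb

lemma loc_finite_set {T : C} {α : Type*} (A : Set α) (hA : A.Finite)
    (Q : α → ∀ ⦃T' : C⦄, (T' ⟶ T) → Prop)
    (h : ∀ a ∈ A, ∃ S : Sieve T, S ∈ J T ∧ ∀ ⦃T' : C⦄ (f : T' ⟶ T), S f → Q a f) :
    ∃ S : Sieve T, S ∈ J T ∧ ∀ ⦃T' : C⦄ (f : T' ⟶ T), S f → ∀ a ∈ A, Q a f := by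
  obtain ⟨S, hS, hQ⟩ := loc_finite J hA.toFinset Q (fun a ha => h a (hA.mem_toFinset.1 ha))
  exact ⟨S, hS, fun T' f hf a ha => hQ f hf a (hA.mem_toFinset.2 ha)⟩

end Local

/-! ### local fillers -/

section Fill

variable (J : GrothendieckTopology C) (P : SimplexCategoryᵒᵖ ⥤ (Cᵒᵖ ⥤ Type u))

/-- compatibility of a family of facets -/
def Compat {T : C} (n : ℕ) (b : Fin (n + 2) → Sx P n T) : Prop :=
  match n, b with
  | 0, _ => True
  | n + 1, b => ∀ i j : Fin (n + 2), i ≤ j → fc P i (b j.succ) = fc P j (b i.castSucc)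

/-- the simplicial presheaf has local fillers -/
structure LocFill : Prop where
  nonempty : ∀ T : C, ∃ S : Sieve T, S ∈ J T ∧
    ∀ ⦃T' : C⦄ (f : T' ⟶ T), S f → Nonempty (Sx P 0 T')
  fill : ∀ (n : ℕ) (T : C) (b : Fin (n + 2) → Sx P n T), Compat P n b →
    ∃ S : Sieve T, S ∈ J T ∧ ∀ ⦃T' : C⦄ (f : T' ⟶ T), S f →
      ∃ x : Sx P (n + 1) T', ∀ i, fc P i x = rs P f (b i)

variable {P}

/-- the lower faces of the cones -/
def lowF {T T' : C} (v₀ : Sx P 0 T') (c : ∀ k, Sx P k T → Sx P (k + 1) T')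
    (k : ℕ) (x : Sx P k T) (i : Fin (k + 1)) : Sx P k T' :=
  match k, x, i with
  | 0, _, _ => v₀
  | k + 1, x, i => c k (fc P i x)

lemma lowF_symm {T T' : C} (v₀ : Sx P 0 T') (c : ∀ k, Sx P k T → Sx P (k + 1) T') (k : ℕ)
    (x : Sx P (k + 1) T) (i j : Fin (k + 1)) (h : i ≤ j) :
    lowF v₀ c k (fc P j.succ x) i = lowF v₀ c k (fc P i.castSucc x) j := by
  cases k with
  | zero => rfl
  | succ k => exact congrArg (c k) (fc_fc P i j h x)

lemma lowF_congr {T T' : C} (v₀ : Sx P 0 T') (c c' : ∀ k, Sx P k T → Sx P (k + 1) T') (k : ℕ)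
    (h : ∀ k', k' < k → c k' = c' k') : lowF v₀ c k = lowF v₀ c' k := by
  cases k with
  | zero => rfl
  | succ k =>
    funext x i
    change c k (fc P i x) = c' k (fc P i x)
    rw [h k (Nat.lt_succ_self k)]

lemma lowF_rs {T T' T'' : C} (g : T'' ⟶ T') (v₀ : Sx P 0 T')
    (c : ∀ k, Sx P k T → Sx P (k + 1) T') (k : ℕ) (x : Sx P k T) (i : Fin (k + 1)) :
    lowF (rs P g v₀) (fun k x => rs P g (c k x)) k x i = rs P g (lowF v₀ c k x i) := by
  cases k with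
  | zero => rfl
  | succ k => rfl

/-- cone data up to level `m` -/
structure ConeData {T : C} (W : ∀ k, Set (Sx P k T)) (m : ℕ) {T' : C} (f : T' ⟶ T) where
  /-- the vertex -/
  v₀ : Sx P 0 T'
  /-- the cones -/
  c : ∀ k, Sx P k T → Sx P (k + 1) T'
  hc : ∀ k, k < m → ∀ x ∈ W k, fc P 0 (c k x) = rs P f x ∧
    ∀ i : Fin (k + 1), fc P i.succ (c k x) = lowF v₀ c k x i

variable {T : C} {W : ∀ k, Set (Sx P k T)}

/-- restriction of cone data -/
def ConeData.restrict {m : ℕ} {T' T'' : C} {f : T' ⟶ T} (D : ConeData W m f) (g : T'' ⟶ T') :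
    ConeData W m (g ≫ f) where
  v₀ := rs P g D.v₀
  c k x := rs P g (D.c k x)
  hc k hk x hx := by
    refine ⟨?_, fun i => ?_⟩
    · rw [fc_rs, (D.hc k hk x hx).1, ← rs_comp]
    · rw [fc_rs, (D.hc k hk x hx).2 i, lowF_rs]

/-- the facets of the cone over a simplex -/
def coneFacets {m : ℕ} {T' : C} {f : T' ⟶ T} (D : ConeData W m f) (x : Sx P m T) :
    Fin (m + 2) → Sx P m T' :=
  Fin.cases (rs P f x) (fun i => lowF D.v₀ D.c m x i)

lemma compat_coneFacets (hW : ∀ k, ∀ x ∈ W (k + 1), ∀ i, fc P i x ∈ W k) {m : ℕ} {T' : C}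
    {f : T' ⟶ T} (D : ConeData W m f) (x : Sx P m T) (hx : x ∈ W m) :
    Compat P m (coneFacets D x) := by
  cases m with
  | zero => trivial
  | succ m =>
    intro i j hij
    have hb : ∀ l : Fin (m + 2), coneFacets D x l.succ = D.c m (fc P l x) := fun l => rfl
    revert hij
    refine Fin.cases ?_ (fun i' => ?_) i
    · -- `i = 0`
      intro _
      rw [hb j, Fin.castSucc_zero]
      change fc P 0 (D.c m (fc P j x)) = fc P j (rs P f x)
      rw [(D.hc m (Nat.lt_succ_self m) (fc P j x) (hW m x hx j)).1, fc_rs]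
    · intro hij
      obtain ⟨j', rfl⟩ : ∃ j', Fin.succ j' = j := by
        apply Fin.exists_succ_eq.2
        intro h0
        rw [h0] at hij
        exact absurd hij (by simp [Fin.le_def])
      have hij' : i' ≤ j' := Fin.succ_le_succ_iff.1 hij
      rw [hb j'.succ, ← Fin.succ_castSucc, hb i'.castSucc]
      rw [(D.hc m (Nat.lt_succ_self m) _ (hW m x hx j'.succ)).2 i',
        (D.hc m (Nat.lt_succ_self m) _ (hW m x hx i'.castSucc)).2 j']
      exact lowF_symm D.v₀ D.c m x i' j' hij'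

open Classical in
/-- the extended cones -/
noncomputable def extC {m : ℕ} {T' T'' : C} {f : T' ⟶ T} (D : ConeData W m f) (g : T'' ⟶ T')
    (y : ∀ x, x ∈ W m → Sx P (m + 1) T'') : ∀ k, Sx P k T → Sx P (k + 1) T'' :=
  Function.update (fun k x => rs P g (D.c k x)) m
    (fun x => if hx : x ∈ W m then y x hx else rs P g (D.c m x))

lemma extC_ne {m : ℕ} {T' T'' : C} {f : T' ⟶ T} (D : ConeData W m f) (g : T'' ⟶ T')
    (y : ∀ x, x ∈ W m → Sx P (m + 1) T'') (k : ℕ) (hk : k ≠ m) :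
    extC D g y k = fun x => rs P g (D.c k x) :=
  Function.update_of_ne hk _ _

lemma extC_self {m : ℕ} {T' T'' : C} {f : T' ⟶ T} (D : ConeData W m f) (g : T'' ⟶ T')
    (y : ∀ x, x ∈ W m → Sx P (m + 1) T'') (x : Sx P m T) (hx : x ∈ W m) :
    extC D g y m x = y x hx := by
  unfold extC
  rw [Function.update_self, dif_pos hx]

/-- extension of cone data by one level -/
noncomputable def ConeData.extend {m : ℕ} {T' T'' : C} {f : T' ⟶ T} (D : ConeData W m f)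
    (g : T'' ⟶ T') (y : ∀ x, x ∈ W m → Sx P (m + 1) T'')
    (hy : ∀ x hx i, fc P i (y x hx) = rs P g (coneFacets D x i)) :
    ConeData W (m + 1) (g ≫ f) where
  v₀ := rs P g D.v₀
  c := extC D g y
  hc k hk x hx := by
    have hlow : lowF (rs P g D.v₀) (extC D g y) k =
        lowF (rs P g D.v₀) (fun k x => rs P g (D.c k x)) k :=
      lowF_congr _ _ _ k (fun k' hk' => extC_ne D g y k' (by omega))
    rcases Nat.lt_succ_iff_lt_or_eq.1 hk with hk' | rfl
    · rw [hlow, extC_ne D g y k (by omega)]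
      exact (D.restrict g).hc k hk' x hx
    · rw [hlow, extC_self D g y x hx]
      refine ⟨?_, fun i => ?_⟩
      · rw [hy x hx 0, rs_comp]
        rfl
      · rw [hy x hx i.succ, lowF_rs]
        rfl

variable (hP : LocFill J P)

include hP in
/-- **local existence of cones** -/
theorem exists_cone (hfin : ∀ k, (W k).Finite)
    (hW : ∀ k, ∀ x ∈ W (k + 1), ∀ i, fc P i x ∈ W k) (m : ℕ) :
    ∃ S : Sieve T, S ∈ J T ∧ ∀ ⦃T' : C⦄ (f : T' ⟶ T), S f → Nonempty (ConeData W m f) := by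
  induction m with
  | zero =>
    obtain ⟨S, hS, h⟩ := hP.nonempty T
    refine ⟨S, hS, fun T' f hf => ?_⟩
    obtain ⟨v₀⟩ := h f hf
    exact ⟨{ v₀ := v₀
             c := fun k x => sop P (SimplexCategory.σ (0 : Fin (k + 1))) (rs P f x)
             hc := fun k hk => absurd hk (Nat.not_lt_zero k) }⟩
  | succ m ih =>
    refine loc_bind J ih ?_
    rintro T' f ⟨D⟩
    have h1 : ∀ x ∈ W m, ∃ R : Sieve T', R ∈ J T' ∧ ∀ ⦃T'' : C⦄ (g : T'' ⟶ T'), R g →
        ∃ y : Sx P (m + 1) T'', ∀ i, fc P i y = rs P g (coneFacets D x i) :=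
      fun x hx => hP.fill m T' (coneFacets D x) (compat_coneFacets hW D x hx)
    obtain ⟨R, hR, h2⟩ := loc_finite_set J (W m) (hfin m)
      (fun x T'' g => ∃ y : Sx P (m + 1) T'', ∀ i, fc P i y = rs P g (coneFacets D x i)) h1
    refine ⟨R, hR, fun T'' g hg => ?_⟩
    choose y hy using h2 g hg
    exact ⟨D.extend g y hy⟩

end Fill

end Groth.Agent.Lib.Helper5.HyCone
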