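import Groth.Agent.Lib.Helper5.HySite
import Groth.Agent.Lib.Helper5.FreePsh

/-!
# The dictionary between morphisms out of `ℤ[F(K)]^#` and Čech cochains
-/

set_option autoImplicit false

universe u

open CategoryTheory CategoryTheory.Limits Opposite Simplicial

noncomputable section

namespace Groth.Agent.Lib.Helper5.HyDict

open Groth.Agent.Lib.Helper5.HyCone Groth.Agent.Lib.Helper5.HyChain
  Groth.Agent.Lib.Helper5.HySheaf Groth.Agent.Lib.Helper5.HyFC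
  Groth.Agent.Lib.Helper5.HySite Groth.Agent.Lib.Helper5.FreePsh

variable {C : Type u} [SmallCategory C]

/-- evaluation of a morphism of abelian groups at an element, as an additive map -/
def evAb {A B : AddCommGrpCat.{u}} (x : A) : (A ⟶ B) →+ B where
  toFun f := f.hom x
  map_zero' := rfl
  map_add' _ _ := rfl

lemma sum_zsmul_hom_apply {A B : AddCommGrpCat.{u}} {ι : Type} (s : Finset ι) (c : ι → ℤ)
    (f : ι → (A ⟶ B)) (x : A) :
    (∑ i ∈ s, c i • f i).hom x = ∑ i ∈ s, c i • (f i).hom x := by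
  change evAb x (∑ i ∈ s, c i • f i) = _
  rw [map_sum]
  refine Finset.sum_congr rfl (fun i _ => ?_)
  rw [map_zsmul]
  rfl

section Presheaf

variable (X : FormalCoproduct.{u} C) (Q : Cᵒᵖ ⥤ AddCommGrpCat.{u})

/-- the canonical generators -/
def g0 (i : X.I) : ((Z (Sec.obj X)).obj (op (X.obj i)) : Type u) :=
  gen (Sec.obj X) (op (X.obj i)) (⟨i, 𝟙 _⟩ : SecT X (X.obj i))

/-- the group of Čech cochains -/
abbrev Ev : AddCommGrpCat.{u} := ∏ᶜ fun i : X.I => Q.obj (op (X.obj i))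

/-- evaluation at the canonical generators -/
def evG (i : X.I) : (Z (Sec.obj X) ⟶ Q) →+ Q.obj (op (X.obj i)) :=
  FreePsh.evalHom _ _ _ (g0 X i)

lemma evG_apply (i : X.I) (β : Z (Sec.obj X) ⟶ Q) :
    evG X Q i β = fam β (op (X.obj i)) (⟨i, 𝟙 _⟩ : SecT X (X.obj i)) := rfl

/-- the cochain of a morphism -/
def Ψ : AddCommGrpCat.of (Z (Sec.obj X) ⟶ Q) ⟶ Ev X Q :=
  Pi.lift (fun i => AddCommGrpCat.ofHom (evG X Q i))

lemma Ψ_π (i : X.I) :
    Ψ X Q ≫ Pi.π (fun i : X.I => Q.obj (op (X.obj i))) i = AddCommGrpCat.ofHom (evG X Q i) :=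
  Pi.lift_π _ _

lemma Ψ_π_apply (i : X.I) (β : Z (Sec.obj X) ⟶ Q) :
    (Pi.π (fun i : X.I => Q.obj (op (X.obj i))) i).hom ((Ψ X Q).hom β) = evG X Q i β :=
  congrArg (fun φ => φ.hom β) (Ψ_π X Q i)

/-- the family attached to a cochain -/
def famOf (y : Ev X Q) (V : Cᵒᵖ) (s : (Sec.obj X).obj V) : Q.obj V :=
  (Q.map s.2.op).hom ((Pi.π (fun i : X.I => Q.obj (op (X.obj i))) s.1).hom y)

lemma famOf_map (y : Ev X Q) {V W : Cᵒᵖ} (h : V ⟶ W) (s : (Sec.obj X).obj V) :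
    famOf X Q y W ((Sec.obj X).map h s) = (Q.map h).hom (famOf X Q y V s) := by
  obtain ⟨i, g⟩ := s
  change (Q.map (h.unop ≫ g).op).hom _ = (Q.map h).hom ((Q.map g.op).hom _)
  have e : (h.unop ≫ g).op = g.op ≫ h := by
    rw [op_comp]
    rfl
  rw [e, Q.map_comp]
  rfl

/-- the morphism attached to a cochain -/
def Θfun (y : Ev X Q) : Z (Sec.obj X) ⟶ Q :=
  ofFam (famOf X Q y) (fun h s => famOf_map X Q y h s)

lemma fam_Θfun (y : Ev X Q) (V : Cᵒᵖ) (s : (Sec.obj X).obj V) :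
    fam (Θfun X Q y) V s = famOf X Q y V s := fam_ofFam _ _ V s

/-- the morphism attached to a cochain, additively -/
def Θ : Ev X Q ⟶ AddCommGrpCat.of (Z (Sec.obj X) ⟶ Q) :=
  AddCommGrpCat.ofHom
    { toFun := Θfun X Q
      map_zero' := by
        apply hom_ext_fam
        intro V s
        rw [fam_Θfun, fam_zero]
        change (Q.map s.2.op).hom ((Pi.π (fun i : X.I => Q.obj (op (X.obj i))) s.1).hom 0) = 0
        rw [map_zero, map_zero]
      map_add' := fun y y' => by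
        apply hom_ext_fam
        intro V s
        rw [fam_add, fam_Θfun, fam_Θfun, fam_Θfun]
        change (Q.map s.2.op).hom
          ((Pi.π (fun i : X.I => Q.obj (op (X.obj i))) s.1).hom (y + y')) = _
        rw [map_add, map_add]
        rfl }

lemma Θ_apply (y : Ev X Q) : (Θ X Q).hom y = Θfun X Q y := rfl

lemma Ψ_Θ : Ψ X Q ≫ Θ X Q = 𝟙 _ := by
  refine AddCommGrpCat.hom_ext (AddMonoidHom.ext fun β => ?_)
  change Θfun X Q ((Ψ X Q).hom β) = β
  apply hom_ext_fam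
  intro V s
  rw [fam_Θfun]
  obtain ⟨i, g⟩ := s
  change (Q.map g.op).hom ((Pi.π (fun i : X.I => Q.obj (op (X.obj i))) i).hom ((Ψ X Q).hom β)) = _
  rw [Ψ_π_apply, evG_apply, ← fam_map]
  change fam β V (⟨i, g ≫ 𝟙 _⟩ : SecT X V.unop) = _
  rw [Category.comp_id]

lemma Θ_Ψ : Θ X Q ≫ Ψ X Q = 𝟙 _ := by
  apply Pi.hom_ext
  intro i
  rw [Category.assoc, Ψ_π, Category.id_comp]
  refine AddCommGrpCat.hom_ext (AddMonoidHom.ext fun y => ?_)
  change evG X Q i (Θfun X Q y) = _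
  rw [evG_apply, fam_Θfun]
  change (Q.map (𝟙 (X.obj i)).op).hom _ = _
  rw [op_id, Q.map_id]
  rfl

/-- the dictionary for presheaves -/
def ΨIso : AddCommGrpCat.of (Z (Sec.obj X) ⟶ Q) ≅ Ev X Q where
  hom := Ψ X Q
  inv := Θ X Q
  hom_inv_id := Ψ_Θ X Q
  inv_hom_id := Θ_Ψ X Q

/-- the restriction maps of the Čech cochains -/
def evMap {X Y : FormalCoproduct.{u} C} (m : X ⟶ Y) : Ev Y Q ⟶ Ev X Q :=
  ((FormalCoproduct.evalOp.{u} C AddCommGrpCat.{u}).obj Q).map m.op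

lemma evMap_π {X Y : FormalCoproduct.{u} C} (m : X ⟶ Y) (i : X.I) :
    evMap Q m ≫ Pi.π (fun i : X.I => Q.obj (op (X.obj i))) i =
      Pi.π (fun j : Y.I => Q.obj (op (Y.obj j))) (m.f i) ≫ Q.map (m.φ i).op :=
  Pi.lift_π _ _

/-- the cochain of a morphism, as an additive map -/
def Ψh : (Z (Sec.obj X) ⟶ Q) →+ (Ev X Q : Type u) := (Ψ X Q).hom

variable {X} in
/-- naturality in the formal coproduct -/
lemma Ψ_natX {Y : FormalCoproduct.{u} C} (m : X ⟶ Y) (β : Z (Sec.obj Y) ⟶ Q) :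
    Ψh X Q (Zmap (Sec.map m) ≫ β) = (evMap Q m).hom (Ψh Y Q β) := by
  have h : AddCommGrpCat.ofHom (Preadditive.leftComp Q (Zmap (Sec.map m))) ≫ Ψ X Q =
      Ψ Y Q ≫ evMap Q m := by
    apply Pi.hom_ext
    intro i
    have hL : (AddCommGrpCat.ofHom (Preadditive.leftComp Q (Zmap (Sec.map m))) ≫ Ψ X Q) ≫
        Pi.π (fun i : X.I => Q.obj (op (X.obj i))) i =
        AddCommGrpCat.ofHom (Preadditive.leftComp Q (Zmap (Sec.map m))) ≫
          AddCommGrpCat.ofHom (evG X Q i) :=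
      (Category.assoc _ _ _).trans (congrArg
        (fun z => AddCommGrpCat.ofHom (Preadditive.leftComp Q (Zmap (Sec.map m))) ≫ z) (Ψ_π X Q i))
    have hR : (Ψ Y Q ≫ evMap Q m) ≫ Pi.π (fun i : X.I => Q.obj (op (X.obj i))) i =
        AddCommGrpCat.ofHom (evG Y Q (m.f i)) ≫ Q.map (m.φ i).op :=
      (Category.assoc _ _ _).trans ((congrArg (fun z => Ψ Y Q ≫ z) (evMap_π Q m i)).trans
        ((Category.assoc _ _ _).symm.trans
          (congrArg (fun z => z ≫ Q.map (m.φ i).op) (Ψ_π Y Q (m.f i)))))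
    refine hL.trans (Eq.trans ?_ hR.symm)
    refine AddCommGrpCat.hom_ext (AddMonoidHom.ext fun β => ?_)
    change evG X Q i (Zmap (Sec.map m) ≫ β) = (Q.map (m.φ i).op).hom (evG Y Q (m.f i) β)
    rw [evG_apply, evG_apply, fam_Zmap_comp, ← fam_map]
    change fam β _ (⟨m.f i, 𝟙 _ ≫ m.φ i⟩ : SecT Y (X.obj i)) =
      fam β _ (⟨m.f i, m.φ i ≫ 𝟙 _⟩ : SecT Y (X.obj i))
    rw [Category.id_comp, Category.comp_id]
  exact congrArg (fun φ => φ.hom β) h

/-- naturality in the presheaf -/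
lemma Ψ_natQ {Q' : Cᵒᵖ ⥤ AddCommGrpCat.{u}} (g : Q ⟶ Q') (β : Z (Sec.obj X) ⟶ Q) :
    Ψh X Q' (β ≫ g) =
      (Limits.Pi.map (fun i : X.I => g.app (op (X.obj i)))).hom (Ψh X Q β) := by
  have h : AddCommGrpCat.ofHom (Preadditive.rightComp (Z (Sec.obj X)) g) ≫ Ψ X Q' =
      Ψ X Q ≫ Limits.Pi.map (fun i : X.I => g.app (op (X.obj i))) := by
    apply Pi.hom_ext
    intro i
    rw [Category.assoc, Category.assoc, Limits.Pi.map_π, Ψ_π, ← Category.assoc, Ψ_π]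
    rfl
  exact congrArg (fun φ => φ.hom β) h

end Presheaf

/-! ### the dictionary for sheaves -/

section Sheaf

variable (J : GrothendieckTopology C) (K : SimplicialObject (FormalCoproduct.{u} C))

/-- the flat of a morphism out of the sheafification -/
def flat (n : ℕ) (F : Sheaf J AddCommGrpCat.{u}) :
    ((Kc J (PK K)).X n ⟶ F) ≃+ (Qn (PK K) n ⟶ F.obj) :=
  (sheafificationAdjunction J AddCommGrpCat.{u}).homAddEquiv (Qn (PK K) n) F

lemma flat_apply (n : ℕ) (F : Sheaf J AddCommGrpCat.{u}) (β : (Kc J (PK K)).X n ⟶ F) :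
    flat J K n F β = ηn J (PK K) n ≫ β.hom := by
  change (sheafificationAdjunction J AddCommGrpCat.{u}).homEquiv _ _ β = _
  rw [Adjunction.homEquiv_unit]
  rfl

lemma flat_comp (n : ℕ) {F F' : Sheaf J AddCommGrpCat.{u}} (β : (Kc J (PK K)).X n ⟶ F)
    (g : F ⟶ F') : flat J K n F' (β ≫ g) = flat J K n F β ≫ g.hom := by
  rw [flat_apply, flat_apply, Category.assoc]
  rfl

lemma flat_d (n : ℕ) (F : Sheaf J AddCommGrpCat.{u}) (β : (Kc J (PK K)).X n ⟶ F) :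
    flat J K (n + 1) F ((Kc J (PK K)).d (n + 1) n ≫ β) = dP (PK K) n ≫ flat J K n F β := by
  rw [flat_apply, flat_apply, ← Category.assoc, ← η_d, Category.assoc]
  rfl

/-- **the dictionary**: morphisms `ℤ[F(K_n)]^# ⟶ F` are Čech `n`-cochains of `F` -/
def φ (n : ℕ) (F : Sheaf J AddCommGrpCat.{u}) :
    ((Kc J (PK K)).X n ⟶ F) ≃+ ((Hyper.cechCxSite K F.obj).X n : Type u) :=
  (flat J K n F).trans (ΨIso (K.obj (op ⦋n⦌)) F.obj).addCommGroupIsoToAddEquiv

lemma φ_apply (n : ℕ) (F : Sheaf J AddCommGrpCat.{u}) (β : (Kc J (PK K)).X n ⟶ F) :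
    φ J K n F β = Ψh (K.obj (op ⦋n⦌)) F.obj (flat J K n F β) := rfl

lemma map_sum_zsmul {A B : Type u} [AddCommGroup A] [AddCommGroup B] (f : A →+ B) {ι : Type}
    (s : Finset ι) (c : ι → ℤ) (x : ι → A) :
    f (∑ i ∈ s, c i • x i) = ∑ i ∈ s, c i • f (x i) := by
  rw [map_sum]
  exact Finset.sum_congr rfl (fun i _ => map_zsmul f _ _)

/-- compatibility with the differentials -/
lemma φ_d (n : ℕ) (F : Sheaf J AddCommGrpCat.{u}) (β : (Kc J (PK K)).X n ⟶ F) :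
    φ J K (n + 1) F ((Kc J (PK K)).d (n + 1) n ≫ β) =
      ((Hyper.cechCxSite K F.obj).d n (n + 1)).hom (φ J K n F β) := by
  have e1 : (Hyper.cechCxSite K F.obj).d n (n + 1) =
      ∑ i : Fin (n + 2), (-1 : ℤ) ^ (i : ℕ) •
        ((FormalCoproduct.cosimplicialObjectFunctor K).obj F.obj).δ i := by
    change (AlgebraicTopology.AlternatingCofaceMapComplex.obj
      ((FormalCoproduct.cosimplicialObjectFunctor K).obj F.obj)).d n (n + 1) = _
    exact CochainComplex.of_d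
      (fun n => ((FormalCoproduct.cosimplicialObjectFunctor K).obj F.obj).obj ⦋n⦌)
      (AlgebraicTopology.AlternatingCofaceMapComplex.objD
        ((FormalCoproduct.cosimplicialObjectFunctor K).obj F.obj)) n
  have e2 : dP (PK K) n ≫ flat J K n F β =
      ∑ i : Fin (n + 2), (-1 : ℤ) ^ (i : ℕ) • ((ZP (PK K)).δ i ≫ flat J K n F β) := by
    unfold dP
    rw [Preadditive.sum_comp]
    refine Finset.sum_congr rfl (fun i _ => ?_)
    rw [Preadditive.zsmul_comp]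
  have e3 : ∀ i : Fin (n + 2),
      Ψh (K.obj (op ⦋n + 1⦌)) F.obj ((ZP (PK K)).δ i ≫ flat J K n F β) =
      (((FormalCoproduct.cosimplicialObjectFunctor K).obj F.obj).δ i).hom
        (Ψh (K.obj (op ⦋n⦌)) F.obj (flat J K n F β)) :=
    fun i => Ψ_natX F.obj (K.δ i) (flat J K n F β)
  have s1 : φ J K (n + 1) F ((Kc J (PK K)).d (n + 1) n ≫ β) =
      Ψh (K.obj (op ⦋n + 1⦌)) F.obj (dP (PK K) n ≫ flat J K n F β) := by
    rw [φ_apply, flat_d]
    rfl
  have s2 : Ψh (K.obj (op ⦋n + 1⦌)) F.obj (dP (PK K) n ≫ flat J K n F β) =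
      ∑ i : Fin (n + 2), (-1 : ℤ) ^ (i : ℕ) •
        Ψh (K.obj (op ⦋n + 1⦌)) F.obj ((ZP (PK K)).δ i ≫ flat J K n F β) :=
    (congrArg (Ψh (K.obj (op ⦋n + 1⦌)) F.obj) e2).trans
      (map_sum_zsmul (Ψh (K.obj (op ⦋n + 1⦌)) F.obj) Finset.univ _ _)
  have s3 : (∑ i : Fin (n + 2), (-1 : ℤ) ^ (i : ℕ) •
        Ψh (K.obj (op ⦋n + 1⦌)) F.obj ((ZP (PK K)).δ i ≫ flat J K n F β)) =
      ∑ i : Fin (n + 2), (-1 : ℤ) ^ (i : ℕ) •
        (((FormalCoproduct.cosimplicialObjectFunctor K).obj F.obj).δ i).hom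
          (Ψh (K.obj (op ⦋n⦌)) F.obj (flat J K n F β)) :=
    Finset.sum_congr rfl (fun i _ => congrArg (fun z => (-1 : ℤ) ^ (i : ℕ) • z) (e3 i))
  have s4 := sum_zsmul_hom_apply Finset.univ (fun i : Fin (n + 2) => (-1 : ℤ) ^ (i : ℕ))
    (fun i : Fin (n + 2) => ((FormalCoproduct.cosimplicialObjectFunctor K).obj F.obj).δ i)
    (Ψh (K.obj (op ⦋n⦌)) F.obj (flat J K n F β))
  refine s1.trans (s2.trans (s3.trans (s4.symm.trans ?_)))
  rw [e1]
  rfl

/-- naturality in the sheaf -/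
lemma φ_nat (n : ℕ) {F F' : Sheaf J AddCommGrpCat.{u}} (g : F ⟶ F')
    (β : (Kc J (PK K)).X n ⟶ F) :
    φ J K n F' (β ≫ g) =
      (((FormalCoproduct.cochainComplexFunctor K).map g.hom).f n).hom (φ J K n F β) := by
  rw [φ_apply, φ_apply, flat_comp]
  exact Ψ_natQ (K.obj (op ⦋n⦌)) F.obj g.hom (flat J K n F β)

end Sheaf

end Groth.Agent.Lib.Helper5.HyDict
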