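import Groth.Agent.Lib.Helper5.HyChain
import Groth.Agent.Lib.Lead.ExactB

/-!
# The free chain complex of a simplicial presheaf with local fillers is a resolution of `ℤ`
-/

set_option autoImplicit false

universe u

open CategoryTheory CategoryTheory.Limits Opposite Simplicial

noncomputable section

namespace Groth.Agent.Lib.Helper5.HySheaf

open Groth.Agent.Lib.Helper5.HyCone Groth.Agent.Lib.Helper5.HyChain

variable {C : Type u} [SmallCategory C] (J : GrothendieckTopology C)

/-! ### the sheafification map, elementwise -/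

section Sheafify

variable (Q : Cᵒᵖ ⥤ AddCommGrpCat.{u})

lemma toSheafify_locSurj {V : C} (y : (sheafify J Q).obj (op V)) :
    ∃ R : Sieve V, R ∈ J V ∧ ∀ ⦃W : C⦄ (a : W ⟶ V), R a →
      ∃ z : Q.obj (op W), ((toSheafify J Q).app (op W)).hom z = ((sheafify J Q).map a.op).hom y := by
  refine ⟨Presheaf.imageSieve (toSheafify J Q) y, Presheaf.imageSieve_mem J (toSheafify J Q) y, ?_⟩
  rintro W a ⟨z, hz⟩
  exact ⟨z, hz⟩

lemma toSheafify_locInj {W : C} (z : Q.obj (op W))
    (hz : ((toSheafify J Q).app (op W)).hom z = 0) :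
    ∃ R : Sieve W, R ∈ J W ∧ ∀ ⦃W' : C⦄ (b : W' ⟶ W), R b → (Q.map b.op).hom z = 0 := by
  have h : ((toSheafify J Q).app (op W)) z = ((toSheafify J Q).app (op W)) (0 : Q.obj (op W)) := by
    refine Eq.trans hz ?_
    exact (map_zero ((toSheafify J Q).app (op W)).hom).symm
  refine ⟨Presheaf.equalizerSieve (F := Q) z (0 : Q.obj (op W)),
    Presheaf.equalizerSieve_mem J (toSheafify J Q) z 0 h, ?_⟩
  intro W' b hb
  have hb' : (Q.map b.op) z = (Q.map b.op) (0 : Q.obj (op W)) := hb
  refine Eq.trans hb' ?_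
  exact map_zero (Q.map b.op).hom

end Sheafify

/-! ### the complexes -/

section Complex

variable (P : SimplicialObject (Cᵒᵖ ⥤ Type u))

/-- the free abelian simplicial presheaf -/
abbrev ZP : SimplicialObject (Cᵒᵖ ⥤ AddCommGrpCat.{u}) :=
  P ⋙ (Functor.whiskeringRight _ _ _).obj AddCommGrpCat.free.{u}

/-- the free abelian simplicial sheaf -/
abbrev aZP : SimplicialObject (Sheaf J AddCommGrpCat.{u}) :=
  ZP P ⋙ presheafToSheaf J AddCommGrpCat.{u}

/-- the chain complex of the free abelian simplicial sheaf -/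
abbrev Kc : ChainComplex (Sheaf J AddCommGrpCat.{u}) ℕ :=
  (AlgebraicTopology.alternatingFaceMapComplex _).obj (aZP J P)

/-- the free abelian presheaf in degree `n` -/
abbrev Qn (n : ℕ) : Cᵒᵖ ⥤ AddCommGrpCat.{u} := (ZP P).obj (op ⦋n⦌)

/-- the differential of the complex of free abelian presheaves -/
def dP (n : ℕ) : Qn P (n + 1) ⟶ Qn P n :=
  ∑ i : Fin (n + 2), (-1 : ℤ) ^ (i : ℕ) • (ZP P).δ i

lemma Kc_d (n : ℕ) :
    (Kc J P).d (n + 1) n = (presheafToSheaf J AddCommGrpCat.{u}).map (dP P n) := by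
  refine (AlgebraicTopology.AlternatingFaceMapComplex.obj_d_eq (aZP J P) n).trans ?_
  unfold dP
  rw [Functor.map_sum]
  refine Finset.sum_congr rfl (fun i _ => ?_)
  rw [Functor.map_zsmul]
  rfl

/-- evaluation of morphisms of abelian presheaves at a section -/
def evalHom (M N : Cᵒᵖ ⥤ AddCommGrpCat.{u}) (V : Cᵒᵖ) (x : M.obj V) : (M ⟶ N) →+ N.obj V where
  toFun φ := (φ.app V).hom x
  map_zero' := rfl
  map_add' _ _ := rfl

lemma dP_app (n : ℕ) (T : C) (z : Ch P (n + 1) T) :
    ((dP P n).app (op T)).hom z = bd P n T z := by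
  change evalHom (Qn P (n + 1)) (Qn P n) (op T) z (dP P n) = _
  unfold dP bd
  rw [map_sum]
  refine Finset.sum_congr rfl (fun i _ => ?_)
  rw [map_zsmul]
  rfl

lemma Qn_map (n : ℕ) {T T' : C} (f : T' ⟶ T) (z : Ch P n T) :
    ((Qn P n).map f.op).hom z = res P f z := rfl

/-- the sheafification map in degree `n` -/
abbrev ηn (n : ℕ) : Qn P n ⟶ ((Kc J P).X n).obj := toSheafify J (Qn P n)

lemma η_d (n : ℕ) :
    ηn J P (n + 1) ≫ ((Kc J P).d (n + 1) n).hom = dP P n ≫ ηn J P n := by
  rw [Kc_d]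
  exact (toSheafify_naturality J (dP P n)).symm

lemma η_d_apply (n : ℕ) (T : C) (z : Ch P (n + 1) T) :
    (((Kc J P).d (n + 1) n).hom.app (op T)).hom (((ηn J P (n + 1)).app (op T)).hom z) =
      ((ηn J P n).app (op T)).hom (bd P n T z) := by
  have h := congrArg (fun φ => (φ.app (op T)).hom z) (η_d J P n)
  rw [← dP_app]
  exact h

lemma η_res (n : ℕ) {T T' : C} (f : T' ⟶ T) (z : Ch P n T) :
    (((Kc J P).X n).obj.map f.op).hom (((ηn J P n).app (op T)).hom z) =
      ((ηn J P n).app (op T')).hom (res P f z) := by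
  have h := congrArg (fun φ => φ.hom z) ((ηn J P n).naturality f.op)
  exact h.symm

lemma map_comp_apply (F : Cᵒᵖ ⥤ AddCommGrpCat.{u}) {T T' T'' : C} (g : T'' ⟶ T') (f : T' ⟶ T)
    (y : F.obj (op T)) :
    (F.map (g ≫ f).op).hom y = (F.map g.op).hom ((F.map f.op).hom y) := by
  rw [op_comp, F.map_comp]
  rfl

variable {P} (hP : LocFill J P)

include hP in
/-- **the complex is exact in positive degrees** -/
theorem exactAt_succ (n : ℕ) : (Kc J P).ExactAt (n + 1) := by
  rw [HomologicalComplex.exactAt_iff' (Kc J P) (n + 2) (n + 1) n (by simp) (by simp)]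
  apply Groth.Agent.Lib.Lead.ExactB.exact_of_locExact
  intro V y hy
  have hy' : (((Kc J P).d (n + 1) n).hom.app (op V)).hom y = 0 := hy
  refine loc_bind J (Q₂ := fun W h => ∃ x : ((Kc J P).X (n + 2)).obj.obj (op W),
    (((Kc J P).d (n + 2) (n + 1)).hom.app (op W)).hom x =
      (((Kc J P).X (n + 1)).obj.map h.op).hom y) (toSheafify_locSurj J (Qn P (n + 1)) y) ?_
  rintro W a ⟨z, hz⟩
  have h1 : ((ηn J P n).app (op W)).hom (bd P n W z) = 0 := by
    rw [← η_d_apply, hz]
    have nat := congrArg (fun φ => φ.hom y) (((Kc J P).d (n + 1) n).hom.naturality a.op)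
    refine nat.trans ?_
    change (((Kc J P).X n).obj.map a.op).hom ((((Kc J P).d (n + 1) n).hom.app (op V)).hom y) = 0
    rw [hy', map_zero]
  refine loc_bind J (Q₂ := fun W' h => ∃ x : ((Kc J P).X (n + 2)).obj.obj (op W'),
    (((Kc J P).d (n + 2) (n + 1)).hom.app (op W')).hom x =
      (((Kc J P).X (n + 1)).obj.map (h ≫ a).op).hom y)
    (toSheafify_locInj J (Qn P n) (bd P n W z) h1) ?_
  intro W' b hb
  have h2 : bd P n W' (res P b z) = 0 := by
    have nat := congrArg (fun φ => φ.hom z) ((dP P n).naturality b.op)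
    rw [← dP_app]
    refine nat.trans ?_
    change ((Qn P n).map b.op).hom (((dP P n).app (op W)).hom z) = 0
    rw [dP_app]
    exact hb
  obtain ⟨R, hR, h3⟩ := exists_boundary_succ J hP n W' (res P b z) h2
  refine ⟨R, hR, fun W'' c hc => ?_⟩
  obtain ⟨w, hw⟩ := h3 c hc
  refine ⟨((ηn J P (n + 2)).app (op W'')).hom w, ?_⟩
  rw [η_d_apply, hw, ← η_res, ← η_res, hz, ← map_comp_apply]
  exact (map_comp_apply ((Kc J P).X (n + 1)).obj (c ≫ b) a y).symm

/-! ### degree zero -/

lemma aug_map {α β : Type u} (g : α → β) (z : FreeAbelianGroup α) :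
    FreeAbelianGroup.lift (fun _ : β => (1 : ℤ)) (FreeAbelianGroup.map g z) =
      FreeAbelianGroup.lift (fun _ : α => (1 : ℤ)) z := by
  refine FreeAbelianGroup.induction_on z ?_ ?_ ?_ ?_
  · rw [map_zero, map_zero, map_zero]
  · intro x
    rw [FreeAbelianGroup.map_of_apply, FreeAbelianGroup.lift_apply_of,
      FreeAbelianGroup.lift_apply_of]
  · intro x hx
    rw [map_neg, map_neg, map_neg, hx]
  · intro x y hx hy
    rw [map_add, map_add, map_add, hx, hy]

lemma aug_res {T T' : C} (f : T' ⟶ T) (z : Ch P 0 T) : aug P T' (res P f z) = aug P T z :=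
  aug_map _ z

lemma aug_bd (T : C) (z : Ch P 1 T) : aug P T (bd P 0 T z) = 0 := by
  unfold aug bd
  rw [map_sum, Fin.sum_univ_two, map_zsmul, map_zsmul, aug_map, aug_map]
  simp

variable (P) in
/-- the augmentation of the presheaf of chains of degree zero -/
def augP : Qn P 0 ⟶ (Functor.const Cᵒᵖ).obj (AddCommGrpCat.of (ULift.{u} ℤ)) where
  app T := AddCommGrpCat.ofHom ((AddEquiv.ulift (α := ℤ)).symm.toAddMonoidHom.comp
    (FreeAbelianGroup.lift (fun _ => (1 : ℤ))))
  naturality T T' f := by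
    ext z
    change ULift.up (FreeAbelianGroup.lift (fun _ => (1 : ℤ))
      (FreeAbelianGroup.map ((P.obj (op ⦋0⦌)).map f) z)) =
      ULift.up (FreeAbelianGroup.lift (fun _ => (1 : ℤ)) z)
    rw [aug_map]

lemma augP_app (T : C) (z : Ch P 0 T) :
    ((augP P).app (op T)).hom z = ULift.up (aug P T z) := rfl

lemma dP_augP : dP P 0 ≫ augP P = 0 := by
  ext T z
  change ((augP P).app T).hom (((dP P 0).app (op T.unop)).hom z) = 0
  rw [dP_app]
  change ULift.up (aug P T.unop (bd P 0 T.unop z)) = 0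
  rw [aug_bd]
  rfl

variable (P) in
/-- the augmentation of the complex of sheaves -/
def εK : (Kc J P).X 0 ⟶
    (constantSheaf J AddCommGrpCat.{u}).obj (AddCommGrpCat.of (ULift.{u} ℤ)) :=
  (presheafToSheaf J AddCommGrpCat.{u}).map (augP P)

lemma d_εK : (Kc J P).d 1 0 ≫ εK J P = 0 := by
  have h : (Kc J P).d 1 0 ≫ εK J P =
      (presheafToSheaf J AddCommGrpCat.{u}).map (dP P 0 ≫ augP P) := by
    rw [Functor.map_comp, ← Kc_d]
    rfl
  rw [h, dP_augP, Functor.map_zero]
  rfl

/-- the sheafification map of the constant presheaf -/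
abbrev ηc : (Functor.const Cᵒᵖ).obj (AddCommGrpCat.of (ULift.{u} ℤ)) ⟶
    ((constantSheaf J AddCommGrpCat.{u}).obj (AddCommGrpCat.of (ULift.{u} ℤ))).obj :=
  toSheafify J _

lemma η_εK_apply (T : C) (z : Ch P 0 T) :
    ((εK J P).hom.app (op T)).hom (((ηn J P 0).app (op T)).hom z) =
      ((ηc J).app (op T)).hom (ULift.up (aug P T z)) := by
  have h := congrArg (fun φ => (φ.app (op T)).hom z) (toSheafify_naturality J (augP P))
  exact h.symm

include hP in
/-- the augmented complex is exact in degree zero -/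
theorem exact_zero : (ShortComplex.mk ((Kc J P).d 1 0) (εK J P) (d_εK J)).Exact := by
  apply Groth.Agent.Lib.Lead.ExactB.exact_of_locExact
  intro V y hy
  have hy' : ((εK J P).hom.app (op V)).hom y = 0 := hy
  refine loc_bind J (Q₂ := fun W h => ∃ x : ((Kc J P).X 1).obj.obj (op W),
    (((Kc J P).d 1 0).hom.app (op W)).hom x =
      (((Kc J P).X 0).obj.map h.op).hom y) (toSheafify_locSurj J (Qn P 0) y) ?_
  rintro W a ⟨z, hz⟩
  have h1 : ((ηc J).app (op W)).hom (ULift.up (aug P W z)) = 0 := by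
    rw [← η_εK_apply, hz]
    have nat := congrArg (fun φ => φ.hom y) ((εK J P).hom.naturality a.op)
    refine nat.trans ?_
    change (((constantSheaf J AddCommGrpCat.{u}).obj
      (AddCommGrpCat.of (ULift.{u} ℤ))).obj.map a.op).hom (((εK J P).hom.app (op V)).hom y) = 0
    rw [hy', map_zero]
  refine loc_bind J (Q₂ := fun W' h => ∃ x : ((Kc J P).X 1).obj.obj (op W'),
    (((Kc J P).d 1 0).hom.app (op W')).hom x =
      (((Kc J P).X 0).obj.map (h ≫ a).op).hom y)
    (toSheafify_locInj J ((Functor.const Cᵒᵖ).obj (AddCommGrpCat.of (ULift.{u} ℤ)))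
      (ULift.up (aug P W z)) h1) ?_
  intro W' b hb
  have h2 : aug P W' (res P b z) = 0 := by
    rw [aug_res]
    exact congrArg ULift.down hb
  obtain ⟨R, hR, h3⟩ := exists_boundary_zero J hP W' (res P b z) h2
  refine ⟨R, hR, fun W'' c hc => ?_⟩
  obtain ⟨w, hw⟩ := h3 c hc
  refine ⟨((ηn J P 1).app (op W'')).hom w, ?_⟩
  rw [η_d_apply, hw, ← η_res, ← η_res, hz, ← map_comp_apply]
  exact (map_comp_apply ((Kc J P).X 0).obj (c ≫ b) a y).symm

include hP in
/-- the augmentation is an epimorphism -/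
theorem epi_εK : Epi (εK J P) := by
  haveI : Sheaf.IsLocallySurjective (εK J P) := by
    constructor
    intro V s
    obtain ⟨R, hR, h⟩ := loc_bind J (Q₂ := fun W h => ∃ x : ((Kc J P).X 0).obj.obj (op W),
      ((εK J P).hom.app (op W)).hom x =
        (((constantSheaf J AddCommGrpCat.{u}).obj
          (AddCommGrpCat.of (ULift.{u} ℤ))).obj.map h.op).hom s)
      (toSheafify_locSurj J _ s) (by
        rintro W a ⟨k, hk⟩
        obtain ⟨R, hR, h⟩ := hP.nonempty W
        refine ⟨R, hR, fun W' b hb => ?_⟩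
        obtain ⟨v⟩ := h b hb
        refine ⟨((ηn J P 0).app (op W')).hom (k.down • FreeAbelianGroup.of v), ?_⟩
        rw [η_εK_apply]
        have e : aug P W' (k.down • FreeAbelianGroup.of v) = k.down := by
          unfold aug
          rw [map_zsmul, FreeAbelianGroup.lift_apply_of, smul_eq_mul, mul_one]
        rw [e]
        have nat := congrArg (fun φ => φ.hom k) ((ηc J).naturality b.op)
        have e2 : ((ηc J).app (op W')).hom (ULift.up k.down) =
            (((constantSheaf J AddCommGrpCat.{u}).obj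
              (AddCommGrpCat.of (ULift.{u} ℤ))).obj.map b.op).hom (((ηc J).app (op W)).hom k) :=
          nat
        have hk' : ((ηc J).app (op W)).hom k =
            (((constantSheaf J AddCommGrpCat.{u}).obj
              (AddCommGrpCat.of (ULift.{u} ℤ))).obj.map a.op).hom s := hk
        rw [e2, hk']
        exact (map_comp_apply _ b a s).symm)
    refine J.superset_covering ?_ hR
    intro W a ha
    obtain ⟨x, hx⟩ := h a ha
    exact ⟨x, hx⟩
  exact Sheaf.epi_of_isLocallySurjective (εK J P)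

include hP in
/-- **the homology of degree zero is the constant sheaf `ℤ`** -/
theorem nonempty_homology_zero_iso :
    Nonempty ((Kc J P).homology 0 ≅
      (constantSheaf J AddCommGrpCat.{u}).obj (AddCommGrpCat.of (ULift.{u} ℤ))) := by
  haveI := epi_εK J hP
  have hc := (exact_zero J hP).gIsCokernel
  have hc' := (Kc J P).opcyclesIsCokernel 1 0 (by simp)
  exact ⟨(Kc J P).isoHomologyι₀ ≪≫ hc'.coconePointUniqueUpToIso hc⟩

end Complex

end Groth.Agent.Lib.Helper5.HySheaf
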