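import Groth.Agent.Lib.Helper5.HySheaf
import Groth.Agent.Lib.Helper5.HyBridge
import Groth.Agent.Lib.Helper5.HyFC
import Groth.Prelude.Def_Hyper

/-!
# Hypercoverings of a site: the free chain complex is a resolution of `ℤ`
-/

set_option autoImplicit false

universe u

open CategoryTheory CategoryTheory.Limits Opposite Simplicial

noncomputable section

namespace Groth.Agent.Lib.Helper5.HySite

open Groth.Agent.Lib.Helper5.HyCone Groth.Agent.Lib.Helper5.HyChain
  Groth.Agent.Lib.Helper5.HySheaf Groth.Agent.Lib.Helper5.HyBridge Groth.Agent.Lib.Helper5.HyFC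

variable {C : Type u} [SmallCategory C] (J : GrothendieckTopology C)

/-! ### local surjectivity for the presheaves of sections -/

lemma locSurj_sec {X Y : FormalCoproduct.{u} C} (m : X ⟶ Y)
    (h : Presheaf.IsLocallySurjective J (FormalCoproduct.yoneda.map m)) :
    Presheaf.IsLocallySurjective J (Sec.map m) := by
  have e : Sec.map m = (secIso X).inv ≫ FormalCoproduct.yoneda.map m ≫ (secIso Y).hom := by
    rw [secIso_naturality, Iso.inv_hom_id_assoc]
  rw [e]
  infer_instance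

variable (K : SimplicialObject (FormalCoproduct.{u} C))

/-- the simplicial presheaf of sections -/
abbrev PK : SimplexCategoryᵒᵖ ⥤ (Cᵒᵖ ⥤ Type u) := K ⋙ Sec

/-! ### the morphism of truncated objects attached to a family on the skeleton -/

section Trunc

variable {K} {N M : ℕ} {T : C}
  (y : ∀ (Δ : SimplexCategory), Δ.len ≤ N → (Δ ⟶ ⦋M⦌) → SecT (K.obj (op Δ)) T)
  (hy : ∀ (Δ Δ' : SimplexCategory) (hΔ : Δ.len ≤ N) (hΔ' : Δ'.len ≤ N) (τ : Δ' ⟶ Δ)
    (σ : Δ ⟶ ⦋M⦌), (Sec.map (K.map τ.op)).app (op T) (y Δ hΔ σ) = y Δ' hΔ' (τ ≫ σ))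

/-- the morphism of truncated simplicial objects attached to a compatible family -/
def φfam : (SimplicialObject.truncation N).obj (A M T) ⟶ (SimplicialObject.truncation N).obj K where
  app Δt := famEquiv.symm
    (fun σ : ULift.{u} (Δt.unop.obj ⟶ ⦋M⦌) => y Δt.unop.obj Δt.unop.property σ.down)
  naturality Δt Δt' θ := by
    apply famEquiv.injective
    funext σ
    refine (famEquiv_copMap _ _ σ).trans ?_
    refine Eq.trans ?_ (famEquiv_comp _ _ σ).symm
    exact (hy Δt.unop.obj Δt'.unop.obj Δt.unop.property Δt'.unop.property θ.unop.hom σ.down).symm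

lemma famEquiv_φfam (Δ : SimplexCategory) (hΔ : Δ.len ≤ N) (σ : Δ ⟶ ⦋M⦌) :
    famEquiv ((φfam y hy).app (op ⟨Δ, hΔ⟩)) (ULift.up σ) = y Δ hΔ σ := rfl

end Trunc

/-! ### local fillers -/

section Fill

variable {K}
variable [∀ (n : ℕ) (F : (SimplexCategory.Truncated n)ᵒᵖ ⥤ FormalCoproduct.{u} C),
  (SimplexCategory.Truncated.inclusion n).op.HasRightKanExtension F]

/-- the key property of the unit of the coskeleton adjunction -/
lemma sop_eq_of_unit {N M : ℕ} {T T' : C} (f : T' ⟶ T)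
    (y : ∀ (Δ : SimplexCategory), Δ.len ≤ N → (Δ ⟶ ⦋M⦌) → SecT (K.obj (op Δ)) T)
    (hy : ∀ (Δ Δ' : SimplexCategory) (hΔ : Δ.len ≤ N) (hΔ' : Δ'.len ≤ N) (τ : Δ' ⟶ Δ)
      (σ : Δ ⟶ ⦋M⦌), (Sec.map (K.map τ.op)).app (op T) (y Δ hΔ σ) = y Δ' hΔ' (τ ≫ σ))
    (x : SecT (K.obj (op ⦋M⦌)) T')
    (hx : (Sec.map (((SimplicialObject.coskAdj N).unit.app K).app (op ⦋M⦌))).app (op T') x =
      (Sec.obj _).map f.op
        (ev0 ((SimplicialObject.coskAdj N).homEquiv (A M T) _ (φfam y hy))))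
    (Δ : SimplexCategory) (hΔ : Δ.len ≤ N) (σ : Δ ⟶ ⦋M⦌) :
    (Sec.map (K.map σ.op)).app (op T') x = (Sec.obj _).map f.op (y Δ hΔ σ) := by
  have h1 : yo x ≫ (SimplicialObject.coskAdj N).unit.app K =
      Ares M f ≫ (SimplicialObject.coskAdj N).homEquiv (A M T) _ (φfam y hy) := by
    apply hom_ext_ev0
    rw [ev0_comp, ev0_yo, ev0_Ares]
    exact hx
  have e1 : (SimplicialObject.coskAdj N).homEquiv (A M T') _
      ((SimplicialObject.truncation N).map (yo x)) =
      yo x ≫ (SimplicialObject.coskAdj N).unit.app K := by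
    have h := (SimplicialObject.coskAdj N).homEquiv_naturality_left (yo x)
      (𝟙 ((SimplicialObject.truncation N).obj K))
    rw [Category.comp_id, Adjunction.homEquiv_id] at h
    exact h
  have e2 : (SimplicialObject.coskAdj N).homEquiv (A M T') _
      ((SimplicialObject.truncation N).map (Ares M f) ≫ φfam y hy) =
      Ares M f ≫ (SimplicialObject.coskAdj N).homEquiv (A M T) _ (φfam y hy) :=
    (SimplicialObject.coskAdj N).homEquiv_naturality_left (Ares M f) (φfam y hy)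
  have h2 : (SimplicialObject.truncation N).map (yo x) =
      (SimplicialObject.truncation N).map (Ares M f) ≫ φfam y hy :=
    ((SimplicialObject.coskAdj N).homEquiv (A M T') _).injective (e1.trans (h1.trans e2.symm))
  have h3 := congrArg (fun ψ => famEquiv (ψ.app (op ⟨Δ, hΔ⟩)) (ULift.up σ)) h2
  exact h3

variable (hK : Hyper.IsHypercoveringSite J K)

include hK in
lemma locFill_nonempty (T : C) : ∃ S : Sieve T, S ∈ J T ∧
    ∀ ⦃T' : C⦄ (f : T' ⟶ T), S f → Nonempty (Sx (PK K) 0 T') := by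
  haveI := hK.1
  let F := FormalCoproduct.yoneda.obj (K.obj (op ⦋0⦌))
  let s₀ : (⊤_ (Cᵒᵖ ⥤ Type u)).obj (op T) := (terminal.from (yoneda.obj T)).app (op T) (𝟙 T)
  refine ⟨Presheaf.imageSieve (terminal.from F) s₀,
    Presheaf.imageSieve_mem J (terminal.from F) s₀, ?_⟩
  rintro T' f ⟨t, -⟩
  exact ⟨(secIso (K.obj (op ⦋0⦌))).hom.app (op T') t⟩

include hK in
lemma locFill_zero (T : C) (b : Fin 2 → Sx (PK K) 0 T) : ∃ S : Sieve T, S ∈ J T ∧
    ∀ ⦃T' : C⦄ (f : T' ⟶ T), S f →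
      ∃ x : Sx (PK K) 1 T', ∀ i, fc (PK K) i x = rs (PK K) f (b i) := by
  haveI := hK.2.1
  let F₀ := FormalCoproduct.yoneda.obj (K.obj (op ⦋0⦌))
  let F₁ := FormalCoproduct.yoneda.obj (K.obj (op ⦋1⦌))
  let d1 : F₁ ⟶ F₀ := FormalCoproduct.yoneda.map (K.δ (1 : Fin 2))
  let d0 : F₁ ⟶ F₀ := FormalCoproduct.yoneda.map (K.δ (0 : Fin 2))
  let b' : Fin 2 → F₀.obj (op T) := fun i => (secIso (K.obj (op ⦋0⦌))).inv.app (op T) (b i)
  let p : yoneda.obj T ⟶ F₀ ⨯ F₀ := prod.lift (yonedaEquiv.symm (b' 1)) (yonedaEquiv.symm (b' 0))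
  let s : (F₀ ⨯ F₀).obj (op T) := p.app (op T) (𝟙 T)
  refine ⟨Presheaf.imageSieve (prod.lift d1 d0) s,
    Presheaf.imageSieve_mem J (prod.lift d1 d0) s, ?_⟩
  rintro T' f ⟨t, ht⟩
  -- the two components
  have hfst : d1.app (op T') t = F₀.map f.op (b' 1) := by
    have h1 := congrArg (fun z => (prod.fst : F₀ ⨯ F₀ ⟶ F₀).app (op T') z) ht
    have h2 : (prod.fst : F₀ ⨯ F₀ ⟶ F₀).app (op T') ((prod.lift d1 d0).app (op T') t) =
        d1.app (op T') t :=
      congrArg (fun φ => φ.app (op T') t) (prod.lift_fst d1 d0)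
    have h3 : (prod.fst : F₀ ⨯ F₀ ⟶ F₀).app (op T') ((F₀ ⨯ F₀).map f.op s) =
        F₀.map f.op ((prod.fst : F₀ ⨯ F₀ ⟶ F₀).app (op T) s) :=
      congrArg (fun φ => φ s) ((prod.fst : F₀ ⨯ F₀ ⟶ F₀).naturality f.op)
    have h4 : (prod.fst : F₀ ⨯ F₀ ⟶ F₀).app (op T) s = b' 1 := by
      have h5 := congrArg (fun φ => φ.app (op T) (𝟙 T))
        (prod.lift_fst (yonedaEquiv.symm (b' 1)) (yonedaEquiv.symm (b' 0)))
      refine Eq.trans h5 ?_
      exact yonedaEquiv.apply_symm_apply (b' 1)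
    rw [← h2]
    refine Eq.trans h1 ?_
    rw [h3, h4]
  have hsnd : d0.app (op T') t = F₀.map f.op (b' 0) := by
    have h1 := congrArg (fun z => (prod.snd : F₀ ⨯ F₀ ⟶ F₀).app (op T') z) ht
    have h2 : (prod.snd : F₀ ⨯ F₀ ⟶ F₀).app (op T') ((prod.lift d1 d0).app (op T') t) =
        d0.app (op T') t :=
      congrArg (fun φ => φ.app (op T') t) (prod.lift_snd d1 d0)
    have h3 : (prod.snd : F₀ ⨯ F₀ ⟶ F₀).app (op T') ((F₀ ⨯ F₀).map f.op s) =
        F₀.map f.op ((prod.snd : F₀ ⨯ F₀ ⟶ F₀).app (op T) s) :=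
      congrArg (fun φ => φ s) ((prod.snd : F₀ ⨯ F₀ ⟶ F₀).naturality f.op)
    have h4 : (prod.snd : F₀ ⨯ F₀ ⟶ F₀).app (op T) s = b' 0 := by
      have h5 := congrArg (fun φ => φ.app (op T) (𝟙 T))
        (prod.lift_snd (yonedaEquiv.symm (b' 1)) (yonedaEquiv.symm (b' 0)))
      refine Eq.trans h5 ?_
      exact yonedaEquiv.apply_symm_apply (b' 0)
    rw [← h2]
    refine Eq.trans h1 ?_
    rw [h3, h4]
  -- transport to the presheaves of sections
  have key : ∀ (i : Fin 2) (t' : F₁.obj (op T')),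
      (FormalCoproduct.yoneda.map (K.δ i)).app (op T') t' = F₀.map f.op (b' i) →
      fc (PK K) i ((secIso (K.obj (op ⦋1⦌))).hom.app (op T') t') = rs (PK K) f (b i) := by
    intro i t' h
    have n1 := congrArg (fun φ => φ.app (op T') t') (secIso_naturality (K.δ i))
    have n2 : (Sec.map (K.δ i)).app (op T') ((secIso (K.obj (op ⦋1⦌))).hom.app (op T') t') =
        (secIso (K.obj (op ⦋0⦌))).hom.app (op T')
          ((FormalCoproduct.yoneda.map (K.δ i)).app (op T') t') := n1.symm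
    have n3 : (secIso (K.obj (op ⦋0⦌))).hom.app (op T') (F₀.map f.op (b' i)) =
        (Sec.obj (K.obj (op ⦋0⦌))).map f.op ((secIso (K.obj (op ⦋0⦌))).hom.app (op T) (b' i)) :=
      congrArg (fun φ => φ (b' i)) ((secIso (K.obj (op ⦋0⦌))).hom.naturality f.op)
    have n4 : (secIso (K.obj (op ⦋0⦌))).hom.app (op T) (b' i) = b i :=
      congrArg (fun φ => φ.app (op T) (b i)) (secIso (K.obj (op ⦋0⦌))).inv_hom_id
    refine n2.trans ?_
    rw [h, n3, n4]
    rfl
  refine ⟨(secIso (K.obj (op ⦋1⦌))).hom.app (op T') t, fun i => ?_⟩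
  fin_cases i
  · exact key 0 t hsnd
  · exact key 1 t hfst

include hK in
lemma locFill_succ (n : ℕ) (T : C) (b : Fin (n + 3) → Sx (PK K) (n + 1) T)
    (hb : Compat (PK K) (n + 1) b) : ∃ S : Sieve T, S ∈ J T ∧
    ∀ ⦃T' : C⦄ (f : T' ⟶ T), S f →
      ∃ x : Sx (PK K) (n + 2) T', ∀ i, fc (PK K) i x = rs (PK K) f (b i) := by
  haveI := locSurj_sec J _ (hK.2.2 (n + 1) (Nat.succ_le_succ (Nat.zero_le n)))
  let y : ∀ (Δ : SimplexCategory), Δ.len ≤ n + 1 → (Δ ⟶ ⦋n + 2⦌) → SecT (K.obj (op Δ)) T :=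
    fun Δ hΔ σ => fam b hΔ σ
  have hy : ∀ (Δ Δ' : SimplexCategory) (hΔ : Δ.len ≤ n + 1) (hΔ' : Δ'.len ≤ n + 1)
      (τ : Δ' ⟶ Δ) (σ : Δ ⟶ ⦋n + 2⦌),
      (Sec.map (K.map τ.op)).app (op T) (y Δ hΔ σ) = y Δ' hΔ' (τ ≫ σ) :=
    fun Δ Δ' hΔ hΔ' τ σ => fam_comp b hb hΔ hΔ' τ σ
  let s := ev0 ((SimplicialObject.coskAdj (n + 1)).homEquiv (A (n + 2) T) _ (φfam y hy))
  refine ⟨Presheaf.imageSieve
      (Sec.map (((SimplicialObject.coskAdj (n + 1)).unit.app K).app (op ⦋n + 2⦌))) s,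
    Presheaf.imageSieve_mem J
      (Sec.map (((SimplicialObject.coskAdj (n + 1)).unit.app K).app (op ⦋n + 2⦌))) (U := op T) s, ?_⟩
  rintro T' f ⟨x, hx⟩
  refine ⟨x, fun i => ?_⟩
  have h := sop_eq_of_unit f y hy x hx ⦋n + 1⦌ (le_refl _) (SimplexCategory.δ i)
  refine h.trans ?_
  exact congrArg (rs (PK K) f) (fam_δ b hb i)

include hK in
/-- **a hypercovering of a site has local fillers** -/
theorem locFill : LocFill J (PK K) where
  nonempty := locFill_nonempty J hK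
  fill n T b hb := by
    cases n with
    | zero => exact locFill_zero J hK T b
    | succ n => exact locFill_succ J hK n T b hb

/-- the comparison of the free chain complexes -/
def cxIso : Hyper.freeChainCx J K ≅ Kc J (PK K) :=
  (AlgebraicTopology.alternatingFaceMapComplex _).mapIso
    (Functor.isoWhiskerRight (Functor.isoWhiskerRight (Functor.isoWhiskerLeft K secNatIso)
      ((Functor.whiskeringRight _ _ _).obj AddCommGrpCat.free.{u}))
      (presheafToSheaf J AddCommGrpCat.{u}))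

include hK in
/-- **the free chain complex of a hypercovering of a site is a resolution of `ℤ`** -/
theorem freeChainCx_acyclic :
    (∀ n : ℕ, IsZero ((Hyper.freeChainCx J K).homology (n + 1))) ∧
    Nonempty ((Hyper.freeChainCx J K).homology 0 ≅
      (constantSheaf J AddCommGrpCat.{u}).obj (AddCommGrpCat.of (ULift.{u} ℤ))) := by
  have hP := locFill J hK
  refine ⟨fun n => ?_, ?_⟩
  · have h1 : IsZero ((Kc J (PK K)).homology (n + 1)) :=
      (exactAt_succ J hP n).isZero_homology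
    exact IsZero.of_iso h1
      ((HomologicalComplex.homologyFunctor _ _ (n + 1)).mapIso (cxIso J))
  · obtain ⟨e⟩ := nonempty_homology_zero_iso J hP
    exact ⟨(HomologicalComplex.homologyFunctor _ _ 0).mapIso (cxIso J) ≪≫ e⟩

end Fill

end Groth.Agent.Lib.Helper5.HySite
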