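import Groth.Agent.Lib.Helper5.Trunc
import Groth.Agent.Lib.Helper5.CskKan

/-!
# Hypercoverings for the topology of universal cohomological descent are of cohomological descent

A simplicial space `K` over `S` such that `K_0 ⟶ S` and all the maps `K_{n+1} ⟶ (cosk_n K)_{n+1}`
are universally of cohomological descent is of cohomological descent over `S`: the coskeleta are of
cohomological descent by induction (bisimplicial Čech diagram of `cosk_{m+1} ⟶ cosk_m`, its
diagonal and the first vertex retraction) and `K` agrees with `cosk_n K` in degrees `< n`.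
-/

set_option autoImplicit false

universe u

open CategoryTheory CategoryTheory.Limits Opposite TopologicalSpace Simplicial
open FibDesc

noncomputable section

namespace Groth.Agent.Lib.Helper5.Hyper

open Groth.Agent.Lib.Helper5.DSite Groth.Agent.Lib.Helper5.DPull Groth.Agent.Lib.Helper5.DeltaSite
  Groth.Agent.Lib.Helper5.FDSite Groth.Agent.Lib.Helper5.BiCech Groth.Agent.Lib.Helper5.CskTower
  Groth.Agent.Lib.Helper5.CskKan Groth.Agent.Lib.Helper5.DBiMain Groth.Agent.Lib.Helper5.DRetract

variable {S : TopCat.{u}}

/-- **a simplicial space over `S` all of whose maps to the coskeleta are universally of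
cohomological descent is of cohomological descent** -/
theorem cd_of_hyper (X : SimpS S) (hv : ∀ m, IsUnivCohDescentMap (X.toCsk m ⦋m⦌)) : CD X.toD := by
  refine Trunc.cd_of_truncations X.toD (fun n =>
    ⟨(X.Csk n).toD, X.toD.Y, X.toCskD n, ?_, X.cd_csk hv n, fun k hk => X.isIso_toCskD n k hk⟩)
  exact DRetract.overS_ext (Y := X.toD.Y) _ _ (fun {_ _} α w => X.toD.hπ α w)
    (fun {_ _} α w => ((X.Csk n).toD.comp (X.toCskD n)).hπ α w)
    (fun i => ConcreteCategory.hom_ext _ _ (fun w => rfl))

variable (K : SimplicialObject (Over S))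

/-- the augmented simplicial space attached to a simplicial object over `S` -/
abbrev Yaug : (WithInitial SimplexCategory)ᵒᵖ ⥤ TopCat.{u} :=
  AugmentedSimplexCategory.equivAugmentedSimplicialObject.inverse.obj
    (SimplicialObject.augment (K ⋙ Over.forget S) S (K.obj (op (SimplexCategory.mk 0))).hom
      (fun i g₁ g₂ => (Over.w (K.map g₁.op)).trans (Over.w (K.map g₂.op)).symm))

/-- the part of the augmented simplicial space is the simplicial space over `S` -/
def partIso : (Cpart (Yaug K)).Y ≅ ((ofK K).toD : OverS 𝕀.{u} S).Y :=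
  NatIso.ofComponents (fun _ => Iso.refl _) (by
    intro i j θ
    refine ConcreteCategory.hom_ext _ _ (fun w => ?_)
    rfl)

lemma partIso_π (i : 𝕀.{u}) (w : (Cpart (Yaug K)).Y.obj (op i)) :
    ((ofK K).toD : OverS 𝕀.{u} S).π i ((partIso K).hom.app (op i) w) =
      (Cpart (Yaug K)).π i w := by
  have h := ConcreteCategory.congr_hom
    (Over.w (K.map (SimplexCategory.const (SimplexCategory.mk 0) (AsSmall.down.obj i) 0).op)) w
  exact h.symm

variable [∀ (n : ℕ) (G : (SimplexCategory.Truncated n)ᵒᵖ ⥤ Over S),
  (SimplexCategory.Truncated.inclusion n).op.HasRightKanExtension G]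

/-- **hypercoverings for the topology of universal cohomological descent are of cohomological
descent** -/
theorem isCohDescentTop_of_hypercovering
    (h0 : IsUnivCohDescentMap (K.obj (op (SimplexCategory.mk 0))).hom)
    (hn : ∀ n : ℕ, IsUnivCohDescentMap
      (((SimplicialObject.coskAdj n).unit.app K).app (op (SimplexCategory.mk (n + 1)))).left) :
    IsCohDescentTop (Yaug K) := by
  have h1 : CD (ofK K).toD := cd_of_hyper (ofK K) (isUnivCohDescentMap_toCsk K h0 hn)
  have h2 : CD (Cpart (Yaug K)) :=
    cd_of_iso (Cpart (Yaug K)) ((ofK K).toD : OverS 𝕀.{u} S) (partIso K) (partIso_π K) h1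
  exact isCohDescentTop_of_cd (cmpPart (Yaug K)) h2

end Groth.Agent.Lib.Helper5.Hyper
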