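import Groth.Agent.Lib.Helper5.CptColim

/-!
# Topology of a pullback square of spaces along a proper map with separated fibres

For a pullback square `X' = X ×_Y Y'` in `TopCat` we construct points of `X'`, show that the
projection `f' : X' ⟶ Y'` is proper when `f` is, that the fibres of `f'` have separated points
when the fibres of `f` have, and that the fibre of `f'` over `y'` is homeomorphic to the fibre of
`f` over `g y'`.
-/

set_option autoImplicit false
set_option linter.unusedSectionVars false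

universe u

open CategoryTheory CategoryTheory.Limits TopologicalSpace Opposite TopCat Filter Topology

namespace Groth.Agent.Lib.Helper5.PBCTop

open Groth.Agent.Lib.Helper5.SubspaceSect (incl)
open Groth.Agent.Lib.Helper5.CptColim (Fy)

variable {X Y X' Y' : TopCat.{u}} {f : X ⟶ Y} {g : Y' ⟶ Y} {f' : X' ⟶ Y'} {g' : X' ⟶ X}
  (sq : IsPullback g' f' f g)

include sq in
lemma w_apply (a : X') : f (g' a) = g (f' a) := ConcreteCategory.congr_hom sq.w a

/-- the constant map from a space -/
noncomputable abbrev cst (T : TopCat.{u}) {S : TopCat.{u}} (s : S) : T ⟶ S :=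
  TopCat.ofHom (ContinuousMap.const T s)

/-- the point of the pullback over a pair of points -/
noncomputable def pt (x : X) (y' : Y') (h : f x = g y') : X' :=
  (sq.lift (cst (TopCat.of PUnit.{u + 1}) x) (cst (TopCat.of PUnit.{u + 1}) y')
    (by ext; exact h)) PUnit.unit

lemma fst_pt (x : X) (y' : Y') (h : f x = g y') : g' (pt sq x y' h) = x :=
  ConcreteCategory.congr_hom (sq.lift_fst (cst (TopCat.of PUnit.{u + 1}) x)
    (cst (TopCat.of PUnit.{u + 1}) y') (by ext; exact h)) PUnit.unit

lemma snd_pt (x : X) (y' : Y') (h : f x = g y') : f' (pt sq x y' h) = y' :=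
  ConcreteCategory.congr_hom (sq.lift_snd (cst (TopCat.of PUnit.{u + 1}) x)
    (cst (TopCat.of PUnit.{u + 1}) y') (by ext; exact h)) PUnit.unit

include sq in
lemma ext_pt {a b : X'} (h1 : g' a = g' b) (h2 : f' a = f' b) : a = b := by
  have e : cst (TopCat.of PUnit.{u + 1}) a = cst (TopCat.of PUnit.{u + 1}) b := by
    apply sq.hom_ext
    · ext; exact h1
    · ext; exact h2
  exact ConcreteCategory.congr_hom e PUnit.unit

include sq in
/-- the topology of the pullback is induced by the two projections -/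
lemma str_eq : X'.str = TopologicalSpace.induced g' X.str ⊓ TopologicalSpace.induced f' Y'.str := by
  let e : X' ≅ pullback f g := sq.isoPullback
  have h1 : X'.str = TopologicalSpace.induced e.hom (pullback f g).str :=
    (TopCat.homeoOfIso e).isInducing.eq_induced
  have h2 := TopCat.pullback_topology f g
  have e1 : (pullback.fst f g : _ → _) ∘ (e.hom : _ → _) = (g' : _ → _) := by
    funext a
    exact ConcreteCategory.congr_hom (sq.isoPullback_hom_fst) a
  have e2 : (pullback.snd f g : _ → _) ∘ (e.hom : _ → _) = (f' : _ → _) := by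
    funext a
    exact ConcreteCategory.congr_hom (sq.isoPullback_hom_snd) a
  rw [h1, h2, induced_inf, induced_compose, induced_compose, e1, e2]

include sq in
lemma nhds_eq (a : X') : 𝓝 a = comap g' (𝓝 (g' a)) ⊓ comap f' (𝓝 (f' a)) := by
  have h := str_eq sq
  have key : ∀ (t : TopologicalSpace X'), t = TopologicalSpace.induced g' X.str ⊓
      TopologicalSpace.induced f' Y'.str →
      @nhds X' t a = comap g' (𝓝 (g' a)) ⊓ comap f' (𝓝 (f' a)) := by
    intro t ht
    subst ht
    refine (nhds_inf (t₁ := TopologicalSpace.induced g' X.str)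
      (t₂ := TopologicalSpace.induced f' Y'.str) (a := a)).trans ?_
    exact congrArg₂ (· ⊓ ·) (nhds_induced _ _) (nhds_induced _ _)
  exact key _ h

include sq in
/-- the base change of a proper map is proper -/
theorem isProperMap_snd (hf : IsProperMap f) : IsProperMap f' := by
  rw [isProperMap_iff_ultrafilter]
  refine ⟨f'.hom.continuous, fun 𝒰 y' h𝒰 => ?_⟩
  have hfg : (f : X → Y) ∘ (g' : X' → X) = (g : Y' → Y) ∘ (f' : X' → Y') :=
    funext fun a => w_apply sq a
  have h1 : Tendsto f (𝒰.map g') (𝓝 (g y')) := by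
    rw [Ultrafilter.coe_map, Filter.tendsto_map'_iff, hfg]
    exact (g.hom.continuous.tendsto y').comp h𝒰
  obtain ⟨x, hx, hle⟩ := hf.ultrafilter_le_nhds_of_tendsto h1
  refine ⟨pt sq x y' hx, snd_pt sq x y' hx, ?_⟩
  rw [nhds_eq sq, fst_pt, snd_pt]
  refine le_inf ?_ ?_
  · rw [← Filter.map_le_iff_le_comap]
    exact hle
  · rw [← Filter.map_le_iff_le_comap]
    exact h𝒰

include sq in
/-- the fibres of the base change have separated points -/
theorem sep_snd
    (hs : ∀ x x' : X, f x = f x' → x ≠ x' →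
      ∃ U V : Set X, IsOpen U ∧ IsOpen V ∧ x ∈ U ∧ x' ∈ V ∧ Disjoint U V) :
    ∀ a b : X', f' a = f' b → a ≠ b →
      ∃ U V : Set X', IsOpen U ∧ IsOpen V ∧ a ∈ U ∧ b ∈ V ∧ Disjoint U V := by
  intro a b hab hne
  have h1 : f (g' a) = f (g' b) := by rw [w_apply sq, w_apply sq, hab]
  have h2 : g' a ≠ g' b := fun h => hne (ext_pt sq h hab)
  obtain ⟨U, V, hU, hV, haU, hbV, hd⟩ := hs (g' a) (g' b) h1 h2
  refine ⟨g' ⁻¹' U, g' ⁻¹' V, hU.preimage g'.hom.continuous, hV.preimage g'.hom.continuous,
    haU, hbV, hd.preimage _⟩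

section fibre

variable (y' : Y')

include sq in
lemma mem_Fy_of_mem (a : X') (ha : a ∈ Fy f' y') : g' a ∈ Fy f (g y') := by
  have e : f' a = y' := ha
  change f (g' a) = g y'
  rw [w_apply sq, e]

/-- the map from the fibre of `f'` to the fibre of `f` -/
noncomputable def hmap : TopCat.of (Fy f' y') ⟶ TopCat.of (Fy f (g y')) :=
  TopCat.ofHom ⟨fun a => ⟨g' a.1, mem_Fy_of_mem sq y' a.1 a.2⟩,
    (g'.hom.continuous.comp continuous_subtype_val).subtype_mk _⟩

/-- the section of the pullback over the fibre of `f` -/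
noncomputable def σ : TopCat.of (Fy f (g y')) ⟶ X' :=
  sq.lift (incl (Fy f (g y'))) (cst (TopCat.of (Fy f (g y'))) y') (by
    ext k
    exact k.2)

lemma σ_fst : σ sq y' ≫ g' = incl (Fy f (g y')) := sq.lift_fst _ _ _

lemma σ_snd : σ sq y' ≫ f' = cst (TopCat.of (Fy f (g y'))) y' := sq.lift_snd _ _ _

lemma fst_σ (k : TopCat.of (Fy f (g y'))) : g' (σ sq y' k) = k.1 :=
  ConcreteCategory.congr_hom (σ_fst sq y') k

lemma snd_σ (k : TopCat.of (Fy f (g y'))) : f' (σ sq y' k) = y' :=
  ConcreteCategory.congr_hom (σ_snd sq y') k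

lemma σ_eq (a : X') (ha : a ∈ Fy f' y') :
    σ sq y' ⟨g' a, mem_Fy_of_mem sq y' a ha⟩ = a :=
  ext_pt sq (fst_σ sq y' _) ((snd_σ sq y' _).trans (ha : f' a = y').symm)

/-- the inverse map from the fibre of `f` to the fibre of `f'` -/
noncomputable def kmap : TopCat.of (Fy f (g y')) ⟶ TopCat.of (Fy f' y') :=
  TopCat.ofHom ⟨fun k => ⟨σ sq y' k, snd_σ sq y' k⟩,
    (σ sq y').hom.continuous.subtype_mk _⟩

lemma hmap_kmap : hmap sq y' ≫ kmap sq y' = 𝟙 _ := by
  ext a
  exact σ_eq sq y' a.1 a.2

lemma kmap_hmap : kmap sq y' ≫ hmap sq y' = 𝟙 _ := by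
  ext k
  exact fst_σ sq y' k

lemma hmap_incl : hmap sq y' ≫ incl (Fy f (g y')) = incl (Fy f' y') ≫ g' := rfl

/-- the homeomorphism between the fibres -/
noncomputable def fibreIso : TopCat.of (Fy f' y') ≅ TopCat.of (Fy f (g y')) where
  hom := hmap sq y'
  inv := kmap sq y'
  hom_inv_id := hmap_kmap sq y'
  inv_hom_id := kmap_hmap sq y'

lemma isClosedEmbedding_kmap : Topology.IsClosedEmbedding (kmap sq y') :=
  (TopCat.homeoOfIso (fibreIso sq y').symm).isClosedEmbedding

end fibre

end Groth.Agent.Lib.Helper5.PBCTop
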