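import Groth.Agent.Lib.Helper5.Hyper
import Groth.Agent.Lib.Helper5.FDCech
import Groth.Agent.Lib.Helper5.LHDescent
import Groth.Agent.Lib.Helper5.PBCTop
import Groth.Agent.Lib.Helper5.SpSeqAbut

/-!
# The descent spectral sequence of a simplicial space of cohomological descent

For a simplicial space `D` over `S` of cohomological descent and an abelian sheaf `F` on `S` there
is a spectral sequence `E₁^{p,q} = H^q(D_p, F|D_p) ⇒ H^{p+q}(S, F)`.  It is the spectral sequence
of the functor `G ↦ (alternating coface map complex of the global sections of the levels of G)`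
on the category of sheaves on the site of `D`.  This applies to proper hypercoverings.
-/

set_option autoImplicit false

universe u

open CategoryTheory CategoryTheory.Limits Opposite TopologicalSpace Simplicial
open FibDesc

noncomputable section

namespace Groth.Agent.Lib.Helper5.HyperDescSS

open Groth.Agent.Lib.Helper5.DSite Groth.Agent.Lib.Helper5.DPull Groth.Agent.Lib.Helper5.GermFam
  Groth.Agent.Lib.Helper5.LimPush Groth.Agent.Lib.Helper5.LimAdj
  Groth.Agent.Lib.Helper5.DBiMain Groth.Agent.Lib.Helper5.DeltaSite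
  Groth.Agent.Lib.Helper5.DeltaAcyc Groth.Agent.Lib.Helper5.DYoneda Groth.Agent.Lib.Helper22
  Groth.Agent.Lib.Helper5.CskTower Groth.Agent.Lib.Helper5.CskKan

/-! ### proper surjective maps are universally of cohomological descent -/

theorem isUnivCohDescentMap_of_proper {X S : TopCat.{u}} {f : X ⟶ S} (hf : IsProperMap f)
    (hs : ∀ x x' : X, f x = f x' → x ≠ x' →
      ∃ U V : Set X, IsOpen U ∧ IsOpen V ∧ x ∈ U ∧ x' ∈ V ∧ Disjoint U V)
    (hsurj : Function.Surjective f) : IsUnivCohDescentMap f := by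
  intro S' g
  have sq : IsPullback (pullback.fst f g) (pullback.snd f g) f g := IsPullback.of_hasPullback f g
  refine FDCech.isCohDescentMap_of_proper (PBCTop.isProperMap_snd sq hf) (PBCTop.sep_snd sq hs) ?_
  intro y'
  obtain ⟨x, hx⟩ := hsurj (g y')
  exact ⟨PBCTop.pt sq x y' hx, PBCTop.snd_pt sq x y' hx⟩

/-! ### the complex of global sections of the levels -/

section SS

variable {S : TopCat.{u}} (D : OverS 𝕀.{u} S)

/-- the cosimplicial group of the global sections of the levels -/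
def PcΓ : Sh D.Y ⥤ (SimplexCategory ⥤ AddCommGrpCat.{u}) :=
  PcΔ D ⋙ (Functor.whiskeringRight SimplexCategory (CohTop.Ab S) AddCommGrpCat.{u}).obj
    (TopSS.ΓV (⊤ : Opens S))

/-- the alternating coface map complex of the global sections of the levels -/
def TΓ : Sh D.Y ⥤ CochainComplex AddCommGrpCat.{u} ℕ := PcΓ D ⋙ CosimpLim.Φ AddCommGrpCat.{u}

instance : (TΓ D).Additive where
  map_add := by
    intro G G' θ θ'
    ext n
    rfl

/-- **the complex of an injective sheaf is exact in positive degrees** -/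
theorem isZero_homology_TΓ_of_injective (Q : Sh D.Y) [Injective Q] (k : ℕ) :
    IsZero (((TΓ D).obj Q).homology (k + 1)) := by
  haveI : Mono (toDec D σΔ ιΔ Q) := mono_toDec D σΔ ιΔ ρΔ hρΔ Q
  let r : DecObj D σΔ ιΔ Q ⟶ Q := Injective.factorThru (𝟙 Q) (toDec D σΔ ιΔ Q)
  have hr : toDec D σΔ ιΔ Q ≫ r = 𝟙 Q := Injective.comp_factorThru (𝟙 Q) (toDec D σΔ ιΔ Q)
  have e0 : CosimpLim.dec ((PcΓ D).obj Q) ≅ (PcΓ D).obj (DecObj D σΔ ιΔ Q) :=
    (Functor.associator _ _ _).symm ≪≫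
      Functor.isoWhiskerRight (decIso D Q) (TopSS.ΓV (⊤ : Opens S))
  have e : (CosimpLim.Φ AddCommGrpCat.{u}).obj (CosimpLim.dec ((PcΓ D).obj Q)) ≅
      (TΓ D).obj (DecObj D σΔ ιΔ Q) := (CosimpLim.Φ AddCommGrpCat.{u}).mapIso e0
  have hz : IsZero (((TΓ D).obj (DecObj D σΔ ιΔ Q)).homology (k + 1)) :=
    IsZero.of_iso (CosimpLim.isZero_homology_dec ((PcΓ D).obj Q) k)
      ((HomologicalComplex.homologyFunctor AddCommGrpCat.{u} (ComplexShape.up ℕ) (k + 1)).mapIso
        e.symm)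
  rw [IsZero.iff_id_eq_zero]
  have h1 : HomologicalComplex.homologyMap ((TΓ D).map (toDec D σΔ ιΔ Q)) (k + 1) ≫
      HomologicalComplex.homologyMap ((TΓ D).map r) (k + 1) =
      𝟙 (((TΓ D).obj Q).homology (k + 1)) := by
    rw [← HomologicalComplex.homologyMap_comp, ← (TΓ D).map_comp, hr,
      CategoryTheory.Functor.map_id, HomologicalComplex.homologyMap_id]
  rw [← h1, hz.eq_of_tgt (HomologicalComplex.homologyMap ((TΓ D).map (toDec D σΔ ιΔ Q)) (k + 1)) 0,
    zero_comp]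

/-- `H⁰` of the complex is the global sections of the direct image -/
def TΓH0Iso : TΓ D ⋙ DescentSSGen.H0 AddCommGrpCat.{u} ≅
    limPush D ⋙ TopSS.ΓV (⊤ : Opens S) :=
  (Functor.isoWhiskerLeft (PcΓ D) (CosimpLim.limIso (𝒮 := AddCommGrpCat.{u}))).symm ≪≫
    Functor.isoWhiskerLeft (PcΔ D) (preservesLimitNatIso (TopSS.ΓV (⊤ : Opens S))).symm ≪≫
    Functor.isoWhiskerRight (limPushIsoLim D).symm (TopSS.ΓV (⊤ : Opens S))

instance : (limPush D).Additive := DBiAcyc.additive_limPush' D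

instance : PreservesFiniteLimits (limPush D) := DBi.pfl_limPush D

/-- the abutment -/
theorem nonempty_abutIso (hD : CD D) (F : CohTop.Ab S) (n : ℕ) :
    Nonempty (((TΓ D ⋙ DescentSSGen.H0 AddCommGrpCat.{u}).rightDerived n).obj
      ((pullS D).obj F) ≅ AddCommGrpCat.of (CohTop.H F n)) := by
  have e1 := (DimShift.rightDerivedIsoOfNatIso (TΓH0Iso D) n).app ((pullS D).obj F)
  have hacyc : ∀ Q : Sh D.Y, Injective Q → ∀ q : ℕ, 0 < q →
      IsZero (((TopSS.ΓV (⊤ : Opens S)).rightDerived q).obj ((limPush D).obj Q)) := by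
    intro Q hQ q hq
    haveI := hQ
    haveI : Injective ((limPush D).obj Q) := Injective.injective_of_adjoint (adjL D) Q
    obtain ⟨k, rfl⟩ : ∃ k, q = k + 1 := ⟨q - 1, by omega⟩
    exact Functor.isZero_rightDerived_obj_injective_succ _ k _
  obtain ⟨e2⟩ := DegGroth.nonempty_iso (limPush D) (TopSS.ΓV (⊤ : Opens S)) hacyc
    ((pullS D).obj F) (hD.2 F) n
  haveI : IsIso (unitL D F) := hD.1 F
  exact ⟨e1 ≪≫ e2 ≪≫
    ((TopSS.ΓV (⊤ : Opens S)).rightDerived n).mapIso (asIso (unitL D F)).symm ≪≫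
    LHDescent.RΓIso F n⟩

/-- the terms of the complex are the global sections of the levels -/
def levIsoΓ (p : ℕ) :
    TΓ D ⋙ HomologicalComplex.eval AddCommGrpCat.{u} (ComplexShape.up ℕ) p ≅
      ev D.Y (up ⦋p⦌) ⋙ TopSS.ΓV (⊤ : Opens (Sp D.Y (up ⦋p⦌))) :=
  NatIso.ofComponents (fun G => Iso.refl _) (by
    intro G G' θ
    have key : (TΓ D ⋙ HomologicalComplex.eval AddCommGrpCat.{u} (ComplexShape.up ℕ) p).map θ =
        (ev D.Y (up ⦋p⦌) ⋙ TopSS.ΓV (⊤ : Opens (Sp D.Y (up ⦋p⦌)))).map θ := rfl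
    exact (Category.comp_id _).trans (key.trans (Category.id_comp _).symm))

lemma hacyc_evΓ (p : ℕ) (I : Sh D.Y) (hI : Injective I) (n : ℕ) :
    IsZero (((TopSS.ΓV (⊤ : Opens (Sp D.Y (up ⦋p⦌)))).rightDerived (n + 1)).obj
      ((ev D.Y (up ⦋p⦌)).obj I)) := by
  haveI := isFlasque_ev D.Y I (up ⦋p⦌)
  exact TopSS.isZero_RΓV_succ_of_flasque ⊤ _ n

/-- the right derived functors of the terms of the complex are the cohomology of the levels -/
def e1IsoΓ (p q : ℕ) (G : Sh D.Y) :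
    ((TΓ D ⋙ HomologicalComplex.eval AddCommGrpCat.{u} (ComplexShape.up ℕ) p).rightDerived q).obj
      G ≅ AddCommGrpCat.of (CohTop.H ((ev D.Y (up ⦋p⦌)).obj G) q) :=
  (DimShift.rightDerivedIsoOfNatIso (levIsoΓ D p) q).app G ≪≫
    (PrecompDelta.rightDerivedPrecompIso (ev D.Y (up ⦋p⦌))
      (TopSS.ΓV (⊤ : Opens (Sp D.Y (up ⦋p⦌)))) (hacyc_evΓ D p) q).app G ≪≫
    LHDescent.RΓIso ((ev D.Y (up ⦋p⦌)).obj G) q

/-- the terms of the first page -/
lemma nonempty_e1Iso (F : CohTop.Ab S) (p q : ℕ) :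
    Nonempty (((TΓ D ⋙ HomologicalComplex.eval AddCommGrpCat.{u} (ComplexShape.up ℕ)
      p).rightDerived q).obj ((pullS D).obj F) ≅
      AddCommGrpCat.of (CohTop.H ((CohTop.pull (D.π (up ⦋p⦌))).obj F) q)) := by
  have e1 := e1IsoΓ D p q ((pullS D).obj F)
  have e2 : (ev D.Y (up ⦋p⦌)).obj ((pullS D).obj F) ≅ (GFsh (D.π (up ⦋p⦌))).obj F :=
    (pullSLevIso D (up ⦋p⦌)).app F
  have e3 : (CohTop.pull (D.π (up ⦋p⦌))).obj F ≅ (GFsh (D.π (up ⦋p⦌))).obj F :=
    (bridge (D.π (up ⦋p⦌))).app F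
  exact ⟨e1 ≪≫ (Sheaf.functorH (Opens.grothendieckTopology (Sp D.Y (up ⦋p⦌))) q).mapIso
    (e2 ≪≫ e3.symm)⟩

/-- **the descent spectral sequence of a simplicial space of cohomological descent** -/
theorem exists_spectralSequence (hD : CD D) (F : CohTop.Ab S) :
    ∃ (E : CohomologicalSpectralSequence AddCommGrpCat.{u} 1)
      (a : SpSeq.Abutment E (fun n : ℤ =>
        if 0 ≤ n then AddCommGrpCat.of (CohTop.H F n.toNat) else AddCommGrpCat.of PUnit.{u + 1})),
      (∀ n, a.IsFinite n) ∧ SpSeq.IsBounded E ∧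
      ∀ p q : ℤ, Nonempty ((E.page 1 le_rfl).X (p, q) ≅
        (if 0 ≤ p ∧ 0 ≤ q then
          AddCommGrpCat.of (CohTop.H ((CohTop.pull (D.π (up ⦋p.toNat⦌))).obj F) q.toNat)
         else AddCommGrpCat.of PUnit.{u + 1})) := by
  have hZ : IsZero (AddCommGrpCat.of PUnit.{u + 1}) := AddCommGrpCat.isZero_of_subsingleton _
  obtain ⟨E, a, hfin, hb, hE⟩ := DescentSSGen.exists_spectralSequence (TΓ D)
    (fun Q hQ k => by
      haveI := hQ
      exact isZero_homology_TΓ_of_injective D Q k) ((pullS D).obj F)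
    (AddCommGrpCat.of PUnit.{u + 1}) hZ
  let eH : ∀ n : ℤ,
      (if 0 ≤ n then ((TΓ D ⋙ DescentSSGen.H0 AddCommGrpCat.{u}).rightDerived n.toNat).obj
        ((pullS D).obj F) else AddCommGrpCat.of PUnit.{u + 1}) ≅
      (if 0 ≤ n then AddCommGrpCat.of (CohTop.H F n.toNat)
        else AddCommGrpCat.of PUnit.{u + 1}) := fun n =>
    if h : 0 ≤ n then eqToIso (if_pos h) ≪≫
      Classical.choice (nonempty_abutIso D hD F n.toNat) ≪≫ eqToIso (if_pos h).symm
    else eqToIso (if_neg h) ≪≫ eqToIso (if_neg h).symm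
  refine ⟨E, SpSeqAbut.transport a eH, fun n => SpSeqAbut.transport_isFinite a eH n (hfin n), hb,
    fun p q => ?_⟩
  obtain ⟨e⟩ := hE p q
  by_cases h : 0 ≤ p ∧ 0 ≤ q
  · rw [if_pos h] at e ⊢
    obtain ⟨e'⟩ := nonempty_e1Iso D F p.toNat q.toNat
    exact ⟨e ≪≫ e'⟩
  · rw [if_neg h] at e ⊢
    exact ⟨e⟩

end SS

/-! ### proper hypercoverings -/

section Hyper

variable {S : TopCat.{u}}
  [∀ (n : ℕ) (G : (SimplexCategory.Truncated n)ᵒᵖ ⥤ Over S),
    (SimplexCategory.Truncated.inclusion n).op.HasRightKanExtension G]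
  (K : SimplicialObject (Over S))

/-- **the descent spectral sequence of a proper hypercovering** -/
theorem exists_spectralSequence_of_hypercovering
    (h0c : IsProperMap (K.obj (op (SimplexCategory.mk 0))).hom)
    (h0s : ∀ x x' : (K.obj (op (SimplexCategory.mk 0))).left,
      (K.obj (op (SimplexCategory.mk 0))).hom x = (K.obj (op (SimplexCategory.mk 0))).hom x' →
      x ≠ x' → ∃ U V : Set (K.obj (op (SimplexCategory.mk 0))).left,
        IsOpen U ∧ IsOpen V ∧ x ∈ U ∧ x' ∈ V ∧ Disjoint U V)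
    (h0j : Function.Surjective (K.obj (op (SimplexCategory.mk 0))).hom)
    (hc : ∀ n : ℕ, IsProperMap
      (((SimplicialObject.coskAdj n).unit.app K).app (op (SimplexCategory.mk (n + 1)))).left)
    (hs : ∀ (n : ℕ) (x x' : (K.obj (op (SimplexCategory.mk (n + 1)))).left),
      (((SimplicialObject.coskAdj n).unit.app K).app (op (SimplexCategory.mk (n + 1)))).left x =
        (((SimplicialObject.coskAdj n).unit.app K).app (op (SimplexCategory.mk (n + 1)))).left x' →
      x ≠ x' → ∃ U V : Set (K.obj (op (SimplexCategory.mk (n + 1)))).left,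
        IsOpen U ∧ IsOpen V ∧ x ∈ U ∧ x' ∈ V ∧ Disjoint U V)
    (hj : ∀ n : ℕ, Function.Surjective
      (((SimplicialObject.coskAdj n).unit.app K).app (op (SimplexCategory.mk (n + 1)))).left)
    (F : CohTop.Ab S) :
    ∃ (E : CohomologicalSpectralSequence AddCommGrpCat.{u} 1)
      (a : SpSeq.Abutment E (fun n : ℤ =>
        if 0 ≤ n then AddCommGrpCat.of (CohTop.H F n.toNat) else AddCommGrpCat.of PUnit.{u + 1})),
      (∀ n, a.IsFinite n) ∧ SpSeq.IsBounded E ∧
      ∀ p q : ℤ, Nonempty ((E.page 1 le_rfl).X (p, q) ≅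
        (if 0 ≤ p ∧ 0 ≤ q then
          AddCommGrpCat.of (CohTop.H
            ((CohTop.pull (K.obj (op (SimplexCategory.mk p.toNat))).hom).obj F) q.toNat)
         else AddCommGrpCat.of PUnit.{u + 1})) := by
  have h0 : IsUnivCohDescentMap (K.obj (op (SimplexCategory.mk 0))).hom :=
    isUnivCohDescentMap_of_proper h0c h0s h0j
  have hn : ∀ n : ℕ, IsUnivCohDescentMap
      (((SimplicialObject.coskAdj n).unit.app K).app (op (SimplexCategory.mk (n + 1)))).left :=
    fun n => isUnivCohDescentMap_of_proper (hc n) (hs n) (hj n)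
  have h1 : CD ((ofK K).toD : OverS 𝕀.{u} S) :=
    Hyper.cd_of_hyper (ofK K) (isUnivCohDescentMap_toCsk K h0 hn)
  exact exists_spectralSequence ((ofK K).toD : OverS 𝕀.{u} S) h1 F

end Hyper

end Groth.Agent.Lib.Helper5.HyperDescSS
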