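import Groth.Agent.Lib.Helper5.DescentSSGen
import Groth.Agent.Lib.Helper5.PrecompDelta
import Groth.Agent.Lib.Helper22.DimShiftIso
import Groth.Agent.Lib.Helper22.RightDerivedExact

/-!
# The hypercohomology spectral sequence of a resolution

Let `Γ : 𝒞 ⥤ D` be a left exact additive functor and `K` a cochain complex in `𝒞` (indexed by `ℕ`)
which is exact in positive degrees.  Then there is an `E₁` spectral sequence
`E₁^{p,q} = R^qΓ(K^p) ⇒ R^{p+q}Γ(H^0 K)`.
-/

set_option autoImplicit false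

universe u

open CategoryTheory CategoryTheory.Limits
open scoped ZeroObject

noncomputable section

namespace Groth.Agent.Lib.Helper5.HyperSS

open Groth.Agent.Lib.Helper22 Groth.Agent.Lib.Helper5.DescentSSGen

section InjCx

variable {𝒞 : Type (u + 1)} [Category.{u} 𝒞] [Abelian 𝒞] [EnoughInjectives 𝒞]

variable (Q : CochainComplex 𝒞 ℕ)

/-- the complex of injective hulls of the terms of `Q`, with zero differentials -/
def Ic : CochainComplex 𝒞 ℕ where
  X m := Injective.under (Q.X m)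
  d _ _ := 0
  shape _ _ _ := rfl
  d_comp_d' _ _ _ _ _ := zero_comp

lemma Ic_d (a b : ℕ) : (Ic Q).d a b = 0 := rfl

/-- the embedding of the terms into their injective hulls -/
def ιc (m : ℕ) : Q.X m ⟶ (Ic Q).X m := Injective.ι (Q.X m)

instance (m : ℕ) : Mono (ιc Q m) := inferInstanceAs (Mono (Injective.ι (Q.X m)))

/-- the embedding of `Q` into a contractible complex with injective terms -/
def φ : Q ⟶ coneId (Ic Q) where
  f m := (biprod.lift (ιc Q m) (Q.d m (m + 1) ≫ ιc Q (m + 1)) :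
    Q.X m ⟶ (Ic Q).X m ⊞ (Ic Q).X (m + 1))
  comm' := by
    rintro i j rfl
    rw [coneId_d]
    show (biprod.lift (ιc Q i) (Q.d i (i + 1) ≫ ιc Q (i + 1)) :
      Q.X i ⟶ (Ic Q).X i ⊞ (Ic Q).X (i + 1)) ≫ coneD (Ic Q) i =
      Q.d i (i + 1) ≫ (biprod.lift (ιc Q (i + 1))
        (Q.d (i + 1) (i + 1 + 1) ≫ ιc Q (i + 1 + 1)) :
        Q.X (i + 1) ⟶ (Ic Q).X (i + 1) ⊞ (Ic Q).X (i + 1 + 1))
    apply biprod.hom_ext <;> simp [coneD, Ic_d]

lemma φ_f_fst (m : ℕ) :
    (φ Q).f m ≫ (biprod.fst : (Ic Q).X m ⊞ (Ic Q).X (m + 1) ⟶ (Ic Q).X m) = ιc Q m :=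
  biprod.lift_fst _ _

instance (m : ℕ) : Mono ((φ Q).f m) := by
  have : Mono ((φ Q).f m ≫ (biprod.fst : (Ic Q).X m ⊞ (Ic Q).X (m + 1) ⟶ (Ic Q).X m)) := by
    rw [φ_f_fst]; infer_instance
  exact mono_of_mono _ (biprod.fst : (Ic Q).X m ⊞ (Ic Q).X (m + 1) ⟶ (Ic Q).X m)

instance : Mono (φ Q) := HomologicalComplex.mono_of_mono_f _ inferInstance

/-- an injective complex is a retract of a contractible complex with injective terms -/
def retr [Injective Q] : Retract Q (coneId (Ic Q)) where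
  i := φ Q
  r := Injective.factorThru (𝟙 Q) (φ Q)
  retract := Injective.comp_factorThru _ _

lemma injective_coneId_Ic_X (p : ℕ) : Injective ((coneId (Ic Q)).X p) :=
  inferInstanceAs (Injective (Injective.under (Q.X p) ⊞ Injective.under (Q.X (p + 1))))

/-- the terms of an injective complex are injective -/
lemma injective_X [Injective Q] (p : ℕ) : Injective (Q.X p) :=
  @Retract.injective _ _ _ _ ((retr Q).map (HomologicalComplex.eval 𝒞 (ComplexShape.up ℕ) p))
    (injective_coneId_Ic_X Q p)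

variable (K : CochainComplex 𝒞 ℕ)

lemma coneD_fst (m : ℕ) :
    coneD K m ≫ (biprod.fst : K.X (m + 1) ⊞ K.X (m + 1 + 1) ⟶ K.X (m + 1)) =
      (biprod.fst : K.X m ⊞ K.X (m + 1) ⟶ K.X m) ≫ K.d m (m + 1) +
        (biprod.snd : K.X m ⊞ K.X (m + 1) ⟶ K.X (m + 1)) := by
  apply biprod.hom_ext' <;> simp [coneD]

/-- `K^0` as the kernel of the first differential of the cone of the identity -/
def coneKer : K.X 0 ⟶ K.X 0 ⊞ K.X (0 + 1) := biprod.lift (𝟙 _) (-K.d 0 (0 + 1))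

lemma coneKer_comp : coneKer K ≫ coneD K 0 = 0 := by
  apply biprod.hom_ext <;> simp [coneD, coneKer]

/-- `coneKer` is a kernel of the first differential -/
def isLimitConeKer : IsLimit (KernelFork.ofι (coneKer K) (coneKer_comp K)) :=
  KernelFork.IsLimit.ofι _ _
    (fun {W'} (g' : W' ⟶ K.X 0 ⊞ K.X (0 + 1)) _ =>
      g' ≫ (biprod.fst : K.X 0 ⊞ K.X (0 + 1) ⟶ K.X 0))
    (by
      intro W' g' hg'
      have h1 : g' ≫ ((biprod.fst : K.X 0 ⊞ K.X (0 + 1) ⟶ K.X 0) ≫ K.d 0 (0 + 1) +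
            (biprod.snd : K.X 0 ⊞ K.X (0 + 1) ⟶ K.X (0 + 1))) = 0 := by
        rw [← coneD_fst, ← Category.assoc, hg', zero_comp]
      rw [Preadditive.comp_add] at h1
      apply biprod.hom_ext
      · simp only [coneKer, Category.assoc, biprod.lift_fst, Category.comp_id]
      · simp only [coneKer, Category.assoc, biprod.lift_snd, Preadditive.comp_neg]
        rw [neg_eq_iff_add_eq_zero]
        exact h1)
    (by
      intro W' g' hg' m hm
      rw [← hm]
      simp only [coneKer, Category.assoc, biprod.lift_fst, Category.comp_id])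

omit [EnoughInjectives 𝒞] in
/-- transport of a limit kernel fork along an equality of morphisms -/
def isLimitKernelForkOfEq {X Y W : 𝒞} {f f' : X ⟶ Y} (h : f = f') (g : W ⟶ X) (w : g ≫ f = 0)
    (hl : IsLimit (KernelFork.ofι g w)) :
    IsLimit (KernelFork.ofι g (show g ≫ f' = 0 by rw [← h]; exact w)) := by
  subst h
  exact hl

/-- `H^0` of the cone of the identity -/
def homologyConeIdIso : (coneId K).homology 0 ≅ K.X 0 :=
  (coneId K).isoHomologyπ₀.symm ≪≫
    (IsLimit.conePointUniqueUpToIso ((coneId K).cyclesIsKernel 0 1 (by simp))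
      (isLimitKernelForkOfEq (f' := (coneId K).d 0 1) (coneId_d K 0).symm _ _
        (isLimitConeKer K)) : (coneId K).cycles 0 ≅ K.X 0)

/-- `H^0` of an injective complex is injective -/
lemma injective_H0 [Injective Q] : Injective ((H0 𝒞).obj Q) := by
  have h : Injective ((H0 𝒞).obj (coneId (Ic Q))) :=
    Injective.of_iso (homologyConeIdIso (Ic Q)).symm
      (inferInstanceAs (Injective (Injective.under (Q.X 0))))
  exact @Retract.injective _ _ _ _ ((retr Q).map (H0 𝒞)) h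

end InjCx

section Main

variable {𝒞 : Type (u + 1)} [Category.{u} 𝒞] [Abelian 𝒞] [EnoughInjectives 𝒞]
  [EnoughInjectives (CochainComplex 𝒞 ℕ)]
  {D : Type (u + 1)} [Category.{u} D] [Abelian D] [EnoughInjectives (CochainComplex D ℕ)]
  (Γ : 𝒞 ⥤ D) [Γ.Additive] [PreservesFiniteLimits Γ]

/-- `Γ` applied termwise -/
abbrev T : CochainComplex 𝒞 ℕ ⥤ CochainComplex D ℕ :=
  Γ.mapHomologicalComplex (ComplexShape.up ℕ)

lemma hT (Q : CochainComplex 𝒞 ℕ) (hQ : Injective Q) (k : ℕ) :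
    IsZero (((T Γ).obj Q).homology (k + 1)) := by
  have hr : toConeId Q ≫ Injective.factorThru (𝟙 Q) (toConeId Q) = 𝟙 Q :=
    Injective.comp_factorThru _ _
  have hz : IsZero (((T Γ).obj (coneId Q)).homology (k + 1)) := by
    refine isZero_homology_of_contraction' _ k
      (Γ.map ((biprod.fst : Q.X (k + 1) ⊞ Q.X (k + 1 + 1) ⟶ Q.X (k + 1)) ≫
        (biprod.inr : Q.X (k + 1) ⟶ Q.X k ⊞ Q.X (k + 1))))
      (Γ.map ((biprod.fst : Q.X (k + 1 + 1) ⊞ Q.X (k + 1 + 1 + 1) ⟶ Q.X (k + 1 + 1)) ≫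
        (biprod.inr : Q.X (k + 1 + 1) ⟶ Q.X (k + 1) ⊞ Q.X (k + 1 + 1)))) ?_
    have h' : Γ.map ((biprod.fst : Q.X (k + 1) ⊞ Q.X (k + 1 + 1) ⟶ Q.X (k + 1)) ≫
          (biprod.inr : Q.X (k + 1) ⟶ Q.X k ⊞ Q.X (k + 1))) ≫
          Γ.map (coneD Q k) +
        Γ.map (coneD Q (k + 1)) ≫
          Γ.map ((biprod.fst : Q.X (k + 1 + 1) ⊞ Q.X (k + 1 + 1 + 1) ⟶ Q.X (k + 1 + 1)) ≫
            (biprod.inr : Q.X (k + 1 + 1) ⟶ Q.X (k + 1) ⊞ Q.X (k + 1 + 1))) =
        𝟙 (Γ.obj (Q.X (k + 1) ⊞ Q.X (k + 1 + 1))) := by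
      rw [← Γ.map_comp, ← Γ.map_comp, ← Γ.map_add, coneD_contraction, Γ.map_id]
    rw [Functor.mapHomologicalComplex_obj_d, Functor.mapHomologicalComplex_obj_d, coneId_d,
      coneId_d]
    exact h'
  rw [IsZero.iff_id_eq_zero]
  have h2 : HomologicalComplex.homologyMap ((T Γ).map (toConeId Q)) (k + 1) ≫
      HomologicalComplex.homologyMap
        ((T Γ).map (Injective.factorThru (𝟙 Q) (toConeId Q))) (k + 1) = 𝟙 _ := by
    rw [← HomologicalComplex.homologyMap_comp, ← Functor.map_comp, hr,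
      CategoryTheory.Functor.map_id, HomologicalComplex.homologyMap_id]
  rw [← h2, hz.eq_of_tgt (HomologicalComplex.homologyMap ((T Γ).map (toConeId Q)) (k + 1)) 0,
    zero_comp]

/-- evaluating `Γ` applied termwise -/
def evalIso (p : ℕ) :
    T Γ ⋙ HomologicalComplex.eval D (ComplexShape.up ℕ) p ≅
      HomologicalComplex.eval 𝒞 (ComplexShape.up ℕ) p ⋙ Γ :=
  NatIso.ofComponents (fun K => Iso.refl _) (by
    intro K L f
    exact (Category.comp_id _).trans (Category.id_comp _).symm)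

lemma hacyc (p : ℕ) (Q : CochainComplex 𝒞 ℕ) (hQ : Injective Q) (n : ℕ) :
    IsZero ((Γ.rightDerived (n + 1)).obj
      ((HomologicalComplex.eval 𝒞 (ComplexShape.up ℕ) p).obj Q)) := by
  haveI : Injective (Q.X p) := injective_X Q p
  exact Functor.isZero_rightDerived_obj_injective_succ Γ n (Q.X p)

/-- the `E₁` terms -/
def e1Iso (K : CochainComplex 𝒞 ℕ) (p q : ℕ) :
    ((T Γ ⋙ HomologicalComplex.eval D (ComplexShape.up ℕ) p).rightDerived q).obj K ≅
      (Γ.rightDerived q).obj (K.X p) :=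
  (DimShift.rightDerivedIsoOfNatIso (evalIso Γ p) q).app K ≪≫
    (PrecompDelta.rightDerivedPrecompIso (HomologicalComplex.eval 𝒞 (ComplexShape.up ℕ) p) Γ
      (hacyc Γ p) q).app K

/-- `Γ` commutes with cycles in degree zero -/
def cyclesObjIso (K : CochainComplex 𝒞 ℕ) :
    Γ.obj (K.cycles 0) ≅ ((T Γ).obj K).cycles 0 :=
  IsLimit.conePointUniqueUpToIso
    (KernelFork.mapIsLimit _ (K.cyclesIsKernel 0 1 (by simp)) Γ)
    (((T Γ).obj K).cyclesIsKernel 0 1 (by simp))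

lemma cyclesObjIso_hom_i (K : CochainComplex 𝒞 ℕ) :
    (cyclesObjIso Γ K).hom ≫ ((T Γ).obj K).iCycles 0 = Γ.map (K.iCycles 0) :=
  IsLimit.conePointUniqueUpToIso_hom_comp
    (KernelFork.mapIsLimit _ (K.cyclesIsKernel 0 1 (by simp)) Γ)
    (((T Γ).obj K).cyclesIsKernel 0 1 (by simp)) WalkingParallelPair.zero

/-- `Γ` commutes with `H^0` -/
def H0Iso : H0 𝒞 ⋙ Γ ≅ T Γ ⋙ H0 D :=
  NatIso.ofComponents
    (fun K => Γ.mapIso K.isoHomologyπ₀.symm ≪≫ cyclesObjIso Γ K ≪≫ ((T Γ).obj K).isoHomologyπ₀)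
    (by
      intro K L f
      have h1 : Γ.map (HomologicalComplex.cyclesMap f 0) ≫ (cyclesObjIso Γ L).hom =
          (cyclesObjIso Γ K).hom ≫ HomologicalComplex.cyclesMap ((T Γ).map f) 0 := by
        rw [← cancel_mono (((T Γ).obj L).iCycles 0), Category.assoc, Category.assoc,
          cyclesObjIso_hom_i, HomologicalComplex.cyclesMap_i,
          ← Category.assoc (cyclesObjIso Γ K).hom, cyclesObjIso_hom_i]
        show Γ.map (HomologicalComplex.cyclesMap f 0) ≫ Γ.map (L.iCycles 0) =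
          Γ.map (K.iCycles 0) ≫ Γ.map (f.f 0)
        rw [← Γ.map_comp, HomologicalComplex.cyclesMap_i, Γ.map_comp]
      have h2 : HomologicalComplex.homologyMap f 0 ≫ L.isoHomologyπ₀.inv =
          K.isoHomologyπ₀.inv ≫ HomologicalComplex.cyclesMap f 0 :=
        CochainComplex.isoHomologyπ₀_inv_naturality f
      have h3 : ((T Γ).obj K).isoHomologyπ₀.hom ≫
          HomologicalComplex.homologyMap ((T Γ).map f) 0 =
          HomologicalComplex.cyclesMap ((T Γ).map f) 0 ≫ ((T Γ).obj L).isoHomologyπ₀.hom :=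
        HomologicalComplex.homologyπ_naturality ((T Γ).map f) 0
      show Γ.map (HomologicalComplex.homologyMap f 0) ≫ (Γ.map L.isoHomologyπ₀.inv ≫
          (cyclesObjIso Γ L).hom ≫ ((T Γ).obj L).isoHomologyπ₀.hom) =
        (Γ.map K.isoHomologyπ₀.inv ≫ (cyclesObjIso Γ K).hom ≫
          ((T Γ).obj K).isoHomologyπ₀.hom) ≫ HomologicalComplex.homologyMap ((T Γ).map f) 0
      rw [← Category.assoc, ← Γ.map_comp, h2, Γ.map_comp, Category.assoc, reassoc_of% h1, ← h3]
      simp only [Category.assoc])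

/-- the abutment -/
lemma nonempty_abutIso (K : CochainComplex 𝒞 ℕ) (hK : ∀ k : ℕ, IsZero (K.homology (k + 1)))
    (n : ℕ) :
    Nonempty (((T Γ ⋙ H0 D).rightDerived n).obj K ≅ (Γ.rightDerived n).obj (K.homology 0)) := by
  obtain ⟨e⟩ := DimShift.nonempty_rightDerived_comp_iso (H0 𝒞) Γ (T Γ ⋙ H0 D) (H0Iso Γ)
    (fun Q hQ => injective_H0 Q) n K
    (fun q => (hK q).of_iso (rightDerivedH0Iso (q + 1) K))
  exact ⟨e.symm⟩

/-- **the hypercohomology spectral sequence of a complex exact in positive degrees** -/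
theorem exists_spectralSequence (K : CochainComplex 𝒞 ℕ)
    (hK : ∀ k : ℕ, IsZero (K.homology (k + 1))) (Z : D) (hZ : IsZero Z) :
    ∃ (E : CohomologicalSpectralSequence D 1)
      (a : SpSeq.Abutment E (fun n : ℤ =>
        if 0 ≤ n then (Γ.rightDerived n.toNat).obj (K.homology 0) else Z)),
      (∀ n, a.IsFinite n) ∧ SpSeq.IsBounded E ∧
      ∀ p q : ℤ, Nonempty ((E.page 1 le_rfl).X (p, q) ≅
        (if 0 ≤ p ∧ 0 ≤ q then (Γ.rightDerived q.toNat).obj (K.X p.toNat) else Z)) := by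
  obtain ⟨E, a, hfin, hb, hE⟩ := DescentSSGen.exists_spectralSequence (T Γ) (hT Γ) K Z hZ
  let eH : ∀ n : ℤ,
      (if 0 ≤ n then ((T Γ ⋙ H0 D).rightDerived n.toNat).obj K else Z) ≅
      (if 0 ≤ n then (Γ.rightDerived n.toNat).obj (K.homology 0) else Z) := fun n =>
    if h : 0 ≤ n then eqToIso (if_pos h) ≪≫ Classical.choice (nonempty_abutIso Γ K hK n.toNat) ≪≫
      eqToIso (if_pos h).symm
    else eqToIso (if_neg h) ≪≫ eqToIso (if_neg h).symm
  refine ⟨E, SpSeqAbut.transport a eH, fun n => SpSeqAbut.transport_isFinite a eH n (hfin n), hb,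
    fun p q => ?_⟩
  obtain ⟨e⟩ := hE p q
  by_cases h : 0 ≤ p ∧ 0 ≤ q
  · rw [if_pos h] at e ⊢
    exact ⟨e ≪≫ e1Iso Γ K p.toNat q.toNat⟩
  · rw [if_neg h] at e ⊢
    exact ⟨e⟩

end Main

end Groth.Agent.Lib.Helper5.HyperSS
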