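import Groth.Agent.Lib.Helper5.ExtCechH0
import Groth.Agent.Lib.Helper5.DirLimFive
import Groth.Agent.Lib.Helper5.ConeLES
import Groth.Prelude.Def_ega3

/-!
# The direct limit of the Koszul complexes of the powers is the extended Čech complex

`cechC M fs` is the cone model of the extended Čech complex (degrees `[-r, 0]`);
`cmp M n fs : koszulCx M (fs^n) ⟶ cechC M fs` are the comparison maps, compatible with
`CohIII.koszulTrans`; `cb` says that on cohomology they identify `H^j(cechC M fs)` with the colimit.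
-/

set_option autoImplicit false

universe u

open CategoryTheory CategoryTheory.Limits CochainComplex DerCA CohIII
open Groth.Agent.Lib.Helper28.ExtCech Groth.Agent.Lib.Helper5.ExtCechFunctor
open Groth.Agent.Lib.Helper5.ExtCechH0 Groth.Agent.Lib.Helper5.DirLimFive

attribute [local instance] HasDerivedCategory.standard

noncomputable section

namespace Groth.Agent.Lib.Helper5.KoszulCech

variable {R : Type u} [CommRing R]

/-! ### Scalars -/

lemma homologyMap_smul {K L : DRing.Cx R} (a : R) (g : K ⟶ L) (q : ℤ) :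
    HomologicalComplex.homologyMap (a • g) q = a • HomologicalComplex.homologyMap g q := by
  have h : a • g = (a • 𝟙 K) ≫ g := by rw [Linear.smul_comp, Category.id_comp]
  rw [h, HomologicalComplex.homologyMap_comp, homologyMap_smul_id, Linear.smul_comp,
    Category.id_comp]

lemma homologyMap_smul_apply {K L : DRing.Cx R} (a : R) (g : K ⟶ L) (q : ℤ) (x : K.homology q) :
    (HomologicalComplex.homologyMap (a • g) q).hom x =
      a • (HomologicalComplex.homologyMap g q).hom x := by
  rw [homologyMap_smul]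
  rfl

lemma actsBij_pow {f : R} {N : ModuleCat.{u} R} (h : ActsBij f N) : ∀ n : ℕ, ActsBij (f ^ n) N
  | 0 => by
    have : (fun m : N => f ^ 0 • m) = id := by
      funext m
      simp
    unfold ActsBij
    rw [this]
    exact Function.bijective_id
  | n + 1 => by
    have ih := actsBij_pow h n
    have : (fun m : N => f ^ (n + 1) • m) = (fun m : N => f ^ n • m) ∘ (fun m : N => f • m) := by
      funext m
      simp [pow_succ, mul_smul]
    unfold ActsBij
    rw [this]
    exact ih.comp h

lemma isIso_smul_loc (f : R) (n : ℕ) (L : DRing.Cx R) :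
    IsIso ((f ^ n) • 𝟙 ((locCx (Submonoid.powers f)).obj L)) := by
  have : ∀ i, IsIso (((f ^ n) • 𝟙 ((locCx (Submonoid.powers f)).obj L)).f i) := fun i => by
    refine (ConcreteCategory.isIso_iff_bijective _).2 ?_
    have he : ⇑(ConcreteCategory.hom (((f ^ n) • 𝟙 ((locCx (Submonoid.powers f)).obj L)).f i)) =
        fun m : ((locCx (Submonoid.powers f)).obj L).X i => f ^ n • m := by
      funext m
      rfl
    rw [he]
    exact actsBij_pow (actsBij_loc_self f (L.X i)) n
  exact HomologicalComplex.Hom.isIso_of_components _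

/-- division by `f^n` on the localisation at `f` -/
def invf (f : R) (n : ℕ) (L : DRing.Cx R) :
    (locCx (Submonoid.powers f)).obj L ⟶ (locCx (Submonoid.powers f)).obj L :=
  haveI := isIso_smul_loc f n L
  inv ((f ^ n) • 𝟙 ((locCx (Submonoid.powers f)).obj L))

lemma smul_invf (f : R) (n : ℕ) (L : DRing.Cx R) : (f ^ n) • invf f n L = 𝟙 _ := by
  haveI := isIso_smul_loc f n L
  have h : ((f ^ n) • 𝟙 ((locCx (Submonoid.powers f)).obj L)) ≫ invf f n L = 𝟙 _ :=
    IsIso.hom_inv_id _
  rw [Linear.smul_comp, Category.id_comp] at h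
  exact h

lemma smul_invf_of_le (f : R) {n m : ℕ} (h : n ≤ m) (L : DRing.Cx R) :
    (f ^ (m - n)) • invf f m L = invf f n L := by
  haveI := isIso_smul_loc f n L
  apply IsIso.eq_inv_of_hom_inv_id
  rw [Linear.smul_comp, Category.id_comp, smul_smul, ← pow_add, Nat.add_sub_cancel' h, smul_invf]

/-! ### The cone model and the comparison maps -/

/-- the cone model of the extended Čech complex -/
def cechC (M : ModuleCat.{u} R) : List R → DRing.Cx R
  | [] => (HomologicalComplex.single (ModuleCat.{u} R) (ComplexShape.up ℤ) 0).obj M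
  | f :: fs => mappingCone (locCxUnit (Submonoid.powers f) (cechC M fs))

/-- second component of the comparison map -/
def cmpB (f : R) (n : ℕ) {K L : DRing.Cx R} (c : K ⟶ L) :
    K ⟶ (locCx (Submonoid.powers f)).obj L :=
  c ≫ locCxUnit (Submonoid.powers f) L ≫ invf f n L

lemma cmpB_comm (f : R) (n : ℕ) {K L : DRing.Cx R} (c : K ⟶ L) :
    ((f ^ n) • 𝟙 K) ≫ cmpB f n c = c ≫ locCxUnit (Submonoid.powers f) L := by
  unfold cmpB
  rw [Linear.smul_comp, Category.id_comp, ← Linear.comp_smul, ← Linear.comp_smul, smul_invf,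
    Category.comp_id]

lemma twist_cmpB (f : R) {n m : ℕ} (h : n ≤ m) {K K' L : DRing.Cx R} (τ : K ⟶ K') (c : K' ⟶ L) :
    ((f ^ (m - n)) • τ) ≫ cmpB f m c = cmpB f n (τ ≫ c) := by
  unfold cmpB
  rw [Linear.smul_comp, ← Linear.comp_smul, ← Linear.comp_smul, ← Linear.comp_smul,
    smul_invf_of_le f h, Category.assoc]

/-- the comparison maps from the Koszul complexes of the powers -/
def cmp (M : ModuleCat.{u} R) (n : ℕ) : ∀ fs : List R, koszulCx M (fs.map (· ^ n)) ⟶ cechC M fs
  | [] => 𝟙 _
  | f :: fs => mappingCone.map ((f ^ n) • 𝟙 (koszulCx M (fs.map (· ^ n))))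
      (locCxUnit (Submonoid.powers f) (cechC M fs)) (cmp M n fs) (cmpB f n (cmp M n fs))
      (cmpB_comm f n _)

lemma ktrans_comm (f : R) {n m : ℕ} (h : n ≤ m) {K K' : DRing.Cx R} (τ : K ⟶ K') :
    ((f ^ n) • 𝟙 K) ≫ ((f ^ (m - n)) • τ) = τ ≫ ((f ^ m) • 𝟙 K') := by
  simp only [Linear.smul_comp, Linear.comp_smul, Category.id_comp, Category.comp_id,
    smul_smul, ← pow_add, Nat.sub_add_cancel h]

lemma koszulTrans_cons (M : ModuleCat.{u} R) (n m : ℕ) (h : n ≤ m) (f : R) (fs : List R) :
    koszulTrans M n m h (f :: fs) =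
      mappingCone.map ((f ^ n) • 𝟙 (koszulCx M (fs.map (· ^ n))))
        ((f ^ m) • 𝟙 (koszulCx M (fs.map (· ^ m)))) (koszulTrans M n m h fs)
        ((f ^ (m - n)) • koszulTrans M n m h fs) (ktrans_comm f h _) := rfl

lemma cmp_cons (M : ModuleCat.{u} R) (n : ℕ) (f : R) (fs : List R) :
    cmp M n (f :: fs) = mappingCone.map ((f ^ n) • 𝟙 (koszulCx M (fs.map (· ^ n))))
      (locCxUnit (Submonoid.powers f) (cechC M fs)) (cmp M n fs) (cmpB f n (cmp M n fs))
      (cmpB_comm f n _) := rfl

theorem cmp_trans (M : ModuleCat.{u} R) (n m : ℕ) (h : n ≤ m) :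
    ∀ fs : List R, koszulTrans M n m h fs ≫ cmp M m fs = cmp M n fs
  | [] => Category.id_comp _
  | f :: fs =>
    (mappingCone.map_comp ((f ^ n) • 𝟙 (koszulCx M (fs.map (· ^ n))))
      ((f ^ m) • 𝟙 (koszulCx M (fs.map (· ^ m)))) (locCxUnit (Submonoid.powers f) (cechC M fs))
      (koszulTrans M n m h fs) ((f ^ (m - n)) • koszulTrans M n m h fs) (ktrans_comm f h _)
      (cmp M m fs) (cmpB f m (cmp M m fs)) (cmpB_comm f m _)).symm.trans
    (map_congr _ _ (cmp_trans M n m h fs)
      ((twist_cmpB f h _ _).trans (by rw [cmp_trans M n m h fs])) _)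

lemma twist_trans (f : R) {n m k : ℕ} (h : n ≤ m) (h' : m ≤ k) {K K' K'' : DRing.Cx R}
    (τ : K ⟶ K') (τ' : K' ⟶ K'') :
    ((f ^ (m - n)) • τ) ≫ ((f ^ (k - m)) • τ') = (f ^ (k - n)) • (τ ≫ τ') := by
  rw [Linear.smul_comp, Linear.comp_smul, smul_smul, ← pow_add]
  congr 2
  omega

theorem trans_trans (M : ModuleCat.{u} R) (n m k : ℕ) (h : n ≤ m) (h' : m ≤ k) :
    ∀ fs : List R, koszulTrans M n m h fs ≫ koszulTrans M m k h' fs =
      koszulTrans M n k (h.trans h') fs
  | [] => Category.id_comp _
  | f :: fs =>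
    (mappingCone.map_comp ((f ^ n) • 𝟙 (koszulCx M (fs.map (· ^ n))))
      ((f ^ m) • 𝟙 (koszulCx M (fs.map (· ^ m)))) ((f ^ k) • 𝟙 (koszulCx M (fs.map (· ^ k))))
      (koszulTrans M n m h fs) ((f ^ (m - n)) • koszulTrans M n m h fs) (ktrans_comm f h _)
      (koszulTrans M m k h' fs) ((f ^ (k - m)) • koszulTrans M m k h' fs)
      (ktrans_comm f h' _)).symm.trans
    (map_congr _ _ (trans_trans M n m k h h' fs)
      ((twist_trans f h h' _ _).trans (by rw [trans_trans M n m k h h' fs])) _)

/-! ### The comparison on cohomology -/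

/-- transition maps on cohomology -/
def Hτ (M : ModuleCat.{u} R) (fs : List R) (j : ℤ) (n m : ℕ) (h : n ≤ m) :
    (koszulCx M (fs.map (· ^ n))).homology j →+ (koszulCx M (fs.map (· ^ m))).homology j :=
  (HomologicalComplex.homologyMap (koszulTrans M n m h fs) j).hom.toAddMonoidHom

/-- comparison maps on cohomology -/
def Hc (M : ModuleCat.{u} R) (fs : List R) (j : ℤ) (n : ℕ) :
    (koszulCx M (fs.map (· ^ n))).homology j →+ (cechC M fs).homology j :=
  (HomologicalComplex.homologyMap (cmp M n fs) j).hom.toAddMonoidHom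

lemma Hτ_trans (M : ModuleCat.{u} R) (fs : List R) (j : ℤ) (n m k : ℕ) (h : n ≤ m) (h' : m ≤ k)
    (x : (koszulCx M (fs.map (· ^ n))).homology j) :
    Hτ M fs j m k h' (Hτ M fs j n m h x) = Hτ M fs j n k (h.trans h') x := by
  have e := congrArg (fun t => HomologicalComplex.homologyMap t j) (trans_trans M n m k h h' fs)
  simp only [HomologicalComplex.homologyMap_comp] at e
  exact app_eq e x

lemma Hc_trans (M : ModuleCat.{u} R) (fs : List R) (j : ℤ) (n m : ℕ) (h : n ≤ m)
    (x : (koszulCx M (fs.map (· ^ n))).homology j) :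
    Hc M fs j m (Hτ M fs j n m h x) = Hc M fs j n x := by
  have e := congrArg (fun t => HomologicalComplex.homologyMap t j) (cmp_trans M n m h fs)
  simp only [HomologicalComplex.homologyMap_comp] at e
  exact app_eq e x

lemma Hτ_smul (M : ModuleCat.{u} R) (fs : List R) (j : ℤ) (n m : ℕ) (h : n ≤ m) (a : R)
    (x : (koszulCx M (fs.map (· ^ n))).homology j) :
    Hτ M fs j n m h (a • x) = a • Hτ M fs j n m h x :=
  map_smul (HomologicalComplex.homologyMap (koszulTrans M n m h fs) j).hom a x

lemma Hc_smul (M : ModuleCat.{u} R) (fs : List R) (j : ℤ) (n : ℕ) (a : R)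
    (x : (koszulCx M (fs.map (· ^ n))).homology j) :
    Hc M fs j n (a • x) = a • Hc M fs j n x :=
  map_smul (HomologicalComplex.homologyMap (cmp M n fs) j).hom a x

/-- twisted transition maps -/
def Hτt (M : ModuleCat.{u} R) (f : R) (fs : List R) (j : ℤ) (n m : ℕ) (h : n ≤ m) :
    (koszulCx M (fs.map (· ^ n))).homology j →+ (koszulCx M (fs.map (· ^ m))).homology j :=
  (HomologicalComplex.homologyMap ((f ^ (m - n)) • koszulTrans M n m h fs) j).hom.toAddMonoidHom

/-- twisted comparison maps -/
def Hct (M : ModuleCat.{u} R) (f : R) (fs : List R) (j : ℤ) (n : ℕ) :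
    (koszulCx M (fs.map (· ^ n))).homology j →+
      ((locCx (Submonoid.powers f)).obj (cechC M fs)).homology j :=
  (HomologicalComplex.homologyMap (cmpB f n (cmp M n fs)) j).hom.toAddMonoidHom

lemma Hτt_eq (M : ModuleCat.{u} R) (f : R) (fs : List R) (j : ℤ) (n m : ℕ) (h : n ≤ m)
    (x : (koszulCx M (fs.map (· ^ n))).homology j) :
    Hτt M f fs j n m h x = (f ^ (m - n)) • Hτ M fs j n m h x :=
  homologyMap_smul_apply _ _ _ x

lemma Hτt_trans (M : ModuleCat.{u} R) (f : R) (fs : List R) (j : ℤ) (n m k : ℕ) (h : n ≤ m)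
    (h' : m ≤ k) (x : (koszulCx M (fs.map (· ^ n))).homology j) :
    Hτt M f fs j m k h' (Hτt M f fs j n m h x) = Hτt M f fs j n k (h.trans h') x := by
  have e := congrArg (fun t => HomologicalComplex.homologyMap t j)
    ((twist_trans f h h' (koszulTrans M n m h fs) (koszulTrans M m k h' fs)).trans
      (by rw [trans_trans M n m k h h' fs]))
  simp only [HomologicalComplex.homologyMap_comp] at e
  exact app_eq e x

lemma Hct_trans (M : ModuleCat.{u} R) (f : R) (fs : List R) (j : ℤ) (n m : ℕ) (h : n ≤ m)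
    (x : (koszulCx M (fs.map (· ^ n))).homology j) :
    Hct M f fs j m (Hτt M f fs j n m h x) = Hct M f fs j n x := by
  have e := congrArg (fun t => HomologicalComplex.homologyMap t j)
    ((twist_cmpB f h (koszulTrans M n m h fs) (cmp M m fs)).trans
      (by rw [cmp_trans M n m h fs]))
  simp only [HomologicalComplex.homologyMap_comp] at e
  exact app_eq e x

/-- `f^n • Hct n x` is the image of `Hc n x` in the localisation -/
lemma smul_Hct (M : ModuleCat.{u} R) (f : R) (fs : List R) (j : ℤ) (n : ℕ)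
    (x : (koszulCx M (fs.map (· ^ n))).homology j) :
    (f ^ n) • Hct M f fs j n x =
      (HomologicalComplex.homologyMap (locCxUnit (Submonoid.powers f) (cechC M fs)) j).hom
        (Hc M fs j n x) := by
  have e := congrArg (fun t => HomologicalComplex.homologyMap t j)
    (cmpB_comm f n (cmp M n fs))
  simp only [HomologicalComplex.homologyMap_comp] at e
  have e' := app_eq e x
  have e'' : (HomologicalComplex.homologyMap (cmpB f n (cmp M n fs)) j).hom
      ((HomologicalComplex.homologyMap ((f ^ n) • 𝟙 (koszulCx M (fs.map (· ^ n)))) j).hom x) =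
      (HomologicalComplex.homologyMap (locCxUnit (Submonoid.powers f) (cechC M fs)) j).hom
        ((HomologicalComplex.homologyMap (cmp M n fs) j).hom x) := e'
  rw [homologyMap_smul_apply, HomologicalComplex.homologyMap_id] at e''
  exact (map_smul (HomologicalComplex.homologyMap (cmpB f n (cmp M n fs)) j).hom (f ^ n) x).symm.trans
    e''

/-- the twisted system computes the localisation -/
theorem cb_twist (M : ModuleCat.{u} R) (f : R) (fs : List R) (j : ℤ)
    (IH : CB (Hτ M fs j) (Hc M fs j)) : CB (Hτt M f fs j) (Hct M f fs j) := by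
  have hcompat := homologyMap_locCxUnit (Submonoid.powers f) (cechC M fs) j
  have hbij : ActsBij f (((locCx (Submonoid.powers f)).obj (cechC M fs)).homology j) :=
    ActsBij.of_iso (homologyLocCxIso (Submonoid.powers f) (cechC M fs) j).symm
      (actsBij_loc_self f _)
  have hei := ((ConcreteCategory.isIso_iff_bijective
    (homologyLocCxIso (Submonoid.powers f) (cechC M fs) j).hom).1 inferInstance).1
  have hℓ : ∀ z : (cechC M fs).homology j,
      (homologyLocCxIso (Submonoid.powers f) (cechC M fs) j).hom.hom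
        ((HomologicalComplex.homologyMap (locCxUnit (Submonoid.powers f) (cechC M fs)) j).hom z) =
      LocalizedModule.mkLinearMap (Submonoid.powers f) ((cechC M fs).homology j) z :=
    fun z => app_eq hcompat z
  constructor
  · intro n x hx
    have h1 : (HomologicalComplex.homologyMap (locCxUnit (Submonoid.powers f) (cechC M fs)) j).hom
        (Hc M fs j n x) = 0 := by
      rw [← smul_Hct, hx, smul_zero]
    have h2 : LocalizedModule.mkLinearMap (Submonoid.powers f) ((cechC M fs).homology j)
        (Hc M fs j n x) = 0 :=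
      (hℓ _).symm.trans ((congrArg _ h1).trans (map_zero _))
    obtain ⟨⟨_, k, rfl⟩, hk⟩ := (IsLocalizedModule.eq_zero_iff (Submonoid.powers f)
      (LocalizedModule.mkLinearMap (Submonoid.powers f) ((cechC M fs).homology j))).1 h2
    have hk' : f ^ k • Hc M fs j n x = 0 := hk
    obtain ⟨m, hm, hm0⟩ := IH.inj n (f ^ k • x) (by rw [Hc_smul, hk'])
    rw [Hτ_smul] at hm0
    refine ⟨m + k, by omega, ?_⟩
    rw [Hτt_eq, ← Hτ_trans M fs j n m (m + k) hm (by omega) x, ← Hτ_smul]
    have hp : f ^ (m + k - n) = f ^ (m - n) * f ^ k := by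
      rw [← pow_add]
      congr 1
      omega
    rw [hp, mul_smul, hm0, smul_zero, map_zero]
  · intro y
    obtain ⟨⟨z, ⟨_, k, rfl⟩⟩, hz⟩ := IsLocalizedModule.surj (Submonoid.powers f)
      (LocalizedModule.mkLinearMap (Submonoid.powers f) ((cechC M fs).homology j))
      ((homologyLocCxIso (Submonoid.powers f) (cechC M fs) j).hom.hom y)
    have hz' : f ^ k • (homologyLocCxIso (Submonoid.powers f) (cechC M fs) j).hom.hom y =
        LocalizedModule.mkLinearMap (Submonoid.powers f) ((cechC M fs).homology j) z := hz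
    obtain ⟨n, x, hx⟩ := IH.surj z
    refine ⟨n + k, f ^ n • Hτ M fs j n (n + k) (by omega) x, ?_⟩
    have key : f ^ (n + k) • (homologyLocCxIso (Submonoid.powers f) (cechC M fs) j).hom.hom
        (Hct M f fs j (n + k) (f ^ n • Hτ M fs j n (n + k) (by omega) x)) =
        f ^ (n + k) • (homologyLocCxIso (Submonoid.powers f) (cechC M fs) j).hom.hom y := by
      rw [← map_smul, smul_Hct, hℓ, Hc_smul, Hc_trans, hx, map_smul, ← hz']
      exact (mul_smul (f ^ n) (f ^ k) _).symm.trans (congrArg (· • _) (pow_add f n k).symm)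
    have hsub := eq_zero_of_pow_smul (actsBij_loc_self f ((cechC M fs).homology j)) (n + k)
      ((homologyLocCxIso (Submonoid.powers f) (cechC M fs) j).hom.hom
        (Hct M f fs j (n + k) (f ^ n • Hτ M fs j n (n + k) (by omega) x)) -
        (homologyLocCxIso (Submonoid.powers f) (cechC M fs) j).hom.hom y)
      (by rw [smul_sub, key, sub_self])
    exact hei (sub_eq_zero.1 hsub)

/-- **The colimit of the Koszul cohomology of the powers is the Čech cohomology.** -/
theorem cb (M : ModuleCat.{u} R) : ∀ (fs : List R) (j : ℤ), CB (Hτ M fs j) (Hc M fs j)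
  | [], j => by
    have h1 : ∀ (n m : ℕ) (h : n ≤ m) (x : (koszulCx M (([] : List R).map (· ^ n))).homology j),
        Hτ M [] j n m h x = x := fun n m h x => by
      change (HomologicalComplex.homologyMap
        (𝟙 ((HomologicalComplex.single (ModuleCat.{u} R) (ComplexShape.up ℤ) 0).obj M)) j).hom x = x
      rw [HomologicalComplex.homologyMap_id]
      rfl
    have h2 : ∀ (n : ℕ) (x : (koszulCx M (([] : List R).map (· ^ n))).homology j),
        Hc M [] j n x = x := fun n x => by
      change (HomologicalComplex.homologyMap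
        (𝟙 ((HomologicalComplex.single (ModuleCat.{u} R) (ComplexShape.up ℤ) 0).obj M)) j).hom x = x
      rw [HomologicalComplex.homologyMap_id]
      rfl
    exact ⟨fun n x hx => ⟨n, le_rfl, by rw [h1]; rw [h2] at hx; exact hx⟩,
      fun y => ⟨0, y, h2 0 y⟩⟩
  | f :: fs, j => by
    have IH := cb M fs
    exact cb_three (τ₁ := Hτ M fs j) (τ₂ := Hτt M f fs j) (τ₃ := Hτ M (f :: fs) j)
      (τ₄ := Hτ M fs (j + 1)) (τ₅ := Hτt M f fs (j + 1))
      (c₁ := Hc M fs j) (c₂ := Hct M f fs j) (c₃ := Hc M (f :: fs) j)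
      (c₄ := Hc M fs (j + 1)) (c₅ := Hct M f fs (j + 1))
      (a₁ := fun n => (HomologicalComplex.homologyMap
        ((f ^ n) • 𝟙 (koszulCx M (fs.map (· ^ n)))) j).hom.toAddMonoidHom)
      (a₂ := fun n => (HomologicalComplex.homologyMap
        (mappingCone.inr ((f ^ n) • 𝟙 (koszulCx M (fs.map (· ^ n))))) j).hom.toAddMonoidHom)
      (a₃ := fun n => (ConeLES.δ ((f ^ n) • 𝟙 (koszulCx M (fs.map (· ^ n)))) j (j + 1)
        rfl).hom.toAddMonoidHom)
      (a₄ := fun n => (HomologicalComplex.homologyMap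
        ((f ^ n) • 𝟙 (koszulCx M (fs.map (· ^ n)))) (j + 1)).hom.toAddMonoidHom)
      (b₁ := (HomologicalComplex.homologyMap
        (locCxUnit (Submonoid.powers f) (cechC M fs)) j).hom.toAddMonoidHom)
      (b₂ := (HomologicalComplex.homologyMap
        (mappingCone.inr (locCxUnit (Submonoid.powers f) (cechC M fs))) j).hom.toAddMonoidHom)
      (b₃ := (ConeLES.δ (locCxUnit (Submonoid.powers f) (cechC M fs)) j (j + 1)
        rfl).hom.toAddMonoidHom)
      (b₄ := (HomologicalComplex.homologyMap
        (locCxUnit (Submonoid.powers f) (cechC M fs)) (j + 1)).hom.toAddMonoidHom)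
      (Hτt_trans M f fs j) (Hτ_trans M (f :: fs) j) (Hct_trans M f fs j)
      (Hc_trans M (f :: fs) j) (Hc_trans M fs (j + 1))
      (fun n m h x => (ConeLES.map_φ _ _ (koszulTrans M n m h fs)
        ((f ^ (m - n)) • koszulTrans M n m h fs) (ktrans_comm f h _) j x).symm)
      (fun n m h x => (ConeLES.map_inr _ _ (koszulTrans M n m h fs)
        ((f ^ (m - n)) • koszulTrans M n m h fs) (ktrans_comm f h _) j x).symm)
      (fun n m h x => ConeLES.δ_map _ _ (koszulTrans M n m h fs)
        ((f ^ (m - n)) • koszulTrans M n m h fs) (ktrans_comm f h _) j (j + 1) rfl x)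
      (fun n m h x => (ConeLES.map_φ _ _ (koszulTrans M n m h fs)
        ((f ^ (m - n)) • koszulTrans M n m h fs) (ktrans_comm f h _) (j + 1) x).symm)
      (fun n x => ConeLES.map_φ _ _ (cmp M n fs) (cmpB f n (cmp M n fs)) (cmpB_comm f n _) j x)
      (fun n x => ConeLES.map_inr _ _ (cmp M n fs) (cmpB f n (cmp M n fs)) (cmpB_comm f n _) j x)
      (fun n x => (ConeLES.δ_map _ _ (cmp M n fs) (cmpB f n (cmp M n fs)) (cmpB_comm f n _) j
        (j + 1) rfl x).symm)
      (fun n x => ConeLES.map_φ _ _ (cmp M n fs) (cmpB f n (cmp M n fs)) (cmpB_comm f n _)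
        (j + 1) x)
      (fun n x => ConeLES.inr_φ _ j x)
      (fun n x hx => ConeLES.exact_cone _ j (j + 1) rfl x hx)
      (fun n x hx => ConeLES.exact_K _ j (j + 1) rfl x hx)
      (fun x hx => ConeLES.exact_L _ j x hx)
      (fun x hx => ConeLES.exact_cone _ j (j + 1) rfl x hx)
      (fun x => ConeLES.φ_δ _ j (j + 1) rfl x)
      (IH j).surj (cb_twist M f fs j (IH j)) (IH (j + 1))
      (cb_twist M f fs (j + 1) (IH (j + 1))).inj

end Groth.Agent.Lib.Helper5.KoszulCech
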