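import Groth.Agent.Lib.Helper5.SecCech
import Groth.Agent.Lib.Helper5.StalkFun
import Groth.Agent.Lib.Helper5.LHPull

/-!
# The Čech diagram of a surjective local homeomorphism

For a surjective local homeomorphism `f : X ⟶ S` the complex of the direct images of the levels
of the inverse image of any abelian sheaf is exact in positive degrees (a local section gives a
contraction on germs).  We deduce that surjective local homeomorphisms are universally of
cohomological descent.
-/

set_option autoImplicit false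

universe u

open CategoryTheory CategoryTheory.Limits Opposite TopologicalSpace Simplicial

noncomputable section

namespace Groth.Agent.Lib.Helper5.LHAcyc

open Groth.Agent.Lib.Helper5.DSite Groth.Agent.Lib.Helper5.DYoneda Groth.Agent.Lib.Helper5.DPull
  Groth.Agent.Lib.Helper5.CechDiag Groth.Agent.Lib.Helper5.FreePsh Groth.Agent.Lib.Helper5.DEps
  Groth.Agent.Lib.Helper5.DLev Groth.Agent.Lib.Helper5.GermFam Groth.Agent.Lib.Helper5.DRestr
  Groth.Agent.Lib.Helper5.ProperDescent Groth.Agent.Lib.Helper5.FibreB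
  Groth.Agent.Lib.Helper5.DeltaSite Groth.Agent.Lib.Helper5.DeltaCmp
  Groth.Agent.Lib.Helper5.DeltaAcyc Groth.Agent.Lib.Helper5.LimPush Groth.Agent.Lib.Helper5.LimAdj
  Groth.Agent.Lib.Helper5.StalkFun Groth.Agent.Lib.Helper22

/-! ### a local criterion of exactness -/

section criterion

variable {T : TopCat.{u}}

/-- a complex of abelian sheaves on a space in which every cycle is locally a boundary is exact -/
lemma exact_of_local_lift (K : ShortComplex (CohTop.Ab T))
    (h : ∀ (V : Opens T) (x : K.X₂.obj.obj (op V)), (K.g.hom.app (op V)).hom x = 0 →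
      ∀ z, z ∈ V → ∃ (V' : Opens T) (hV' : V' ≤ V), z ∈ V' ∧
        ∃ y : K.X₁.obj.obj (op V'),
          (K.f.hom.app (op V')).hom y = (K.X₂.obj.map (homOfLE hV').op).hom x) :
    K.Exact := by
  rw [ShortComplex.exact_iff_isZero_homology]
  apply isZero_of_isZero_Stz
  intro z
  refine IsZero.of_iso ?_ (K.mapHomologyIso (Stz z)).symm
  rw [← ShortComplex.exact_iff_isZero_homology, ShortComplex.ab_exact_iff]
  intro a ha
  obtain ⟨V, hzV, x, hx⟩ := exists_gmP_eq K.X₂.obj z a
  have ha' : ((TopCat.Presheaf.stalkFunctor AddCommGrpCat.{u} z).map K.g.hom).hom a = 0 := ha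
  rw [← hx, stalkMap_gmP] at ha'
  have h0 : gmP K.X₃.obj V z hzV ((K.g.hom.app (op V)).hom x) =
      gmP K.X₃.obj V z hzV (0 : K.X₃.obj.obj (op V)) := ha'.trans (map_zero _).symm
  obtain ⟨W, hzW, h1, h2, e⟩ := gmP_eq K.X₃.obj z hzV hzV _ _ h0
  have hxW : (K.g.hom.app (op W)).hom ((K.X₂.obj.map (homOfLE h1).op).hom x) = 0 := by
    have hn := NatTrans.naturality_apply K.g.hom (homOfLE h1).op x
    exact hn.trans (e.trans (map_zero _))
  obtain ⟨V', hV', hzV', y, hy⟩ := h W _ hxW z hzW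
  refine ⟨gmP K.X₁.obj V' z hzV' y, ?_⟩
  change ((TopCat.Presheaf.stalkFunctor AddCommGrpCat.{u} z).map K.f.hom).hom
    (gmP K.X₁.obj V' z hzV' y) = a
  rw [stalkMap_gmP, hy, gmP_res, gmP_res]
  exact hx

end criterion

variable {X S : TopCat.{u}} (f : X ⟶ S)

/-! ### local sections -/

/-- a surjective local homeomorphism has set-theoretic sections which are continuous near any
given point -/
lemma exists_local_section (hf : IsLocalHomeomorph f) (hsurj : Function.Surjective f) (z : S) :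
    ∃ (V₀ : Opens S) (_ : z ∈ V₀) (σ : S → X), (∀ y, f (σ y) = y) ∧
      ContinuousOn σ (V₀ : Set S) := by
  classical
  obtain ⟨x₀, hx₀⟩ := hsurj z
  obtain ⟨e, hxe, he⟩ := hf x₀
  choose τ hτ using hsurj
  have hfe : ∀ x, f x = e x := fun x => congrFun he x
  refine ⟨⟨e.target, e.open_target⟩, ?_, fun y => if y ∈ e.target then e.symm y else τ y, ?_, ?_⟩
  · change z ∈ e.target
    rw [← hx₀, hfe]
    exact e.map_source hxe
  · intro y
    change f (if y ∈ e.target then e.symm y else τ y) = y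
    by_cases hy : y ∈ e.target
    · rw [if_pos hy, hfe]
      exact e.right_inv hy
    · rw [if_neg hy]
      exact hτ y
  · refine e.continuousOn_symm.congr ?_
    intro y hy
    exact if_pos hy

/-! ### the contraction -/

section contraction

variable (σ : S → X) (hσ : ∀ y, f (σ y) = y)

/-- adding the value of the section as the first coordinate -/
def hmap (n : ℕ) (w : XcT f n) : XcT f (n + 1) :=
  ⟨(w.1.1, Fin.cons (σ w.1.1) w.1.2), fun i => by
    refine Fin.cases ?_ (fun j => ?_) i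
    · exact hσ _
    · exact w.2 j⟩

lemma πc_hmap (n : ℕ) (w : XcT f n) : πc f (n + 1) (hmap f σ hσ n w) = πc f n w := rfl

lemma reidx_zero_hmap (n : ℕ) (w : XcT f (n + 1)) :
    reidx f (Fin.succAbove (0 : Fin (n + 2))) (hmap f σ hσ (n + 1) w) = w := by
  apply Xc_ext
  · rfl
  · intro j
    rfl

lemma reidx_succ_hmap (n : ℕ) (k : Fin (n + 2)) (w : XcT f (n + 2)) :
    reidx f (Fin.succAbove k.succ) (hmap f σ hσ (n + 2) w) =
      hmap f σ hσ (n + 1) (reidx f (Fin.succAbove k) w) := by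
  apply Xc_ext
  · rfl
  · intro j
    refine Fin.cases ?_ (fun i => ?_) j
    · change (Fin.cons (σ w.1.1) w.1.2 : Fin (n + 3) → X) (k.succ.succAbove 0) = σ w.1.1
      rw [Fin.succ_succAbove_zero]
      rfl
    · change (Fin.cons (σ w.1.1) w.1.2 : Fin (n + 3) → X) (k.succ.succAbove i.succ) =
        w.1.2 (k.succAbove i)
      rw [Fin.succ_succAbove_succ]
      rfl

variable {V₀ : Opens S} (hc : ContinuousOn σ (V₀ : Set S))

include hc in
lemma continuousOn_hmap (n : ℕ) :
    ContinuousOn (hmap f σ hσ n) (((Opens.map (πc f n)).obj V₀ : Opens (XcT f n)) : Set (XcT f n)) := by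
  have hi : Topology.IsInducing (fun w : XcT f (n + 1) => (w.1 : S × (Fin (n + 1) → X))) :=
    Topology.IsInducing.subtypeVal
  rw [hi.continuousOn_iff]
  refine ContinuousOn.prodMk (continuous_fst.comp continuous_subtype_val).continuousOn ?_
  rw [continuousOn_pi]
  intro i
  refine Fin.cases ?_ (fun j => ?_) i
  · exact hc.comp (πc f n).hom.continuous.continuousOn (fun w hw => hw)
  · exact ((continuous_apply j).comp (continuous_snd.comp continuous_subtype_val)).continuousOn

variable (P : (Opens S)ᵒᵖ ⥤ AddCommGrpCat.{u})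

/-- the contraction on the families of germs -/
def Hc (n : ℕ) (V' : Opens S) (hV' : V' ≤ V₀) :
    sec (πc f (n + 1)) P ((Opens.map (πc f (n + 1))).obj V') →+
      sec (πc f n) P ((Opens.map (πc f n)).obj V') where
  toFun x := ⟨fun q => x.1 ⟨hmap f σ hσ n q.w, q.y, q.hw, q.hy⟩, by
    intro p
    obtain ⟨V₁, t₁, W₁, hpW₁, hq₁⟩ := x.2 ⟨hmap f σ hσ n p.w, p.y, p.hw, p.hy⟩
    obtain ⟨u, hu, hue⟩ := (continuousOn_iff'.1 (continuousOn_hmap f σ hσ hc n)) W₁.1 W₁.2
    have hpV₀ : p.w ∈ (((Opens.map (πc f n)).obj V₀ : Opens (XcT f n)) : Set (XcT f n)) :=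
      hV' p.hw
    refine ⟨V₁, t₁, ⟨u ∩ (((Opens.map (πc f n)).obj V₀ : Opens (XcT f n)) : Set (XcT f n)),
      hu.inter ((Opens.map (πc f n)).obj V₀).2⟩, ?_, ?_⟩
    · have h1 : p.w ∈ hmap f σ hσ n ⁻¹' W₁.1 ∩
          (((Opens.map (πc f n)).obj V₀ : Opens (XcT f n)) : Set (XcT f n)) := ⟨hpW₁, hpV₀⟩
      rw [hue] at h1
      exact h1
    · intro q hq
      have h1 : q.w ∈ hmap f σ hσ n ⁻¹' W₁.1 ∩
          (((Opens.map (πc f n)).obj V₀ : Opens (XcT f n)) : Set (XcT f n)) := by
        rw [hue]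
        exact hq
      exact hq₁ ⟨hmap f σ hσ n q.w, q.y, q.hw, q.hy⟩ h1.1⟩
  map_zero' := rfl
  map_add' _ _ := rfl

lemma Hc_val (n : ℕ) (V' : Opens S) (hV' : V' ≤ V₀)
    (x : sec (πc f (n + 1)) P ((Opens.map (πc f (n + 1))).obj V'))
    (q : Pt (πc f n) ((Opens.map (πc f n)).obj V')) :
    (Hc f σ hσ hc P n V' hV' x).1 q = x.1 ⟨hmap f σ hσ n q.w, q.y, q.hw, q.hy⟩ := rfl

end contraction

/-! ### exactness -/

section exactness

variable (σ : S → X) (hσ : ∀ y, f (σ y) = y) {V₀ : Opens S} (hc : ContinuousOn σ (V₀ : Set S))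
  (F : CohTop.Ab S)

include hσ hc in
/-- local exactness in positive degrees of the complex of the sections of the inverse image -/
lemma hex_local (n : ℕ) (V' : Opens S) (hV' : V' ≤ V₀)
    (x : ((pullS (Df f)).obj F).obj.obj (op (BV (Df f) V' (n + 1))))
    (hx : (powV (Df f) V').dP ((pullS (Df f)).obj F).obj (n + 1) x = 0) :
    ∃ y : ((pullS (Df f)).obj F).obj.obj (op (BV (Df f) V' n)),
      (powV (Df f) V').dP ((pullS (Df f)).obj F).obj n y = x := by
  let Q : Sh (Df f).Y := (pullS (Df f)).obj F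
  let x' : sec (πc f (n + 2)) F.obj ((Opens.map (πc f (n + 2))).obj V') := x
  refine ⟨Hc f σ hσ hc F.obj (n + 1) V' hV' x', ?_⟩
  rw [Pow.dP_apply]
  rw [Pow.dP_apply] at hx
  have hsum : ∑ k : Fin (n + 3), (-1 : ℤ) ^ (k : ℕ) • Hc f σ hσ hc F.obj (n + 2) V' hV'
      ((Q.obj.map ((powV (Df f) V').face (n + 1) k).op).hom x') = 0 := by
    have h1 : Hc f σ hσ hc F.obj (n + 2) V' hV' (∑ k : Fin (n + 3), (-1 : ℤ) ^ (k : ℕ) •
        (Q.obj.map ((powV (Df f) V').face (n + 1) k).op).hom x') = 0 :=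
      (congrArg (fun t => Hc f σ hσ hc F.obj (n + 2) V' hV' t) hx).trans (map_zero _)
    rw [map_sum] at h1
    refine Eq.trans (Finset.sum_congr rfl fun k _ => ?_) h1
    exact (map_zsmul _ _ _).symm
  refine contraction_aux n x'
    (fun k => (Q.obj.map ((powV (Df f) V').face n k).op).hom
      (Hc f σ hσ hc F.obj (n + 1) V' hV' x'))
    (fun k => Hc f σ hσ hc F.obj (n + 2) V' hV'
      ((Q.obj.map ((powV (Df f) V').face (n + 1) k).op).hom x')) ?_ ?_ hsum
  · apply sec_ext
    intro q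
    exact val_congr (πc f (n + 2)) F.obj x' _ _ (reidx_zero_hmap f σ hσ (n + 1) q.w) q.y _ _ _ _
  · intro k
    apply sec_ext
    intro q
    exact val_congr (πc f (n + 2)) F.obj x' _ _ (reidx_succ_hmap f σ hσ n k q.w) q.y _ _ _ _

end exactness

/-- **exactness in positive degrees of the complex of the direct images of the levels of an
inverse image**, for a surjective local homeomorphism -/
lemma hex_TΔ (hf : IsLocalHomeomorph f) (hsurj : Function.Surjective f) (F : CohTop.Ab S)
    (k : ℕ) :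
    IsZero (((TΔ (DΔ (Df f))).obj
      ((resSh jΔ (Df f)).obj ((pullS (Df f)).obj F))).homology (k + 1)) := by
  rw [← HomologicalComplex.exactAt_iff_isZero_homology,
    HomologicalComplex.exactAt_iff' _ k (k + 1) (k + 2) (by simp) (by simp)]
  apply exact_of_local_lift
  intro V x₂ hx₂ z hz
  obtain ⟨V₀, hzV₀, σ, hσ, hc⟩ := exists_local_section f hf hsurj z
  let Q : Sh (Df f).Y := (pullS (Df f)).obj F
  let x₂' : Q.obj.obj (op (BV (Df f) V (k + 1))) := x₂
  have h2 : (powV (Df f) V).dP Q.obj (k + 1) x₂' = 0 :=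
    (d_eq_dP (Df f) Q (k + 1) V x₂').symm.trans hx₂
  let x' : Q.obj.obj (op (BV (Df f) (V ⊓ V₀) (k + 1))) :=
    (Q.obj.map (homBV (Df f) V id (inf_le_left : V ⊓ V₀ ≤ V)).op).hom x₂'
  have h2' : (powV (Df f) (V ⊓ V₀)).dP Q.obj (k + 1) x' = 0 := by
    have e := dP_map (powV (Df f) V) (powV (Df f) (V ⊓ V₀)) Q.obj (k + 1)
      (homBV (Df f) V id inf_le_left) (homBV (Df f) V id inf_le_left)
      (fun k => DSite.hom_ext rfl) x₂'
    exact e.trans (by rw [h2, map_zero])
  obtain ⟨y, hy⟩ := hex_local f σ hσ hc F k (V ⊓ V₀) inf_le_right x' h2'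
  refine ⟨V ⊓ V₀, inf_le_left, ⟨hz, hzV₀⟩, y, ?_⟩
  refine (d_eq_dP (Df f) Q k (V ⊓ V₀) y).trans (hy.trans ?_)
  refine map_congr Q.obj (DSite.hom_ext ?_) x₂'
  exact ((jΔ.{u}).map_id (AsSmall.up.obj (SimplexCategory.mk (k + 1)))).symm

end Groth.Agent.Lib.Helper5.LHAcyc
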