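import Groth.Agent.Lib.Helper5.LHAcyc

/-!
# Cohomological descent for surjective local homeomorphisms

A surjective local homeomorphism is universally of cohomological descent.
-/

set_option autoImplicit false
set_option backward.isDefEq.respectTransparency false
set_option backward.isDefEq.respectTransparency.types false

universe u

open CategoryTheory CategoryTheory.Limits Opposite TopologicalSpace Simplicial
open FibDesc FibSite

noncomputable section

namespace Groth.Agent.Lib.Helper5.LHCech

open Groth.Agent.Lib.Helper5.DSite Groth.Agent.Lib.Helper5.DPull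
  Groth.Agent.Lib.Helper5.DeltaSite Groth.Agent.Lib.Helper5.LimPush Groth.Agent.Lib.Helper5.FDSite
  Groth.Agent.Lib.Helper5.LimAdj Groth.Agent.Lib.Helper5.CechDiag Groth.Agent.Lib.Helper5.LHTuple
  Groth.Agent.Lib.Helper5.ProperDescent Groth.Agent.Lib.Helper5.DeltaCmp
  Groth.Agent.Lib.Helper5.SecDiag Groth.Agent.Lib.Helper5.FDCech Groth.Agent.Lib.Helper5.DEps
  Groth.Agent.Lib.Helper5.LHAcyc Groth.Agent.Lib.Helper5.GermFam Groth.Agent.Lib.Helper5.LHSheaf
  Groth.Agent.Lib.Helper5.DeltaAcyc Groth.Agent.Lib.Helper5.DLev Groth.Agent.Lib.Helper22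

/-! ### base change of local homeomorphisms -/

section topology

variable {A B B' : Type*} [TopologicalSpace A] [TopologicalSpace B] [TopologicalSpace B']

/-- the base change of a local homeomorphism, on the concrete fibre product -/
theorem isLocalHomeomorph_snd {f : A → B} (hf : IsLocalHomeomorph f) (g : B' → B)
    (hg : Continuous g) :
    IsLocalHomeomorph (fun p : {p : A × B' // f p.1 = g p.2} => p.1.2) := by
  classical
  apply IsLocalHomeomorph.mk
  intro p₀
  obtain ⟨e, hxe, rfl⟩ := hf p₀.1.1
  let F : B' → {p : A × B' // e p.1 = g p.2} := fun s =>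
    if h : g s ∈ e.target then ⟨(e.symm (g s), s), e.right_inv h⟩ else p₀
  have hF : ∀ (s : B') (h : g s ∈ e.target), F s = ⟨(e.symm (g s), s), e.right_inv h⟩ :=
    fun s h => dif_pos h
  have hcont : ContinuousOn F (g ⁻¹' e.target) := by
    rw [continuousOn_iff_continuous_restrict]
    have hcts : Continuous (fun s : (g ⁻¹' e.target) =>
        (⟨(e.symm (g s.1), s.1), e.right_inv s.2⟩ : {p : A × B' // e p.1 = g p.2})) := by
      refine Continuous.subtype_mk (Continuous.prodMk ?_ continuous_subtype_val) _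
      exact e.continuousOn_symm.comp_continuous (hg.comp continuous_subtype_val) (fun s => s.2)
    exact hcts.congr (fun s => (hF s.1 s.2).symm)
  refine ⟨{ toFun := fun p => p.1.2
            invFun := F
            source := {p | p.1.1 ∈ e.source}
            target := g ⁻¹' e.target
            map_source' := fun p hp => by
              change g p.1.2 ∈ e.target
              rw [← p.2]
              exact e.map_source hp
            map_target' := fun s hs => by
              have hs' : g s ∈ e.target := hs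
              rw [hF s hs']
              exact e.map_target hs'
            left_inv' := fun p hp => by
              have h : g p.1.2 ∈ e.target := by
                rw [← p.2]
                exact e.map_source hp
              rw [hF _ h]
              apply Subtype.ext
              apply Prod.ext
              · change e.symm (g p.1.2) = p.1.1
                rw [← p.2]
                exact e.left_inv hp
              · rfl
            right_inv' := fun s hs => by
              have hs' : g s ∈ e.target := hs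
              rw [hF s hs']
            open_source := e.open_source.preimage (continuous_fst.comp continuous_subtype_val)
            open_target := e.open_target.preimage hg
            continuousOn_toFun := (continuous_snd.comp continuous_subtype_val).continuousOn
            continuousOn_invFun := hcont }, hxe, fun _ _ => rfl⟩

end topology

section pullback

variable {X S S' : TopCat.{u}} (f : X ⟶ S) (g : S' ⟶ S)

/-- the base change of a local homeomorphism is a local homeomorphism -/
theorem isLocalHomeomorph_pullback_snd (hf : IsLocalHomeomorph f) :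
    IsLocalHomeomorph (pullback.snd f g) := by
  have h1 : IsLocalHomeomorph (fun p : {p : X × S' // f p.1 = g p.2} => p.1.2) :=
    isLocalHomeomorph_snd hf g g.hom.continuous
  have h2 : IsLocalHomeomorph (TopCat.pullbackIsoProdSubtype f g).hom :=
    (TopCat.homeoOfIso (TopCat.pullbackIsoProdSubtype f g)).isLocalHomeomorph
  have h3 := h1.comp h2
  have e : ∀ y : (pullback f g : TopCat.{u}),
      pullback.snd f g y = ((TopCat.pullbackIsoProdSubtype f g).hom y).1.2 := fun y =>
    (ConcreteCategory.congr_hom (TopCat.pullbackIsoProdSubtype_hom_snd f g) y).symm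
  have e' : ⇑(ConcreteCategory.hom (pullback.snd f g)) =
      (fun p : {p : X × S' // f p.1 = g p.2} => p.1.2) ∘
        ⇑(ConcreteCategory.hom (TopCat.pullbackIsoProdSubtype f g).hom) := funext e
  rw [e']
  exact h3

/-- the base change of a surjective map is surjective -/
theorem surjective_pullback_snd (hsurj : Function.Surjective f) :
    Function.Surjective (pullback.snd f g) := by
  intro y
  have hy : y ∈ Set.range (pullback.snd f g) := by
    rw [TopCat.pullback_snd_range]
    exact hsurj (g y)
  exact hy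

end pullback

variable {X S : TopCat.{u}} (f : X ⟶ S)

/-! ### the levels -/

lemma isLocalHomeomorph_πc (hf : IsLocalHomeomorph f) (p : ℕ) :
    IsLocalHomeomorph (πc f (p + 1)) := by
  have h1 : IsLocalHomeomorph (toXp f p) :=
    (TopCat.homeoOfIso (Iso.mk (toXp f p) (ofXp f p) (toXp_ofXp f p)
      (ofXp_toXp f p))).isLocalHomeomorph
  have h2 : IsLocalHomeomorph (ap f p) := isLocalHomeomorph_ap p hf
  have h3 := h2.comp h1
  have e : ⇑(ConcreteCategory.hom (πc f (p + 1))) =
      ⇑(ConcreteCategory.hom (ap f p)) ∘ ⇑(ConcreteCategory.hom (toXp f p)) := by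
    funext w
    exact (ConcreteCategory.congr_hom (toXp_ap f p) w).symm
  rw [e]
  exact h3

lemma isFlasque_lev (hf : IsLocalHomeomorph f) (I : CohTop.Ab S) [Injective I] (p : ℕ) :
    TopCat.Sheaf.IsFlasque
      ((ev (DΔ (Df f)).Y (AsSmall.up.obj ⦋p⦌)).obj ((pullS (DΔ (Df f))).obj I)) := by
  have e1 : (ev (DΔ (Df f)).Y (AsSmall.up.obj ⦋p⦌)).obj ((pullS (DΔ (Df f))).obj I) ≅
      (GFsh (πc f (p + 1))).obj I := (pullSLevIso (DΔ (Df f)) (AsSmall.up.obj ⦋p⦌)).app I
  have e2 : (CohPull.inv (πc f (p + 1))).obj I ≅ (GFsh (πc f (p + 1))).obj I :=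
    (bridge (πc f (p + 1))).app I
  haveI := isFlasque_inv_obj (πc f (p + 1)) (isLocalHomeomorph_πc f hf p) I
  exact isFlasque_of_iso (e2 ≪≫ e1.symm)

lemma hex_pull (hf : IsLocalHomeomorph f) (hsurj : Function.Surjective f) (F : CohTop.Ab S)
    (k : ℕ) :
    IsZero (((TΔ (DΔ (Df f))).obj ((pullS (DΔ (Df f))).obj F)).homology (k + 1)) := by
  have h0 := hex_TΔ f hf hsurj F k
  have e := (TΔ (DΔ (Df f)) ⋙ HomologicalComplex.homologyFunctor _ _ (k + 1)).mapIso
    ((pullSRestrNatIso (Df f)).app F)
  exact IsZero.of_iso h0 e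

/-- the inverse image of an injective sheaf is acyclic -/
lemma isZero_RD_pull_inj (hf : IsLocalHomeomorph f) (hsurj : Function.Surjective f)
    (I : CohTop.Ab S) (hI : Injective I) (n : ℕ) :
    IsZero (((limPush (DΔ (Df f))).rightDerived (n + 1)).obj ((pullS (DΔ (Df f))).obj I)) :=
  have := hI
  isZero_RD_limPush (DΔ (Df f)) _ (fun p => isFlasque_lev f hf I p)
    (fun k => hex_pull f hf hsurj I k) n

/-! ### the unit -/

lemma hsurj0 (hsurj : Function.Surjective f) : Function.Surjective ((Df f).π ⟨0⟩) := by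
  intro z
  obtain ⟨x, hx⟩ := hsurj z
  exact ⟨mkXc f z (fun _ => x) (fun _ => hx), rfl⟩

lemma hmeet (hf : IsLocalHomeomorph f) (hsurj : Function.Surjective f) :
    ∀ (z : S) (U : Opens (Sp (Df f).Y ⟨0⟩)), (∀ w, (Df f).π ⟨0⟩ w = z → w ∈ U) →
      ∃ V : Opens S, z ∈ V ∧ ∀ y, y ∈ V → ∃ w, w ∈ U ∧ (Df f).π ⟨0⟩ w = y := by
  intro z U hU
  have hopen : IsOpenMap (πc f (0 + 1)) := (isLocalHomeomorph_πc f hf 0).isOpenMap
  obtain ⟨w₀, hw₀⟩ := hsurj0 f hsurj z
  have hUo : IsOpen (πc f (0 + 1) '' (U : Set (Sp (Df f).Y ⟨0⟩))) :=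
    hopen (U : Set (Sp (Df f).Y ⟨0⟩)) U.isOpen
  refine ⟨⟨πc f (0 + 1) '' (U : Set (Sp (Df f).Y ⟨0⟩)), hUo⟩, ?_, ?_⟩
  · change z ∈ πc f (0 + 1) '' (U : Set (Sp (Df f).Y ⟨0⟩))
    exact ⟨w₀, hU w₀ hw₀, hw₀⟩
  · intro y hy
    have hy' : y ∈ πc f (0 + 1) '' (U : Set (Sp (Df f).Y ⟨0⟩)) := hy
    obtain ⟨w, hw, hwy⟩ := hy'
    exact ⟨w, hw, hwy⟩

lemma hpair : ∀ w w' : Sp (Df f).Y ⟨0⟩, (Df f).π ⟨0⟩ w = (Df f).π ⟨0⟩ w' →
    ∃ v : Sp (Df f).Y ⟨1⟩, tr (Df f).Y ((powV (Df f) ⊤).face 0 0).α v = w ∧
      tr (Df f).Y ((powV (Df f) ⊤).face 0 1).α v = w' := by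
  intro w w' hww'
  let w₁ : XcT f 1 := w
  let w₁' : XcT f 1 := w'
  have hπ : πc f 1 w₁ = πc f 1 w₁' := hww'
  refine ⟨mkXc f (πc f 1 w₁)
    (Fin.cons (prc f 1 0 w₁') (fun _ => prc f 1 0 w₁) : Fin (1 + 1) → X) ?_, ?_, ?_⟩
  · intro i
    refine Fin.cases ?_ (fun i' => ?_) i
    · exact (f_prc f 1 0 w₁').trans hπ.symm
    · exact f_prc f 1 0 w₁
  · apply Xc_ext (f := f) (n := 1)
    · rfl
    · intro k
      have hk : k = 0 := Fin.ext (Nat.lt_one_iff.1 k.isLt)
      subst hk
      rfl
  · apply Xc_ext (f := f) (n := 1)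
    · exact hπ
    · intro k
      have hk : k = 0 := Fin.ext (Nat.lt_one_iff.1 k.isLt)
      subst hk
      rfl

/-- the unit is an isomorphism for the simplicial Čech diagram -/
theorem isIso_unit_lh (hf : IsLocalHomeomorph f) (hsurj : Function.Surjective f) :
    IsIso (adjL (DΔ (Df f))).unit :=
  DUnit2.isIso_unit_adjL (Df f) (hsurj0 f hsurj) (hmeet f hf hsurj) (hpair f)

/-! ### acyclicity -/

/-- vanishing of the higher direct images for the simplicial Čech diagram -/
theorem isZero_RD_pull_lh (hf : IsLocalHomeomorph f) (hsurj : Function.Surjective f)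
    (F : CohTop.Ab S) (q : ℕ) :
    IsZero (((limPush (DΔ (Df f))).rightDerived (q + 1)).obj ((pullS (DΔ (Df f))).obj F)) := by
  have e1 := (PrecompDelta.rightDerivedPrecompIso (pullS (DΔ (Df f))) (limPush (DΔ (Df f)))
    (fun I hI n => isZero_RD_pull_inj f hf hsurj I hI n) (q + 1)).app F
  have e2 := (DimShift.rightDerivedIsoOfNatIso
    (DUnit2.unitIsoΔ (Df f) (hsurj0 f hsurj) (hmeet f hf hsurj) (hpair f)) (q + 1)).app F
  have h0 : IsZero (((𝟭 (CohTop.Ab S)).rightDerived (q + 1)).obj F) :=
    isZero_rightDerived_succ_of_preservesHomology _ q F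
  exact IsZero.of_iso h0 (e1.symm ≪≫ e2)

/-- a surjective local homeomorphism is of cohomological descent -/
theorem isCohDescentMap_of_lh (hf : IsLocalHomeomorph f) (hsurj : Function.Surjective f) :
    IsCohDescentMap f :=
  FDMain.isCohDescentTop (cmpCech f) (isIso_unit_lh f hf hsurj) (isZero_RD_pull_lh f hf hsurj)

/-- **a surjective local homeomorphism is universally of cohomological descent** -/
theorem isUnivCohDescentMap_of_lh (hf : IsLocalHomeomorph f) (hsurj : Function.Surjective f) :
    IsUnivCohDescentMap f := by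
  intro S' g
  exact isCohDescentMap_of_lh (pullback.snd f g) (isLocalHomeomorph_pullback_snd f g hf)
    (surjective_pullback_snd f g hsurj)

end Groth.Agent.Lib.Helper5.LHCech
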