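import Groth.Agent.Lib.Helper5.FreePsh
import Groth.Agent.Lib.Helper5.SecH0
import Groth.Prelude.Def_CohPull

/-!
# The inverse image along a local homeomorphism via sections

For a continuous map `a : U ⟶ S` and an abelian sheaf `F` on `S`, the presheaf
`V ↦ Hom(ℤ[sections of a with values in V], F)` on `U` is a sheaf `Gsh a F`; when `a` is a local
homeomorphism it is the inverse image of `F`, and it is flasque when `F` is injective.
-/

set_option autoImplicit false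

universe u

open CategoryTheory CategoryTheory.Limits Opposite TopologicalSpace

noncomputable section

namespace Groth.Agent.Lib.Helper5.LHSheaf

open Groth.Agent.Lib.Helper5.FreePsh Groth.Agent.Lib.Helper5.SecH0

variable {U S : TopCat.{u}} (a : U ⟶ S)

/-- continuous sections of `a` over `W` with values in `V` -/
@[ext]
structure Sec (V : Opens U) (W : Opens S) : Type u where
  /-- the underlying continuous map -/
  g : C(W, U)
  sec : ∀ w : W, a (g w) = w.1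
  mem : ∀ w : W, g w ∈ V

variable {a}

/-- restriction of sections -/
def Sec.res {V : Opens U} {W W' : Opens S} (h : W' ≤ W) (σ : Sec a V W) : Sec a V W' where
  g := ⟨fun w => σ.g ⟨w.1, h w.2⟩, σ.g.continuous.comp (continuous_subtype_val.subtype_mk _)⟩
  sec w := σ.sec ⟨w.1, h w.2⟩
  mem w := σ.mem ⟨w.1, h w.2⟩

/-- enlarging the target open -/
def Sec.mapV {V V' : Opens U} (h : V ≤ V') {W : Opens S} (σ : Sec a V W) : Sec a V' W where
  g := σ.g
  sec := σ.sec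
  mem w := h (σ.mem w)

lemma Sec.ext' {V : Opens U} {W : Opens S} {σ τ : Sec a V W} (h : ∀ w : W, σ.g w = τ.g w) :
    σ = τ :=
  Sec.ext (ContinuousMap.ext h)

variable (a)

/-- the presheaf of sections with values in `V` -/
def SecP (V : Opens U) : (Opens S)ᵒᵖ ⥤ Type u where
  obj W := Sec a V W.unop
  map h := ↾(Sec.res (leOfHom h.unop))
  map_id W := rfl
  map_comp h h' := rfl

lemma SecP_map_apply (V : Opens U) {W W' : (Opens S)ᵒᵖ} (h : W ⟶ W') (σ : Sec a V W.unop) :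
    (SecP a V).map h σ = Sec.res (leOfHom h.unop) σ := rfl

/-- the presheaves of sections, functorially in `V` -/
def SecF : Opens U ⥤ ((Opens S)ᵒᵖ ⥤ Type u) where
  obj V := SecP a V
  map h := { app := fun W => ↾(Sec.mapV (leOfHom h)), naturality := fun W W' k => rfl }
  map_id V := rfl
  map_comp h h' := rfl

lemma SecF_map_app_apply {V V' : Opens U} (h : V ⟶ V') (W : (Opens S)ᵒᵖ) (σ : Sec a V W.unop) :
    ((SecF a).map h).app W σ = Sec.mapV (leOfHom h) σ := rfl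

instance mono_SecF_map_app {V V' : Opens U} (h : V ⟶ V') (W : (Opens S)ᵒᵖ) :
    Mono (((SecF a).map h).app W) := by
  rw [mono_iff_injective]
  intro σ τ hστ
  have h2 : Sec.mapV (leOfHom h) σ = Sec.mapV (leOfHom h) τ := hστ
  have h3 : (Sec.mapV (leOfHom h) σ).g = (Sec.mapV (leOfHom h) τ).g := congrArg Sec.g h2
  exact Sec.ext h3

/-- the free abelian presheaves on the presheaves of sections -/
def SecZ : Opens U ⥤ ((Opens S)ᵒᵖ ⥤ AddCommGrpCat.{u}) :=
  SecF a ⋙ (Functor.whiskeringRight _ _ _).obj AddCommGrpCat.free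

lemma SecZ_obj (V : Opens U) : (SecZ a).obj V = Z (SecP a V) := rfl

lemma SecZ_map {V V' : Opens U} (h : V ⟶ V') : (SecZ a).map h = Zmap ((SecF a).map h) := rfl

/-- the presheaf `V ↦ Hom(ℤ[sections with values in V], P)` on `U`, functorially in `P` -/
def Gpsh : ((Opens S)ᵒᵖ ⥤ AddCommGrpCat.{u}) ⥤ ((Opens U)ᵒᵖ ⥤ AddCommGrpCat.{u}) :=
  preadditiveCoyoneda.flip ⋙ (Functor.whiskeringLeft _ _ _).obj (SecZ a).op

lemma Gpsh_map_apply (P : (Opens S)ᵒᵖ ⥤ AddCommGrpCat.{u}) {V V' : Opens U} (h : V' ⟶ V)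
    (x : Z (SecP a V) ⟶ P) :
    (((Gpsh a).obj P).map h.op).hom x = Zmap ((SecF a).map h) ≫ x := rfl

lemma Gpsh_map_app_apply {P Q : (Opens S)ᵒᵖ ⥤ AddCommGrpCat.{u}} (g : P ⟶ Q) (V : Opens U)
    (x : Z (SecP a V) ⟶ P) : (((Gpsh a).map g).app (op V)).hom x = x ≫ g := rfl

/-- the map induced by an inclusion of opens of `U` -/
def resV {V' V : Opens U} (h : V' ≤ V) : Z (SecP a V') ⟶ Z (SecP a V) :=
  Zmap ((SecF a).map (homOfLE h))

lemma Gpsh_map_apply' (P : (Opens S)ᵒᵖ ⥤ AddCommGrpCat.{u}) {V V' : Opens U} (h : V' ⟶ V)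
    (x : Z (SecP a V) ⟶ P) :
    (((Gpsh a).obj P).map h.op).hom x = resV a (leOfHom h) ≫ x := rfl

lemma fam_resV {P : (Opens S)ᵒᵖ ⥤ AddCommGrpCat.{u}} {V V' : Opens U} (h : V' ≤ V)
    (x : Z (SecP a V) ⟶ P) (W : (Opens S)ᵒᵖ) (σ : Sec a V' W.unop) :
    fam (resV a h ≫ x) W σ = fam x W (Sec.mapV h σ) :=
  fam_Zmap_comp ((SecF a).map (homOfLE h)) x W σ

instance mono_resV {V' V : Opens U} (h : V' ≤ V) : Mono (resV a h) := by
  unfold resV
  exact @mono_Zmap _ _ (SecP a V') (SecP a V) ((SecF a).map (homOfLE h))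
    (fun W => mono_SecF_map_app a (homOfLE h) W)

lemma fam_map' {P : (Opens S)ᵒᵖ ⥤ AddCommGrpCat.{u}} {V : Opens U} (x : Z (SecP a V) ⟶ P)
    {W W' : Opens S} (h : W' ≤ W) (σ : Sec a V W) :
    fam x (op W') (Sec.res h σ) = (P.map (homOfLE h).op).hom (fam x (op W) σ) :=
  fam_map x (homOfLE h).op σ

variable {a}

/-! ### preimages of opens under sections -/

/-- the preimage of an open of `U` under a section, as an open of `S` -/
def Sec.pre {V : Opens U} {W : Opens S} (σ : Sec a V W) (V' : Opens U) : Opens S :=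
  ⟨Subtype.val '' (σ.g ⁻¹' (V' : Set U)),
    W.2.isOpenMap_subtype_val _ (V'.2.preimage σ.g.continuous)⟩

lemma Sec.mem_pre {V : Opens U} {W : Opens S} (σ : Sec a V W) (V' : Opens U) (w : S) :
    w ∈ σ.pre V' ↔ ∃ h : w ∈ W, σ.g ⟨w, h⟩ ∈ V' := by
  constructor
  · rintro ⟨⟨w', hw'⟩, hm, rfl⟩
    exact ⟨hw', hm⟩
  · rintro ⟨h, hm⟩
    exact ⟨⟨w, h⟩, hm, rfl⟩

lemma Sec.pre_le {V : Opens U} {W : Opens S} (σ : Sec a V W) (V' : Opens U) : σ.pre V' ≤ W :=
  fun w hw => ((σ.mem_pre V' w).1 hw).1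

lemma Sec.mem_of_mem_pre {V : Opens U} {W : Opens S} (σ : Sec a V W) (V' : Opens U) (w : S)
    (hw : w ∈ σ.pre V') : σ.g ⟨w, σ.pre_le V' hw⟩ ∈ V' :=
  ((σ.mem_pre V' w).1 hw).2

/-- the restriction of a section to the preimage of an open -/
def Sec.cut {V : Opens U} {W : Opens S} (σ : Sec a V W) (V' : Opens U) : Sec a V' (σ.pre V') where
  g := ⟨fun w => σ.g ⟨w.1, σ.pre_le V' w.2⟩,
    σ.g.continuous.comp (continuous_subtype_val.subtype_mk _)⟩
  sec w := σ.sec ⟨w.1, σ.pre_le V' w.2⟩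
  mem w := σ.mem_of_mem_pre V' w.1 w.2

/-! ### the sheaf condition -/

section sheaf

variable (F : CohTop.Ab S)

variable (a) in
theorem isSheaf_Gpsh : TopCat.Presheaf.IsSheaf ((Gpsh a).obj F.obj) := by
  rw [TopCat.Presheaf.isSheaf_iff_isSheafUniqueGluing]
  intro ι Vi sf hc
  let x : ∀ i, Z (SecP a (Vi i)) ⟶ F.obj := sf
  have hcx : ∀ (i j : ι) (W : Opens S) (ρ : Sec a (Vi i ⊓ Vi j) W),
      fam (x i) (op W) (Sec.mapV inf_le_left ρ) = fam (x j) (op W) (Sec.mapV inf_le_right ρ) := by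
    intro i j W ρ
    have h' : resV a (inf_le_left : Vi i ⊓ Vi j ≤ Vi i) ≫ x i =
        resV a (inf_le_right : Vi i ⊓ Vi j ≤ Vi j) ≫ x j := hc i j
    have h2 : fam (resV a (inf_le_left : Vi i ⊓ Vi j ≤ Vi i) ≫ x i) (op W) ρ =
        fam (resV a (inf_le_right : Vi i ⊓ Vi j ≤ Vi j) ≫ x j) (op W) ρ := by rw [h']
    rw [fam_resV, fam_resV] at h2
    exact h2
  have key : ∀ (W : Opens S) (σ : Sec a (iSup Vi) W), ∃! y : F.obj.obj (op W),
      ∀ i, (F.obj.map (homOfLE (σ.pre_le (Vi i))).op).hom y =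
        fam (x i) (op (σ.pre (Vi i))) (σ.cut (Vi i)) := by
    intro W σ
    refine TopCat.Sheaf.existsUnique_gluing' F (fun i => σ.pre (Vi i)) W
      (fun i => homOfLE (σ.pre_le (Vi i))) ?_
      (fun i => fam (x i) (op (σ.pre (Vi i))) (σ.cut (Vi i))) ?_
    · intro w hw
      obtain ⟨i, hi⟩ := Opens.mem_iSup.1 (σ.mem ⟨w, hw⟩)
      exact Opens.mem_iSup.2 ⟨i, (σ.mem_pre (Vi i) w).2 ⟨hw, hi⟩⟩
    · intro i j
      change (F.obj.map (homOfLE (inf_le_left : σ.pre (Vi i) ⊓ σ.pre (Vi j) ≤ _)).op).hom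
          (fam (x i) (op (σ.pre (Vi i))) (σ.cut (Vi i))) =
        (F.obj.map (homOfLE (inf_le_right : σ.pre (Vi i) ⊓ σ.pre (Vi j) ≤ _)).op).hom
          (fam (x j) (op (σ.pre (Vi j))) (σ.cut (Vi j)))
      rw [← fam_map', ← fam_map']
      let ρ : Sec a (Vi i ⊓ Vi j) (σ.pre (Vi i) ⊓ σ.pre (Vi j)) :=
        { g := ⟨fun w => σ.g ⟨w.1, σ.pre_le (Vi i) w.2.1⟩,
            σ.g.continuous.comp (continuous_subtype_val.subtype_mk _)⟩
          sec := fun w => σ.sec ⟨w.1, σ.pre_le (Vi i) w.2.1⟩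
          mem := fun w => ⟨σ.mem_of_mem_pre (Vi i) w.1 w.2.1, σ.mem_of_mem_pre (Vi j) w.1 w.2.2⟩ }
      exact hcx i j _ ρ
  choose t ht htu using key
  have htu' : ∀ (W : Opens S) (σ : Sec a (iSup Vi) W) (y : F.obj.obj (op W)),
      (∀ i, (F.obj.map (homOfLE (σ.pre_le (Vi i))).op).hom y =
        fam (x i) (op (σ.pre (Vi i))) (σ.cut (Vi i))) → y = t W σ := htu
  -- naturality of `t`
  have tnat' : ∀ {W W' : Opens S} (h : W' ≤ W) (σ : Sec a (iSup Vi) W),
      t W' (Sec.res h σ) = (F.obj.map (homOfLE h).op).hom (t W σ) := by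
    intro W W' h σ
    symm
    apply htu'
    intro i
    have hle : (Sec.res h σ).pre (Vi i) ≤ σ.pre (Vi i) := by
      intro w hw
      obtain ⟨h1, h2⟩ := ((Sec.res h σ).mem_pre (Vi i) w).1 hw
      exact (σ.mem_pre (Vi i) w).2 ⟨h h1, h2⟩
    have e1 : (F.obj.map (homOfLE ((Sec.res h σ).pre_le (Vi i))).op).hom
        ((F.obj.map (homOfLE h).op).hom (t W σ)) =
        (F.obj.map (homOfLE hle).op).hom
          ((F.obj.map (homOfLE (σ.pre_le (Vi i))).op).hom (t W σ)) := by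
      rw [map_map_thin F.obj (homOfLE h).op _
          (homOfLE (((Sec.res h σ).pre_le (Vi i)).trans h)).op,
        map_map_thin F.obj _ _ (homOfLE (((Sec.res h σ).pre_le (Vi i)).trans h)).op]
    refine e1.trans ?_
    rw [ht W σ i, ← fam_map']
    rfl
  have tnat : ∀ {W W' : (Opens S)ᵒᵖ} (h : W ⟶ W') (σ : Sec a (iSup Vi) W.unop),
      t W'.unop ((SecP a (iSup Vi)).map h σ) = (F.obj.map h).hom (t W.unop σ) :=
    fun h σ => tnat' (leOfHom h.unop) σ
  let T0 : Z (SecP a (iSup Vi)) ⟶ F.obj :=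
    ofFam (A := SecP a (iSup Vi)) (fun W σ => t W.unop σ) tnat
  have hT0 : ∀ (W : (Opens S)ᵒᵖ) (σ : Sec a (iSup Vi) W.unop), fam T0 W σ = t W.unop σ :=
    fun W σ => fam_ofFam (A := SecP a (iSup Vi)) (fun W σ => t W.unop σ) tnat W σ
  refine ⟨T0, ?_, ?_⟩
  · intro i
    change resV a (le_iSup Vi i) ≫ T0 = x i
    apply hom_ext_fam
    intro W τ
    obtain ⟨W⟩ := W
    rw [fam_resV, hT0]
    symm
    apply htu'
    intro j
    refine (fam_map' a (x i) (Sec.pre_le (Sec.mapV (le_iSup Vi i) τ) (Vi j)) τ).symm.trans ?_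
    let ρ : Sec a (Vi i ⊓ Vi j) ((Sec.mapV (le_iSup Vi i) τ).pre (Vi j)) :=
      { g := ⟨fun w => τ.g ⟨w.1, Sec.pre_le _ (Vi j) w.2⟩,
          τ.g.continuous.comp (continuous_subtype_val.subtype_mk _)⟩
        sec := fun w => τ.sec ⟨w.1, Sec.pre_le _ (Vi j) w.2⟩
        mem := fun w => ⟨τ.mem _, Sec.mem_of_mem_pre _ (Vi j) w.1 w.2⟩ }
    exact hcx i j _ ρ
  · intro s' hs'
    let s'' : Z (SecP a (iSup Vi)) ⟶ F.obj := s'
    have hs'' : ∀ i, resV a (le_iSup Vi i) ≫ s'' = x i := hs'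
    change s'' = T0
    apply hom_ext_fam
    intro W σ
    obtain ⟨W⟩ := W
    rw [hT0]
    apply htu'
    intro i
    refine (fam_map' a s'' (Sec.pre_le σ (Vi i)) σ).symm.trans ?_
    rw [← hs'' i, fam_resV]
    rfl

end sheaf

end Groth.Agent.Lib.Helper5.LHSheaf
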