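import Groth.Agent.Lib.Helper5.LimPush

/-!
# The adjunction between the inverse image and the direct image for a diagram over a base

For a diagram of spaces `D` over `S`, the inverse image `pullS D` is left adjoint to the direct
image `limPush D`; the unit sends a section `t` of `F` to the family of the families of germs
of `t`.
-/

set_option autoImplicit false

universe u

open CategoryTheory CategoryTheory.Limits Opposite TopologicalSpace

noncomputable section

namespace Groth.Agent.Lib.Helper5.LimAdj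

open Groth.Agent.Lib.Helper5.DSite Groth.Agent.Lib.Helper5.DPull Groth.Agent.Lib.Helper5.GermFam
  Groth.Agent.Lib.Helper5.LimPush Groth.Agent.Lib.Helper5.PullStalk

/-! ### one level -/

section level

variable {Y' Z : TopCat.{u}} (g : Y' ⟶ Z)

/-- the adjunction between the sheaf of families of germs and the direct image -/
def adjGF : GFsh g ⊣ CohTop.push g := (adj g).ofNatIsoLeft (bridge g)

lemma adjGF_unit_app (F : CohTop.Ab Z) : (adjGF g).unit.app F = toGF g F := by
  have h : (adjGF g).unit.app F =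
      (adj g).unit.app F ≫ (CohTop.push g).map ((bridge g).hom.app F) := rfl
  rw [h, bridge_hom_app]
  exact η_β g F

lemma homEquiv_symm_gf {F : CohTop.Ab Z} {H : CohTop.Ab Y'} (ψ : F ⟶ (CohTop.push g).obj H)
    (V : Opens Z) (t : F.obj.obj (op V)) :
    ((((adjGF g).homEquiv F H).symm ψ).hom.app (op ((Opens.map g).obj V))).hom
      (gf g F.obj (V := V) (W := (Opens.map g).obj V) (fun _ hw => hw) t) =
        (ψ.hom.app (op V)).hom t := by
  have h1 : (adjGF g).homEquiv F H (((adjGF g).homEquiv F H).symm ψ) = ψ :=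
    Equiv.apply_symm_apply _ _
  rw [Adjunction.homEquiv_unit, adjGF_unit_app] at h1
  exact congrArg (fun k => (k.hom.app (op V)).hom t) h1

lemma homEquiv_symm_gf' {F : CohTop.Ab Z} {H : CohTop.Ab Y'} (ψ : F ⟶ (CohTop.push g).obj H)
    (V : Opens Z) (W : Opens Y') (h : ∀ w, w ∈ W → g w ∈ V) (t : F.obj.obj (op V)) :
    ((((adjGF g).homEquiv F H).symm ψ).hom.app (op W)).hom (gf g F.obj h t) =
      (H.obj.map (homOfLE (fun w hw => h w hw : W ≤ (Opens.map g).obj V)).op).hom
        ((ψ.hom.app (op V)).hom t) := by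
  have hn := ConcreteCategory.congr_hom
    ((((adjGF g).homEquiv F H).symm ψ).hom.naturality
      (homOfLE (fun w hw => h w hw : W ≤ (Opens.map g).obj V)).op)
    (gf g F.obj (V := V) (W := (Opens.map g).obj V) (fun _ hw => hw) t)
  have h0 := homEquiv_symm_gf g ψ V t
  exact hn.trans (congrArg (fun z => (H.obj.map
    (homOfLE (fun w hw => h w hw : W ≤ (Opens.map g).obj V)).op).hom z) h0)

end level

/-! ### the unit -/

variable {I : Type u} [Category.{u} I] {S : TopCat.{u}} (D : OverS I S)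

/-- the families of germs of a section, on all levels -/
def unitHomL (F : CohTop.Ab S) (V : Opens S) :
    F.obj.obj (op V) →+ LPobj D (preS D F.obj) V where
  toFun t := ⟨fun i => gf (D.π i) F.obj (V := V) (W := (Opens.map (D.π i)).obj V)
    (fun _ hw => hw) t, by
    intro i j α
    refine sec_ext (D.π j) F.obj _ _ (fun q => ?_)
    rfl⟩
  map_zero' := Subtype.ext (funext fun i => map_zero _)
  map_add' a b := Subtype.ext (funext fun i => map_add _ _ _)

lemma unitHomL_val (F : CohTop.Ab S) (V : Opens S) (t : F.obj.obj (op V)) (i : I) :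
    (unitHomL D F V t).1 i = gf (D.π i) F.obj (V := V) (W := (Opens.map (D.π i)).obj V)
      (fun _ hw => hw) t := rfl

/-- the unit of the adjunction -/
def unitL (F : CohTop.Ab S) : F ⟶ (limPush D).obj ((pullS D).obj F) :=
  ⟨{ app := fun V => AddCommGrpCat.ofHom (unitHomL D F V.unop)
     naturality := by
       intro V V' h
       refine AddCommGrpCat.hom_ext (AddMonoidHom.ext fun t => Subtype.ext (funext fun i => ?_))
       refine sec_ext (D.π i) F.obj _ _ (fun q => ?_)
       exact gmP_map F.obj h.unop q.y _ t }⟩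

lemma unitL_app (F : CohTop.Ab S) (V : Opens S) (t : F.obj.obj (op V)) :
    ((unitL D F).hom.app (op V)).hom t = unitHomL D F V t := rfl

lemma unitL_natural {F F' : CohTop.Ab S} (φ : F ⟶ F') :
    φ ≫ unitL D F' = unitL D F ≫ (limPush D).map ((pullS D).map φ) := by
  apply CategoryTheory.Sheaf.hom_ext
  ext V t
  refine Subtype.ext (funext fun i => ?_)
  exact (mapP_gf (D.π i) F.obj φ.hom (V := V.unop) (W := (Opens.map (D.π i)).obj V.unop)
    (fun _ hw => hw) t).symm

/-! ### the adjoint of a morphism to the direct image -/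

section adjoint

variable {D} {F : CohTop.Ab S} {G : Sh D.Y}

/-- the level components of the adjoint of a morphism to the direct image -/
def φlev (ψ : F ⟶ (limPush D).obj G) (i : I) : (GFsh (D.π i)).obj F ⟶ (ev D.Y i).obj G :=
  ((adjGF (D.π i)).homEquiv F ((ev D.Y i).obj G)).symm (ψ ≫ (prj D i).app G)

lemma φlev_gf (ψ : F ⟶ (limPush D).obj G) (i : I) (V : Opens S) (W : Opens (Sp D.Y i))
    (h : ∀ w, w ∈ W → D.π i w ∈ V) (t : F.obj.obj (op V)) :
    ((φlev ψ i).hom.app (op W)).hom (gf (D.π i) F.obj h t) =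
      (G.obj.map (toBVg D ⟨i, W⟩ V h).op).hom
        (((ψ.hom.app (op V)).hom t : LPobj D G.obj V).1 i) :=
  homEquiv_symm_gf' (D.π i) (ψ ≫ (prj D i).app G) V W h t

lemma φlev_res (ψ : F ⟶ (limPush D).obj G) (i : I) {W W' : Opens (Sp D.Y i)} (h : W' ≤ W)
    (s : sec (D.π i) F.obj W) :
    ((φlev ψ i).hom.app (op W')).hom (resHom (D.π i) F.obj h s) =
      (G.obj.map (inclO D.Y ⟨i, W⟩ W' h).op).hom (((φlev ψ i).hom.app (op W)).hom s) :=
  ConcreteCategory.congr_hom ((φlev ψ i).hom.naturality (homOfLE h).op) s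

/-- two sections of a sheaf on the site which agree locally are equal -/
lemma eq_of_local (G : Sh D.Y) (A : Obj D.Y) (a b : G.obj.obj (op A))
    (h : ∀ x, x ∈ A.U → ∃ (W : Opens (Sp D.Y A.i)) (hW : W ≤ A.U), x ∈ W ∧
      (G.obj.map (inclO D.Y A W hW).op).hom a = (G.obj.map (inclO D.Y A W hW).op).hom b) :
    a = b := by
  obtain ⟨i, U⟩ := A
  let Fi : CohTop.Ab (Sp D.Y i) := (ev D.Y i).obj G
  choose W hW hxW hWe using h
  refine TopCat.Sheaf.eq_of_locally_eq' Fi (fun x : U => W x.1 x.2) U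
    (fun x => homOfLE (hW x.1 x.2)) (fun x hx => Opens.mem_iSup.2 ⟨⟨x, hx⟩, hxW x hx⟩) a b
    (fun x => ?_)
  exact hWe x.1 x.2

lemma φlev_natural (ψ : F ⟶ (limPush D).obj G) {A B : Obj D.Y} (f : A ⟶ B)
    (s : sec (D.π B.i) F.obj B.U) :
    ((φlev ψ A.i).hom.app (op A.U)).hom (trnS D F.obj f s) =
      (G.obj.map f.op).hom (((φlev ψ B.i).hom.app (op B.U)).hom s) := by
  apply eq_of_local G A
  intro x hx
  obtain ⟨V, t, W', hx', h1, h2, e⟩ :=
    exists_gf_eq (D.π B.i) F.obj s (tr D.Y f.α x) (f.mem x hx)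
  let W : Opens (Sp D.Y A.i) := A.U ⊓ (Opens.map (tr D.Y f.α)).obj W'
  have hW : W ≤ A.U := inf_le_left
  refine ⟨W, hW, ⟨hx, hx'⟩, ?_⟩
  have h3 : ∀ w, w ∈ W → D.π A.i w ∈ V := fun w hw => by
    have h4 := h2 _ hw.2
    rwa [D.hπ] at h4
  let f' : (⟨A.i, W⟩ : Obj D.Y) ⟶ ⟨B.i, W'⟩ :=
    mkHom (A := ⟨A.i, W⟩) (B := ⟨B.i, W'⟩) f.α (fun w hw => hw.2)
  let xt : LPobj D G.obj V := (ψ.hom.app (op V)).hom t
  -- the left hand side
  have e1 : resHom (D.π A.i) F.obj hW (trnS D F.obj f s) = gf (D.π A.i) F.obj h3 t := by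
    have e2 : resHom (D.π A.i) F.obj hW (trnS D F.obj f s) =
        trnS D F.obj f' (resHom (D.π B.i) F.obj h1 s) := by
      apply sec_ext
      intro q
      rfl
    rw [e2, e]
    apply sec_ext
    intro q
    rfl
  have hL : (G.obj.map (inclO D.Y A W hW).op).hom
      (((φlev ψ A.i).hom.app (op A.U)).hom (trnS D F.obj f s)) =
      (G.obj.map (toBVg D ⟨A.i, W⟩ V h3).op).hom (xt.1 A.i) := by
    have a1 := (φlev_res ψ A.i hW (trnS D F.obj f s)).symm
    have a2 : ((φlev ψ A.i).hom.app (op W)).hom (resHom (D.π A.i) F.obj hW (trnS D F.obj f s)) =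
        ((φlev ψ A.i).hom.app (op W)).hom (gf (D.π A.i) F.obj h3 t) :=
      congrArg (fun z => ((φlev ψ A.i).hom.app (op W)).hom z) e1
    exact a1.trans (a2.trans (φlev_gf ψ A.i V W h3 t))
  -- the right hand side
  have hR : (G.obj.map (inclO D.Y A W hW).op).hom
      ((G.obj.map f.op).hom (((φlev ψ B.i).hom.app (op B.U)).hom s)) =
      (G.obj.map (toBVg D ⟨A.i, W⟩ V h3).op).hom (xt.1 A.i) := by
    have e3 : inclO D.Y A W hW ≫ f = f' ≫ inclO D.Y B W' h1 :=
      DSite.hom_ext ((Category.comp_id _).trans (Category.id_comp _).symm)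
    have e4 : f' ≫ toBVg D ⟨B.i, W'⟩ V h2 = toBVg D ⟨A.i, W⟩ V h3 ≫ homBVg D f.α (le_refl V) :=
      DSite.hom_ext ((Category.id_comp _).trans (Category.comp_id _).symm)
    have b1 := map_comp_apply G.obj (inclO D.Y A W hW) f
      (((φlev ψ B.i).hom.app (op B.U)).hom s)
    have b2 := map_congr G.obj e3 (((φlev ψ B.i).hom.app (op B.U)).hom s)
    have b3 := (map_comp_apply G.obj f' (inclO D.Y B W' h1)
      (((φlev ψ B.i).hom.app (op B.U)).hom s)).symm
    have b4 : (G.obj.map (inclO D.Y B W' h1).op).hom (((φlev ψ B.i).hom.app (op B.U)).hom s) =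
        (G.obj.map (toBVg D ⟨B.i, W'⟩ V h2).op).hom (xt.1 B.i) := by
      have c1 := (φlev_res ψ B.i h1 s).symm
      have c2 : ((φlev ψ B.i).hom.app (op W')).hom (resHom (D.π B.i) F.obj h1 s) =
          ((φlev ψ B.i).hom.app (op W')).hom (gf (D.π B.i) F.obj h2 t) :=
        congrArg (fun z => ((φlev ψ B.i).hom.app (op W')).hom z) e
      exact c1.trans (c2.trans (φlev_gf ψ B.i V W' h2 t))
    have b5 : (G.obj.map f'.op).hom ((G.obj.map (inclO D.Y B W' h1).op).hom
        (((φlev ψ B.i).hom.app (op B.U)).hom s)) =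
        (G.obj.map f'.op).hom ((G.obj.map (toBVg D ⟨B.i, W'⟩ V h2).op).hom (xt.1 B.i)) :=
      congrArg (fun z => (G.obj.map f'.op).hom z) b4
    have b6 := map_comp_apply G.obj f' (toBVg D ⟨B.i, W'⟩ V h2) (xt.1 B.i)
    have b7 := map_congr G.obj e4 (xt.1 B.i)
    have b8 := (map_comp_apply G.obj (toBVg D ⟨A.i, W⟩ V h3) (homBVg D f.α (le_refl V))
      (xt.1 B.i)).symm
    have b9 : (G.obj.map (toBVg D ⟨A.i, W⟩ V h3).op).hom
        ((G.obj.map (homBVg D f.α (le_refl V)).op).hom (xt.1 B.i)) =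
        (G.obj.map (toBVg D ⟨A.i, W⟩ V h3).op).hom (xt.1 A.i) :=
      congrArg (fun z => (G.obj.map (toBVg D ⟨A.i, W⟩ V h3).op).hom z)
        (LPobj_compat D G.obj V xt f.α)
    exact b1.trans (b2.trans (b3.trans (b5.trans (b6.trans (b7.trans (b8.trans b9))))))
  exact hL.trans hR.symm

/-- the adjoint of a morphism to the direct image -/
def φS (ψ : F ⟶ (limPush D).obj G) : (pullS D).obj F ⟶ G :=
  ⟨{ app := fun A => ((φlev ψ A.unop.i).hom.app (op A.unop.U) :
        (preS D F.obj).obj A ⟶ G.obj.obj A)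
     naturality := by
       intro A B m
       ext s
       exact φlev_natural ψ m.unop s }⟩

lemma φS_app (ψ : F ⟶ (limPush D).obj G) (A : Obj D.Y) (s : sec (D.π A.i) F.obj A.U) :
    ((φS ψ).hom.app (op A)).hom s = ((φlev ψ A.i).hom.app (op A.U)).hom s := rfl

end adjoint

/-! ### the adjunction -/

/-- the bijection on morphisms -/
def homEquivL (F : CohTop.Ab S) (G : Sh D.Y) :
    ((pullS D).obj F ⟶ G) ≃ (F ⟶ (limPush D).obj G) where
  toFun φ := unitL D F ≫ (limPush D).map φ
  invFun ψ := φS ψ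
  left_inv φ := by
    apply CategoryTheory.Sheaf.hom_ext
    ext A s
    obtain ⟨⟨i, U⟩⟩ := A
    let ψ : F ⟶ (limPush D).obj G := unitL D F ≫ (limPush D).map φ
    let s' : sec (D.π i) F.obj U := s
    change ((φlev ψ i).hom.app (op U)).hom s' = (φ.hom.app (op ⟨i, U⟩)).hom s'
    apply eq_of_local G ⟨i, U⟩
    intro x hx
    obtain ⟨V, t, W, hxW, h1, h2, e⟩ := exists_gf_eq (D.π i) F.obj s' x hx
    refine ⟨W, h1, hxW, ?_⟩
    have a1 := (φlev_res ψ i h1 s').symm
    have a2 : ((φlev ψ i).hom.app (op W)).hom (resHom (D.π i) F.obj h1 s') =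
        ((φlev ψ i).hom.app (op W)).hom (gf (D.π i) F.obj h2 t) :=
      congrArg (fun z => ((φlev ψ i).hom.app (op W)).hom z) e
    have a3 := φlev_gf ψ i V W h2 t
    have a4 : (((ψ.hom.app (op V)).hom t : LPobj D G.obj V).1 i) =
        (φ.hom.app (op (BVg D V i))).hom (gf (D.π i) F.obj (V := V)
          (W := (Opens.map (D.π i)).obj V) (fun _ hw => hw) t) := rfl
    have a5 : (G.obj.map (toBVg D ⟨i, W⟩ V h2).op).hom
        ((φ.hom.app (op (BVg D V i))).hom (gf (D.π i) F.obj (V := V)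
          (W := (Opens.map (D.π i)).obj V) (fun _ hw => hw) t)) =
        (φ.hom.app (op ⟨i, W⟩)).hom (gf (D.π i) F.obj h2 t) :=
      (NatTrans.naturality_apply φ.hom (toBVg D ⟨i, W⟩ V h2).op (gf (D.π i) F.obj (V := V)
          (W := (Opens.map (D.π i)).obj V) (fun _ hw => hw) t)).symm
    have a6 : (G.obj.map (inclO D.Y ⟨i, U⟩ W h1).op).hom ((φ.hom.app (op ⟨i, U⟩)).hom s') =
        (φ.hom.app (op ⟨i, W⟩)).hom (resHom (D.π i) F.obj h1 s') := by
      have a7 := (NatTrans.naturality_apply φ.hom (inclO D.Y ⟨i, U⟩ W h1).op s').symm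
      refine a7.trans (congrArg (fun z => (φ.hom.app (op ⟨i, W⟩)).hom z) ?_)
      exact lev_preS_map D F.obj h1 s'
    have a8 : (φ.hom.app (op ⟨i, W⟩)).hom (resHom (D.π i) F.obj h1 s') =
        (φ.hom.app (op ⟨i, W⟩)).hom (gf (D.π i) F.obj h2 t) :=
      congrArg (fun z => (φ.hom.app (op ⟨i, W⟩)).hom z) e
    rw [a4] at a3
    exact a1.trans (a2.trans (a3.trans (a5.trans (a8.symm.trans a6.symm))))
  right_inv ψ := by
    apply CategoryTheory.Sheaf.hom_ext
    ext V t
    refine Subtype.ext (funext fun i => ?_)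
    exact homEquiv_symm_gf (D.π i) (ψ ≫ (prj D i).app G) V.unop t

lemma homEquivL_apply (F : CohTop.Ab S) (G : Sh D.Y) (φ : (pullS D).obj F ⟶ G) :
    homEquivL D F G φ = unitL D F ≫ (limPush D).map φ := rfl

/-- **the adjunction between the inverse image and the direct image** -/
def adjL : pullS D ⊣ limPush D :=
  Adjunction.mkOfHomEquiv
    { homEquiv := homEquivL D
      homEquiv_naturality_left_symm := by
        intro F' F G f g
        apply (homEquivL D F' G).injective
        rw [Equiv.apply_symm_apply, homEquivL_apply, Functor.map_comp, ← Category.assoc,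
          ← unitL_natural, Category.assoc]
        have h : unitL D F ≫ (limPush D).map ((homEquivL D F G).symm g) = g :=
          (homEquivL D F G).apply_symm_apply g
        rw [h]
      homEquiv_naturality_right := by
        intro F G G' f g
        rw [homEquivL_apply, homEquivL_apply, Functor.map_comp, Category.assoc] }

lemma adjL_unit_app (F : CohTop.Ab S) : (adjL D).unit.app F = unitL D F := by
  have h : (adjL D).unit.app F = homEquivL D F ((pullS D).obj F) (𝟙 _) :=
    Adjunction.mkOfHomEquiv_unit_app _ _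
  rw [h, homEquivL_apply, CategoryTheory.Functor.map_id]
  exact Category.comp_id _

end Groth.Agent.Lib.Helper5.LimAdj
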