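import Groth.Agent.Lib.Helper5.DPull

/-!
# The direct image from a diagram site to the base

For a diagram of spaces `D` over `S` (indexed by an arbitrary category `I`) and a sheaf `G` on the
site of the diagram, the sheaf `limPush D G` on `S` has as sections over `V` the compatible
families `(x_i ∈ G(i, π_i⁻¹ V))_i`.
-/

set_option autoImplicit false

universe u

open CategoryTheory CategoryTheory.Limits Opposite TopologicalSpace

noncomputable section

namespace Groth.Agent.Lib.Helper5.LimPush

open Groth.Agent.Lib.Helper5.DSite Groth.Agent.Lib.Helper5.DPull Groth.Agent.Lib.Helper5.GermFam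

variable {I : Type u} [Category.{u} I] {S : TopCat.{u}} (D : OverS I S)

/-- the object of level `i` over an open subset of the base -/
abbrev BVg (V : Opens S) (i : I) : Obj D.Y := ⟨i, (Opens.map (D.π i)).obj V⟩

/-- the morphisms between the objects over open subsets of the base -/
def homBVg {i j : I} (α : i ⟶ j) {V' V : Opens S} (h : V' ≤ V) : BVg D V' j ⟶ BVg D V i :=
  mkHom (A := BVg D V' j) (B := BVg D V i) α (fun w hw => by
    change D.π i (tr D.Y α w) ∈ V
    rw [D.hπ]
    exact h hw)

@[simp] lemma homBVg_α {i j : I} (α : i ⟶ j) {V' V : Opens S} (h : V' ≤ V) :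
    (homBVg D α h).α = α := rfl

/-- the morphism from an object to the object over an open subset of the base -/
def toBVg (A : Obj D.Y) (V : Opens S) (h : ∀ w, w ∈ A.U → D.π A.i w ∈ V) : A ⟶ BVg D V A.i :=
  mkHom (A := A) (B := BVg D V A.i) (𝟙 A.i) (fun w hw => by
    rw [tr_id_apply]
    exact h w hw)

@[simp] lemma toBVg_α (A : Obj D.Y) (V : Opens S) (h : ∀ w, w ∈ A.U → D.π A.i w ∈ V) :
    (toBVg D A V h).α = 𝟙 A.i := rfl

/-! ### compatible families -/

section presheaf

variable (P : (Obj D.Y)ᵒᵖ ⥤ AddCommGrpCat.{u})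

/-- the compatible families over an open subset of the base -/
def LPobj (V : Opens S) : AddSubgroup (∀ i : I, P.obj (op (BVg D V i))) where
  carrier := {x | ∀ (i j : I) (α : i ⟶ j), (P.map (homBVg D α (le_refl V)).op).hom (x i) = x j}
  zero_mem' := by
    intro i j α
    exact map_zero _
  add_mem' := by
    intro x y hx hy i j α
    change (P.map (homBVg D α (le_refl V)).op).hom (x i + y i) = x j + y j
    rw [map_add, hx i j α, hy i j α]
  neg_mem' := by
    intro x hx i j α
    change (P.map (homBVg D α (le_refl V)).op).hom (-(x i)) = -(x j)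
    rw [map_neg, hx i j α]

lemma mem_LPobj (V : Opens S) (x : ∀ i : I, P.obj (op (BVg D V i))) :
    x ∈ LPobj D P V ↔
      ∀ (i j : I) (α : i ⟶ j), (P.map (homBVg D α (le_refl V)).op).hom (x i) = x j := Iff.rfl

lemma LPobj_compat (V : Opens S) (x : LPobj D P V) {i j : I} (α : i ⟶ j) :
    (P.map (homBVg D α (le_refl V)).op).hom (x.1 i) = x.1 j := x.2 i j α

lemma LPobj_ext {V : Opens S} (x y : LPobj D P V) (h : ∀ i, x.1 i = y.1 i) : x = y :=
  Subtype.ext (funext h)

/-- restriction to a smaller open subset -/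
def LPres {V V' : Opens S} (h : V' ≤ V) : LPobj D P V →+ LPobj D P V' where
  toFun x := ⟨fun i => (P.map (homBVg D (𝟙 i) h).op).hom (x.1 i), by
    intro i j α
    change (P.map (homBVg D α (le_refl V')).op).hom ((P.map (homBVg D (𝟙 i) h).op).hom (x.1 i)) =
      (P.map (homBVg D (𝟙 j) h).op).hom (x.1 j)
    rw [← LPobj_compat D P V x α, map_comp_apply, map_comp_apply]
    exact map_congr P (DSite.hom_ext ((Category.id_comp _).trans (Category.comp_id _).symm)) _⟩
  map_zero' := Subtype.ext (funext fun i => map_zero _)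
  map_add' a b := Subtype.ext (funext fun i => map_add _ _ _)

lemma LPres_val {V V' : Opens S} (h : V' ≤ V) (x : LPobj D P V) (i : I) :
    (LPres D P h x).1 i = (P.map (homBVg D (𝟙 i) h).op).hom (x.1 i) := rfl

/-- the presheaf of compatible families on the base -/
def limPre : (Opens S)ᵒᵖ ⥤ AddCommGrpCat.{u} where
  obj V := AddCommGrpCat.of (LPobj D P V.unop)
  map h := AddCommGrpCat.ofHom (LPres D P (leOfHom h.unop))
  map_id V := by
    refine AddCommGrpCat.hom_ext (AddMonoidHom.ext fun x => Subtype.ext (funext fun i => ?_))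
    exact map_id_apply P _ rfl (x.1 i)
  map_comp h h' := by
    refine AddCommGrpCat.hom_ext (AddMonoidHom.ext fun x => Subtype.ext (funext fun i => ?_))
    change (P.map (homBVg D (𝟙 i) _).op).hom (x.1 i) =
      (P.map (homBVg D (𝟙 i) _).op).hom ((P.map (homBVg D (𝟙 i) _).op).hom (x.1 i))
    rw [DSite.map_comp_apply]
    exact map_congr P (DSite.hom_ext (Category.comp_id _).symm) (x.1 i)

variable {P}

/-- functoriality in the presheaf -/
def LPmap (V : Opens S) {P' : (Obj D.Y)ᵒᵖ ⥤ AddCommGrpCat.{u}} (θ : P ⟶ P') :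
    LPobj D P V →+ LPobj D P' V where
  toFun x := ⟨fun i => (θ.app (op (BVg D V i))).hom (x.1 i), by
    intro i j α
    change (P'.map (homBVg D α (le_refl V)).op).hom ((θ.app (op (BVg D V i))).hom (x.1 i)) =
      (θ.app (op (BVg D V j))).hom (x.1 j)
    rw [← LPobj_compat D P V x α]
    exact (NatTrans.naturality_apply θ (homBVg D α (le_refl V)).op (x.1 i)).symm⟩
  map_zero' := Subtype.ext (funext fun i => map_zero _)
  map_add' a b := Subtype.ext (funext fun i => map_add _ _ _)

lemma LPmap_val (V : Opens S) {P' : (Obj D.Y)ᵒᵖ ⥤ AddCommGrpCat.{u}} (θ : P ⟶ P')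
    (x : LPobj D P V) (i : I) : (LPmap D V θ x).1 i = (θ.app (op (BVg D V i))).hom (x.1 i) := rfl

/-- functoriality in the presheaf -/
def limPreMap {P' : (Obj D.Y)ᵒᵖ ⥤ AddCommGrpCat.{u}} (θ : P ⟶ P') : limPre D P ⟶ limPre D P' where
  app V := AddCommGrpCat.ofHom (LPmap D V.unop θ)
  naturality V V' h := by
    refine AddCommGrpCat.hom_ext (AddMonoidHom.ext fun x => Subtype.ext (funext fun i => ?_))
    exact NatTrans.naturality_apply θ (homBVg D (𝟙 i) (leOfHom h.unop)).op (x.1 i)

end presheaf

/-! ### the sheaf property -/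

theorem isSheaf_limPre (G : Sh D.Y) : TopCat.Presheaf.IsSheaf (limPre D G.obj) := by
  rw [TopCat.Presheaf.isSheaf_iff_isSheafUniqueGluing]
  intro κ Vi sf hc
  let sf' : ∀ a, LPobj D G.obj (Vi a) := sf
  let Fi : I → CohTop.Ab S := fun i => (CohTop.push (D.π i)).obj ((ev D.Y i).obj G)
  have hcomp : ∀ i, TopCat.Presheaf.IsCompatible (Fi i).obj Vi (fun a => (sf' a).1 i) := by
    intro i a b
    exact congrArg (fun z : LPobj D G.obj (Vi a ⊓ Vi b) => z.1 i) (hc a b)
  have hglue := fun i => TopCat.Sheaf.existsUnique_gluing (Fi i) Vi (fun a => (sf' a).1 i) (hcomp i)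
  choose x₁ hx hxu using hglue
  let x : ∀ i : I, G.obj.obj (op (BVg D (iSup Vi) i)) := x₁
  have hx' : ∀ i a, (G.obj.map (homBVg D (𝟙 i) (le_iSup Vi a)).op).hom (x i) = (sf' a).1 i := hx
  have hmem : x ∈ LPobj D G.obj (iSup Vi) := by
    intro i j α
    refine TopCat.Sheaf.eq_of_locally_eq (Fi j) Vi _ _ (fun a => ?_)
    change (G.obj.map (homBVg D (𝟙 j) (le_iSup Vi a)).op).hom
      ((G.obj.map (homBVg D α (le_refl (iSup Vi))).op).hom (x i)) =
        (G.obj.map (homBVg D (𝟙 j) (le_iSup Vi a)).op).hom (x j)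
    rw [hx' j a, ← LPobj_compat D G.obj (Vi a) (sf' a) α, ← hx' i a, map_comp_apply, map_comp_apply]
    exact map_congr G.obj (DSite.hom_ext ((Category.comp_id _).trans (Category.id_comp _).symm)) _
  refine ⟨(⟨x, hmem⟩ : LPobj D G.obj (iSup Vi)), ?_, ?_⟩
  · intro a
    exact Subtype.ext (funext fun i => hx' i a)
  · intro y hy
    let y' : LPobj D G.obj (iSup Vi) := y
    change y' = _
    apply Subtype.ext
    funext i
    apply hxu i
    intro a
    exact congrArg (fun z : LPobj D G.obj (Vi a) => z.1 i) (hy a)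

/-- **the direct image to the base** -/
def limPush : Sh D.Y ⥤ CohTop.Ab S where
  obj G := ⟨limPre D G.obj, isSheaf_limPre D G⟩
  map θ := ⟨limPreMap D θ.hom⟩
  map_id G := by
    apply CategoryTheory.Sheaf.hom_ext
    ext V x
    rfl
  map_comp θ θ' := by
    apply CategoryTheory.Sheaf.hom_ext
    ext V x
    rfl

lemma limPush_obj_obj (G : Sh D.Y) : ((limPush D).obj G).obj = limPre D G.obj := rfl

lemma limPush_map_apply {G G' : Sh D.Y} (θ : G ⟶ G') (V : Opens S) (x : LPobj D G.obj V) (i : I) :
    ((((limPush D).map θ).hom.app (op V)).hom x : LPobj D G'.obj V).1 i =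
      (θ.hom.app (op (BVg D V i))).hom (x.1 i) := rfl

instance : (limPush D).Additive where
  map_add := by
    intro G G' θ θ'
    apply CategoryTheory.Sheaf.hom_ext
    ext V x
    rfl

/-- the projection to a level -/
def prj (i : I) : limPush D ⟶ ev D.Y i ⋙ CohTop.push (D.π i) where
  app G := ⟨{ app := fun V => AddCommGrpCat.ofHom
                { toFun := fun x => (x : LPobj D G.obj V.unop).1 i
                  map_zero' := rfl
                  map_add' := fun _ _ => rfl }
              naturality := by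
                intro V V' h
                ext x
                rfl }⟩
  naturality G G' θ := by
    apply CategoryTheory.Sheaf.hom_ext
    ext V x
    rfl

lemma prj_app_apply (i : I) (G : Sh D.Y) (V : Opens S) (x : LPobj D G.obj V) :
    (((prj D i).app G).hom.app (op V)).hom x = x.1 i := rfl

end Groth.Agent.Lib.Helper5.LimPush
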