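import Groth.Agent.Lib.Helper5.DualBasis
import Groth.Agent.Lib.Helper17.HomBifun
import Groth.Agent.Lib.Helper17.FreeOn
import Groth.Agent.Lib.Helper5.ConeLift

/-!
# Local homotopies out of complexes of modules with local bases

A calculus of linear families (sections of the internal hom) on a ringed site and the local
construction of null-homotopies of maps from a bounded complex of modules with local bases into a
complex which is exact in the relevant range.
-/

set_option autoImplicit false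

universe u

open CategoryTheory Limits Opposite

noncomputable section

namespace Groth.Agent.Lib.Helper5.LocalHomotopy

open Groth.Agent.Lib.Helper17.IHom Groth.Agent.Lib.Helper17.Tensor
  Groth.Agent.Lib.Helper17.LocInj Groth.Agent.Lib.Helper5.QS Groth.Agent.Lib.Helper5.DualBasis

variable {C : Type u} [SmallCategory C] {J : GrothendieckTopology C} {O : Sheaf J CommRingCat.{u}}

section calculus

/-- linear families `A|_W → B|_W` -/
abbrev Fam (A B : ModSite.Mod O) (W : C) : Type u := linSubgroup (toPMod A) (toPMod B) W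

variable {A A' A'' B B' B'' : ModSite.Mod O}

/-- the family of a global morphism -/
def gfam (φ : A ⟶ B) (W : C) : Fam A B W :=
  ⟨mkHomAb (fun {V} _ => AddMonoidHom.mk' (fun m => appE (pv φ) m) (appE_add (pv φ)))
    (fun g h q => (appE_rs (pv φ) h q).symm),
    fun g r q => appE_smul (pv φ) r q⟩

lemma ev_gfam (φ : A ⟶ B) (W : C) {V : C} (g : V ⟶ W) (m : (toPMod A).obj (op V)) :
    ev (gfam φ W).1 g m = appE (pv φ) m := rfl

/-- post-composition with a global morphism -/
def post (φ : B ⟶ B') (W : C) : Fam A B W →+ Fam A B' W := (postLin (pv φ) W).toAddMonoidHom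

/-- pre-composition with a global morphism -/
def pre (ψ : A' ⟶ A) (W : C) : Fam A B W →+ Fam A' B W := (Groth.Agent.Lib.Helper17.HomBifun.preLin (pv ψ) W).toAddMonoidHom

/-- restriction -/
def res {W W' : C} (g : W' ⟶ W) : Fam A B W →+ Fam A B W' := resLin g

lemma ev_post (φ : B ⟶ B') (W : C) (x : Fam A B W) {V : C} (g : V ⟶ W)
    (m : (toPMod A).obj (op V)) : ev (post φ W x).1 g m = appE (pv φ) (ev x.1 g m) := rfl

lemma ev_pre (ψ : A' ⟶ A) (W : C) (x : Fam A B W) {V : C} (g : V ⟶ W)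
    (m : (toPMod A').obj (op V)) : ev (pre ψ W x).1 g m = ev x.1 g (appE (pv ψ) m) := rfl

lemma ev_res {W W' : C} (k : W' ⟶ W) (x : Fam A B W) {V : C} (g : V ⟶ W')
    (m : (toPMod A).obj (op V)) : ev (res k x).1 g m = ev x.1 (g ≫ k) m := ev_resLin k x g m

lemma res_post {W W' : C} (k : W' ⟶ W) (φ : B ⟶ B') (x : Fam A B W) :
    res k (post φ W x) = post φ W' (res k x) :=
  ext_lin fun g m => by rw [ev_res, ev_post, ev_post, ev_res]

lemma res_pre {W W' : C} (k : W' ⟶ W) (ψ : A' ⟶ A) (x : Fam A B W) :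
    res k (pre ψ W x) = pre ψ W' (res k x) :=
  ext_lin fun g m => by rw [ev_res, ev_pre, ev_pre, ev_res]

lemma res_gfam {W W' : C} (k : W' ⟶ W) (φ : A ⟶ B) : res k (gfam φ W) = gfam φ W' :=
  ext_lin fun g m => by rw [ev_res, ev_gfam, ev_gfam]

lemma res_res {W W' W'' : C} (k : W' ⟶ W) (k' : W'' ⟶ W') (x : Fam A B W) :
    res k' (res k x) = res (k' ≫ k) x :=
  ext_lin fun g m => by rw [ev_res, ev_res, ev_res, Category.assoc]

lemma post_gfam (ψ : A ⟶ B) (φ : B ⟶ B') (W : C) : post φ W (gfam ψ W) = gfam (ψ ≫ φ) W :=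
  ext_lin fun g m => rfl

lemma pre_gfam (ψ : A' ⟶ A) (φ : A ⟶ B) (W : C) : pre ψ W (gfam φ W) = gfam (ψ ≫ φ) W :=
  ext_lin fun g m => rfl

lemma post_pre (φ : B ⟶ B') (ψ : A' ⟶ A) (W : C) (x : Fam A B W) :
    post φ W (pre ψ W x) = pre ψ W (post φ W x) :=
  ext_lin fun g m => rfl

lemma pre_pre (ψ : A' ⟶ A) (ψ' : A'' ⟶ A') (W : C) (x : Fam A B W) :
    pre ψ' W (pre ψ W x) = pre (ψ' ≫ ψ) W x :=
  ext_lin fun g m => rfl

lemma post_post (φ : B ⟶ B') (φ' : B' ⟶ B'') (W : C) (x : Fam A B W) :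
    post φ' W (post φ W x) = post (φ ≫ φ') W x :=
  ext_lin fun g m => rfl

lemma ev_zero_arg {W : C} (x : Fam A B W) {V : C} (g : V ⟶ W) :
    ev x.1 g (0 : (toPMod A).obj (op V)) = 0 :=
  map_zero (x.1.app (op (Over.mk g))).hom

lemma pre_zero (W : C) (x : Fam A B W) : pre (0 : A' ⟶ A) W x = 0 :=
  ext_lin fun g m => by
    rw [ev_pre]
    exact ev_zero_arg x g

lemma section_eq_zero_of_isZero (hA : IsZero A) {V : C} (m : (toPMod A).obj (op V)) : m = 0 := by
  have h : 𝟙 A = 0 := hA.eq_of_src _ _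
  have h1 : appE (pv (𝟙 A)) m = m := rfl
  rw [h] at h1
  exact h1.symm

lemma fam_eq_of_isZero (hA : IsZero A) {W : C} (x y : Fam A B W) : x = y :=
  ext_lin fun g m => by
    rw [section_eq_zero_of_isZero hA m, ev_zero_arg, ev_zero_arg]

end calculus

section exactness

open Groth.Agent.Lib.Helper17.FreeOn

/-- sections of an exact sequence of sheaves of modules: a section killed by `g` is locally in the
image of `f` -/
theorem imageSieve_mem_of_exact (S : ShortComplex (ModSite.Mod O)) (hS : S.Exact) {V : C}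
    (z : (toPMod S.X₂).obj (op V)) (hz : appE (pv S.g) z = 0) :
    Presheaf.imageSieve (ab (pv S.f)) z ∈ J V := by
  haveI := hS.epi_kernelLift
  let zh : ModSite.freeOn O V ⟶ S.X₂ := (freeOnHomEquiv S.X₂ V).symm z
  have hzh : freeOnHomEquiv S.X₂ V zh = z := Equiv.apply_symm_apply _ _
  have h0 : zh ≫ S.g = 0 := by
    apply (freeOnHomEquiv S.X₃ V).injective
    rw [freeOnHomEquiv_comp, hzh]
    have h1 : freeOnHomEquiv S.X₃ V (0 : ModSite.freeOn O V ⟶ S.X₃) = 0 := by
      have := freeOnHomEquiv_comp V zh (0 : S.X₂ ⟶ S.X₃)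
      rw [comp_zero] at this
      exact this
    rw [h1]
    exact hz
  let kh : ModSite.freeOn O V ⟶ kernel S.g := kernel.lift S.g zh h0
  let k : (toPMod (kernel S.g)).obj (op V) := freeOnHomEquiv (kernel S.g) V kh
  have hk : appE (pv (kernel.ι S.g)) k = z := by
    have := freeOnHomEquiv_comp V kh (kernel.ι S.g)
    rw [kernel.lift_ι, hzh] at this
    exact this.symm
  have hfac : kernel.lift S.g S.f S.zero ≫ kernel.ι S.g = S.f := kernel.lift_ι _ _ _
  haveI := isLocallySurjective_of_epi (kernel.lift S.g S.f S.zero)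
  refine J.superset_covering ?_ (Presheaf.imageSieve_mem J
    (ab (pv (kernel.lift S.g S.f S.zero))) k)
  rintro W g ⟨y, hy⟩
  have hy' : appE (pv (kernel.lift S.g S.f S.zero)) y = rs (toPMod (kernel S.g)) g k := hy
  refine ⟨y, ?_⟩
  show appE (pv S.f) y = rs (toPMod S.X₂) g z
  have h2 : appE (pv S.f) y =
      appE (pv (kernel.ι S.g)) (appE (pv (kernel.lift S.g S.f S.zero)) y) := by
    have := congrArg (fun t => appE (pv t) y) hfac
    exact this.symm
  rw [h2, hy', appE_rs, hk]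

end exactness

section lifting

variable {E : ModSite.Mod O}

/-- local lifting of a family along a morphism, when its values lift locally -/
theorem exists_local_lift_of_values (hE : HasLocBases E) {B B' : ModSite.Mod O} (f : B ⟶ B')
    {Y : C} (α : Fam E B' Y)
    (hα : ∀ {V : C} (g : V ⟶ Y) (e : (toPMod E).obj (op V)),
      Presheaf.imageSieve (ab (pv f)) (ev α.1 g e) ∈ J V) :
    ∃ S : Sieve Y, S ∈ J Y ∧ ∀ {W : C} (k : W ⟶ Y), S k →
      ∃ h : Fam E B W, post f W h = res k α := by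
  obtain ⟨S, hS, hS'⟩ := hE Y
  choose n lbN using fun {V : C} (g : V ⟶ Y) (hg : S g) => hS' g hg
  have hT : ∀ (V : C) (g : V ⟶ Y) (hg : S g), ∃ T : Sieve V, T ∈ J V ∧
      ∀ {W : C} (h : W ⟶ V), T h → ∃ x : Fam E B W, post f W x = res (h ≫ g) α := by
    intro V g hg
    obtain ⟨lb⟩ := lbN g hg
    obtain ⟨T, hT, hT'⟩ := exists_covering_forall_fin (J := J) (n g hg)
      (fun i => Presheaf.imageSieve (ab (pv f)) (ev α.1 g (lb.s i)))
      (fun i => hα g (lb.s i))
    refine ⟨T, hT, ?_⟩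
    intro W h hh
    have hex : ∀ i, ∃ b : (toPMod B).obj (op W),
        appE (pv f) b = rs (toPMod B') h (ev α.1 g (lb.s i)) := fun i => hT' h hh i
    choose b hb using hex
    refine ⟨(⟨liftFam lb h b, liftFam_mem lb h b⟩ : Fam E B W), ?_⟩
    apply ext_lin
    intro W' k e
    rw [ev_post, ev_res]
    exact appE_ev_liftFam (pv f) α g lb h b hb k e
  choose T hT1 hT2 using hT
  refine ⟨Sieve.bind S (fun V g hg => T V g hg), ?_, ?_⟩
  · exact J.bind_covering hS (fun V g hg => hT1 V g hg)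
  · rintro W k ⟨V, h, g, hg, hh, rfl⟩
    exact hT2 V g hg h hh

/-- **local lifting along an exact sequence**: a family into the middle term of an exact sequence
which is killed by the second map lifts locally along the first map -/
theorem exists_local_lift_of_exact (hE : HasLocBases E) (S : ShortComplex (ModSite.Mod O))
    (hS : S.Exact) {Y : C} (α : Fam E S.X₂ Y) (hα : post S.g Y α = 0) :
    ∃ T : Sieve Y, T ∈ J Y ∧ ∀ {W : C} (k : W ⟶ Y), T k →
      ∃ h : Fam E S.X₁ W, post S.f W h = res k α := by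
  apply exists_local_lift_of_values hE S.f α
  intro V g e
  apply imageSieve_mem_of_exact S hS
  have := congrArg (fun x : Fam E S.X₃ Y => ev x.1 g e) hα
  exact this

/-- local lifting of a family along an epimorphism -/
theorem exists_local_lift_of_epi (hE : HasLocBases E) {B B' : ModSite.Mod O} (f : B ⟶ B') [Epi f]
    {Y : C} (α : Fam E B' Y) :
    ∃ T : Sieve Y, T ∈ J Y ∧ ∀ {W : C} (k : W ⟶ Y), T k →
      ∃ h : Fam E B W, post f W h = res k α := by
  apply exists_local_lift_of_values hE f α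
  intro V g e
  haveI := isLocallySurjective_of_epi f
  exact Presheaf.imageSieve_mem J (ab (pv f)) _

end lifting

section homotopy

variable {E F : CochainComplex (ModSite.Mod O) ℤ} (α : E ⟶ F)

/-- a local null-homotopy of `α` over `W`, in degrees `≥ m` -/
def IsLocHtpyFrom (m : ℤ) (W : C) (h : ∀ i j : ℤ, Fam (E.X i) (F.X j) W) : Prop :=
  ∀ i j k : ℤ, j + 1 = i → i + 1 = k → m ≤ i →
    gfam (α.f i) W = post (F.d j i) W (h i j) + pre (E.d i k) W (h k i)

/-- a local null-homotopy of `α` over `W` -/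
def IsLocHtpy (W : C) (h : ∀ i j : ℤ, Fam (E.X i) (F.X j) W) : Prop :=
  ∀ i j k : ℤ, j + 1 = i → i + 1 = k →
    gfam (α.f i) W = post (F.d j i) W (h i j) + pre (E.d i k) W (h k i)

variable {α}

lemma IsLocHtpyFrom.restrict {m : ℤ} {W W' : C} {h : ∀ i j : ℤ, Fam (E.X i) (F.X j) W}
    (hh : IsLocHtpyFrom α m W h) (k : W' ⟶ W) :
    IsLocHtpyFrom α m W' (fun i j => res k (h i j)) := by
  intro i j l hj hl hi
  have := congrArg (res k) (hh i j l hj hl hi)
  rw [res_gfam, map_add, res_post, res_pre] at this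
  exact this

/-- the induction step in the case where `E.X m` vanishes -/
lemma IsLocHtpyFrom.of_isZero {m : ℤ} {W : C} {h : ∀ i j : ℤ, Fam (E.X i) (F.X j) W}
    (hh : IsLocHtpyFrom α (m + 1) W h) (hm : IsZero (E.X m)) : IsLocHtpyFrom α m W h := by
  intro i j l hj hl hi
  by_cases him : i = m
  · subst him
    exact fam_eq_of_isZero hm _ _
  · exact hh i j l hj hl (by omega)

/-- the modified family -/
def updateFam {W : C} (h : ∀ i j : ℤ, Fam (E.X i) (F.X j) W) (m j₀ : ℤ)
    (x : Fam (E.X m) (F.X j₀) W) : ∀ i j : ℤ, Fam (E.X i) (F.X j) W :=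
  fun i j => if hij : i = m ∧ j = j₀ then by
    obtain ⟨hi, hj⟩ := hij
    subst hi
    subst hj
    exact x
  else h i j

lemma updateFam_self {W : C} (h : ∀ i j : ℤ, Fam (E.X i) (F.X j) W) (m j₀ : ℤ)
    (x : Fam (E.X m) (F.X j₀) W) : updateFam h m j₀ x m j₀ = x := by
  unfold updateFam
  rw [dif_pos ⟨rfl, rfl⟩]

lemma updateFam_of_ne {W : C} (h : ∀ i j : ℤ, Fam (E.X i) (F.X j) W) (m j₀ : ℤ)
    (x : Fam (E.X m) (F.X j₀) W) (i j : ℤ) (hi : i ≠ m) : updateFam h m j₀ x i j = h i j := by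
  unfold updateFam
  rw [dif_neg (fun hij => hi hij.1)]

/-- the induction step in the case where `E.X m` has local bases and `F` is exact in degree `m` -/
lemma exists_step {m j₀ : ℤ} (hj₀ : j₀ + 1 = m) (hE : HasLocBases (E.X m))
    (hF : (ShortComplex.mk (F.d j₀ m) (F.d m (m + 1)) (F.d_comp_d j₀ m (m + 1))).Exact)
    {W : C} {h : ∀ i j : ℤ, Fam (E.X i) (F.X j) W} (hh : IsLocHtpyFrom α (m + 1) W h) :
    ∃ T : Sieve W, T ∈ J W ∧ ∀ {W' : C} (k : W' ⟶ W), T k →
      ∃ h' : ∀ i j : ℤ, Fam (E.X i) (F.X j) W', IsLocHtpyFrom α m W' h' := by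
  let γ : Fam (E.X m) (F.X m) W := gfam (α.f m) W - pre (E.d m (m + 1)) W (h (m + 1) m)
  have hγ : post (F.d m (m + 1)) W γ = 0 := by
    have h1 : post (F.d m (m + 1)) W (gfam (α.f m) W) =
        pre (E.d m (m + 1)) W (gfam (α.f (m + 1)) W) := by
      rw [post_gfam, pre_gfam, α.comm]
    have h2 := hh (m + 1) m (m + 1 + 1) rfl rfl le_rfl
    have h3 : pre (E.d m (m + 1)) W (pre (E.d (m + 1) (m + 1 + 1)) W (h (m + 1 + 1) (m + 1))) =
        0 := by
      rw [pre_pre, E.d_comp_d, pre_zero]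
    show post (F.d m (m + 1)) W
      (gfam (α.f m) W - pre (E.d m (m + 1)) W (h (m + 1) m)) = 0
    rw [map_sub, h1, h2, map_add, h3, add_zero, post_pre, sub_self]
  obtain ⟨T, hT, hT'⟩ := exists_local_lift_of_exact hE
    (ShortComplex.mk (F.d j₀ m) (F.d m (m + 1)) (F.d_comp_d j₀ m (m + 1))) hF γ hγ
  refine ⟨T, hT, ?_⟩
  intro W' k hk
  obtain ⟨x, hx⟩ := hT' k hk
  have hx' : post (F.d j₀ m) W' x = res k γ := hx
  refine ⟨updateFam (fun i j => res k (h i j)) m j₀ x, ?_⟩
  intro i j l hj hl hi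
  by_cases him : i = m
  · subst him
    have hjj : j = j₀ := by omega
    subst hjj
    subst hl
    rw [updateFam_self, updateFam_of_ne _ _ _ _ _ _ (by omega), hx']
    show gfam (α.f i) W' = res k (gfam (α.f i) W - pre (E.d i (i + 1)) W (h (i + 1) i)) +
      pre (E.d i (i + 1)) W' (res k (h (i + 1) i))
    rw [map_sub, res_gfam, res_pre, sub_add_cancel]
  · rw [updateFam_of_ne _ _ _ _ _ _ him, updateFam_of_ne _ _ _ _ _ _ (by omega)]
    exact (hh.restrict k) i j l hj hl (by omega)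

variable (α)

/-- the property proved by descending induction -/
def QQ (m : ℤ) : Prop :=
  ∀ V : C, ∃ S : Sieve V, S ∈ J V ∧ ∀ {W : C} (g : W ⟶ V), S g →
    ∃ h : ∀ i j : ℤ, Fam (E.X i) (F.X j) W, IsLocHtpyFrom α m W h

lemma QQ_of_isZero {m : ℤ} (hm : ∀ i : ℤ, m ≤ i → IsZero (E.X i)) : QQ (J := J) α m := by
  intro V
  refine ⟨⊤, J.top_mem V, fun {W} g _ => ⟨fun i j => 0, ?_⟩⟩
  intro i j l hj hl hi
  exact fam_eq_of_isZero (hm i hi) _ _

lemma QQ_step {m j₀ : ℤ} (hj₀ : j₀ + 1 = m)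
    (hm : IsZero (E.X m) ∨ (HasLocBases (E.X m) ∧
      (ShortComplex.mk (F.d j₀ m) (F.d m (m + 1)) (F.d_comp_d j₀ m (m + 1))).Exact))
    (hQ : QQ (J := J) α (m + 1)) : QQ (J := J) α m := by
  intro V
  obtain ⟨S, hS, hS'⟩ := hQ V
  rcases hm with hm | ⟨hE, hF⟩
  · refine ⟨S, hS, fun {W} g hg => ?_⟩
    obtain ⟨h, hh⟩ := hS' g hg
    exact ⟨h, hh.of_isZero hm⟩
  · have hT : ∀ (W : C) (g : W ⟶ V) (hg : S g), ∃ T : Sieve W, T ∈ J W ∧
        ∀ {W' : C} (k : W' ⟶ W), T k →
          ∃ h' : ∀ i j : ℤ, Fam (E.X i) (F.X j) W', IsLocHtpyFrom α m W' h' := by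
      intro W g hg
      obtain ⟨h, hh⟩ := hS' g hg
      exact exists_step hj₀ hE hF hh
    choose T hT1 hT2 using hT
    refine ⟨Sieve.bind S (fun W g hg => T W g hg), ?_, ?_⟩
    · exact J.bind_covering hS (fun W g hg => hT1 W g hg)
    · rintro W' k ⟨W, h, g, hg, hh, rfl⟩
      exact hT2 W g hg h hh

/-- **Local null-homotopy**: a morphism from a bounded complex of modules with local bases, zero
below degree `a`, to a complex exact in degrees `≥ a` is locally null-homotopic. -/
theorem exists_locHtpy (a b : ℤ) (hEa : ∀ i : ℤ, i < a → IsZero (E.X i))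
    (hEb : ∀ i : ℤ, b < i → IsZero (E.X i)) (hE : ∀ i : ℤ, HasLocBases (E.X i))
    (hF : ∀ i : ℤ, a ≤ i → F.ExactAt i) (V : C) :
    ∃ S : Sieve V, S ∈ J V ∧ ∀ {W : C} (g : W ⟶ V), S g →
      ∃ h : ∀ i j : ℤ, Fam (E.X i) (F.X j) W, IsLocHtpy α W h := by
  have key : ∀ n : ℕ, QQ (J := J) α (b + 1 - n) := by
    intro n
    induction n with
    | zero =>
      apply QQ_of_isZero
      intro i hi
      exact hEb i (by simp at hi; omega)
    | succ n ih =>
      have h1 : b + 1 - ((n + 1 : ℕ) : ℤ) + 1 = b + 1 - (n : ℤ) := by push_cast; ring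
      rw [← h1] at ih
      refine QQ_step α (j₀ := b + 1 - ((n + 1 : ℕ) : ℤ) - 1) (by ring) ?_ ih
      by_cases hlt : b + 1 - ((n + 1 : ℕ) : ℤ) < a
      · exact Or.inl (hEa _ hlt)
      · refine Or.inr ⟨hE _, ?_⟩
        have hex := hF (b + 1 - ((n + 1 : ℕ) : ℤ)) (by omega)
        rw [HomologicalComplex.exactAt_iff' F (b + 1 - ((n + 1 : ℕ) : ℤ) - 1)
          (b + 1 - ((n + 1 : ℕ) : ℤ)) (b + 1 - ((n + 1 : ℕ) : ℤ) + 1) (by simp) (by simp)] at hex
        exact hex
  obtain ⟨S, hS, hS'⟩ := key (b + 1 - a).toNat V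
  refine ⟨S, hS, fun {W} g hg => ?_⟩
  obtain ⟨h, hh⟩ := hS' g hg
  refine ⟨h, ?_⟩
  intro i j l hj hl
  by_cases hi : b + 1 - ((b + 1 - a).toNat : ℤ) ≤ i
  · exact hh i j l hj hl hi
  · exact fam_eq_of_isZero (hEa i (by omega)) _ _

end homotopy

section realization

universe v' u'

variable (O) in
/-- a realization of the linear families over `W` as morphisms of a preadditive category -/
structure Realization (W : C) (𝒜 : Type u') [Category.{v'} 𝒜] [Preadditive 𝒜] where
  /-- the restriction functor -/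
  ρ : ModSite.Mod O ⥤ 𝒜
  additive : ρ.Additive
  /-- the morphism attached to a family -/
  real : ∀ {A B : ModSite.Mod O}, Fam A B W →+ (ρ.obj A ⟶ ρ.obj B)
  real_gfam : ∀ {A B : ModSite.Mod O} (φ : A ⟶ B), real (gfam φ W) = ρ.map φ
  real_post : ∀ {A B B' : ModSite.Mod O} (φ : B ⟶ B') (x : Fam A B W),
    real (post φ W x) = real x ≫ ρ.map φ
  real_pre : ∀ {A' A B : ModSite.Mod O} (ψ : A' ⟶ A) (x : Fam A B W),
    real (pre ψ W x) = ρ.map ψ ≫ real x

variable {W : C} {𝒜 : Type u'} [Category.{v'} 𝒜] [Preadditive 𝒜] (r : Realization O W 𝒜)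
  {E F G : CochainComplex (ModSite.Mod O) ℤ}

/-- a local null-homotopy gives a null-homotopy of the realization -/
theorem nonempty_homotopy_of_isLocHtpy {α : E ⟶ F} {h : ∀ i j : ℤ, Fam (E.X i) (F.X j) W}
    (hh : IsLocHtpy α W h) :
    haveI := r.additive
    Nonempty (Homotopy ((r.ρ.mapHomologicalComplex (ComplexShape.up ℤ)).map α) 0) := by
  haveI := r.additive
  refine ⟨{
    hom := fun i j => if hij : j + 1 = i then r.real (h i j) else 0
    zero := fun i j hij => dif_neg hij
    comm := fun i => ?_ }⟩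
  rw [dNext_eq _ (show (ComplexShape.up ℤ).Rel i (i + 1) from rfl),
    prevD_eq _ (show (ComplexShape.up ℤ).Rel (i - 1) i from sub_add_cancel i 1),
    dif_pos rfl, dif_pos (sub_add_cancel i 1)]
  have h1 := congrArg r.real (hh i (i - 1) (i + 1) (sub_add_cancel i 1) rfl)
  rw [r.real_gfam, map_add, r.real_post, r.real_pre] at h1
  show r.ρ.map (α.f i) = r.ρ.map (E.d i (i + 1)) ≫ r.real (h (i + 1) i) +
    r.real (h i (i - 1)) ≫ r.ρ.map (F.d (i - 1) i) + 0
  rw [add_zero, h1, add_comm]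

/-- a local null-homotopy of `α ≫ inr f` gives a lift of the realization of `α` through the
realization of `f`, up to homotopy -/
theorem exists_lift_of_isLocHtpy [HasZeroObject 𝒜] [HasBinaryBiproducts 𝒜] (f : G ⟶ F)
    (α : E ⟶ F) {h : ∀ i j : ℤ, Fam (E.X i) ((CochainComplex.mappingCone f).X j) W}
    (hh : IsLocHtpy (α ≫ CochainComplex.mappingCone.inr f) W h) :
    haveI := r.additive
    ∃ β : (r.ρ.mapHomologicalComplex (ComplexShape.up ℤ)).obj E ⟶
        (r.ρ.mapHomologicalComplex (ComplexShape.up ℤ)).obj G,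
      Nonempty (Homotopy (β ≫ (r.ρ.mapHomologicalComplex (ComplexShape.up ℤ)).map f)
        ((r.ρ.mapHomologicalComplex (ComplexShape.up ℤ)).map α)) := by
  haveI := r.additive
  obtain ⟨H₁⟩ := nonempty_homotopy_of_isLocHtpy r hh
  let ι := CochainComplex.mappingCone.mapHomologicalComplexIso f r.ρ
  have e1 : (r.ρ.mapHomologicalComplex (ComplexShape.up ℤ)).map α ≫
      CochainComplex.mappingCone.inr ((r.ρ.mapHomologicalComplex (ComplexShape.up ℤ)).map f) =
      (r.ρ.mapHomologicalComplex (ComplexShape.up ℤ)).map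
        (α ≫ CochainComplex.mappingCone.inr f) ≫ ι.hom := by
    rw [Functor.map_comp, Category.assoc, CochainComplex.mappingCone.map_inr]
  have H₂ : Homotopy ((r.ρ.mapHomologicalComplex (ComplexShape.up ℤ)).map α ≫
      CochainComplex.mappingCone.inr ((r.ρ.mapHomologicalComplex (ComplexShape.up ℤ)).map f))
      0 :=
    (Homotopy.ofEq e1).trans ((H₁.compRight ι.hom).trans (Homotopy.ofEq zero_comp))
  exact Groth.Agent.Lib.Helper5.ConeLift.exists_lift_of_homotopy_inr _ _ H₂

end realization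

section cone

variable {E F G : CochainComplex (ModSite.Mod O) ℤ}

/-- **Local lifting up to homotopy**, in terms of families: if `E` is a bounded complex of
modules with local bases, zero below degree `a`, and `f : G ⟶ F` induces isomorphisms on `H^j` for
`j > a` and an epimorphism on `H^a`, then `α ≫ inr f` is locally null-homotopic. -/
theorem exists_locHtpy_cone (α : E ⟶ F) (f : G ⟶ F) (a b : ℤ)
    (hEa : ∀ i : ℤ, i < a → IsZero (E.X i)) (hEb : ∀ i : ℤ, b < i → IsZero (E.X i))
    (hE : ∀ i : ℤ, HasLocBases (E.X i))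
    (hiso : ∀ j : ℤ, a < j → IsIso (HomologicalComplex.homologyMap f j))
    (hepi : Epi (HomologicalComplex.homologyMap f a)) (V : C) :
    ∃ S : Sieve V, S ∈ J V ∧ ∀ {W : C} (g : W ⟶ V), S g →
      ∃ h : ∀ i j : ℤ, Fam (E.X i) ((CochainComplex.mappingCone f).X j) W,
        IsLocHtpy (α ≫ CochainComplex.mappingCone.inr f) W h := by
  apply exists_locHtpy (α ≫ CochainComplex.mappingCone.inr f) a b hEa hEb hE
  intro i hi
  rw [HomologicalComplex.exactAt_iff_isZero_homology]
  apply Groth.Agent.Lib.Helper5.ConeLift.isZero_homology_mappingCone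
  · rcases hi.lt_or_eq with h | h
    · haveI := hiso i h
      infer_instance
    · subst h
      exact hepi
  · haveI := hiso (i + 1) (by omega)
    infer_instance

end cone

end Groth.Agent.Lib.Helper5.LocalHomotopy
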