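import Groth.Agent.Lib.Helper5.LocalHomotopy
import Groth.Agent.Lib.Helper5.LocLift
import Groth.Prelude.Def_DCoh2

/-!
# Local homotopies on schemes

Maps out of bounded complexes of finite locally free modules are locally null-homotopic when the
target is exact in the relevant range, and lift locally up to homotopy through maps which are
quasi-isomorphisms in the relevant range.
-/

set_option autoImplicit false

universe u

open CategoryTheory Limits Opposite AlgebraicGeometry TopologicalSpace

noncomputable section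

namespace Groth.Agent.Lib.Helper5.LocalHomotopyScheme

open Groth.Agent.Lib.Helper17.IHom Groth.Agent.Lib.Helper17.Tensor
  Groth.Agent.Lib.Helper5.DualBasis Groth.Agent.Lib.Helper5.LocalHomotopy
  Groth.Agent.Lib.Helper5.LocLift Groth.Agent.Lib.Helper5.LocBasisScheme

variable {X : Scheme.{u}}

lemma hom_ext_sections {V : X.Opens} {M N : (↑V : Scheme.{u}).Modules} (f g : M ⟶ N)
    (h : ∀ (W' : (↑V : Scheme.{u}).Opens) (m : Γ(M, W')), (f.app W').hom m = (g.app W').hom m) :
    f = g := by
  apply Scheme.Modules.hom_ext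
  intro W'
  apply AddCommGrpCat.hom_ext
  ext m
  exact h W' m

variable (X) in
/-- the realization of linear families over `V` as morphisms of modules on the open subscheme -/
def schemeRealization (V : X.Opens) :
    Realization X.sheaf V (↑V : Scheme.{u}).Modules where
  ρ := Scheme.Modules.restrictFunctor V.ι
  additive := DCoh.additive_restrictFunctor V.ι
  real := fun {A B} =>
    { toFun := fun x => homOfFam A B V x
      map_zero' := hom_ext_sections _ _ (fun W' m => rfl)
      map_add' := fun x y => hom_ext_sections _ _ (fun W' m => rfl) }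
  real_gfam φ := hom_ext_sections _ _ (fun W' m => rfl)
  real_post φ x := hom_ext_sections _ _ (fun W' m => rfl)
  real_pre ψ x := hom_ext_sections _ _ (fun W' m => rfl)

/-- **Local null-homotopy** of a map from a strictly perfect complex, zero below degree `a`, to a
complex with vanishing cohomology sheaves in degrees `≥ a`. -/
theorem exists_nullHomotopy {E F : CochainComplex X.Modules ℤ} (α : E ⟶ F)
    (hE : DCoh.IsStrictlyPerfect E) (a : ℤ) (hEa : ∀ i : ℤ, i < a → IsZero (E.X i))
    (hF : ∀ i : ℤ, a ≤ i → IsZero (F.homology i)) (x : X) :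
    ∃ V : X.Opens, x ∈ V ∧ Nonempty (Homotopy ((DCoh.restrictCx V).map α) 0) := by
  obtain ⟨⟨a', b, hab⟩, hfree⟩ := hE
  obtain ⟨S, hS, hS'⟩ := @exists_locHtpy _ _ _ X.sheaf E F α a b hEa
    (fun i hi => hab i (Or.inr hi)) (fun i => hasLocBases_of_isFinLocFree (E.X i) (hfree i))
    (fun i hi => (HomologicalComplex.exactAt_iff_isZero_homology F i).2 (hF i hi))
    (⊤ : X.Opens)
  obtain ⟨W, g, hg, hxW⟩ := hS x trivial
  obtain ⟨h, hh⟩ := hS' g hg
  exact ⟨W, hxW, nonempty_homotopy_of_isLocHtpy (schemeRealization X W) hh⟩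

/-- **Local lifting up to homotopy** of a map from a strictly perfect complex. -/
theorem exists_lift_upToHomotopy {E F G : CochainComplex X.Modules ℤ} (α : E ⟶ F) (f : G ⟶ F)
    (hE : DCoh.IsStrictlyPerfect E) (a : ℤ) (hEa : ∀ j : ℤ, j < a → IsZero (E.X j))
    (hf : ∀ j : ℤ, a < j → IsIso (HomologicalComplex.homologyMap f j))
    (hfa : Epi (HomologicalComplex.homologyMap f a)) (x : X) :
    ∃ (V : X.Opens) (β : (DCoh.restrictCx V).obj E ⟶ (DCoh.restrictCx V).obj G), x ∈ V ∧
      Nonempty (Homotopy (β ≫ (DCoh.restrictCx V).map f) ((DCoh.restrictCx V).map α)) := by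
  obtain ⟨⟨a', b, hab⟩, hfree⟩ := hE
  obtain ⟨S, hS, hS'⟩ := @exists_locHtpy_cone _ _ _ X.sheaf E F G α f a b hEa
    (fun i hi => hab i (Or.inr hi)) (fun i => hasLocBases_of_isFinLocFree (E.X i) (hfree i))
    hf hfa (⊤ : X.Opens)
  obtain ⟨W, g, hg, hxW⟩ := hS x trivial
  obtain ⟨h, hh⟩ := hS' g hg
  obtain ⟨β, hβ⟩ := exists_lift_of_isLocHtpy (schemeRealization X W) f α hh
  exact ⟨W, β, hxW, hβ⟩

end Groth.Agent.Lib.Helper5.LocalHomotopyScheme
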