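import Groth.Agent.Lib.Helper5.DualBasis
import Groth.Agent.Lib.Helper17.Tensor

/-!
# Dual pairs of presheaves of modules: `P ⊗ D ≅ Hom(Q, P)` locally

A *pairing* `D × Q → R` of presheaves of modules induces `τ : P ⊗ D ⟶ ihom Q P`,
`p ⊗ d ↦ (e ↦ ⟨d, e⟩ • p)`.  If the pairing has dual bases over `V`, then `τ` is bijective on
sections over every `W ⟶ V`.
-/

set_option autoImplicit false

universe u

open CategoryTheory Limits Opposite MonoidalCategory

noncomputable section

namespace Groth.Agent.Lib.Helper5.TensorDual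

open Groth.Agent.Lib.Helper17.IHom Groth.Agent.Lib.Helper17.Tensor
  Groth.Agent.Lib.Helper5.DualBasis

section presheaf

variable {C : Type u} [SmallCategory C] {R : Cᵒᵖ ⥤ CommRingCat.{u}}

/-- a natural bilinear pairing `D × Q → R` -/
structure Pairing (D Q : PresheafOfModules.{u} (R ⋙ forget₂ CommRingCat RingCat)) where
  /-- the pairing -/
  pr : ∀ {V : C}, D.obj (op V) → Q.obj (op V) → R.obj (op V)
  add_left : ∀ {V : C} (d d' : D.obj (op V)) (e : Q.obj (op V)), pr (d + d') e = pr d e + pr d' e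
  add_right : ∀ {V : C} (d : D.obj (op V)) (e e' : Q.obj (op V)), pr d (e + e') = pr d e + pr d e'
  smul_left : ∀ {V : C} (r : R.obj (op V)) (d : D.obj (op V)) (e : Q.obj (op V)),
    pr (r • d) e = r * pr d e
  smul_right : ∀ {V : C} (r : R.obj (op V)) (d : D.obj (op V)) (e : Q.obj (op V)),
    pr d (r • e) = r * pr d e
  nat : ∀ {V W : C} (h : W ⟶ V) (d : D.obj (op V)) (e : Q.obj (op V)),
    rmap h (pr d e) = pr (rs D h d) (rs Q h e)

variable {D Q P P' : PresheafOfModules.{u} (R ⋙ forget₂ CommRingCat RingCat)}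

/-- the swapped pairing -/
def Pairing.swap (pa : Pairing D Q) : Pairing Q D where
  pr e d := pa.pr d e
  add_left e e' d := pa.add_right d e e'
  add_right e d d' := pa.add_left d d' e
  smul_left r e d := pa.smul_right r d e
  smul_right r e d := pa.smul_left r d e
  nat h e d := pa.nat h d e

/-- the family `e ↦ ⟨d, e⟩ • p` -/
def tauFam (pa : Pairing D Q) {X : C} (p : P.obj (op X)) (d : D.obj (op X)) : HomAb Q P X :=
  mkHomAb (fun {V} g => AddMonoidHom.mk' (fun e => pa.pr (rs D g d) e • rs P g p) (by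
      intro e e'
      rw [pa.add_right, add_smul]))
    (by
      intro V W g h e
      show rs P h (pa.pr (rs D g d) e • rs P g p) =
        pa.pr (rs D (h ≫ g) d) (rs Q h e) • rs P (h ≫ g) p
      rw [rs_smul, pa.nat, rs_comp, rs_comp])

@[simp] lemma ev_tauFam (pa : Pairing D Q) {X : C} (p : P.obj (op X)) (d : D.obj (op X)) {V : C}
    (g : V ⟶ X) (e : Q.obj (op V)) :
    ev (tauFam pa p d) g e = pa.pr (rs D g d) e • rs P g p := rfl

lemma tauFam_mem (pa : Pairing D Q) {X : C} (p : P.obj (op X)) (d : D.obj (op X)) :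
    tauFam pa p d ∈ linSubgroup Q P X := by
  intro V g r e
  rw [ev_tauFam, ev_tauFam, pa.smul_right, mul_smul]

/-- `tauFam` as a linear family -/
def tauLin (pa : Pairing D Q) {X : C} (p : P.obj (op X)) (d : D.obj (op X)) : linSubgroup Q P X :=
  ⟨tauFam pa p d, tauFam_mem pa p d⟩

@[simp] lemma ev_tauLin (pa : Pairing D Q) {X : C} (p : P.obj (op X)) (d : D.obj (op X)) {V : C}
    (g : V ⟶ X) (e : Q.obj (op V)) :
    ev (tauLin pa p d).1 g e = pa.pr (rs D g d) e • rs P g p := rfl

lemma ev_add_lin {F : PresheafOfModules.{u} (R ⋙ forget₂ CommRingCat RingCat)} {U : C}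
    (α β : linSubgroup Q F U) {V : C} (g : V ⟶ U) (q : Q.obj (op V)) :
    ev (α + β).1 g q = ev α.1 g q + ev β.1 g q := rfl

lemma ev_zero_lin {F : PresheafOfModules.{u} (R ⋙ forget₂ CommRingCat RingCat)} {U : C}
    {V : C} (g : V ⟶ U) (q : Q.obj (op V)) :
    ev (0 : linSubgroup Q F U).1 g q = 0 := rfl

/-- evaluation as an additive map -/
def evHom {F : PresheafOfModules.{u} (R ⋙ forget₂ CommRingCat RingCat)} {U V : C} (g : V ⟶ U)
    (q : Q.obj (op V)) : linSubgroup Q F U →+ F.obj (op V) where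
  toFun α := ev α.1 g q
  map_zero' := rfl
  map_add' _ _ := rfl

lemma ev_sum_lin {F : PresheafOfModules.{u} (R ⋙ forget₂ CommRingCat RingCat)} {U : C}
    {ι : Type*} (s : Finset ι) (α : ι → linSubgroup Q F U) {V : C} (g : V ⟶ U)
    (q : Q.obj (op V)) : ev (∑ i ∈ s, α i).1 g q = ∑ i ∈ s, ev (α i).1 g q :=
  map_sum (evHom (F := F) g q) α s

/-- the bilinear map `(p, d) ↦ (e ↦ ⟨d, e⟩ • p)` -/
def tauBil (pa : Pairing D Q) (X : C) :
    P.obj (op X) →ₗ[R.obj (op X)] D.obj (op X) →ₗ[R.obj (op X)] linSubgroup Q P X :=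
  LinearMap.mk₂ (R.obj (op X)) (fun p d => tauLin pa p d)
    (fun p p' d => ext_lin fun g e => by
      rw [ev_add_lin, ev_tauLin, ev_tauLin, ev_tauLin, rs_add, smul_add])
    (fun r p d => ext_lin fun g e => by
      rw [ev_smul, ev_tauLin, ev_tauLin, rs_smul, smul_comm])
    (fun p d d' => ext_lin fun g e => by
      rw [ev_add_lin, ev_tauLin, ev_tauLin, ev_tauLin, rs_add, pa.add_left, add_smul])
    (fun r p d => ext_lin fun g e => by
      rw [ev_smul, ev_tauLin, ev_tauLin, rs_smul, pa.smul_left, mul_smul])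

@[simp] lemma tauBil_apply (pa : Pairing D Q) (X : C) (p : P.obj (op X)) (d : D.obj (op X)) :
    tauBil pa X p d = tauLin pa p d := rfl

variable (P) in
/-- the canonical map `P ⊗ D ⟶ ihom Q P` attached to a pairing -/
def tau (pa : Pairing D Q) : P ⊗ D ⟶ ihom Q P where
  app X := ModuleCat.ofHom (X := (P ⊗ D).obj X) (Y := (ihom Q P).obj X)
    (TensorProduct.lift (tauBil pa X.unop))
  naturality {X Y} f := by
    apply ModuleCat.MonoidalCategory.tensor_ext
    intro p d
    show tauLin pa (rs P f.unop p) (rs D f.unop d) = resLin f.unop (tauLin pa p d)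
    apply ext_lin
    intro V g e
    rw [ev_resLin, ev_tauLin, ev_tauLin, rs_comp, rs_comp]

lemma appT_tau (pa : Pairing D Q) {V : C} (p : P.obj (op V)) (d : D.obj (op V)) :
    appT (tau P pa) p d = tauLin pa p d := rfl

lemma tau_naturality (pa : Pairing D Q) (φ : P ⟶ P') :
    φ ▷ D ≫ tau P' pa = tau P pa ≫ ihomMap Q φ := by
  apply tensor_hom_ext
  intro V p d
  rw [appT_whiskerRight_comp, appT_tau]
  show tauLin pa ((φ.app (op V)).hom p) d = postLin φ V (tauLin pa p d)
  apply ext_lin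
  intro W g e
  rw [ev_postLin, ev_tauLin, ev_tauLin, appE_smul, appE_rs]
  rfl

/-- dual bases for a pairing over `V` -/
structure DualBases (pa : Pairing D Q) (V : C) (n : ℕ) where
  /-- the basis of `Q` -/
  s : Fin n → Q.obj (op V)
  /-- the dual basis of `D` -/
  t : Fin n → D.obj (op V)
  total_right : ∀ {W : C} (g : W ⟶ V) (e : Q.obj (op W)),
    e = ∑ i, pa.pr (rs D g (t i)) e • rs Q g (s i)
  total_left : ∀ {W : C} (g : W ⟶ V) (d : D.obj (op W)),
    d = ∑ i, pa.pr d (rs Q g (s i)) • rs D g (t i)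

/-- dual bases for the swapped pairing -/
def DualBases.swap {pa : Pairing D Q} {V : C} {n : ℕ} (db : DualBases pa V n) :
    DualBases pa.swap V n where
  s := db.t
  t := db.s
  total_right g d := db.total_left g d
  total_left g e := db.total_right g e

/-- the inverse of `τ` on sections -/
def sigma {pa : Pairing D Q} {V W : C} {n : ℕ} (db : DualBases pa V n) (h : W ⟶ V)
    (ψ : linSubgroup Q P W) : TensorProduct (R.obj (op W)) (P.obj (op W)) (D.obj (op W)) :=
  ∑ i, ev ψ.1 (𝟙 W) (rs Q h (db.s i)) ⊗ₜ[R.obj (op W)] rs D h (db.t i)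

lemma sigma_zero {pa : Pairing D Q} {V W : C} {n : ℕ} (db : DualBases pa V n) (h : W ⟶ V) :
    sigma (P := P) db h 0 = 0 := by
  unfold sigma
  refine Finset.sum_eq_zero fun i _ => ?_
  rw [ev_zero_lin, TensorProduct.zero_tmul]

lemma sigma_add {pa : Pairing D Q} {V W : C} {n : ℕ} (db : DualBases pa V n) (h : W ⟶ V)
    (ψ ψ' : linSubgroup Q P W) : sigma db h (ψ + ψ') = sigma db h ψ + sigma db h ψ' := by
  unfold sigma
  rw [← Finset.sum_add_distrib]
  refine Finset.sum_congr rfl fun i _ => ?_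
  rw [ev_add_lin, TensorProduct.add_tmul]

lemma tau_sigma {pa : Pairing D Q} {V W : C} {n : ℕ} (db : DualBases pa V n) (h : W ⟶ V)
    (ψ : linSubgroup Q P W) : TensorProduct.lift (tauBil pa W) (sigma db h ψ) = ψ := by
  unfold sigma
  rw [map_sum]
  apply ext_lin
  intro W' k e
  rw [ev_sum_lin]
  conv_rhs => rw [db.total_right (k ≫ h) e]
  rw [ev_sum]
  refine Finset.sum_congr rfl fun i _ => ?_
  rw [TensorProduct.lift.tmul, tauBil_apply, ev_tauLin, ψ.2, ev_naturality, Category.comp_id,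
    ← rs_comp, ← rs_comp]

lemma sigma_tau {pa : Pairing D Q} {V W : C} {n : ℕ} (db : DualBases pa V n) (h : W ⟶ V)
    (x : TensorProduct (R.obj (op W)) (P.obj (op W)) (D.obj (op W))) :
    sigma db h (TensorProduct.lift (tauBil pa W) x) = x := by
  induction x using TensorProduct.induction_on with
  | zero => rw [map_zero, sigma_zero]
  | tmul p d =>
    rw [TensorProduct.lift.tmul, tauBil_apply]
    unfold sigma
    conv_rhs => rw [db.total_left h d, TensorProduct.tmul_sum]
    refine Finset.sum_congr rfl fun i _ => ?_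
    rw [ev_tauLin, rs_id, rs_id, TensorProduct.smul_tmul]
  | add x y hx hy => rw [map_add, sigma_add, hx, hy]

theorem tau_bijective {pa : Pairing D Q} {V W : C} {n : ℕ} (db : DualBases pa V n) (h : W ⟶ V) :
    Function.Bijective (TensorProduct.lift (tauBil (P := P) pa W)) :=
  ⟨Function.LeftInverse.injective (sigma_tau db h),
    Function.RightInverse.surjective (tau_sigma db h)⟩

end presheaf


section evaluation

variable {C : Type u} [SmallCategory C] {R : Cᵒᵖ ⥤ CommRingCat.{u}}

/-- the unit presheaf of modules -/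
abbrev UU : PresheafOfModules.{u} (R ⋙ forget₂ CommRingCat RingCat) :=
  PresheafOfModules.unit (R ⋙ forget₂ CommRingCat RingCat)

/-- a section of the unit as a scalar -/
def sc {V : C} (x : (UU (R := R)).obj (op V)) : R.obj (op V) := x

/-- a scalar as a section of the unit -/
def cs {V : C} (x : R.obj (op V)) : (UU (R := R)).obj (op V) := x

lemma sc_add {V : C} (x y : (UU (R := R)).obj (op V)) : sc (x + y) = sc x + sc y := rfl

lemma sc_smul {V : C} (r : R.obj (op V)) (x : (UU (R := R)).obj (op V)) :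
    sc (r • x) = r * sc x := rfl

lemma sc_rs {V W : C} (h : W ⟶ V) (x : (UU (R := R)).obj (op V)) :
    sc (rs UU h x) = rmap h (sc x) := rfl

lemma sc_sum {V : C} {ι : Type*} (s : Finset ι) (x : ι → (UU (R := R)).obj (op V)) :
    sc (∑ i ∈ s, x i) = ∑ i ∈ s, sc (x i) := rfl

variable (Q : PresheafOfModules.{u} (R ⋙ forget₂ CommRingCat RingCat))

/-- view a section of the internal hom as a linear family -/
def asLin {F : PresheafOfModules.{u} (R ⋙ forget₂ CommRingCat RingCat)} {V : C}
    (α : (ihom Q F).obj (op V)) : linSubgroup Q F V := α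

/-- the evaluation pairing `Hom(Q, R) × Q → R` -/
def evPairing : Pairing (ihom Q UU) Q where
  pr {V} α e := sc (ev (asLin Q α).1 (𝟙 V) e)
  add_left α α' e := rfl
  add_right α e e' := by rw [ev_add, sc_add]
  smul_left {V} r α e := by
    show sc (ev (r • asLin Q α).1 (𝟙 V) e) = _
    rw [ev_smul, rmap_id, sc_smul]
  smul_right {V} r α e := by
    rw [(asLin Q α).2 (𝟙 V) r e, sc_smul]
  nat {V W} h α e := by
    show rmap h (sc (ev (asLin Q α).1 (𝟙 V) e)) = sc (ev (resLin h (asLin Q α)).1 (𝟙 W) (rs Q h e))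
    rw [← sc_rs, ev_naturality, ev_resLin, Category.comp_id, Category.id_comp]

lemma evPairing_pr {V : C} (α : (ihom Q UU).obj (op V)) (e : Q.obj (op V)) :
    (evPairing Q).pr α e = sc (ev (asLin Q α).1 (𝟙 V) e) := rfl

variable {Q}

/-- the `i`-th coordinate family of a local dual basis -/
def coordFam {V : C} {n : ℕ} (lb : LocBasis Q V n) (i : Fin n) : HomAb Q (UU (R := R)) V :=
  mkHomAb (fun {W} g => AddMonoidHom.mk' (fun e => cs (lb.c i g e)) (by
      intro e e'
      rw [map_add]
      rfl))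
    (by
      intro W W' g h e
      exact lb.c_nat i g h e)

@[simp] lemma ev_coordFam {V : C} {n : ℕ} (lb : LocBasis Q V n) (i : Fin n) {W : C} (g : W ⟶ V)
    (e : Q.obj (op W)) : ev (coordFam lb i) g e = cs (lb.c i g e) := rfl

lemma coordFam_mem {V : C} {n : ℕ} (lb : LocBasis Q V n) (i : Fin n) :
    coordFam lb i ∈ linSubgroup Q (UU (R := R)) V := by
  intro W g r e
  rw [ev_coordFam, ev_coordFam, lb.c_smul]
  rfl

/-- the `i`-th coordinate, as a section of the dual -/
def coordLin {V : C} {n : ℕ} (lb : LocBasis Q V n) (i : Fin n) : (ihom Q UU).obj (op V) :=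
  (⟨coordFam lb i, coordFam_mem lb i⟩ : linSubgroup Q (UU (R := R)) V)

lemma pr_rs_coordLin {V : C} {n : ℕ} (lb : LocBasis Q V n) (i : Fin n) {W : C} (g : W ⟶ V)
    (e : Q.obj (op W)) : (evPairing Q).pr (rs (ihom Q UU) g (coordLin lb i)) e = lb.c i g e := by
  show lb.c i (𝟙 W ≫ g) e = _
  rw [Category.id_comp]

/-- a local dual basis gives dual bases for the evaluation pairing -/
def dualBasesOfLocBasis {V : C} {n : ℕ} (lb : LocBasis Q V n) : DualBases (evPairing Q) V n where
  s := lb.s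
  t := coordLin lb
  total_right {W} g e := by
    refine (lb.total g e).trans (Finset.sum_congr rfl fun i _ => ?_)
    rw [pr_rs_coordLin]
  total_left {W} g α := by
    have key : asLin Q α = ∑ i, (evPairing Q).pr α (rs Q g (lb.s i)) •
        asLin Q (rs (ihom Q UU) g (coordLin lb i)) := by
      apply ext_lin
      intro W' k e
      rw [ev_sum_lin]
      conv_lhs => rw [lb.total (k ≫ g) e]
      rw [ev_sum]
      refine Finset.sum_congr rfl fun i _ => ?_
      rw [(asLin Q α).2 k, ev_smul]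
      show lb.c i (k ≫ g) e • ev (asLin Q α).1 k (rs Q (k ≫ g) (lb.s i)) =
        rmap k (sc (ev (asLin Q α).1 (𝟙 W) (rs Q g (lb.s i)))) • cs (lb.c i (k ≫ g) e)
      rw [← sc_rs, ev_naturality, Category.comp_id, ← rs_comp]
      exact mul_comm (lb.c i (k ≫ g) e) _
    exact key

end evaluation

section sheaf

variable {C : Type u} [SmallCategory C] {J : GrothendieckTopology C} {O : Sheaf J CommRingCat.{u}}

open Groth.Agent.Lib.Helper17.LocInj

/-- local dual bases for a pairing of sheaves of modules -/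
def HasLocDualBases {D E : ModSite.Mod O} (pa : Pairing (toPMod D) (toPMod E)) : Prop :=
  ∀ Y : C, ∃ S : Sieve Y, S ∈ J Y ∧ ∀ {V : C} (g : V ⟶ Y), S g →
    ∃ n : ℕ, Nonempty (DualBases pa V n)

lemma HasLocDualBases.swap {D E : ModSite.Mod O} {pa : Pairing (toPMod D) (toPMod E)}
    (h : HasLocDualBases pa) : HasLocDualBases pa.swap := by
  intro Y
  obtain ⟨S, hS, hS'⟩ := h Y
  refine ⟨S, hS, fun g hg => ?_⟩
  obtain ⟨n, ⟨db⟩⟩ := hS' g hg
  exact ⟨n, ⟨db.swap⟩⟩

variable {D E : ModSite.Mod O} (pa : Pairing (toPMod D) (toPMod E))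

/-- `τ` as a morphism into the underlying presheaf of the internal hom sheaf -/
def tauP (G : ModSite.Mod O) : (toPMod G ⊗ toPMod D : PMod O) ⟶ toPMod (sheafIHom E G) :=
  tau (toPMod G) pa

lemma isLocallyInjective_tauP (hpa : HasLocDualBases pa) (G : ModSite.Mod O) :
    Presheaf.IsLocallyInjective J (ab (tauP pa G)) := by
  constructor
  intro X x y hxy
  obtain ⟨S, hS, hS'⟩ := hpa X.unop
  refine J.superset_covering ?_ hS
  intro W g hg
  obtain ⟨n, ⟨db⟩⟩ := hS' g hg
  have inj := (tau_bijective (P := toPMod G) db (𝟙 W)).1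
  have h1 : appE (tauP pa G) (rs (toPMod G ⊗ toPMod D : PMod O) g x) =
      appE (tauP pa G) (rs (toPMod G ⊗ toPMod D : PMod O) g y) := by
    rw [appE_rs, appE_rs]
    exact congrArg _ hxy
  exact inj h1

lemma isLocallySurjective_tauP (hpa : HasLocDualBases pa) (G : ModSite.Mod O) :
    Presheaf.IsLocallySurjective J (ab (tauP pa G)) := by
  constructor
  intro X ψ
  obtain ⟨S, hS, hS'⟩ := hpa X
  refine J.superset_covering ?_ hS
  intro W g hg
  obtain ⟨n, ⟨db⟩⟩ := hS' g hg
  obtain ⟨z, hz⟩ := (tau_bijective (P := toPMod G) db (𝟙 W)).2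
    (rs (toPMod (sheafIHom E G)) g ψ)
  exact ⟨z, hz⟩

lemma W_tauP (hpa : HasLocDualBases pa) (G : ModSite.Mod O) : J.W (ab (tauP pa G)) := by
  haveI := isLocallyInjective_tauP pa hpa G
  haveI := isLocallySurjective_tauP pa hpa G
  exact J.W_of_isLocallyBijective (ab (tauP pa G))

lemma isIso_shF_map_tauP (hpa : HasLocDualBases pa) (G : ModSite.Mod O) :
    IsIso ((shF O).map (tauP pa G)) :=
  isIso_sheafify_map_of_W _ (W_tauP pa hpa G)

/-- the counit of sheafification, with clean types -/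
def cou (S : ModSite.Mod O) : (shF O).obj (toPMod S) ≅ S :=
  (asIso (PresheafOfModules.sheafificationAdjunction (𝟙 (ModSite.ringSh O).obj)).counit).app S

lemma cou_naturality {S S' : ModSite.Mod O} (φ : S ⟶ S') :
    (shF O).map (pv φ) ≫ (cou S').hom = (cou S).hom ≫ φ :=
  (PresheafOfModules.sheafificationAdjunction (𝟙 (ModSite.ringSh O).obj)).counit.naturality φ

/-- `G ⊗ D ≅ Hom(E, G)` for a pairing with local dual bases -/
def tauIso (hpa : HasLocDualBases pa) (G : ModSite.Mod O) : tens G D ≅ sheafIHom E G :=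
  haveI := isIso_shF_map_tauP pa hpa G
  asIso ((shF O).map (tauP pa G)) ≪≫ cou (sheafIHom E G)

lemma tauIso_hom (hpa : HasLocDualBases pa) (G : ModSite.Mod O) :
    (tauIso pa hpa G).hom = (shF O).map (tauP pa G) ≫ (cou (sheafIHom E G)).hom := rfl

lemma tauIso_naturality (hpa : HasLocDualBases pa) {G G' : ModSite.Mod O} (f : G ⟶ G') :
    tensR f D ≫ (tauIso pa hpa G').hom = (tauIso pa hpa G).hom ≫ (HFun E).map f := by
  let m : toPMod (sheafIHom E G) ⟶ toPMod (sheafIHom E G') := ihomMap (toPMod E) (pv f)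
  have h2 : pv ((HFun E).map f) = m := HFun_map_val E f
  have h1 : (shF O).map m ≫ (cou (sheafIHom E G')).hom =
      (cou (sheafIHom E G)).hom ≫ (HFun E).map f := by
    rw [← h2]
    exact cou_naturality ((HFun E).map f)
  have h3 : (pv f ▷ toPMod D) ≫ tauP pa G' = tauP pa G ≫ m := tau_naturality pa (pv f)
  have h4 : (shF O).map (pv f ▷ toPMod D) ≫ (shF O).map (tauP pa G') =
      (shF O).map (tauP pa G) ≫ (shF O).map m := by
    rw [← Functor.map_comp, ← Functor.map_comp, h3]
  calc tensR f D ≫ (tauIso pa hpa G').hom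
      = ((shF O).map (pv f ▷ toPMod D) ≫ (shF O).map (tauP pa G')) ≫
          (cou (sheafIHom E G')).hom := (Category.assoc _ _ _).symm
    _ = ((shF O).map (tauP pa G) ≫ (shF O).map m) ≫ (cou (sheafIHom E G')).hom :=
        congrArg (· ≫ (cou (sheafIHom E G')).hom) h4
    _ = (shF O).map (tauP pa G) ≫ ((shF O).map m ≫ (cou (sheafIHom E G')).hom) :=
        Category.assoc _ _ _
    _ = (shF O).map (tauP pa G) ≫ ((cou (sheafIHom E G)).hom ≫ (HFun E).map f) :=
        congrArg ((shF O).map (tauP pa G) ≫ ·) h1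
    _ = (tauIso pa hpa G).hom ≫ (HFun E).map f := (Category.assoc _ _ _).symm

/-- `- ⊗ D ≅ Hom(E, -)` for a pairing with local dual bases -/
def tauNatIso (hpa : HasLocDualBases pa) : (ModSite.tensorBi O).flip.obj D ≅ HFun E :=
  NatIso.ofComponents (fun G => tauIso pa hpa G) (fun f => tauIso_naturality pa hpa f)

end sheaf

section dual

variable {C : Type u} [SmallCategory C] {J : GrothendieckTopology C} {O : Sheaf J CommRingCat.{u}}

/-- the dual `Hom(E, O)` -/
def dual (E : ModSite.Mod O) : ModSite.Mod O := sheafIHom E (ModSite.unit O)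

/-- the evaluation pairing between `E^∨` and `E` -/
def evPa (E : ModSite.Mod O) : Pairing (toPMod (dual E)) (toPMod E) := evPairing (toPMod E)

lemma hasLocDualBases_evPa (E : ModSite.Mod O) (hE : HasLocBases E) :
    HasLocDualBases (evPa E) := by
  intro Y
  obtain ⟨S, hS, hS'⟩ := hE Y
  refine ⟨S, hS, fun g hg => ?_⟩
  obtain ⟨n, ⟨lb⟩⟩ := hS' g hg
  exact ⟨n, ⟨dualBasesOfLocBasis lb⟩⟩

/-- `- ⊗ E^∨ ≅ Hom(E, -)` -/
def tensorDualIso (E : ModSite.Mod O) (hE : HasLocBases E) :
    (ModSite.tensorBi O).flip.obj (dual E) ≅ HFun E :=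
  tauNatIso (evPa E) (hasLocDualBases_evPa E hE)

/-- `- ⊗ E ≅ Hom(E^∨, -)` -/
def tensorIsoHomDual (E : ModSite.Mod O) (hE : HasLocBases E) :
    (ModSite.tensorBi O).flip.obj E ≅ HFun (dual E) :=
  tauNatIso (evPa E).swap (hasLocDualBases_evPa E hE).swap

end dual

end Groth.Agent.Lib.Helper5.TensorDual
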