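import Groth.Agent.Lib.Helper5.LocalHomotopy
import Groth.Agent.Lib.Helper5.FinFreeSummand
import Groth.Agent.Lib.Helper5.TensorDual

/-!
# Local lifting and local homotopies on ringed sites

Direct summands of finite free modules have (global) dual bases; local lifting of maps out of
them along epimorphisms; local lifting up to homotopy of maps out of strictly perfect complexes.
-/

set_option autoImplicit false

universe u

open CategoryTheory Limits Opposite

noncomputable section

namespace Groth.Agent.Lib.Helper5.LocalHomotopySite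

open Groth.Agent.Lib.Helper17.IHom Groth.Agent.Lib.Helper17.Tensor
  Groth.Agent.Lib.Helper17.LocInj Groth.Agent.Lib.Helper5.QS Groth.Agent.Lib.Helper5.DualBasis
  Groth.Agent.Lib.Helper5.LocalHomotopy Groth.Agent.Lib.Helper5.FinFreeSummand
  Groth.Agent.Lib.Helper5.TensorDual

variable {C : Type u} [SmallCategory C] {J : GrothendieckTopology C} {O : Sheaf J CommRingCat.{u}}

section basis

variable {E : ModSite.Mod O} {n : ℕ} (d : Decomp (FinFreeSummand.UU O) E n)

lemma sum_apply {V : C} (e : (toPMod E).obj (op V)) :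
    e = ∑ k, appE (pv (d.ι k)) (appE (pv (d.π k)) e) := by
  have key : ∑ k, (Gam O V).map (d.π k) ≫ (Gam O V).map (d.ι k) = 𝟙 ((Gam O V).obj E) := by
    have : ∀ k ∈ Finset.univ, (Gam O V).map (d.π k) ≫ (Gam O V).map (d.ι k) =
        (Gam O V).map (d.π k ≫ d.ι k) := fun k _ => ((Gam O V).map_comp _ _).symm
    rw [Finset.sum_congr rfl this, ← Functor.map_sum, d.sum, (Gam O V).map_id]
  have h := congrArg (fun t => t.hom e) key
  simp only [ModuleCat.hom_sum, LinearMap.sum_apply] at h
  exact h.symm

/-- a section of the structure sheaf as a scalar -/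
def scU {W : C} (x : (toPMod (FinFreeSummand.UU O)).obj (op W)) : O.obj.obj (op W) := x

/-- a scalar as a section of the structure sheaf -/
def csU {W : C} (r : O.obj.obj (op W)) : (toPMod (FinFreeSummand.UU O)).obj (op W) := r

lemma scU_add {W : C} (x y : (toPMod (FinFreeSummand.UU O)).obj (op W)) :
    scU (x + y) = scU x + scU y := rfl

lemma scU_smul {W : C} (r : O.obj.obj (op W)) (x : (toPMod (FinFreeSummand.UU O)).obj (op W)) :
    scU (r • x) = r * scU x := rfl

lemma scU_rs {V W : C} (h : W ⟶ V) (x : (toPMod (FinFreeSummand.UU O)).obj (op V)) :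
    scU (rs (toPMod (FinFreeSummand.UU O)) h x) = rmap (R := O.obj) h (scU x) := rfl

lemma rs_csU {V W : C} (h : W ⟶ V) (r : O.obj.obj (op V)) :
    rs (toPMod (FinFreeSummand.UU O)) h (csU r) = csU (rmap (R := O.obj) h r) := rfl

lemma smul_csU {W : C} (r r' : O.obj.obj (op W)) :
    r • csU (O := O) r' = csU (r * r') := rfl

lemma csU_scU {W : C} (x : (toPMod (FinFreeSummand.UU O)).obj (op W)) : csU (scU x) = x := rfl

lemma appE_unit_eq {B : ModSite.Mod O} (φ : FinFreeSummand.UU O ⟶ B) {V W : C} (g : W ⟶ V)
    (x : (toPMod (FinFreeSummand.UU O)).obj (op W)) :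
    appE (pv φ) x = scU x •
      rs (toPMod B) g (appE (pv φ) (csU (1 : O.obj.obj (op V)))) := by
  rw [← appE_rs, ← appE_smul, rs_csU, map_one, smul_csU, mul_one, csU_scU]

/-- the dual basis of a direct summand of a finite free module -/
def locBasisOfDecomp (V : C) : LocBasis (toPMod E) V n where
  s k := appE (pv (d.ι k)) (csU (1 : O.obj.obj (op V)))
  c k {W} _ := AddMonoidHom.mk' (fun e => scU (appE (pv (d.π k)) e)) (by
    intro e e'
    rw [appE_add, scU_add])
  c_smul k {W} g r e := by
    show scU (appE (pv (d.π k)) (r • e)) = r * scU (appE (pv (d.π k)) e)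
    rw [appE_smul, scU_smul]
  c_nat k {W W'} g h e := by
    show rmap (R := O.obj) h (scU (appE (pv (d.π k)) e)) =
      scU (appE (pv (d.π k)) (rs (toPMod E) h e))
    rw [appE_rs, scU_rs]
  total {W} g e := by
    conv_lhs => rw [sum_apply d e]
    refine Finset.sum_congr rfl fun k _ => ?_
    exact appE_unit_eq (d.ι k) g _

theorem hasLocBases_of_isFinFreeSummand (E : ModSite.Mod O)
    (hE : DCoh.IsFinFreeSummandMod (ModSite.ringSh O) E) : HasLocBases E := by
  obtain ⟨n, ⟨d⟩⟩ := exists_decomp E hE
  intro Y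
  exact ⟨⊤, J.top_mem Y, fun {V} g _ => ⟨n, ⟨locBasisOfDecomp d V⟩⟩⟩

end basis

section realization

instance additive_restr (W : C) : (ModSite.restr O W).Additive where
  map_add := rfl

lemma hom_ext_sections {W : C} {M N : ModSite.Mod (O.over W)} (f g : M ⟶ N)
    (h : ∀ (Y : Over W) (m : M.val.obj (op Y)),
      (f.val.app (op Y)).hom m = (g.val.app (op Y)).hom m) : f = g := by
  apply SheafOfModules.hom_ext
  apply PresheafOfModules.hom_ext
  intro Y
  apply ModuleCat.hom_ext
  apply LinearMap.ext
  intro m
  exact h Y.unop m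

variable (O) in
/-- the realization of linear families over `W` as morphisms of modules on `C/W` -/
def siteRealization (W : C) : Realization O W (ModSite.Mod (O.over W)) where
  ρ := ModSite.restr O W
  additive := inferInstance
  real := fun {A B} => (sectEquiv A B W).toAddMonoidHom
  real_gfam φ := hom_ext_sections _ _ (fun Y m => rfl)
  real_post φ x := hom_ext_sections _ _ (fun Y m => rfl)
  real_pre ψ x := hom_ext_sections _ _ (fun Y m => rfl)

end realization

section theorems

/-- **Local lifting** of a morphism from a direct summand of a finite free module along an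
epimorphism. -/
theorem exists_local_lift (E F G : ModSite.Mod O)
    (hE : DCoh.IsFinFreeSummandMod (ModSite.ringSh O) E) (p : G ⟶ F) [Epi p] (φ : E ⟶ F) (V : C) :
    ∃ R ∈ J V, ∀ ⦃W : C⦄ (g : W ⟶ V), R g →
      ∃ l : (ModSite.restr O W).obj E ⟶ (ModSite.restr O W).obj G,
        l ≫ (ModSite.restr O W).map p = (ModSite.restr O W).map φ := by
  obtain ⟨T, hT, hT'⟩ := exists_local_lift_of_epi (hasLocBases_of_isFinFreeSummand E hE) p
    (gfam φ V)
  refine ⟨T, hT, fun W g hg => ?_⟩
  obtain ⟨h, hh⟩ := hT' g hg
  refine ⟨(siteRealization O W).real h, ?_⟩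
  have h1 := congrArg (siteRealization O W).real hh
  rw [(siteRealization O W).real_post, res_gfam, (siteRealization O W).real_gfam] at h1
  exact h1

/-- **Local lifting up to homotopy** of a morphism from a strictly perfect complex. -/
theorem exists_local_lift_upToHomotopy (E F G : CochainComplex (ModSite.Mod O) ℤ) (α : E ⟶ F)
    (f : G ⟶ F) (hE : DCoh.IsStrictlyPerfectMod (ModSite.ringSh O) E) (a : ℤ)
    (hEa : ∀ j : ℤ, j < a → IsZero (E.X j))
    (hiso : ∀ j : ℤ, a < j → IsIso (HomologicalComplex.homologyMap f j))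
    (hepi : Epi (HomologicalComplex.homologyMap f a)) (V : C) :
    ∃ R ∈ J V, ∀ ⦃W : C⦄ (g : W ⟶ V), R g →
      ∃ β : ((ModSite.restr O W).mapHomologicalComplex (ComplexShape.up ℤ)).obj E ⟶
          ((ModSite.restr O W).mapHomologicalComplex (ComplexShape.up ℤ)).obj G,
        Nonempty (Homotopy (β ≫ ((ModSite.restr O W).mapHomologicalComplex
          (ComplexShape.up ℤ)).map f)
          (((ModSite.restr O W).mapHomologicalComplex (ComplexShape.up ℤ)).map α)) := by
  obtain ⟨⟨a', b, hab⟩, hfree⟩ := hE
  obtain ⟨S, hS, hS'⟩ := exists_locHtpy_cone α f a b hEa (fun i hi => hab i (Or.inr hi))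
    (fun i => hasLocBases_of_isFinFreeSummand _ (hfree i)) hiso hepi V
  refine ⟨S, hS, fun W g hg => ?_⟩
  obtain ⟨h, hh⟩ := hS' g hg
  exact exists_lift_of_isLocHtpy (siteRealization O W) f α hh

end theorems

end Groth.Agent.Lib.Helper5.LocalHomotopySite
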