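import Mathlib.Algebra.Homology.DerivedCategory.ExactFunctor
import Mathlib.Algebra.Homology.DerivedCategory.Fractions

/-!
# Representing the image of a derived-category morphism by a chain map

If `α = Q(g) ≫ Q(s)⁻¹ : Q E ⟶ Q F` with `s : F ⟶ F'` a quasi-isomorphism and `g : E ⟶ F'`, and if
after applying an exact functor `Φ` there is a chain map `β : Φ E ⟶ Φ F` with `β ≫ Φ s` homotopic
to `Φ g`, then the image of `α` under the derived functor of `Φ` is the class of `β`.
-/

set_option autoImplicit false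

universe w₁ w₂ v₁ v₂ u₁ u₂

open CategoryTheory Limits

namespace Groth.Agent.Lib.Helper5.LocalRep

variable {C₁ : Type u₁} [Category.{v₁} C₁] [Abelian C₁] [HasDerivedCategory.{w₁} C₁]
  {C₂ : Type u₂} [Category.{v₂} C₂] [Abelian C₂] [HasDerivedCategory.{w₂} C₂]
  (Φ : C₁ ⥤ C₂) [Φ.Additive] [PreservesFiniteLimits Φ] [PreservesFiniteColimits Φ]

lemma map_eq_of_homotopy {E F F' : CochainComplex C₁ ℤ} (g : E ⟶ F') (s : F ⟶ F')
    [IsIso (DerivedCategory.Q.map s)]
    (β : (Φ.mapHomologicalComplex (ComplexShape.up ℤ)).obj E ⟶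
      (Φ.mapHomologicalComplex (ComplexShape.up ℤ)).obj F)
    (H : Homotopy (β ≫ (Φ.mapHomologicalComplex (ComplexShape.up ℤ)).map s)
      ((Φ.mapHomologicalComplex (ComplexShape.up ℤ)).map g)) :
    Φ.mapDerivedCategory.map (DerivedCategory.Q.map g ≫ inv (DerivedCategory.Q.map s)) =
      Φ.mapDerivedCategoryFactors.hom.app E ≫ DerivedCategory.Q.map β ≫
        Φ.mapDerivedCategoryFactors.inv.app F := by
  have hQ : DerivedCategory.Q.map β ≫
      DerivedCategory.Q.map ((Φ.mapHomologicalComplex (ComplexShape.up ℤ)).map s) =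
      DerivedCategory.Q.map ((Φ.mapHomologicalComplex (ComplexShape.up ℤ)).map g) := by
    rw [← Functor.map_comp]
    exact DerivedCategory.Q_map_eq_of_homotopy _ H
  have hs := Φ.mapDerivedCategoryFactors_hom_naturality s
  have hg := Φ.mapDerivedCategoryFactors_hom_naturality g
  rw [Functor.map_comp, Functor.map_inv, IsIso.comp_inv_eq]
  rw [← cancel_mono (Φ.mapDerivedCategoryFactors.hom.app F')]
  simp only [Category.assoc]
  rw [hg, hs, Iso.inv_hom_id_app_assoc, hQ]

/-- Version quantified over a left fraction. -/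
lemma exists_rep {E F : CochainComplex C₁ ℤ}
    (α : DerivedCategory.Q.obj E ⟶ DerivedCategory.Q.obj F)
    (hlift : ∀ (F' : CochainComplex C₁ ℤ) (g : E ⟶ F') (s : F ⟶ F'), QuasiIso s →
      ∃ β : (Φ.mapHomologicalComplex (ComplexShape.up ℤ)).obj E ⟶
        (Φ.mapHomologicalComplex (ComplexShape.up ℤ)).obj F,
        Nonempty (Homotopy (β ≫ (Φ.mapHomologicalComplex (ComplexShape.up ℤ)).map s)
          ((Φ.mapHomologicalComplex (ComplexShape.up ℤ)).map g))) :
    ∃ β : (Φ.mapHomologicalComplex (ComplexShape.up ℤ)).obj E ⟶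
        (Φ.mapHomologicalComplex (ComplexShape.up ℤ)).obj F,
      Φ.mapDerivedCategory.map α =
        Φ.mapDerivedCategoryFactors.hom.app E ≫ DerivedCategory.Q.map β ≫
          Φ.mapDerivedCategoryFactors.inv.app F := by
  obtain ⟨F', g, s, hs, rfl⟩ := DerivedCategory.left_fac α
  obtain ⟨β, ⟨H⟩⟩ := hlift F' g s ((DerivedCategory.isIso_Q_map_iff_quasiIso _ s).1 hs)
  exact ⟨β, map_eq_of_homotopy Φ g s β H⟩

end Groth.Agent.Lib.Helper5.LocalRep
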