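import Mathlib.RingTheory.Ideal.KrullsHeightTheorem
import Mathlib.AlgebraicGeometry.Noetherian
import Groth.Agent.Lib.Helper5.TopDim

set_option autoImplicit false
universe u

namespace Groth.Agent.Lib.Helper5

/-- In a Noetherian domain in which a nonzero element `f` lies in every nonzero prime, there is no
chain `0 < q < q'` of primes. -/
theorem no_chain_of_forall_mem {B : Type*} [CommRing B] [IsDomain B] [IsNoetherianRing B]
    (f : B) (hf : f ≠ 0) (h : ∀ q : Ideal B, q.IsPrime → q ≠ ⊥ → f ∈ q)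
    (q q' : Ideal B) [hqp : q.IsPrime] [hq'p : q'.IsPrime] (hq : q ≠ ⊥) (hqq' : q < q') : False := by
  classical
  have hSfin : ((Ideal.span {f}).minimalPrimes).Finite :=
    Ideal.finite_minimalPrimes_of_isNoetherianRing B _
  have hSht : ∀ m ∈ (Ideal.span {f}).minimalPrimes, m.height ≤ 1 := fun m hm =>
    Ideal.height_le_one_of_isPrincipal_of_mem_minimalPrimes _ m hm
  have key : ∀ (a b : Ideal B), a.IsPrime → b.IsPrime → a ≠ ⊥ → a < b → ¬ b.height ≤ 1 := by
    intro a b ha hb hne hlt hle
    have h1 : a.height < b.height := Ideal.height_strict_mono_of_isPrime_of_isPrime hlt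
    have h0 : (⊥ : Ideal B).height < a.height :=
      Ideal.height_strict_mono_of_isPrime_of_isPrime (bot_lt_iff_ne_bot.mpr hne)
    have h2 : a.height < 1 := lt_of_lt_of_le h1 hle
    have h3 : a.height = 0 := Order.lt_one_iff.mp h2
    rw [h3] at h0
    exact not_lt_zero h0
  have hnot : ¬ ((q' : Set B) ⊆ ⋃ m ∈ (Ideal.span {f}).minimalPrimes, ((m : Ideal B) : Set B)) := by
    intro hsub
    obtain ⟨m, hm, hle⟩ := (Ideal.subset_union_prime_finite hSfin (f := fun m => m) ⊥ ⊥
      (fun m hm _ _ => hm.1.1)).mp hsub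
    exact key q m hqp hm.1.1 hq (lt_of_lt_of_le hqq' hle) (hSht m hm)
  obtain ⟨g, hgq', hgS⟩ := Set.not_subset.mp hnot
  have hgle : Ideal.span {g} ≤ q' := (Ideal.span_singleton_le_iff_mem _).mpr hgq'
  obtain ⟨m', hm'min, hm'le⟩ := Ideal.exists_minimalPrimes_le hgle
  have hm'prime : m'.IsPrime := hm'min.1.1
  have hfq : f ∈ q := h q hqp hq
  obtain ⟨m0, hm0S, hm0le⟩ := Ideal.exists_minimalPrimes_le
    (show Ideal.span {f} ≤ q from (Ideal.span_singleton_le_iff_mem _).mpr hfq)
  have hg0 : g ≠ 0 := by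
    rintro rfl
    exact hgS (Set.mem_biUnion hm0S (zero_mem m0))
  have hm'ne : m' ≠ ⊥ := by
    rintro rfl
    have : g ∈ (⊥ : Ideal B) := hm'min.1.2 (Ideal.mem_span_singleton_self g)
    exact hg0 (by simpa using this)
  have hfm' : f ∈ m' := h m' hm'prime hm'ne
  obtain ⟨m, hmS, hmle⟩ := Ideal.exists_minimalPrimes_le
    (show Ideal.span {f} ≤ m' from (Ideal.span_singleton_le_iff_mem _).mpr hfm')
  have hmne : m ≠ ⊥ := by
    rintro rfl
    exact hf (by simpa using hmS.1.2 (Ideal.mem_span_singleton_self f))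
  have hm'ht : m'.height ≤ 1 :=
    Ideal.height_le_one_of_isPrincipal_of_mem_minimalPrimes _ m' hm'min
  have hmeq : m = m' := by
    by_contra hne
    exact key m m' hmS.1.1 hm'prime hmne (lt_of_le_of_ne hmle hne) hm'ht
  apply hgS
  refine Set.mem_biUnion hmS ?_
  change g ∈ m
  rw [hmeq]
  exact hm'min.1.2 (Ideal.mem_span_singleton_self g)

/-- In a Noetherian ring, if `a ∉ p` lies in every prime strictly containing the prime `p`, there
is no chain `p < q < q'` of primes. -/
theorem no_chain_of_forall_mem' {A : Type*} [CommRing A] [IsNoetherianRing A]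
    (p : Ideal A) [hp : p.IsPrime] (a : A) (ha : a ∉ p)
    (h : ∀ q : Ideal A, q.IsPrime → p < q → a ∈ q)
    (q q' : Ideal A) [hqp : q.IsPrime] [hq'p : q'.IsPrime] (hpq : p < q) (hqq' : q < q') :
    False := by
  have hsurj : Function.Surjective (Ideal.Quotient.mk p) := Ideal.Quotient.mk_surjective
  have hker : RingHom.ker (Ideal.Quotient.mk p) = p := Ideal.mk_ker
  have hcm : ∀ J : Ideal A, p ≤ J →
      (J.map (Ideal.Quotient.mk p)).comap (Ideal.Quotient.mk p) = J := by
    intro J hJ
    rw [Ideal.comap_map_of_surjective _ hsurj, ← RingHom.ker_eq_comap_bot, hker]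
    exact sup_eq_left.mpr hJ
  have hq1 : (q.map (Ideal.Quotient.mk p)).IsPrime :=
    Ideal.map_isPrime_of_surjective hsurj (by rw [hker]; exact hpq.le)
  have hq'1 : (q'.map (Ideal.Quotient.mk p)).IsPrime :=
    Ideal.map_isPrime_of_surjective hsurj (by rw [hker]; exact (hpq.trans hqq').le)
  refine no_chain_of_forall_mem (B := A ⧸ p) (Ideal.Quotient.mk p a) ?_ ?_
    (q.map (Ideal.Quotient.mk p)) (q'.map (Ideal.Quotient.mk p)) ?_ ?_
  · rwa [Ne, Ideal.Quotient.eq_zero_iff_mem]
  · intro Q hQ hQne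
    have hQc : (Q.comap (Ideal.Quotient.mk p)).IsPrime := Ideal.comap_isPrime _ _
    have hle : p ≤ Q.comap (Ideal.Quotient.mk p) := by
      intro t ht
      rw [Ideal.mem_comap, Ideal.Quotient.eq_zero_iff_mem.mpr ht]
      exact zero_mem Q
    have hlt : p < Q.comap (Ideal.Quotient.mk p) := by
      refine lt_of_le_of_ne hle ?_
      intro heq
      apply hQne
      rw [← Ideal.map_comap_of_surjective _ hsurj Q, ← heq]
      exact Ideal.map_quotient_self p
    exact h _ hQc hlt
  · intro heq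
    have := hcm q hpq.le
    rw [heq, ← RingHom.ker_eq_comap_bot, hker] at this
    exact hpq.ne this
  · refine lt_of_le_of_ne (Ideal.map_mono hqq'.le) ?_
    intro heq
    have h1 := hcm q hpq.le
    have h2 := hcm q' (hpq.trans hqq').le
    rw [heq, h2] at h1
    exact hqq'.ne h1.symm

/-- In the spectrum of a Noetherian ring, a locally closed point has no chain of two strict
specializations above it. -/
theorem PrimeSpectrum.no_chain_of_isLocallyClosed {A : Type*} [CommRing A] [IsNoetherianRing A]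
    (p : PrimeSpectrum A) (hp : IsLocallyClosed ({p} : Set (PrimeSpectrum A)))
    (q q' : PrimeSpectrum A) (hpq : p < q) (hqq' : q < q') : False := by
  obtain ⟨U, Z, hU, hZ, hUZ⟩ := hp
  have hpU : p ∈ U := (hUZ ▸ Set.mem_singleton p : p ∈ U ∩ Z).1
  have hpZ : p ∈ Z := (hUZ ▸ Set.mem_singleton p : p ∈ U ∩ Z).2
  obtain ⟨_, ⟨a, rfl⟩, hpa, haU⟩ :=
    PrimeSpectrum.isTopologicalBasis_basic_opens.exists_subset_of_mem_open hpU hU
  have ha : a ∉ p.asIdeal := (PrimeSpectrum.mem_basicOpen a p).mp hpa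
  refine no_chain_of_forall_mem' p.asIdeal a ha ?_ q.asIdeal q'.asIdeal hpq hqq'
  intro Q hQ hlt
  by_contra haQ
  have hQU : (⟨Q, hQ⟩ : PrimeSpectrum A) ∈ U := haU ((PrimeSpectrum.mem_basicOpen a _).mpr haQ)
  have hspec : p ⤳ (⟨Q, hQ⟩ : PrimeSpectrum A) :=
    (PrimeSpectrum.le_iff_specializes p ⟨Q, hQ⟩).mp hlt.le
  have hQZ : (⟨Q, hQ⟩ : PrimeSpectrum A) ∈ Z := hspec.mem_closed hZ hpZ
  have : (⟨Q, hQ⟩ : PrimeSpectrum A) ∈ ({p} : Set (PrimeSpectrum A)) := hUZ ▸ ⟨hQU, hQZ⟩
  have heq : (⟨Q, hQ⟩ : PrimeSpectrum A) = p := this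
  exact hlt.ne (congrArg PrimeSpectrum.asIdeal heq).symm

open AlgebraicGeometry in
/-- In a locally Noetherian scheme, if `{x}` is locally closed, then every strict specialization
of `x` has no further specialization. -/
theorem eq_of_specializes_of_isLocallyClosed (X : Scheme.{u}) [IsLocallyNoetherian X] (x : X)
    (hx : IsLocallyClosed ({x} : Set X)) (y z : X) (hxy : x ⤳ y) (hne : y ≠ x) (hyz : y ⤳ z) :
    z = y := by
  by_contra hzy
  obtain ⟨W, hW, hzW, -⟩ := exists_isAffineOpen_mem_and_subset (x := z) (U := ⊤) trivial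
  have hyW : y ∈ W := hyz.mem_open W.isOpen hzW
  have hxW : x ∈ W := hxy.mem_open W.isOpen hyW
  have hN : IsNoetherianRing Γ(X, W) := IsLocallyNoetherian.component_noetherian ⟨W, hW⟩
  have hemb : Topology.IsInducing hW.fromSpec := hW.fromSpec.isOpenEmbedding.isInducing
  have hinj : Function.Injective hW.fromSpec := hW.fromSpec.isOpenEmbedding.injective
  have hfx := hW.fromSpec_primeIdealOf ⟨x, hxW⟩
  have hfy := hW.fromSpec_primeIdealOf ⟨y, hyW⟩
  have hfz := hW.fromSpec_primeIdealOf ⟨z, hzW⟩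
  have hlc : IsLocallyClosed ({hW.primeIdealOf ⟨x, hxW⟩} : Set (PrimeSpectrum Γ(X, W))) := by
    have h1 := hx.preimage hW.fromSpec.continuous
    have h2 : hW.fromSpec ⁻¹' ({x} : Set X) = {hW.primeIdealOf ⟨x, hxW⟩} := by
      ext t
      simp only [Set.mem_singleton_iff, Set.mem_preimage]
      constructor
      · intro ht; exact hinj (ht.trans hfx.symm)
      · rintro rfl; exact hfx
    rw [h2] at h1
    exact h1
  refine PrimeSpectrum.no_chain_of_isLocallyClosed _ hlc (hW.primeIdealOf ⟨y, hyW⟩)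
    (hW.primeIdealOf ⟨z, hzW⟩) ?_ ?_
  · refine lt_of_le_of_ne ?_ ?_
    · rw [PrimeSpectrum.le_iff_specializes]
      have h3 : hW.fromSpec (hW.primeIdealOf ⟨x, hxW⟩) ⤳ hW.fromSpec (hW.primeIdealOf ⟨y, hyW⟩) := by
        rw [hfx, hfy]; exact hxy
      exact hemb.specializes_iff.mp h3
    · intro heq
      apply hne
      have := congrArg hW.fromSpec heq
      rw [hfx, hfy] at this
      exact this.symm
  · refine lt_of_le_of_ne ?_ ?_
    · rw [PrimeSpectrum.le_iff_specializes]
      have h3 : hW.fromSpec (hW.primeIdealOf ⟨y, hyW⟩) ⤳ hW.fromSpec (hW.primeIdealOf ⟨z, hzW⟩) := by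
        rw [hfy, hfz]; exact hyz
      exact hemb.specializes_iff.mp h3
    · intro heq
      apply hzy
      have := congrArg hW.fromSpec heq
      rw [hfy, hfz] at this
      exact this.symm

open AlgebraicGeometry in
theorem isClosed_singleton_of_mem_closure_of_isLocallyClosed (X : Scheme.{u})
    [IsLocallyNoetherian X] (x : X) (hx : IsLocallyClosed ({x} : Set X)) (y : X)
    (hy : y ∈ closure ({x} : Set X)) (hne : y ≠ x) : IsClosed ({y} : Set X) := by
  rw [← closure_subset_iff_isClosed]
  intro z hz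
  have hyz : y ⤳ z := specializes_iff_mem_closure.mpr hz
  have hxy : x ⤳ y := specializes_iff_mem_closure.mpr hy
  exact eq_of_specializes_of_isLocallyClosed X x hx y z hxy hne hyz

open AlgebraicGeometry in
theorem topologicalKrullDim_closure_le_one_of_isLocallyClosed (X : Scheme.{u})
    [IsLocallyNoetherian X] (x : X) (hx : IsLocallyClosed ({x} : Set X)) :
    topologicalKrullDim (closure ({x} : Set X)) ≤ 1 := by
  have hce : Topology.IsClosedEmbedding (Subtype.val : closure ({x} : Set X) → X) :=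
    isClosed_closure.isClosedEmbedding_subtypeVal
  have : QuasiSober (closure ({x} : Set X)) := hce.quasiSober
  rw [topologicalKrullDim_eq_krullDim]
  rw [@Order.krullDim_le_one_iff _ (specializationOrder (closure ({x} : Set X))).toPreorder]
  intro t
  by_cases ht : t.1 = x
  · right
    intro b _
    change t ⤳ b
    rw [subtype_specializes_iff, ht]
    exact specializes_iff_mem_closure.mpr b.2
  · left
    intro b hb
    have hb' : t ⤳ b := hb
    rw [subtype_specializes_iff] at hb'
    have hxt : x ⤳ t.1 := specializes_iff_mem_closure.mpr t.2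
    have := eq_of_specializes_of_isLocallyClosed X x hx t.1 b.1 hxt ht hb'
    have hbt : b = t := Subtype.ext this
    rw [hbt]
    exact specializes_rfl

end Groth.Agent.Lib.Helper5
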