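import Mathlib
import Groth.Prelude.Def_CohCx

/-
Helper5: the Mayer–Vietoris long exact sequence for an object of the derived category of abelian
sheaves on a site.
-/

set_option autoImplicit false

universe u

open CategoryTheory Limits Opposite Pretriangulated

namespace Groth.Agent.Lib.Helper5.MVDerived

section Abstract

variable {𝒟 : Type*} [Category 𝒟] [Preadditive 𝒟] [HasZeroObject 𝒟] [HasShift 𝒟 ℤ]
  [∀ n : ℤ, (shiftFunctor 𝒟 n).Additive] [Pretriangulated 𝒟]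
  (T : Triangle 𝒟) (hT : T ∈ distTriang 𝒟)

include hT

lemma exact_B {Y : 𝒟} (x : T.obj₁ ⟶ Y) (hx : T.mor₃ ≫ x⟦(1 : ℤ)⟧' = 0) :
    ∃ y : T.obj₂ ⟶ Y, T.mor₁ ≫ y = x := by
  obtain ⟨g', hg'⟩ : ∃ g' : (shiftFunctor 𝒟 (1 : ℤ)).obj T.obj₂ ⟶ (shiftFunctor 𝒟 (1 : ℤ)).obj Y,
      (shiftFunctor 𝒟 (1 : ℤ)).map x = (-(shiftFunctor 𝒟 (1 : ℤ)).map T.mor₁) ≫ g' :=
    Triangle.yoneda_exact₃ T.rotate (rot_of_distTriang _ hT) (x⟦(1 : ℤ)⟧') hx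
  obtain ⟨y', rfl⟩ : ∃ y' : T.obj₂ ⟶ Y, (shiftFunctor 𝒟 (1 : ℤ)).map y' = g' :=
    (shiftFunctor 𝒟 (1 : ℤ)).map_surjective g'
  refine ⟨-y', ?_⟩
  apply (shiftFunctor 𝒟 (1 : ℤ)).map_injective
  rw [hg', Functor.map_comp, Functor.map_neg, Preadditive.comp_neg, Preadditive.neg_comp]

variable {A₂ A₃ : 𝒟} (i₂ : A₂ ⟶ T.obj₂) (i₃ : A₃ ⟶ T.obj₂) (p₂ : T.obj₂ ⟶ A₂) (p₃ : T.obj₂ ⟶ A₃)
  (htot : p₂ ≫ i₂ + p₃ ≫ i₃ = 𝟙 T.obj₂) (h22 : i₂ ≫ p₂ = 𝟙 A₂) (h33 : i₃ ≫ p₃ = 𝟙 A₃)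
  (h23 : i₂ ≫ p₃ = 0) (h32 : i₃ ≫ p₂ = 0)

include htot in
omit hT in
lemma pair_eq {Y : 𝒟} (y : T.obj₂ ⟶ Y) : p₂ ≫ i₂ ≫ y + p₃ ≫ i₃ ≫ y = y := by
  rw [← Category.assoc, ← Category.assoc, ← Preadditive.add_comp, htot, Category.id_comp]

include h22 h33 h23 h32 in
lemma mv_exact₁ {Y : 𝒟} (y₂ : A₂ ⟶ Y) (y₃ : A₃ ⟶ Y)
    (h : (T.mor₁ ≫ p₂) ≫ y₂ + (T.mor₁ ≫ p₃) ≫ y₃ = 0) :
    ∃ w : T.obj₃ ⟶ Y, (i₂ ≫ T.mor₂) ≫ w = y₂ ∧ (i₃ ≫ T.mor₂) ≫ w = y₃ := by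
  obtain ⟨w, hw⟩ := Triangle.yoneda_exact₂ T hT (p₂ ≫ y₂ + p₃ ≫ y₃) (by
    rw [Preadditive.comp_add, ← Category.assoc, ← Category.assoc]
    exact h)
  refine ⟨w, ?_, ?_⟩
  · rw [Category.assoc, ← hw, Preadditive.comp_add, ← Category.assoc, h22, Category.id_comp,
      ← Category.assoc, h23, zero_comp, add_zero]
  · rw [Category.assoc, ← hw, Preadditive.comp_add, ← Category.assoc, h32, zero_comp,
      ← Category.assoc, h33, Category.id_comp, zero_add]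

include htot in
lemma mv_zero₁ {Y : 𝒟} (w : T.obj₃ ⟶ Y) :
    (T.mor₁ ≫ p₂) ≫ (i₂ ≫ T.mor₂) ≫ w + (T.mor₁ ≫ p₃) ≫ (i₃ ≫ T.mor₂) ≫ w = 0 := by
  have h := pair_eq T i₂ i₃ p₂ p₃ htot (T.mor₂ ≫ w)
  have h2 : (T.mor₁ ≫ p₂) ≫ (i₂ ≫ T.mor₂) ≫ w + (T.mor₁ ≫ p₃) ≫ (i₃ ≫ T.mor₂) ≫ w =
      T.mor₁ ≫ (p₂ ≫ i₂ ≫ T.mor₂ ≫ w + p₃ ≫ i₃ ≫ T.mor₂ ≫ w) := by
    rw [Preadditive.comp_add]
    simp only [Category.assoc]
  rw [h2, h, ← Category.assoc, comp_distTriang_mor_zero₁₂ _ hT, zero_comp]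

include htot in
lemma mv_exact₂ {Y : 𝒟} (x : T.obj₁ ⟶ Y) (hx : T.mor₃ ≫ x⟦(1 : ℤ)⟧' = 0) :
    ∃ (y₂ : A₂ ⟶ Y) (y₃ : A₃ ⟶ Y), (T.mor₁ ≫ p₂) ≫ y₂ + (T.mor₁ ≫ p₃) ≫ y₃ = x := by
  obtain ⟨y, hy⟩ := exact_B T hT x hx
  refine ⟨i₂ ≫ y, i₃ ≫ y, ?_⟩
  rw [Category.assoc, Category.assoc, ← Preadditive.comp_add, pair_eq T i₂ i₃ p₂ p₃ htot y, hy]

lemma mv_zero₂ {Y : 𝒟} (y₂ : A₂ ⟶ Y) (y₃ : A₃ ⟶ Y) :
    T.mor₃ ≫ ((T.mor₁ ≫ p₂) ≫ y₂ + (T.mor₁ ≫ p₃) ≫ y₃)⟦(1 : ℤ)⟧' = 0 := by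
  rw [Category.assoc, Category.assoc, ← Preadditive.comp_add, Functor.map_comp, ← Category.assoc,
    comp_distTriang_mor_zero₃₁ _ hT, zero_comp]

include htot in
lemma mv_exact₃ {Y : 𝒟} (z : T.obj₃ ⟶ Y) (h2 : (i₂ ≫ T.mor₂) ≫ z = 0)
    (h3 : (i₃ ≫ T.mor₂) ≫ z = 0) : ∃ w : T.obj₁⟦(1 : ℤ)⟧ ⟶ Y, T.mor₃ ≫ w = z := by
  obtain ⟨w, hw⟩ := Triangle.yoneda_exact₃ T hT z (by
    rw [← pair_eq T i₂ i₃ p₂ p₃ htot (T.mor₂ ≫ z), ← Category.assoc i₂, h2, ← Category.assoc i₃,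
      h3, comp_zero, comp_zero, add_zero])
  exact ⟨w, hw.symm⟩

lemma mv_zero₃ {Y A : 𝒟} (w : T.obj₁⟦(1 : ℤ)⟧ ⟶ Y) (i : A ⟶ T.obj₂) :
    (i ≫ T.mor₂) ≫ T.mor₃ ≫ w = 0 := by
  rw [Category.assoc, ← Category.assoc T.mor₂, comp_distTriang_mor_zero₂₃ _ hT, zero_comp,
    comp_zero]

end Abstract

section Fun

variable {𝒜 ℬ : Type*} [Category 𝒜] [Category ℬ] [Preadditive 𝒜] [Preadditive ℬ]
  (F : 𝒜 ⥤ ℬ) [F.Additive] {A B : 𝒜} [HasBinaryBiproduct A B]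

lemma F_htot : F.map (biprod.fst : A ⊞ B ⟶ A) ≫ F.map biprod.inl +
    F.map (biprod.snd : A ⊞ B ⟶ B) ≫ F.map biprod.inr = 𝟙 (F.obj (A ⊞ B)) := by
  rw [← Functor.map_comp, ← Functor.map_comp, ← Functor.map_add, biprod.total, CategoryTheory.Functor.map_id]

lemma F_h22 : F.map (biprod.inl : A ⟶ A ⊞ B) ≫ F.map biprod.fst = 𝟙 _ := by
  rw [← Functor.map_comp, biprod.inl_fst, CategoryTheory.Functor.map_id]
lemma F_h33 : F.map (biprod.inr : B ⟶ A ⊞ B) ≫ F.map biprod.snd = 𝟙 _ := by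
  rw [← Functor.map_comp, biprod.inr_snd, CategoryTheory.Functor.map_id]
lemma F_h23 : F.map (biprod.inl : A ⟶ A ⊞ B) ≫ F.map biprod.snd = 0 := by
  rw [← Functor.map_comp, biprod.inl_snd, Functor.map_zero]
lemma F_h32 : F.map (biprod.inr : B ⟶ A ⊞ B) ≫ F.map biprod.fst = 0 := by
  rw [← Functor.map_comp, biprod.inr_fst, Functor.map_zero]

omit [F.Additive] in
lemma F_lift_fst {Z : 𝒜} (a : Z ⟶ A) (b : Z ⟶ B) :
    F.map (biprod.lift a b) ≫ F.map biprod.fst = F.map a := by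
  rw [← Functor.map_comp, biprod.lift_fst]
omit [F.Additive] in
lemma F_lift_snd {Z : 𝒜} (a : Z ⟶ A) (b : Z ⟶ B) :
    F.map (biprod.lift a b) ≫ F.map biprod.snd = F.map b := by
  rw [← Functor.map_comp, biprod.lift_snd]
omit [F.Additive] in
lemma F_inl_desc {Z : 𝒜} (a : A ⟶ Z) (b : B ⟶ Z) :
    F.map biprod.inl ≫ F.map (biprod.desc a b) = F.map a := by
  rw [← Functor.map_comp, biprod.inl_desc]
omit [F.Additive] in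
lemma F_inr_desc {Z : 𝒜} (a : A ⟶ Z) (b : B ⟶ Z) :
    F.map biprod.inr ≫ F.map (biprod.desc a b) = F.map b := by
  rw [← Functor.map_comp, biprod.inr_desc]

end Fun

section MV

variable {C : Type u} [SmallCategory C] {J : GrothendieckTopology C}
  [HasWeakSheafify J (Type u)] [HasDerivedCategory.{u} (Sheaf J AddCommGrpCat.{u})]
  (S : J.MayerVietorisSquare) (K : DerivedCategory (Sheaf J AddCommGrpCat.{u}))

/-- The degree zero embedding into the derived category. -/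
noncomputable abbrev Q₀ :
    Sheaf J AddCommGrpCat.{u} ⥤ DerivedCategory (Sheaf J AddCommGrpCat.{u}) :=
  DerivedCategory.singleFunctor (Sheaf J AddCommGrpCat.{u}) 0

/-- The Mayer–Vietoris triangle. -/
noncomputable abbrev T : Triangle (DerivedCategory (Sheaf J AddCommGrpCat.{u})) :=
  S.shortComplex_shortExact.singleTriangle

lemma hT : T S ∈ distTriang (DerivedCategory (Sheaf J AddCommGrpCat.{u})) :=
  S.shortComplex_shortExact.singleTriangle_distinguished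

noncomputable abbrev i₂ : Q₀.obj (CohCx.freeSheaf J S.X₂) ⟶ (T S).obj₂ := Q₀.map biprod.inl
noncomputable abbrev i₃ : Q₀.obj (CohCx.freeSheaf J S.X₃) ⟶ (T S).obj₂ := Q₀.map biprod.inr
noncomputable abbrev p₂ : (T S).obj₂ ⟶ Q₀.obj (CohCx.freeSheaf J S.X₂) := Q₀.map biprod.fst
noncomputable abbrev p₃ : (T S).obj₂ ⟶ Q₀.obj (CohCx.freeSheaf J S.X₃) := Q₀.map biprod.snd

lemma htot : p₂ S ≫ i₂ S + p₃ S ≫ i₃ S = 𝟙 _ := F_htot Q₀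
lemma h22 : i₂ S ≫ p₂ S = 𝟙 _ := F_h22 Q₀
lemma h33 : i₃ S ≫ p₃ S = 𝟙 _ := F_h33 Q₀
lemma h23 : i₂ S ≫ p₃ S = 0 := F_h23 Q₀
lemma h32 : i₃ S ≫ p₂ S = 0 := F_h32 Q₀

lemma a₁₂ : (T S).mor₁ ≫ p₂ S = Q₀.map (CohCx.freeSheafMap J S.f₁₂) :=
  F_lift_fst Q₀ _ _

lemma a₁₃ : (T S).mor₁ ≫ p₃ S = -Q₀.map (CohCx.freeSheafMap J S.f₁₃) :=
  (F_lift_snd Q₀ _ _).trans (Functor.map_neg _)

lemma b₂₄ : i₂ S ≫ (T S).mor₂ = Q₀.map (CohCx.freeSheafMap J S.f₂₄) :=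
  F_inl_desc Q₀ _ _

lemma b₃₄ : i₃ S ≫ (T S).mor₂ = Q₀.map (CohCx.freeSheafMap J S.f₃₄) :=
  F_inr_desc Q₀ _ _

/-- The connecting homomorphism. -/
noncomputable def δ (n : ℤ) : CohCx.HDU K n S.X₁ →+ CohCx.HDU K (n + 1) S.X₄ :=
  (Preadditive.leftComp _ (T S).mor₃).comp
    ((Preadditive.rightComp _ ((shiftFunctorAdd' (DerivedCategory (Sheaf J AddCommGrpCat.{u}))
      n 1 (n + 1) rfl).inv.app K)).comp (shiftFunctor _ (1 : ℤ)).mapAddHom)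

lemma δ_apply (n : ℤ) (x : CohCx.HDU K n S.X₁) :
    δ S K n x = (T S).mor₃ ≫ x⟦(1 : ℤ)⟧' ≫
      (shiftFunctorAdd' (DerivedCategory (Sheaf J AddCommGrpCat.{u})) n 1 (n + 1) rfl).inv.app K :=
  rfl

lemma res_eq {U V : C} (f : V ⟶ U) (n : ℤ) (y : CohCx.HDU K n U) :
    CohCx.HDUres K n f y = Q₀.map (CohCx.freeSheafMap J f) ≫ y := rfl

lemma shift_iso_cancel (n : ℤ) {A : DerivedCategory (Sheaf J AddCommGrpCat.{u})}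
    (a : A ⟶ ((shiftFunctor _ n).obj K)⟦(1 : ℤ)⟧)
    (h : a ≫ (shiftFunctorAdd' (DerivedCategory (Sheaf J AddCommGrpCat.{u}))
      n 1 (n + 1) rfl).inv.app K = 0) : a = 0 := by
  rw [← cancel_mono ((shiftFunctorAdd' (DerivedCategory (Sheaf J AddCommGrpCat.{u}))
      n 1 (n + 1) rfl).inv.app K), h, zero_comp]

theorem exact₁ (n : ℤ) :
    (ComposableArrows.mk₂
      (AddCommGrpCat.ofHom ((CohCx.HDUres K n S.f₂₄).prod (CohCx.HDUres K n S.f₃₄)))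
      (AddCommGrpCat.ofHom ((CohCx.HDUres K n S.f₁₂).coprod (-(CohCx.HDUres K n S.f₁₃))))).Exact := by
  refine ComposableArrows.exact₂_mk _ ?_ ?_
  · ext w
    change CohCx.HDUres K n S.f₁₂ (CohCx.HDUres K n S.f₂₄ w) +
      -(CohCx.HDUres K n S.f₁₃ (CohCx.HDUres K n S.f₃₄ w)) = 0
    rw [res_eq, res_eq, res_eq, res_eq, ← Preadditive.neg_comp, ← a₁₂, ← a₁₃, ← b₂₄, ← b₃₄]
    exact mv_zero₁ (T S) (hT S) (i₂ S) (i₃ S) (p₂ S) (p₃ S) (htot S) w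
  · rw [ShortComplex.ab_exact_iff]
    rintro ⟨y₂, y₃⟩ hy
    change CohCx.HDUres K n S.f₁₂ y₂ + -(CohCx.HDUres K n S.f₁₃ y₃) = 0 at hy
    rw [res_eq, res_eq, ← Preadditive.neg_comp, ← a₁₂, ← a₁₃] at hy
    obtain ⟨w, hw₂, hw₃⟩ := mv_exact₁ (T S) (hT S) (i₂ S) (i₃ S) (p₂ S) (p₃ S) (h22 S) (h33 S)
      (h23 S) (h32 S) y₂ y₃ hy
    refine ⟨w, ?_⟩
    change (CohCx.HDUres K n S.f₂₄ w, CohCx.HDUres K n S.f₃₄ w) = (y₂, y₃)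
    rw [res_eq, res_eq, ← b₂₄, ← b₃₄]
    exact Prod.ext hw₂ hw₃

theorem exact₂ (n : ℤ) :
    (ComposableArrows.mk₂
      (AddCommGrpCat.ofHom ((CohCx.HDUres K n S.f₁₂).coprod (-(CohCx.HDUres K n S.f₁₃))))
      (AddCommGrpCat.ofHom (δ S K n))).Exact := by
  refine ComposableArrows.exact₂_mk _ ?_ ?_
  · ext ⟨y₂, y₃⟩
    change δ S K n (CohCx.HDUres K n S.f₁₂ y₂ + -(CohCx.HDUres K n S.f₁₃ y₃)) = 0
    rw [res_eq, res_eq, ← Preadditive.neg_comp, ← a₁₂, ← a₁₃, δ_apply, ← Category.assoc]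
    exact (congrArg (fun a => a ≫ (shiftFunctorAdd' (DerivedCategory (Sheaf J AddCommGrpCat.{u}))
      n 1 (n + 1) rfl).inv.app K) (mv_zero₂ (T S) (hT S) (p₂ S) (p₃ S) y₂ y₃)).trans zero_comp
  · rw [ShortComplex.ab_exact_iff]
    intro x hx
    change δ S K n x = 0 at hx
    rw [δ_apply, ← Category.assoc] at hx
    have hx' := shift_iso_cancel K n _ hx
    obtain ⟨y₂, y₃, hy⟩ := mv_exact₂ (T S) (hT S) (i₂ S) (i₃ S) (p₂ S) (p₃ S) (htot S) x hx'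
    refine ⟨(y₂, y₃), ?_⟩
    change CohCx.HDUres K n S.f₁₂ y₂ + -(CohCx.HDUres K n S.f₁₃ y₃) = x
    rw [res_eq, res_eq, ← Preadditive.neg_comp, ← a₁₂, ← a₁₃]
    exact hy

theorem exact₃ (n : ℤ) :
    (ComposableArrows.mk₂ (AddCommGrpCat.ofHom (δ S K n))
      (AddCommGrpCat.ofHom ((CohCx.HDUres K (n + 1) S.f₂₄).prod
        (CohCx.HDUres K (n + 1) S.f₃₄)))).Exact := by
  refine ComposableArrows.exact₂_mk _ ?_ ?_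
  · ext x
    change (CohCx.HDUres K (n + 1) S.f₂₄ (δ S K n x), CohCx.HDUres K (n + 1) S.f₃₄ (δ S K n x)) =
      (0, 0)
    rw [res_eq, res_eq, ← b₂₄, ← b₃₄, δ_apply]
    exact Prod.ext (mv_zero₃ (T S) (hT S) _ (i₂ S)) (mv_zero₃ (T S) (hT S) _ (i₃ S))
  · rw [ShortComplex.ab_exact_iff]
    intro z hz
    change (CohCx.HDUres K (n + 1) S.f₂₄ z, CohCx.HDUres K (n + 1) S.f₃₄ z) = (0, 0) at hz
    rw [res_eq, res_eq, ← b₂₄, ← b₃₄] at hz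
    obtain ⟨w, hw⟩ := mv_exact₃ (T S) (hT S) (i₂ S) (i₃ S) (p₂ S) (p₃ S) (htot S) z
      (congrArg Prod.fst hz) (congrArg Prod.snd hz)
    obtain ⟨x, hx⟩ := (shiftFunctor (DerivedCategory (Sheaf J AddCommGrpCat.{u})) (1 : ℤ)).map_surjective
      (w ≫ (shiftFunctorAdd' (DerivedCategory (Sheaf J AddCommGrpCat.{u})) n 1 (n + 1) rfl).hom.app K)
    refine ⟨x, ?_⟩
    change δ S K n x = z
    rw [δ_apply, hx, Category.assoc, Iso.hom_inv_id_app, Category.comp_id, hw]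

end MV

end Groth.Agent.Lib.Helper5.MVDerived
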