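import Groth.Prelude.Def_LocCohZ
import Mathlib.Algebra.Homology.ShortComplex.SnakeLemma
import Mathlib.Topology.Sheaves.MayerVietoris
import Mathlib.CategoryTheory.Sites.MayerVietorisSquare

/-!
# Mayer-Vietoris for cohomology with supports (helper5)

The short exact sequence `0 → Q_{U ⊓ U'} → Q_U ⊞ Q_{U'} → Q_{U ⊔ U'} → 0` with `Q_W = ℤ_X/ℤ_W`,
obtained by the snake lemma from Mathlib's Mayer-Vietoris sequence of free sheaves mapped
into the split sequence `ℤ_X → ℤ_X ⊞ ℤ_X → ℤ_X`, and the resulting long exact `Ext` sequence.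
-/

set_option autoImplicit false
universe u
open CategoryTheory CategoryTheory.Limits TopologicalSpace Opposite ZeroObject

namespace Groth.Agent.Lib.Helper5.MVSupp

section General

variable {C : Type*} [Category C] [Abelian C]

/-- The cokernel of a levelwise monomorphism between short exact sequences is short exact. -/
theorem shortExact_of_cokernel {S₁ S₂ S₃ : ShortComplex C} (φ : S₁ ⟶ S₂) (ψ : S₂ ⟶ S₃)
    (w : φ ≫ ψ = 0) (h₁ : S₁.ShortExact) (h₂ : S₂.ShortExact)
    [Mono φ.τ₁] [Mono φ.τ₂] [Mono φ.τ₃]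
    (c₁ : IsColimit (CokernelCofork.ofπ ψ.τ₁
      (show φ.τ₁ ≫ ψ.τ₁ = 0 by rw [← ShortComplex.comp_τ₁, w, ShortComplex.zero_τ₁])))
    (c₂ : IsColimit (CokernelCofork.ofπ ψ.τ₂
      (show φ.τ₂ ≫ ψ.τ₂ = 0 by rw [← ShortComplex.comp_τ₂, w, ShortComplex.zero_τ₂])))
    (c₃ : IsColimit (CokernelCofork.ofπ ψ.τ₃
      (show φ.τ₃ ≫ ψ.τ₃ = 0 by rw [← ShortComplex.comp_τ₃, w, ShortComplex.zero_τ₃]))) :
    S₃.ShortExact := by
  let Z : ShortComplex C := ShortComplex.mk (0 : (0 : C) ⟶ 0) (0 : (0 : C) ⟶ 0) zero_comp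
  have hZ₁ : IsZero Z.X₁ := isZero_zero C
  have hZ₂ : IsZero Z.X₂ := isZero_zero C
  have hZ₃ : IsZero Z.X₃ := isZero_zero C
  let S : ShortComplex.SnakeInput C :=
    { L₀ := Z
      L₁ := S₁
      L₂ := S₂
      L₃ := S₃
      v₀₁ := 0
      v₁₂ := φ
      v₂₃ := ψ
      w₀₂ := zero_comp
      w₁₃ := w
      h₀ := by
        apply ShortComplex.isLimitOfIsLimitπ <;>
          apply (KernelFork.isLimitMapConeEquiv _ _).2
        · exact KernelFork.IsLimit.ofMonoOfIsZero _ (inferInstance : Mono φ.τ₁) hZ₁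
        · exact KernelFork.IsLimit.ofMonoOfIsZero _ (inferInstance : Mono φ.τ₂) hZ₂
        · exact KernelFork.IsLimit.ofMonoOfIsZero _ (inferInstance : Mono φ.τ₃) hZ₃
      h₃ := by
        apply ShortComplex.isColimitOfIsColimitπ <;>
          apply (CokernelCofork.isColimitMapCoconeEquiv _ _).2
        · exact c₁
        · exact c₂
        · exact c₃
      L₁_exact := h₁.exact
      epi_L₁_g := h₁.epi_g
      L₂_exact := h₂.exact
      mono_L₂_f := h₂.mono_f }
  have e : S₃.Exact := S.L₃_exact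
  have : Epi S₂.g := h₂.epi_g
  have hepi : Epi S₃.g := S.epi_L₃_g
  have hmono : Mono S₃.f := by
    have h2 := S.L₂'_exact
    have hδ : S.L₂'.f = 0 := hZ₃.eq_of_src _ _
    exact h2.mono_g hδ
  exact { exact := e, mono_f := hmono, epi_g := hepi }

/-- The cokernel of a `biprod.map` is the `biprod.map` of the cokernels. -/
noncomputable def isColimitBiprodMap {A₁ A₂ B₁ B₂ : C} (f₁ : A₁ ⟶ B₁) (f₂ : A₂ ⟶ B₂) :
    IsColimit (CokernelCofork.ofπ (f := biprod.map f₁ f₂)
      (biprod.map (cokernel.π f₁) (cokernel.π f₂))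
      (by apply biprod.hom_ext' <;> apply biprod.hom_ext <;> simp)) :=
  CokernelCofork.IsColimit.ofπ' _ _ (fun {T} k hk => by
    have hk₁ : f₁ ≫ biprod.inl ≫ k = 0 := by
      have := congrArg (fun z => biprod.inl ≫ z) hk
      simpa using this
    have hk₂ : f₂ ≫ biprod.inr ≫ k = 0 := by
      have := congrArg (fun z => biprod.inr ≫ z) hk
      simpa using this
    refine ⟨biprod.desc (cokernel.desc f₁ (biprod.inl ≫ k) hk₁)
      (cokernel.desc f₂ (biprod.inr ≫ k) hk₂), ?_⟩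
    apply biprod.hom_ext' <;> simp)

end General

section ExtMV

open Abelian

universe w

variable {C : Type*} [Category C] [Abelian C] [HasExt.{w} C]

theorem lift_comp_eq {A B B' F : C} (a : A ⟶ B) (a' : A ⟶ B') {n : ℕ}
    (x₂ : Ext (B ⊞ B') F n) :
    (Ext.mk₀ (biprod.lift a (-a'))).comp x₂ (zero_add n) =
      (Ext.mk₀ a).comp ((Ext.mk₀ biprod.inl).comp x₂ (zero_add n)) (zero_add n) -
        (Ext.mk₀ a').comp ((Ext.mk₀ biprod.inr).comp x₂ (zero_add n)) (zero_add n) := by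
  rw [Ext.mk₀_comp_mk₀_assoc, Ext.mk₀_comp_mk₀_assoc, biprod.lift_eq, Ext.mk₀_add, Ext.add_comp,
    Preadditive.neg_comp, Ext.mk₀_neg, Ext.neg_comp, sub_eq_add_neg]

theorem inl_desc_comp {B B' D F : C} (b : B ⟶ D) (b' : B' ⟶ D) {n : ℕ} (x : Ext D F n) :
    (Ext.mk₀ biprod.inl).comp ((Ext.mk₀ (biprod.desc b b')).comp x (zero_add n)) (zero_add n) =
      (Ext.mk₀ b).comp x (zero_add n) := by
  rw [Ext.mk₀_comp_mk₀_assoc, biprod.inl_desc]

theorem inr_desc_comp {B B' D F : C} (b : B ⟶ D) (b' : B' ⟶ D) {n : ℕ} (x : Ext D F n) :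
    (Ext.mk₀ biprod.inr).comp ((Ext.mk₀ (biprod.desc b b')).comp x (zero_add n)) (zero_add n) =
      (Ext.mk₀ b').comp x (zero_add n) := by
  rw [Ext.mk₀_comp_mk₀_assoc, biprod.inr_desc]

theorem desc_comp_eq_zero_iff {B B' D F : C} (b : B ⟶ D) (b' : B' ⟶ D) {n : ℕ} (x : Ext D F n) :
    (Ext.mk₀ (biprod.desc b b')).comp x (zero_add n) = 0 ↔
      ((Ext.mk₀ b).comp x (zero_add n) = 0 ∧ (Ext.mk₀ b').comp x (zero_add n) = 0) := by
  constructor
  · intro h
    refine ⟨?_, ?_⟩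
    · rw [← inl_desc_comp b b', h, Ext.comp_zero]
    · rw [← inr_desc_comp b b', h, Ext.comp_zero]
  · rintro ⟨h₁, h₂⟩
    apply Ext.biprodAddEquiv.injective
    apply Prod.ext
    · rw [Ext.biprodAddEquiv_apply_fst, inl_desc_comp, h₁, map_zero]
      rfl
    · rw [Ext.biprodAddEquiv_apply_snd, inr_desc_comp, h₂, map_zero]
      rfl

theorem desc_comp_eq_iff {B B' D F : C} (b : B ⟶ D) (b' : B' ⟶ D) {n : ℕ} (x : Ext D F n)
    (x₂ : Ext (B ⊞ B') F n) :
    (Ext.mk₀ (biprod.desc b b')).comp x (zero_add n) = x₂ ↔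
      ((Ext.mk₀ b).comp x (zero_add n) = (Ext.mk₀ biprod.inl).comp x₂ (zero_add n) ∧
        (Ext.mk₀ b').comp x (zero_add n) = (Ext.mk₀ biprod.inr).comp x₂ (zero_add n)) := by
  constructor
  · intro h
    refine ⟨?_, ?_⟩
    · rw [← inl_desc_comp b b', h]
    · rw [← inr_desc_comp b b', h]
  · rintro ⟨h₁, h₂⟩
    apply Ext.biprodAddEquiv.injective
    apply Prod.ext
    · rw [Ext.biprodAddEquiv_apply_fst, inl_desc_comp, h₁, Ext.biprodAddEquiv_apply_fst]
    · rw [Ext.biprodAddEquiv_apply_snd, inr_desc_comp, h₂, Ext.biprodAddEquiv_apply_snd]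

/-- The Mayer-Vietoris type long exact `Ext` sequence attached to a short exact sequence
`0 → A → B ⊞ B' → D → 0` with maps `(a, -a')` and `b + b'`. -/
theorem ext_mv {A B B' D : C} (a : A ⟶ B) (a' : A ⟶ B') (b : B ⟶ D) (b' : B' ⟶ D)
    (zero : biprod.lift a (-a') ≫ biprod.desc b b' = 0)
    (hS : (ShortComplex.mk _ _ zero).ShortExact) (F : C) :
    Function.Injective (fun x : Ext D F 0 =>
      ((Ext.mk₀ b).precomp F (zero_add 0) x, (Ext.mk₀ b').precomp F (zero_add 0) x)) ∧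
    ∃ δ : ∀ i : ℕ, Ext A F i →+ Ext D F (i + 1),
      ∀ i : ℕ,
        (∀ y : Ext B F i × Ext B' F i,
          (Ext.mk₀ a).precomp F (zero_add i) y.1 - (Ext.mk₀ a').precomp F (zero_add i) y.2 = 0 ↔
            ∃ x : Ext D F i, (Ext.mk₀ b).precomp F (zero_add i) x = y.1 ∧
              (Ext.mk₀ b').precomp F (zero_add i) x = y.2) ∧
        (∀ w : Ext A F i, δ i w = 0 ↔ ∃ y : Ext B F i × Ext B' F i,
            (Ext.mk₀ a).precomp F (zero_add i) y.1 -
              (Ext.mk₀ a').precomp F (zero_add i) y.2 = w) ∧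
        (∀ x : Ext D F (i + 1),
          ((Ext.mk₀ b).precomp F (zero_add (i + 1)) x = 0 ∧
            (Ext.mk₀ b').precomp F (zero_add (i + 1)) x = 0) ↔
            ∃ w : Ext A F i, δ i w = x) := by
  have hepi : Epi (biprod.desc b b') := hS.epi_g
  have hy : ∀ {n : ℕ} (y : Ext B F n × Ext B' F n),
      (Ext.mk₀ biprod.inl).comp (Ext.biprodAddEquiv.symm y) (zero_add n) = y.1 ∧
      (Ext.mk₀ biprod.inr).comp (Ext.biprodAddEquiv.symm y) (zero_add n) = y.2 := by
    intro n y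
    have h := Ext.biprodAddEquiv.apply_symm_apply y
    refine ⟨?_, ?_⟩
    · rw [← Ext.biprodAddEquiv_apply_fst, h]
    · rw [← Ext.biprodAddEquiv_apply_snd, h]
  refine ⟨?_, ?_⟩
  · intro x x' hxx
    have h₁ : (Ext.mk₀ b).comp x (zero_add 0) = (Ext.mk₀ b).comp x' (zero_add 0) :=
      congrArg Prod.fst hxx
    have h₂ : (Ext.mk₀ b').comp x (zero_add 0) = (Ext.mk₀ b').comp x' (zero_add 0) :=
      congrArg Prod.snd hxx
    apply Ext.precomp_mk₀_injective_of_epi F (biprod.desc b b')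
    change (Ext.mk₀ (biprod.desc b b')).comp x (zero_add 0) =
      (Ext.mk₀ (biprod.desc b b')).comp x' (zero_add 0)
    rw [desc_comp_eq_iff, inl_desc_comp, inr_desc_comp]
    exact ⟨h₁, h₂⟩
  · refine ⟨fun i => hS.extClass.precomp F (show 1 + i = i + 1 by omega), fun i => ⟨?_, ?_, ?_⟩⟩
    · intro y
      change (Ext.mk₀ a).comp y.1 (zero_add i) - (Ext.mk₀ a').comp y.2 (zero_add i) = 0 ↔
        ∃ x : Ext D F i, (Ext.mk₀ b).comp x (zero_add i) = y.1 ∧
          (Ext.mk₀ b').comp x (zero_add i) = y.2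
      have key : (Ext.mk₀ (biprod.lift a (-a'))).comp (Ext.biprodAddEquiv.symm y) (zero_add i) =
          (Ext.mk₀ a).comp y.1 (zero_add i) - (Ext.mk₀ a').comp y.2 (zero_add i) := by
        rw [lift_comp_eq, (hy y).1, (hy y).2]
      constructor
      · intro h0
        rw [← key] at h0
        obtain ⟨x, hx⟩ := Ext.contravariant_sequence_exact₂ hS F _ h0
        refine ⟨x, ?_, ?_⟩
        · have := ((desc_comp_eq_iff b b' x _).1 hx).1
          rw [this, (hy y).1]
        · have := ((desc_comp_eq_iff b b' x _).1 hx).2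
          rw [this, (hy y).2]
      · rintro ⟨x, hx₁, hx₂⟩
        rw [← key]
        have hx : (Ext.mk₀ (biprod.desc b b')).comp x (zero_add i) =
            Ext.biprodAddEquiv.symm y := by
          rw [desc_comp_eq_iff, (hy y).1, (hy y).2]
          exact ⟨hx₁, hx₂⟩
        rw [← hx, Ext.mk₀_comp_mk₀_assoc, zero, Ext.mk₀_zero, Ext.zero_comp]
    · intro w
      change hS.extClass.comp w (show 1 + i = i + 1 by omega) = 0 ↔ ∃ y : Ext B F i × Ext B' F i,
        (Ext.mk₀ a).comp y.1 (zero_add i) - (Ext.mk₀ a').comp y.2 (zero_add i) = w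
      constructor
      · intro h0
        obtain ⟨x₂, hx₂⟩ := Ext.contravariant_sequence_exact₁ hS F w _ h0
        refine ⟨((Ext.mk₀ biprod.inl).comp x₂ (zero_add i),
          (Ext.mk₀ biprod.inr).comp x₂ (zero_add i)), ?_⟩
        rw [← hx₂]
        exact (lift_comp_eq a a' x₂).symm
      · rintro ⟨y, rfl⟩
        have key : (Ext.mk₀ (biprod.lift a (-a'))).comp (Ext.biprodAddEquiv.symm y) (zero_add i) =
            (Ext.mk₀ a).comp y.1 (zero_add i) - (Ext.mk₀ a').comp y.2 (zero_add i) := by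
          rw [lift_comp_eq, (hy y).1, (hy y).2]
        rw [← key]
        exact hS.extClass_comp_assoc _
    · intro x
      change ((Ext.mk₀ b).comp x (zero_add (i + 1)) = 0 ∧
        (Ext.mk₀ b').comp x (zero_add (i + 1)) = 0) ↔
          ∃ w : Ext A F i, hS.extClass.comp w (show 1 + i = i + 1 by omega) = x
      rw [← desc_comp_eq_zero_iff]
      constructor
      · intro h0
        exact Ext.contravariant_sequence_exact₃ hS F x h0 _
      · rintro ⟨w, rfl⟩
        exact hS.comp_extClass_assoc _ _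

end ExtMV

section Concrete

variable {X : TopCat.{u}}

/-- The free sheaf `ℤ_W`. -/
noncomputable abbrev Zf (W : Opens X) : CohTop.Ab X :=
  CohCx.freeSheaf (Opens.grothendieckTopology X) W

/-- The map `ℤ_W ⟶ ℤ_V`. -/
noncomputable abbrev zm {W V : Opens X} (h : W ≤ V) : Zf W ⟶ Zf V :=
  CohCx.freeSheafMap (Opens.grothendieckTopology X) (homOfLE h)

theorem zm_comp {A B D : Opens X} (h : A ≤ B) (h' : B ≤ D) :
    zm h ≫ zm h' = zm (h.trans h') :=
  (CohFree.freeSheafMap_comp (Opens.grothendieckTopology X) (homOfLE h) (homOfLE h')).symm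

theorem zm_refl (A : Opens X) : zm (le_refl A) = 𝟙 (Zf A) :=
  CohFree.freeSheafMap_id (Opens.grothendieckTopology X) A

instance mono_zm {W V : Opens X} (h : W ≤ V) : Mono (zm h) := by
  dsimp [zm]; infer_instance

/-- `Q_W = ℤ_X/ℤ_W`. -/
noncomputable abbrev Q (W : Opens X) : CohTop.Ab X := LocCohZ.zq (le_top : W ≤ ⊤)

/-- The projection `ℤ_X ⟶ Q_W`. -/
noncomputable abbrev qπ (W : Opens X) : Zf (⊤ : Opens X) ⟶ Q W :=
  cokernel.π (zm (le_top : W ≤ ⊤))

/-- The map `Q_{W'} ⟶ Q_W` for `W' ≤ W`. -/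
noncomputable abbrev qm {W' W : Opens X} (h : W' ≤ W) : Q W' ⟶ Q W :=
  LocCohZ.zqMap (le_top : W ≤ ⊤) (le_top : W' ≤ ⊤) h le_rfl

theorem qπ_qm {W' W : Opens X} (h : W' ≤ W) : qπ W' ≫ qm h = qπ W := by
  dsimp only [qπ, qm, LocCohZ.zqMap, cokernel.map]
  rw [cokernel.π_desc]
  have : CohCx.freeSheafMap (Opens.grothendieckTopology X) (homOfLE (le_refl (⊤ : Opens X))) =
      𝟙 _ := zm_refl ⊤
  rw [this, Category.id_comp]

theorem qm_comp {A B D : Opens X} (h : A ≤ B) (h' : B ≤ D) :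
    qm h ≫ qm h' = qm (h.trans h') := by
  apply (cancel_epi (qπ A)).1
  rw [← Category.assoc, qπ_qm, qπ_qm, qπ_qm]

/-- The Mayer-Vietoris short complex of free sheaves. -/
noncomputable abbrev S₁ (U U' : Opens X) : ShortComplex (CohTop.Ab X) :=
  ShortComplex.mk
    (biprod.lift (zm (inf_le_left : U ⊓ U' ≤ U)) (-(zm (inf_le_right : U ⊓ U' ≤ U'))))
    (biprod.desc (zm (le_sup_left : U ≤ U ⊔ U')) (zm (le_sup_right : U' ≤ U ⊔ U')))
    (by
      rw [biprod.lift_desc, Preadditive.neg_comp, zm_comp, zm_comp]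
      exact add_neg_cancel _)

theorem S₁_shortExact (U U' : Opens X) : (S₁ U U').ShortExact :=
  (Opens.mayerVietorisSquare U U').shortComplex_shortExact

/-- The split sequence `ℤ_X → ℤ_X ⊞ ℤ_X → ℤ_X`. -/
noncomputable abbrev S₂ (X : TopCat.{u}) : ShortComplex (CohTop.Ab X) :=
  ShortComplex.mk
    (biprod.lift (𝟙 (Zf (⊤ : Opens X))) (-(𝟙 (Zf (⊤ : Opens X)))))
    (biprod.desc (𝟙 (Zf (⊤ : Opens X))) (𝟙 (Zf (⊤ : Opens X))))
    (by
      rw [biprod.lift_desc, Preadditive.neg_comp]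
      exact add_neg_cancel _)

noncomputable def S₂splitting (X : TopCat.{u}) : (S₂ X).Splitting where
  r := biprod.fst
  s := biprod.inr
  f_r := by simp [S₂]
  s_g := by simp [S₂]
  id := by
    dsimp [S₂]
    apply biprod.hom_ext'
    · apply biprod.hom_ext
      · simp only [Preadditive.add_comp, Preadditive.comp_add, Category.assoc, biprod.inl_fst_assoc,
          biprod.lift_fst, biprod.inl_desc_assoc, biprod.inr_fst, Category.comp_id, Category.id_comp,
          biprod.inl_fst, add_zero]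
      · simp only [Preadditive.add_comp, Preadditive.comp_add, Category.assoc, biprod.inl_fst_assoc,
          biprod.lift_snd, biprod.inl_desc_assoc, biprod.inr_snd, Category.comp_id, Category.id_comp,
          biprod.inl_snd, neg_add_cancel]
    · apply biprod.hom_ext
      · simp only [Preadditive.add_comp, Preadditive.comp_add, Category.assoc, biprod.inr_fst_assoc,
          biprod.lift_fst, biprod.inr_desc_assoc, biprod.inr_fst, Category.comp_id, Category.id_comp,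
          zero_comp, add_zero]
      · simp only [Preadditive.add_comp, Preadditive.comp_add, Category.assoc, biprod.inr_fst_assoc,
          biprod.lift_snd, biprod.inr_desc_assoc, biprod.inr_snd, Category.comp_id, Category.id_comp,
          zero_comp, zero_add]

theorem S₂_shortExact (X : TopCat.{u}) : (S₂ X).ShortExact := (S₂splitting X).shortExact

/-- The Mayer-Vietoris short complex of the quotients `Q_W`. -/
noncomputable abbrev S₃ (U U' : Opens X) : ShortComplex (CohTop.Ab X) :=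
  ShortComplex.mk
    (biprod.lift (qm (inf_le_left : U ⊓ U' ≤ U)) (-(qm (inf_le_right : U ⊓ U' ≤ U'))))
    (biprod.desc (qm (le_sup_left : U ≤ U ⊔ U')) (qm (le_sup_right : U' ≤ U ⊔ U')))
    (by
      rw [biprod.lift_desc, Preadditive.neg_comp, qm_comp, qm_comp]
      exact add_neg_cancel _)

/-- The levelwise mono `S₁ ⟶ S₂`. -/
noncomputable def φ (U U' : Opens X) : S₁ U U' ⟶ S₂ X where
  τ₁ := zm le_top
  τ₂ := biprod.map (zm le_top) (zm le_top)
  τ₃ := zm le_top
  comm₁₂ := by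
    dsimp [S₁, S₂]
    apply biprod.hom_ext <;> simp [zm_comp]
  comm₂₃ := by
    dsimp [S₁, S₂]
    apply biprod.hom_ext' <;> simp [zm_comp]

/-- The levelwise cokernel projection `S₂ ⟶ S₃`. -/
noncomputable def ψ (U U' : Opens X) : S₂ X ⟶ S₃ U U' where
  τ₁ := qπ (U ⊓ U')
  τ₂ := biprod.map (qπ U) (qπ U')
  τ₃ := qπ (U ⊔ U')
  comm₁₂ := by
    dsimp [S₃, S₂]
    apply biprod.hom_ext <;> simp [qπ_qm]
  comm₂₃ := by
    dsimp [S₃, S₂]
    apply biprod.hom_ext' <;> simp [qπ_qm]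

theorem φ_ψ (U U' : Opens X) : φ U U' ≫ ψ U U' = 0 := by
  apply ShortComplex.hom_ext
  · exact cokernel.condition _
  · dsimp [φ, ψ]
    apply biprod.hom_ext'
    · rw [biprod.inl_map_assoc, biprod.inl_map, ← Category.assoc, cokernel.condition, zero_comp,
        comp_zero]
    · rw [biprod.inr_map_assoc, biprod.inr_map, ← Category.assoc, cokernel.condition, zero_comp,
        comp_zero]
  · exact cokernel.condition _

theorem S₃_shortExact (U U' : Opens X) : (S₃ U U').ShortExact := by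
  have i₁ : Mono (φ U U').τ₁ := mono_zm _
  have i₃ : Mono (φ U U').τ₃ := mono_zm _
  have i₂ : Mono (φ U U').τ₂ := by
    have a := mono_zm (le_top : U ≤ ⊤)
    have b := mono_zm (le_top : U' ≤ ⊤)
    exact biprod.map_mono _ _
  refine shortExact_of_cokernel (φ U U') (ψ U U') (φ_ψ U U') (S₁_shortExact U U')
    (S₂_shortExact X) ?_ ?_ ?_
  · exact cokernelIsCokernel _
  · exact isColimitBiprodMap _ _
  · exact cokernelIsCokernel _

/-- Mayer-Vietoris for cohomology with supports. -/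
theorem main (F : CohTop.Ab X) (U U' : Opens X) :
    Function.Injective (fun x : LocCohZ.HZc F 0 (U ⊔ U') =>
      (LocCohZ.resZ F 0 (le_top : U ⊔ U' ≤ ⊤) (le_top : U ≤ ⊤) le_sup_left le_rfl x,
       LocCohZ.resZ F 0 (le_top : U ⊔ U' ≤ ⊤) (le_top : U' ≤ ⊤) le_sup_right le_rfl x)) ∧
    ∃ δ : ∀ i : ℕ, LocCohZ.HZc F i (U ⊓ U') →+ LocCohZ.HZc F (i + 1) (U ⊔ U'),
      ∀ i : ℕ,
        (∀ y : LocCohZ.HZc F i U × LocCohZ.HZc F i U',
          LocCohZ.resZ F i (le_top : U ≤ ⊤) (le_top : U ⊓ U' ≤ ⊤) inf_le_left le_rfl y.1 -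
              LocCohZ.resZ F i (le_top : U' ≤ ⊤) (le_top : U ⊓ U' ≤ ⊤) inf_le_right le_rfl y.2 = 0 ↔
            ∃ x : LocCohZ.HZc F i (U ⊔ U'),
              LocCohZ.resZ F i (le_top : U ⊔ U' ≤ ⊤) (le_top : U ≤ ⊤) le_sup_left le_rfl x = y.1 ∧
              LocCohZ.resZ F i (le_top : U ⊔ U' ≤ ⊤) (le_top : U' ≤ ⊤) le_sup_right le_rfl x = y.2) ∧
        (∀ w : LocCohZ.HZc F i (U ⊓ U'),
          δ i w = 0 ↔ ∃ y : LocCohZ.HZc F i U × LocCohZ.HZc F i U',
            LocCohZ.resZ F i (le_top : U ≤ ⊤) (le_top : U ⊓ U' ≤ ⊤) inf_le_left le_rfl y.1 -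
              LocCohZ.resZ F i (le_top : U' ≤ ⊤) (le_top : U ⊓ U' ≤ ⊤) inf_le_right le_rfl y.2 = w) ∧
        (∀ x : LocCohZ.HZc F (i + 1) (U ⊔ U'),
          (LocCohZ.resZ F (i + 1) (le_top : U ⊔ U' ≤ ⊤) (le_top : U ≤ ⊤) le_sup_left le_rfl x = 0 ∧
            LocCohZ.resZ F (i + 1) (le_top : U ⊔ U' ≤ ⊤) (le_top : U' ≤ ⊤) le_sup_right le_rfl x = 0) ↔
            ∃ w : LocCohZ.HZc F i (U ⊓ U'), δ i w = x) :=
  ext_mv (qm (inf_le_left : U ⊓ U' ≤ U)) (qm (inf_le_right : U ⊓ U' ≤ U'))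
    (qm (le_sup_left : U ≤ U ⊔ U')) (qm (le_sup_right : U' ≤ U ⊔ U')) (S₃ U U').zero
    (S₃_shortExact U U') F

end Concrete

end Groth.Agent.Lib.Helper5.MVSupp
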