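import Groth.Agent.Lib.Helper5.OpenLocal
import Groth.Agent.Lib.Helper5.FDConv
import Groth.Agent.Lib.Helper5.FDCech

/-!
# Cohomological descent of a continuous map is local on the base

The Čech diagram of the base change of `u : X ⟶ S` to an open subset `V` of `S` is identified with
the part over `V` of the Čech diagram of `u`.  Hence `u` is of cohomological descent as soon as
its base changes to the members of an open covering of `S` are.
-/

set_option autoImplicit false
set_option backward.isDefEq.respectTransparency false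
set_option backward.isDefEq.respectTransparency.types false

universe u

open CategoryTheory CategoryTheory.Limits Opposite TopologicalSpace Topology
open FibDesc FibSite

noncomputable section

namespace Groth.Agent.Lib.Helper5.OpenCech

open Groth.Agent.Lib.Helper5.DSite Groth.Agent.Lib.Helper5.DPull
  Groth.Agent.Lib.Helper5.DeltaSite Groth.Agent.Lib.Helper5.LimPush
  Groth.Agent.Lib.Helper5.LimAdj Groth.Agent.Lib.Helper5.CechDiag
  Groth.Agent.Lib.Helper5.ProperDescent Groth.Agent.Lib.Helper5.DeltaCmp
  Groth.Agent.Lib.Helper5.DRestr Groth.Agent.Lib.Helper5.DOpen Groth.Agent.Lib.Helper5.OpenLocal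
  Groth.Agent.Lib.Helper5.FDCech

/-! ### restriction of the index category -/

section restr

variable {I I' : Type u} [Category.{u} I] [Category.{u} I'] (φ : I' ⥤ I) {S : TopCat.{u}}
  {V : Opens S} {D' : OverS I (TopCat.of V)} {D : OverS I S}

/-- the part over an open subset of a restricted diagram -/
def restrOpenSub (o : OpenSub D' D) : OpenSub (D'.restr φ) (D.restr φ) where
  e i' := o.e (φ.obj i')
  he i' := o.he (φ.obj i')
  nat α w := o.nat (φ.map α) w
  hπ i' w := o.hπ (φ.obj i') w
  cart i' z hz := o.cart (φ.obj i') z hz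

end restr

/-! ### the base change of a map to an open subset -/

variable {X S : TopCat.{u}} (u : X ⟶ S) (V : Opens S)

/-- the inclusion of an open subset -/
abbrev jV : TopCat.of V ⟶ S := TopCat.ofHom ⟨Subtype.val, continuous_subtype_val⟩

/-- the base change of `u` to an open subset -/
abbrev uV : pullback u (jV V) ⟶ TopCat.of V := pullback.snd u (jV V)

lemma u_fst (p : ↑(pullback u (jV V))) : u (pullback.fst u (jV V) p) = (uV u V p).1 :=
  ConcreteCategory.congr_hom (pullback.condition (f := u) (g := jV V)) p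

lemma pb_ext {p p' : ↑(pullback u (jV V))}
    (h1 : pullback.fst u (jV V) p = pullback.fst u (jV V) p')
    (h2 : pullback.snd u (jV V) p = pullback.snd u (jV V) p') : p = p' := by
  have hinj : Function.Injective (TopCat.pullbackIsoProdSubtype u (jV V)).hom :=
    (TopCat.homeoOfIso (TopCat.pullbackIsoProdSubtype u (jV V))).injective
  apply hinj
  rw [TopCat.pullbackIsoProdSubtype_hom_apply, TopCat.pullbackIsoProdSubtype_hom_apply]
  exact Subtype.ext (Prod.ext h1 h2)

/-- a point of the pullback -/
def pbPt (x : X) (v : V) (h : u x = v.1) : ↑(pullback u (jV V)) :=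
  (TopCat.pullbackIsoProdSubtype u (jV V)).inv ⟨(x, v), h⟩

lemma fst_pbPt (x : X) (v : V) (h : u x = v.1) : pullback.fst u (jV V) (pbPt u V x v h) = x :=
  TopCat.pullbackIsoProdSubtype_inv_fst_apply u (jV V) ⟨(x, v), h⟩

lemma snd_pbPt (x : X) (v : V) (h : u x = v.1) : pullback.snd u (jV V) (pbPt u V x v h) = v :=
  TopCat.pullbackIsoProdSubtype_inv_snd_apply u (jV V) ⟨(x, v), h⟩

/-- the embedding of the fibre powers of the base change -/
def eC (n : ℕ) : XcT (uV u V) n ⟶ XcT u n :=
  TopCat.ofHom ⟨fun w => ⟨(w.1.1.1, fun k => pullback.fst u (jV V) (w.1.2 k)), fun k => by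
      change u (pullback.fst u (jV V) (w.1.2 k)) = w.1.1.1
      rw [u_fst]
      exact congrArg Subtype.val (w.2 k)⟩,
    Continuous.subtype_mk
      ((continuous_subtype_val.comp (continuous_fst.comp continuous_subtype_val)).prodMk
        (continuous_pi fun k => (pullback.fst u (jV V)).hom.continuous.comp
          ((continuous_apply k).comp (continuous_snd.comp continuous_subtype_val)))) _⟩

lemma πc_eC (n : ℕ) (w : XcT (uV u V) n) : πc u n (eC u V n w) = (πc (uV u V) n w).1 := rfl

lemma prc_eC (n : ℕ) (k : Fin n) (w : XcT (uV u V) n) :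
    prc u n k (eC u V n w) = pullback.fst u (jV V) (prc (uV u V) n k w) := rfl

lemma injective_eC (n : ℕ) : Function.Injective (eC u V n) := by
  intro w w' h
  have h0 : (πc (uV u V) n w) = (πc (uV u V) n w') :=
    Subtype.ext (congrArg (fun z => πc u n z) h)
  apply Xc_ext
  · exact h0
  · intro k
    apply pb_ext
    · exact congrArg (fun z => prc u n k z) h
    · exact (f_prc (uV u V) n k w).trans (h0.trans (f_prc (uV u V) n k w').symm)

/-- the part of the fibre power over the open subset -/
abbrev Ωn (n : ℕ) : Opens (XcT u n) := (Opens.map (πc u n)).obj V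

/-- the inverse of the embedding on the part over the open subset -/
def rC (n : ℕ) (z : ↥(Ωn u V n)) : XcT (uV u V) n :=
  ⟨(⟨z.1.1.1, z.2⟩, fun k => pbPt u V (z.1.1.2 k) ⟨z.1.1.1, z.2⟩ (z.1.2 k)),
    fun k => snd_pbPt u V _ _ _⟩

lemma continuous_rC (n : ℕ) : Continuous (rC u V n) := by
  have h1 : Continuous (fun z : ↥(Ωn u V n) => (z.1.1.1 : S)) :=
    continuous_fst.comp (continuous_subtype_val.comp continuous_subtype_val)
  have h2 : ∀ k, Continuous (fun z : ↥(Ωn u V n) => (z.1.1.2 k : X)) := fun k =>
    (continuous_apply k).comp (continuous_snd.comp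
      (continuous_subtype_val.comp continuous_subtype_val))
  have h3 : Continuous (fun z : ↥(Ωn u V n) => (⟨z.1.1.1, z.2⟩ : V)) := h1.subtype_mk _
  refine Continuous.subtype_mk (h3.prodMk (continuous_pi fun k => ?_)) _
  have h4 : Continuous (fun z : ↥(Ωn u V n) =>
      (⟨(z.1.1.2 k, ⟨z.1.1.1, z.2⟩), z.1.2 k⟩ : {p : X × V // u p.1 = jV V p.2})) :=
    ((h2 k).prodMk h3).subtype_mk _
  exact (TopCat.pullbackIsoProdSubtype u (jV V)).inv.hom.continuous.comp h4

lemma eC_rC (n : ℕ) (z : ↥(Ωn u V n)) : eC u V n (rC u V n z) = z.1 := by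
  apply Xc_ext
  · rfl
  · intro k
    exact fst_pbPt u V _ _ _

lemma mem_Ωn_eC (n : ℕ) (w : XcT (uV u V) n) : eC u V n w ∈ Ωn u V n :=
  (πc (uV u V) n w).2

lemma rC_eC (n : ℕ) (w : XcT (uV u V) n) : rC u V n ⟨eC u V n w, mem_Ωn_eC u V n w⟩ = w :=
  injective_eC u V n (eC_rC u V n _)

lemma isOpenEmbedding_eC (n : ℕ) : IsOpenEmbedding (eC u V n) := by
  let h : XcT (uV u V) n ≃ₜ ↥(Ωn u V n) :=
    { toFun := fun w => ⟨eC u V n w, mem_Ωn_eC u V n w⟩
      invFun := rC u V n
      left_inv := rC_eC u V n
      right_inv := fun z => Subtype.ext (eC_rC u V n z)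
      continuous_toFun := (eC u V n).hom.continuous.subtype_mk _
      continuous_invFun := continuous_rC u V n }
  have h1 : IsOpenEmbedding (Subtype.val : ↥(Ωn u V n) → XcT u n) :=
    (Ωn u V n).isOpen.isOpenEmbedding_subtypeVal
  exact h1.comp h.isOpenEmbedding

/-- the Čech diagram of the base change is the part of the Čech diagram over the open subset -/
def openSubDf : OpenSub (Df (uV u V)) (Df u) where
  e a := eC u V (a.n + 1)
  he a := isOpenEmbedding_eC u V (a.n + 1)
  nat α w := rfl
  hπ a w := rfl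
  cart a z hz := ⟨rC u V (a.n + 1) ⟨z, hz⟩, eC_rC u V (a.n + 1) ⟨z, hz⟩⟩

/-- **cohomological descent is local on the base** -/
theorem isCohDescentMap_of_openCover {κ : Type u} (V : κ → Opens S) (hV : iSup V = ⊤)
    (h : ∀ a, IsCohDescentMap (uV u (V a))) : IsCohDescentMap u := by
  have hU : ∀ (a : κ) (F' : CohTop.Ab (TopCat.of (V a))),
      IsIso (unitL (DΔ (Df (uV u (V a)))) F') := by
    intro a F'
    have h1 : IsIso (adjL (DΔ (Df (uV u (V a))))).unit :=
      FDConv.isIso_unit (cmpCech (uV u (V a))) (h a)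
    rw [← adjL_unit_app]
    infer_instance
  have hA : ∀ (a : κ) (F' : CohTop.Ab (TopCat.of (V a))) (q : ℕ),
      IsZero (((limPush (DΔ (Df (uV u (V a))))).rightDerived (q + 1)).obj
        ((pullS (DΔ (Df (uV u (V a))))).obj F')) :=
    fun a F' q => FDConv.isZero_RD (cmpCech (uV u (V a))) (h a) F' q
  refine FDMain.isCohDescentTop (cmpCech u) ?_ ?_
  · have h1 : ∀ F, IsIso ((adjL (DΔ (Df u))).unit.app F) := by
      intro F
      rw [adjL_unit_app]
      exact isIso_unitL_of_cover V hV (DΔ (Df u)) (fun a => DΔ (Df (uV u (V a))))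
        (fun a => restrOpenSub jΔ (openSubDf u (V a))) hU F
    exact NatIso.isIso_of_isIso_app _
  · exact isZero_RD_of_cover V hV (DΔ (Df u)) (fun a => DΔ (Df (uV u (V a))))
      (fun a => restrOpenSub jΔ (openSubDf u (V a))) hA

end Groth.Agent.Lib.Helper5.OpenCech
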