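import Groth.Prelude.Def_CohCx
import Groth.Prelude.Def_FreeSh
import Groth.Agent.Lib.Helper13.AdjCx
import Groth.Agent.Lib.Helper20.ExtByZero
import Mathlib.Algebra.Homology.DerivedCategory.ExactFunctor
import Mathlib.CategoryTheory.Localization.Adjunction
import Mathlib.Topology.Sheaves.Over

/-!
# Cohomology of an object of the derived category over an open subset

For an object `K` of the derived category of abelian sheaves on a space `X` and an open `U`, the
group `H^p(U, K)` is the group `H^p(U, K|_U)`: extension by zero is exact and left adjoint to the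
restriction, hence the adjunction passes to the derived categories, and the extension by zero of
the free sheaf on the whole of `U` is the free sheaf on `U`.
-/

set_option autoImplicit false

universe u

open CategoryTheory CategoryTheory.Limits Opposite TopologicalSpace

noncomputable section

namespace Groth.Agent.Lib.Helper5.OpenDerived

open Groth.Agent.Lib.Helper20.ExtByZero

/-! ### generalities -/

/-- conjugation by isomorphisms, as an additive equivalence -/
def homCongrAdd {C : Type*} [Category C] [Preadditive C] {A A' B B' : C} (i : A ≅ A')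
    (j : B ≅ B') : (A ⟶ B) ≃+ (A' ⟶ B') where
  toFun f := i.inv ≫ f ≫ j.hom
  invFun g := i.hom ≫ g ≫ j.inv
  left_inv f := by simp
  right_inv g := by simp
  map_add' f g := by simp [Preadditive.add_comp, Preadditive.comp_add]

variable {X : TopCat.{u}} (U : Opens X)

instance restr_additive : (CohTop.restrFunctor U).Additive where

/-- extension by zero from an open subset -/
def L : CohTop.Ab (TopCat.of U) ⥤ CohTop.Ab X :=
  (U.sheafEquivOver (A := AddCommGrpCat.{u})).inverse ⋙
    extByZero (Opens.grothendieckTopology X) U

/-- extension by zero is left adjoint to the restriction -/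
def adj : L U ⊣ CohTop.restrFunctor U :=
  (U.sheafEquivOver (A := AddCommGrpCat.{u})).symm.toAdjunction.comp
    (extByZeroAdj (Opens.grothendieckTopology X) U)

instance : (L U).Additive := (adj U).left_adjoint_additive

instance : PreservesFiniteLimits (L U) := by
  unfold L
  infer_instance

instance : PreservesFiniteColimits (L U) := by
  have := (adj U).leftAdjoint_preservesColimits
  infer_instance

/-! ### sections over the whole open subset -/

lemma functor_top : U.isOpenEmbedding.isOpenMap.functor.obj ⊤ = U := by
  ext x
  constructor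
  · rintro ⟨y, -, rfl⟩
    exact y.2
  · intro hx
    exact ⟨⟨x, hx⟩, trivial, rfl⟩

/-- the sections of the restriction over the whole of `U` -/
def secTop (G : CohTop.Ab X) :
    ((CohTop.restrFunctor U).obj G).obj.obj (op ⊤) ≃+ G.obj.obj (op U) :=
  (G.obj.mapIso (eqToIso (functor_top U).symm).op).addCommGroupIsoToAddEquiv

lemma secTop_natural {G G' : CohTop.Ab X} (g : G ⟶ G')
    (s : ((CohTop.restrFunctor U).obj G).obj.obj (op ⊤)) :
    secTop U G' ((((CohTop.restrFunctor U).map g).hom.app (op ⊤)).hom s) =
      (g.hom.app (op U)).hom (secTop U G s) := by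
  have h := ConcreteCategory.congr_hom
    (g.hom.naturality (eqToIso (functor_top U).symm).op.hom) s
  rw [ConcreteCategory.comp_apply, ConcreteCategory.comp_apply] at h
  exact h.symm

/-! ### the extension by zero of the free sheaf -/

/-- the free sheaf on the whole of `U` -/
abbrev Z : CohTop.Ab (TopCat.of U) :=
  CohCx.freeSheaf (Opens.grothendieckTopology (TopCat.of U)) ⊤

/-- the free sheaf on `U` -/
abbrev ZX : CohTop.Ab X := CohCx.freeSheaf (Opens.grothendieckTopology X) U

/-- morphisms out of the extension by zero of the free sheaf are morphisms out of the free sheaf -/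
def φ (G : CohTop.Ab X) : ((L U).obj (Z U) ⟶ G) ≃+ (ZX U ⟶ G) :=
  ((adj U).homAddEquiv (Z U) G).trans
    ((CohFree.homEquivSect (Opens.grothendieckTopology (TopCat.of U)) ⊤
      ((CohTop.restrFunctor U).obj G)).trans
      ((secTop U G).trans (CohFree.homEquivSect (Opens.grothendieckTopology X) U G).symm))

lemma homEquivSect_comp {C : Type u} [SmallCategory C] (J : GrothendieckTopology C) (V : C)
    {F F' : Sheaf J AddCommGrpCat.{u}} (a : CohCx.freeSheaf J V ⟶ F) (g : F ⟶ F') :
    CohFree.homEquivSect J V F' (a ≫ g) = (g.hom.app (op V)).hom (CohFree.homEquivSect J V F a) :=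
  rfl

lemma φ_apply (G : CohTop.Ab X) (f : (L U).obj (Z U) ⟶ G) :
    CohFree.homEquivSect (Opens.grothendieckTopology X) U G (φ U G f) =
      secTop U G (CohFree.homEquivSect (Opens.grothendieckTopology (TopCat.of U)) ⊤
        ((CohTop.restrFunctor U).obj G) ((adj U).homEquiv (Z U) G f)) := by
  change (CohFree.homEquivSect (Opens.grothendieckTopology X) U G)
    ((CohFree.homEquivSect (Opens.grothendieckTopology X) U G).symm _) = _
  rw [AddEquiv.apply_symm_apply]
  rfl

lemma φ_natural {G G' : CohTop.Ab X} (f : (L U).obj (Z U) ⟶ G) (g : G ⟶ G') :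
    φ U G' (f ≫ g) = φ U G f ≫ g := by
  apply (CohFree.homEquivSect (Opens.grothendieckTopology X) U G').injective
  rw [homEquivSect_comp, φ_apply, φ_apply, Adjunction.homEquiv_naturality_right,
    homEquivSect_comp, secTop_natural]

/-- **the extension by zero of the free sheaf on the whole of `U` is the free sheaf on `U`** -/
def freeIso : ZX U ≅ (L U).obj (Z U) where
  hom := φ U _ (𝟙 _)
  inv := (φ U (ZX U)).symm (𝟙 _)
  hom_inv_id := by
    rw [← φ_natural, Category.id_comp, AddEquiv.apply_symm_apply]
  inv_hom_id := by
    apply (φ U _).injective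
    rw [φ_natural, AddEquiv.apply_symm_apply, Category.id_comp]

/-! ### the derived adjunction -/

section derived

variable [HasDerivedCategory.{u} (CohTop.Ab X)] [HasDerivedCategory.{u} (CohTop.Ab (TopCat.of U))]
  [PreservesFiniteLimits (CohTop.restrFunctor U)] [PreservesFiniteColimits (CohTop.restrFunctor U)]

instance : CatCommSq ((L U).mapHomologicalComplex (ComplexShape.up ℤ)) DerivedCategory.Q
    DerivedCategory.Q (L U).mapDerivedCategory :=
  ⟨(L U).mapDerivedCategoryFactors.symm⟩

instance : CatCommSq ((CohTop.restrFunctor U).mapHomologicalComplex (ComplexShape.up ℤ))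
    DerivedCategory.Q DerivedCategory.Q (CohTop.restrFunctor U).mapDerivedCategory :=
  ⟨(CohTop.restrFunctor U).mapDerivedCategoryFactors.symm⟩

/-- the adjunction between the derived categories -/
def adjD : (L U).mapDerivedCategory ⊣ (CohTop.restrFunctor U).mapDerivedCategory :=
  (Groth.Agent.Lib.Helper13.Kan.adjCx (adj U) (ComplexShape.up ℤ)).localization
    DerivedCategory.Q
    (HomologicalComplex.quasiIso (CohTop.Ab (TopCat.of U)) (ComplexShape.up ℤ))
    DerivedCategory.Q
    (HomologicalComplex.quasiIso (CohTop.Ab X) (ComplexShape.up ℤ))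
    (L U).mapDerivedCategory (CohTop.restrFunctor U).mapDerivedCategory

/-- **cohomology over an open subset is the cohomology of the restriction** -/
theorem nonempty_HDU_addEquiv (K : DerivedCategory (CohTop.Ab X)) (p : ℤ) :
    Nonempty (CohCx.HDU K p U ≃+
      CohCx.HDU ((CohTop.restrFunctor U).mapDerivedCategory.obj K) p ⊤) := by
  let e1 : (DerivedCategory.singleFunctor (CohTop.Ab X) 0).obj (ZX U) ≅
      (L U).mapDerivedCategory.obj
        ((DerivedCategory.singleFunctor (CohTop.Ab (TopCat.of U)) 0).obj (Z U)) :=
    (DerivedCategory.singleFunctor (CohTop.Ab X) 0).mapIso (freeIso U) ≪≫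
      (((L U).mapDerivedCategorySingleFunctor 0).app (Z U)).symm
  let e2 : (CohTop.restrFunctor U).mapDerivedCategory.obj
      ((shiftFunctor (DerivedCategory (CohTop.Ab X)) p).obj K) ≅
      (shiftFunctor (DerivedCategory (CohTop.Ab (TopCat.of U))) p).obj
        ((CohTop.restrFunctor U).mapDerivedCategory.obj K) :=
    ((CohTop.restrFunctor U).mapDerivedCategory.commShiftIso p).app K
  exact ⟨(homCongrAdd e1 (Iso.refl _)).trans
    (((adjD U).homAddEquiv _ _).trans (homCongrAdd (Iso.refl _) e2))⟩

end derived

end Groth.Agent.Lib.Helper5.OpenDerived
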