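import Groth.Agent.Lib.Helper5.DOpenAcyc
import Groth.Agent.Lib.Helper5.DOpenPull

/-!
# The conditions of cohomological descent for a diagram of spaces are local on the base

Let `D` be a simplicial diagram of spaces over `S` and `(V a)` an open covering of `S`, and for
each `a` let `D' a` be a diagram over `V a` identified with the part of `D` over `V a`.  If for
each `a` the unit of the adjunction for `D' a` is an isomorphism (resp. the inverse images are
acyclic for the direct image), then the same holds for `D`.
-/

set_option autoImplicit false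

universe u

open CategoryTheory CategoryTheory.Limits Opposite TopologicalSpace Topology Simplicial

noncomputable section

namespace Groth.Agent.Lib.Helper5.OpenLocal

open Groth.Agent.Lib.Helper5.DSite Groth.Agent.Lib.Helper5.DPull Groth.Agent.Lib.Helper5.GermFam
  Groth.Agent.Lib.Helper5.LimPush Groth.Agent.Lib.Helper5.LimAdj Groth.Agent.Lib.Helper5.DeltaSite
  Groth.Agent.Lib.Helper5.DOpen Groth.Agent.Lib.Helper5.DOpenAcyc
  Groth.Agent.Lib.Helper5.DOpenPull Groth.Agent.Lib.Helper22.CohTop

/-! ### vanishing and invertibility are local -/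

section locality

variable {S : TopCat.{u}} {κ : Type u} (V : κ → Opens S) (hV : iSup V = ⊤)

include hV in
lemma isZero_of_restr (G : CohTop.Ab S)
    (h : ∀ a, IsZero ((CohTop.restrFunctor (V a)).obj G)) : IsZero G := by
  rw [IsZero.iff_id_eq_zero]
  apply CategoryTheory.Sheaf.hom_ext
  ext W x
  obtain ⟨W⟩ := W
  have hx : x = 0 := by
    let N' : ∀ a, Opens (TopCat.of (V a)) := fun a => (Opens.map (V a).inclusion').obj W
    have hle : ∀ a, (ιU (V a)).obj (N' a) ≤ W := by
      intro a
      rintro _ ⟨z, hz, rfl⟩
      exact hz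
    refine TopCat.Sheaf.eq_of_locally_eq' G (fun a => (ιU (V a)).obj (N' a)) W
      (fun a => homOfLE (hle a)) ?_ x 0 (fun a => ?_)
    · intro w hw
      have hw' : w ∈ iSup V := by
        rw [hV]
        trivial
      obtain ⟨a, ha⟩ := Opens.mem_iSup.1 hw'
      exact Opens.mem_iSup.2 ⟨a, ⟨⟨w, ha⟩, hw, rfl⟩⟩
    · have hz : IsZero (((CohTop.restrFunctor (V a)).obj G).obj.obj (op (N' a))) :=
        Functor.map_isZero (sheafToPresheaf _ AddCommGrpCat.{u} ⋙
          (evaluation (Opens (TopCat.of (V a)))ᵒᵖ AddCommGrpCat.{u}).obj (op (N' a))) (h a)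
      haveI : Subsingleton (((CohTop.restrFunctor (V a)).obj G).obj.obj (op (N' a))) :=
        AddCommGrpCat.subsingleton_of_isZero hz
      exact Subsingleton.elim (α := ((CohTop.restrFunctor (V a)).obj G).obj.obj (op (N' a))) _ _
  rw [hx]
  simp

include hV in
lemma isIso_of_restr {F G : CohTop.Ab S} (φ : F ⟶ G)
    (h : ∀ a, IsIso ((CohTop.restrFunctor (V a)).map φ)) : IsIso φ := by
  have hk : IsZero (kernel φ) := isZero_of_restr V hV _ (fun a => by
    have e := PreservesKernel.iso (CohTop.restrFunctor (V a)) φ
    haveI := h a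
    exact IsZero.of_iso (isZero_kernel_of_mono _) e)
  have hc : IsZero (cokernel φ) := isZero_of_restr V hV _ (fun a => by
    have e := PreservesCokernel.iso (CohTop.restrFunctor (V a)) φ
    haveI := h a
    exact IsZero.of_iso (isZero_cokernel_of_epi _) e)
  haveI : Mono φ := Preadditive.mono_of_isZero_kernel φ hk
  haveI : Epi φ := Preadditive.epi_of_isZero_cokernel φ hc
  exact isIso_of_mono_of_epi φ

end locality

/-! ### the conditions of cohomological descent -/

section unit

variable {I : Type u} [Category.{u} I] {S : TopCat.{u}} {κ : Type u} (V : κ → Opens S)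
  (hV : iSup V = ⊤) (D : OverS I S) (D' : ∀ a, OverS I (TopCat.of (V a)))
  (o : ∀ a, OpenSub (D' a) D)

include hV o in
/-- **the unit is an isomorphism if it is so over the members of an open covering** -/
theorem isIso_unitL_of_cover
    (h : ∀ (a : κ) (F' : CohTop.Ab (TopCat.of (V a))), IsIso (unitL (D' a) F'))
    (F : CohTop.Ab S) : IsIso (unitL D F) :=
  isIso_of_restr V hV _ (fun a => isIso_restr_unit (o a) F (h a _))

end unit

section acyc

variable {S : TopCat.{u}} {κ : Type u} (V : κ → Opens S)
  (hV : iSup V = ⊤) (D : OverS 𝕀.{u} S) (D' : ∀ a, OverS 𝕀.{u} (TopCat.of (V a)))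
  (o : ∀ a, OpenSub (D' a) D)

include hV o in
/-- **the inverse images are acyclic if they are so over the members of an open covering** -/
theorem isZero_RD_of_cover
    (h : ∀ (a : κ) (F' : CohTop.Ab (TopCat.of (V a))) (q : ℕ),
      IsZero (((limPush (D' a)).rightDerived (q + 1)).obj ((pullS (D' a)).obj F')))
    (F : CohTop.Ab S) (q : ℕ) :
    IsZero (((limPush D).rightDerived (q + 1)).obj ((pullS D).obj F)) :=
  isZero_of_restr V hV _ (fun a => by
    have e1 := rdIso (o a) (q + 1) ((pullS D).obj F)
    haveI := isIso_θ (o a) F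
    have e2 := ((limPush (D' a)).rightDerived (q + 1)).mapIso (asIso (θ (o a) F))
    exact IsZero.of_iso (h a _ q) (e1 ≪≫ e2.symm))

end acyc

end Groth.Agent.Lib.Helper5.OpenLocal
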