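import Mathlib.Order.KrullDimension
import Mathlib.Topology.KrullDimension
import Mathlib.Topology.Sober
import Mathlib.Topology.Inseparable

set_option autoImplicit false

namespace Groth.Agent.Lib.Helper5

open Order

theorem height_le_of_strictGoingDown {α β : Type*} [Preorder α] [Preorder β] (f : α → β)
    (hgd : ∀ a b, b < f a → ∃ a', a' < a ∧ f a' = b) :
    ∀ (n : ℕ) (a : α), height a ≤ n → height (f a) ≤ n := by
  intro n
  induction n with
  | zero =>
    intro a ha
    rw [Nat.cast_zero, nonpos_iff_eq_zero, height_eq_zero] at ha ⊢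
    intro b hb
    by_contra hcon
    have hlt : b < f a := lt_of_le_not_ge hb hcon
    obtain ⟨a', ha', -⟩ := hgd a b hlt
    exact (ha'.not_ge (ha ha'.le)).elim
  | succ n ih =>
    intro a ha
    rw [height_le_coe_iff] at ha ⊢
    intro b hb
    obtain ⟨a', ha', rfl⟩ := hgd a b hb
    have h1 : height a' < (n + 1 : ℕ) := ha a' ha'
    have h2 : height a' ≤ n := by
      rw [Nat.cast_add, Nat.cast_one] at h1
      exact (ENat.lt_add_one_iff (ENat.natCast_ne_top n)).mp h1
    have h3 := ih a' h2
    rw [Nat.cast_add, Nat.cast_one]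
    exact (ENat.lt_add_one_iff (ENat.natCast_ne_top n)).mpr h3

theorem height_apply_le_of_strictGoingDown {α β : Type*} [Preorder α] [Preorder β] (f : α → β)
    (hgd : ∀ a b, b < f a → ∃ a', a' < a ∧ f a' = b) (a : α) : height (f a) ≤ height a := by
  rcases eq_or_ne (height a) ⊤ with h | h
  · rw [h]; exact le_top
  · obtain ⟨n, hn⟩ := ENat.ne_top_iff_exists.mp h
    rw [← hn]
    exact height_le_of_strictGoingDown f hgd n a hn.symm.le

theorem krullDim_le_of_strictGoingDown {α β : Type*} [Preorder α] [Preorder β] (f : α → β)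
    (hgd : ∀ a b, b < f a → ∃ a', a' < a ∧ f a' = b) (hf : Function.Surjective f) :
    krullDim β ≤ krullDim α := by
  rw [krullDim_eq_iSup_height, krullDim_eq_iSup_height]
  refine iSup_le fun b => ?_
  obtain ⟨a, rfl⟩ := hf b
  exact le_trans (WithBot.coe_le_coe.mpr (height_apply_le_of_strictGoingDown f hgd a))
    (le_iSup (fun a => (height a : WithBot ℕ∞)) a)

theorem krullDim_le_of_strictGoingUp {α β : Type*} [Preorder α] [Preorder β] (f : α → β)
    (hgu : ∀ a b, f a < b → ∃ a', a < a' ∧ f a' = b) (hf : Function.Surjective f) :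
    krullDim β ≤ krullDim α := by
  rw [← krullDim_orderDual (α := α), ← krullDim_orderDual (α := β)]
  exact krullDim_le_of_strictGoingDown (α := αᵒᵈ) (β := βᵒᵈ) f (fun a b h => hgu a b h) hf

end Groth.Agent.Lib.Helper5
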