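import Groth.Prelude.Def_CohPull
import Mathlib.Algebra.Homology.DerivedCategory.Ext.ExactSequences
import Mathlib.Algebra.Homology.DerivedCategory.Ext.EnoughInjectives
import Mathlib.CategoryTheory.Abelian.GrothendieckCategory.EnoughInjectives

/-!
# Functoriality of sheaf cohomology for pairs (space, abelian sheaf)

For `w : T' ⟶ T`, sheaves `G` on `T`, `G'` on `T'` and `m : G ⟶ w_* G'` we define
`P w m q : H^q(T, G) →+ H^q(T', G')` (pull back, then the transpose of `m`) and prove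
* `P_comp`: `P w' m' ∘ P w m = P (w' ≫ w) (m ≫ w_* m')`;
* `P_id`: `P (𝟙 T) m = H^q(m)`.
The proofs use the uniqueness of morphisms of δ-functors out of `H^*(T, -)`
(`DeltaCompat.ext`).
-/

set_option autoImplicit false

universe u

open CategoryTheory CategoryTheory.Limits Opposite TopologicalSpace Abelian

namespace Groth.Agent.Lib.Helper5.PairPull

section Basic

variable {X Y : TopCat.{u}} (f : X ⟶ Y)

lemma pullAb_apply (M : CohTop.Ab Y) (p : ℕ) (x : Sheaf.H M p) :
    CohPull.pullAb f M p x =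
      (Ext.mk₀ (CohPull.oneTo f)).comp (x.mapExactFunctor (CohPull.inv f)) (zero_add p) := rfl

lemma pullAb_map {M M' : CohTop.Ab Y} (φ : M ⟶ M') (p : ℕ) (x : Sheaf.H M p) :
    CohPull.pullAb f M' p (Sheaf.H.map φ p x) =
      Sheaf.H.map ((CohPull.inv f).map φ) p (CohPull.pullAb f M p x) := by
  rw [pullAb_apply, pullAb_apply, Sheaf.H.map_apply, Sheaf.H.map_apply,
    Ext.mapExactFunctor_comp, Ext.mapExactFunctor_mk₀, Ext.comp_assoc_of_third_deg_zero]

lemma pullAb_extClass {S : ShortComplex (CohTop.Ab Y)} (hS : S.ShortExact) (p : ℕ)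
    (x : Sheaf.H S.X₃ p) :
    CohPull.pullAb f S.X₁ (p + 1) (x.comp hS.extClass rfl) =
      (CohPull.pullAb f S.X₃ p x).comp (hS.map_of_exact (CohPull.inv f)).extClass rfl := by
  rw [pullAb_apply, pullAb_apply, Ext.mapExactFunctor_comp, Ext.mapExactFunctor_extClass]
  exact (Ext.comp_assoc _ _ _ (zero_add p) rfl (by omega)).symm

end Basic

/-! ### δ-compatible families -/

section Delta

variable {T T' T'' : TopCat.{u}}

/-- a family of maps `H^q(T, G) → H^q(T', E G)` compatible with connecting maps -/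
def DeltaCompat (E : CohTop.Ab T ⥤ CohTop.Ab T') [E.Additive]
    [PreservesFiniteLimits E] [PreservesFiniteColimits E]
    (α : ∀ (G : CohTop.Ab T) (q : ℕ), Sheaf.H G q →+ Sheaf.H (E.obj G) q) : Prop :=
  ∀ (S : ShortComplex (CohTop.Ab T)) (hS : S.ShortExact) (q : ℕ) (x : Sheaf.H S.X₃ q),
    α S.X₁ (q + 1) (x.comp hS.extClass rfl) =
      (α S.X₃ q x).comp (hS.map_of_exact E).extClass rfl

lemma deltaCompat_pullAb (w : T' ⟶ T) :
    DeltaCompat (CohPull.inv w) (fun G q => CohPull.pullAb w G q) :=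
  fun _ hS q x => pullAb_extClass w hS q x

/-- uniqueness of δ-compatible families with given degree zero part -/
theorem DeltaCompat.ext (E : CohTop.Ab T ⥤ CohTop.Ab T') [E.Additive]
    [PreservesFiniteLimits E] [PreservesFiniteColimits E]
    {α β : ∀ (G : CohTop.Ab T) (q : ℕ), Sheaf.H G q →+ Sheaf.H (E.obj G) q}
    (hα : DeltaCompat E α) (hβ : DeltaCompat E β)
    (h0 : ∀ (G : CohTop.Ab T) (x : Sheaf.H G 0), α G 0 x = β G 0 x) :
    ∀ (q : ℕ) (G : CohTop.Ab T) (x : Sheaf.H G q), α G q x = β G q x := by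
  intro q
  induction q with
  | zero => exact h0
  | succ q ih =>
    intro G x
    let S : ShortComplex (CohTop.Ab T) :=
      ShortComplex.mk (Injective.ι G) (cokernel.π (Injective.ι G)) (cokernel.condition _)
    have hS : S.ShortExact := { exact := ShortComplex.exact_cokernel _ }
    have : Injective S.X₂ := inferInstanceAs (Injective (Injective.under G))
    have h0' : x.comp (Ext.mk₀ S.f) (add_zero (q + 1)) = 0 := Ext.eq_zero_of_injective _
    obtain ⟨z, hz⟩ := Ext.covariant_sequence_exact₁ _ hS x h0' rfl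
    subst hz
    exact (hα S hS q z).trans ((congrArg
      (fun y => y.comp (hS.map_of_exact E).extClass rfl) (ih S.X₃ z)).trans (hβ S hS q z).symm)

/-- post-composition with a natural transformation -/
lemma DeltaCompat.postNat {E₁ E₂ : CohTop.Ab T ⥤ CohTop.Ab T'} [E₁.Additive]
    [PreservesFiniteLimits E₁] [PreservesFiniteColimits E₁] [E₂.Additive]
    [PreservesFiniteLimits E₂] [PreservesFiniteColimits E₂]
    {α : ∀ (G : CohTop.Ab T) (q : ℕ), Sheaf.H G q →+ Sheaf.H (E₁.obj G) q}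
    (hα : DeltaCompat E₁ α) (θ : E₁ ⟶ E₂) :
    DeltaCompat E₂ (fun G q => (Sheaf.H.map (θ.app G) q).comp (α G q)) := by
  intro S hS q x
  have h1 := hα S hS q x
  have h2 := ShortComplex.ShortExact.extClass_naturality (hS.map_of_exact E₁)
    (hS.map_of_exact E₂) (S.mapNatTrans θ)
  show Sheaf.H.map (θ.app S.X₁) (q + 1) (α S.X₁ (q + 1) (x.comp hS.extClass rfl)) =
    (Sheaf.H.map (θ.app S.X₃) q (α S.X₃ q x)).comp (hS.map_of_exact E₂).extClass rfl
  rw [Sheaf.H.map_apply, Sheaf.H.map_apply]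
  refine (congrArg (fun z => z.comp (Ext.mk₀ (θ.app S.X₁)) (add_zero (q + 1))) h1).trans ?_
  refine (Ext.comp_assoc_of_third_deg_zero _ _ _ _).trans ?_
  refine (congrArg (fun z => (α S.X₃ q x).comp z rfl) h2).trans ?_
  exact (Ext.comp_assoc_of_second_deg_zero _ _ _ _).symm

/-- composition of δ-compatible families -/
lemma DeltaCompat.comp {E₁ : CohTop.Ab T ⥤ CohTop.Ab T'} {E₂ : CohTop.Ab T' ⥤ CohTop.Ab T''}
    [E₁.Additive] [PreservesFiniteLimits E₁] [PreservesFiniteColimits E₁] [E₂.Additive]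
    [PreservesFiniteLimits E₂] [PreservesFiniteColimits E₂]
    {α : ∀ (G : CohTop.Ab T) (q : ℕ), Sheaf.H G q →+ Sheaf.H (E₁.obj G) q}
    {α' : ∀ (G : CohTop.Ab T') (q : ℕ), Sheaf.H G q →+ Sheaf.H (E₂.obj G) q}
    (hα : DeltaCompat E₁ α) (hα' : DeltaCompat E₂ α') :
    DeltaCompat (E₁ ⋙ E₂) (fun G q => (α' (E₁.obj G) q).comp (α G q)) := by
  intro S hS q x
  have h1 := hα S hS q x
  have h2 := hα' (S.map E₁) (hS.map_of_exact E₁) q (α S.X₃ q x)
  exact (congrArg (α' (E₁.obj S.X₁) (q + 1)) h1).trans h2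

lemma deltaCompat_id :
    DeltaCompat (𝟭 (CohTop.Ab T)) (fun G q => AddMonoidHom.id (Sheaf.H G q)) :=
  fun _ _ _ _ => rfl

end Delta

/-! ### The maps `P w m q` -/

section Pair

variable {T T' : TopCat.{u}} (w : T' ⟶ T)

/-- the transpose of `m : G ⟶ w_* G'` -/
noncomputable def flat {G : CohTop.Ab T} {G' : CohTop.Ab T'} (m : G ⟶ (CohTop.push w).obj G') :
    (CohPull.inv w).obj G ⟶ G' :=
  ((CohPull.invPushAdj w).homEquiv G G').symm m

lemma unit_flat {G : CohTop.Ab T} {G' : CohTop.Ab T'} (m : G ⟶ (CohTop.push w).obj G') :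
    (CohPull.invPushAdj w).unit.app G ≫ (CohTop.push w).map (flat w m) = m := by
  exact ((CohPull.invPushAdj w).homEquiv_unit G G' (flat w m)).symm.trans
    (Equiv.apply_symm_apply _ m)

lemma flat_unit (G : CohTop.Ab T) :
    flat w ((CohPull.invPushAdj w).unit.app G) = 𝟙 ((CohPull.inv w).obj G) := by
  apply ((CohPull.invPushAdj w).homEquiv G _).injective
  exact (Equiv.apply_symm_apply _ _).trans ((CohPull.invPushAdj w).homEquiv_id G).symm

lemma flat_comp_right {G : CohTop.Ab T} {G' G'' : CohTop.Ab T'}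
    (m : G ⟶ (CohTop.push w).obj G') (φ : G' ⟶ G'') :
    flat w (m ≫ (CohTop.push w).map φ) = flat w m ≫ φ :=
  (CohPull.invPushAdj w).homEquiv_naturality_right_symm m φ

lemma flat_comp_left {G₀ G : CohTop.Ab T} {G' : CohTop.Ab T'} (ψ : G₀ ⟶ G)
    (m : G ⟶ (CohTop.push w).obj G') :
    flat w (ψ ≫ m) = (CohPull.inv w).map ψ ≫ flat w m :=
  (CohPull.invPushAdj w).homEquiv_naturality_left_symm ψ m

/-- the map `H^q(T, G) → H^q(T', G')` attached to `m : G ⟶ w_* G'` -/
noncomputable def P {G : CohTop.Ab T} {G' : CohTop.Ab T'} (m : G ⟶ (CohTop.push w).obj G')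
    (q : ℕ) : Sheaf.H G q →+ Sheaf.H G' q :=
  (Sheaf.H.map (flat w m) q).comp (CohPull.pullAb w G q)

lemma P_apply {G : CohTop.Ab T} {G' : CohTop.Ab T'} (m : G ⟶ (CohTop.push w).obj G')
    (q : ℕ) (x : Sheaf.H G q) :
    P w m q x = Sheaf.H.map (flat w m) q (CohPull.pullAb w G q x) := rfl

lemma P_comp_right {G : CohTop.Ab T} {G' G'' : CohTop.Ab T'}
    (m : G ⟶ (CohTop.push w).obj G') (φ : G' ⟶ G'') (q : ℕ) (x : Sheaf.H G q) :
    Sheaf.H.map φ q (P w m q x) = P w (m ≫ (CohTop.push w).map φ) q x := by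
  rw [P_apply, P_apply, flat_comp_right, Sheaf.H.map_comp_apply]

lemma P_comp_left {G₀ G : CohTop.Ab T} {G' : CohTop.Ab T'} (ψ : G₀ ⟶ G)
    (m : G ⟶ (CohTop.push w).obj G') (q : ℕ) (x : Sheaf.H G₀ q) :
    P w m q (Sheaf.H.map ψ q x) = P w (ψ ≫ m) q x := by
  rw [P_apply, P_apply, flat_comp_left, pullAb_map, Sheaf.H.map_comp_apply]

lemma P_unit (G : CohTop.Ab T) (q : ℕ) (x : Sheaf.H G q) :
    P w ((CohPull.invPushAdj w).unit.app G) q x = CohPull.pullAb w G q x := by
  rw [P_apply, flat_unit]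
  exact Sheaf.H.map_id_apply _

lemma equiv₀_P {G : CohTop.Ab T} {G' : CohTop.Ab T'} (m : G ⟶ (CohTop.push w).obj G')
    (s : Sheaf.H G 0) :
    Sheaf.H.equiv₀ G' isTerminalTop (P w m 0 s) =
      m.hom.app (op ⊤) (Sheaf.H.equiv₀ G isTerminalTop s) := by
  rw [P_apply, ← Sheaf.H.equiv₀_naturality, CohPull.equiv₀_pullAb]
  have h := congrArg (fun t => (t.hom.app (op ⊤)) (Sheaf.H.equiv₀ G isTerminalTop s))
    (unit_flat w m)
  simp only [ObjectProperty.FullSubcategory.comp_hom, NatTrans.comp_app,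
    ConcreteCategory.comp_apply] at h
  exact h

end Pair

/-! ### Composition -/

section Comp

variable {T T' T'' : TopCat.{u}} (w : T' ⟶ T) (w' : T'' ⟶ T')

/-- the unit of the composite adjunction -/
noncomputable def unit₂ (G : CohTop.Ab T) :
    G ⟶ (CohTop.push (w' ≫ w)).obj ((CohPull.inv w').obj ((CohPull.inv w).obj G)) :=
  (CohPull.invPushAdj w).unit.app G ≫
    (CohTop.push w).map ((CohPull.invPushAdj w').unit.app ((CohPull.inv w).obj G))

lemma unit₂_naturality {G₁ G₂ : CohTop.Ab T} (φ : G₁ ⟶ G₂) :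
    φ ≫ unit₂ w w' G₂ = unit₂ w w' G₁ ≫
      (CohTop.push (w' ≫ w)).map ((CohPull.inv w').map ((CohPull.inv w).map φ)) := by
  have h1 : φ ≫ (CohPull.invPushAdj w).unit.app G₂ =
      (CohPull.invPushAdj w).unit.app G₁ ≫ (CohTop.push w).map ((CohPull.inv w).map φ) :=
    (CohPull.invPushAdj w).unit.naturality φ
  have h2 : (CohPull.inv w).map φ ≫ (CohPull.invPushAdj w').unit.app ((CohPull.inv w).obj G₂) =
      (CohPull.invPushAdj w').unit.app ((CohPull.inv w).obj G₁) ≫
        (CohTop.push w').map ((CohPull.inv w').map ((CohPull.inv w).map φ)) :=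
    (CohPull.invPushAdj w').unit.naturality ((CohPull.inv w).map φ)
  have h3 : (CohTop.push w).map ((CohPull.inv w).map φ) ≫
      (CohTop.push w).map ((CohPull.invPushAdj w').unit.app ((CohPull.inv w).obj G₂)) =
      (CohTop.push w).map ((CohPull.invPushAdj w').unit.app ((CohPull.inv w).obj G₁)) ≫
        (CohTop.push w).map ((CohTop.push w').map
          ((CohPull.inv w').map ((CohPull.inv w).map φ))) := by
    rw [← Functor.map_comp, ← Functor.map_comp, h2]
  calc φ ≫ unit₂ w w' G₂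
      = (φ ≫ (CohPull.invPushAdj w).unit.app G₂) ≫
          (CohTop.push w).map ((CohPull.invPushAdj w').unit.app ((CohPull.inv w).obj G₂)) :=
        (Category.assoc _ _ _).symm
    _ = ((CohPull.invPushAdj w).unit.app G₁ ≫ (CohTop.push w).map ((CohPull.inv w).map φ)) ≫
          (CohTop.push w).map ((CohPull.invPushAdj w').unit.app ((CohPull.inv w).obj G₂)) := by
        rw [h1]
    _ = (CohPull.invPushAdj w).unit.app G₁ ≫ ((CohTop.push w).map ((CohPull.inv w).map φ) ≫
          (CohTop.push w).map ((CohPull.invPushAdj w').unit.app ((CohPull.inv w).obj G₂))) :=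
        Category.assoc _ _ _
    _ = (CohPull.invPushAdj w).unit.app G₁ ≫
          ((CohTop.push w).map ((CohPull.invPushAdj w').unit.app ((CohPull.inv w).obj G₁)) ≫
          (CohTop.push w).map ((CohTop.push w').map
            ((CohPull.inv w').map ((CohPull.inv w).map φ)))) := by
        rw [h3]
    _ = _ := (Category.assoc _ _ _).symm

lemma unit₂_flat {G : CohTop.Ab T} {G'' : CohTop.Ab T''}
    (k : (CohPull.inv w).obj G ⟶ (CohTop.push w').obj G'') :
    unit₂ w w' G ≫ (CohTop.push (w' ≫ w)).map (flat w' k) =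
      (CohPull.invPushAdj w).unit.app G ≫ (CohTop.push w).map k := by
  have h : (CohTop.push w).map ((CohPull.invPushAdj w').unit.app ((CohPull.inv w).obj G)) ≫
      (CohTop.push w).map ((CohTop.push w').map (flat w' k)) = (CohTop.push w).map k := by
    rw [← Functor.map_comp, unit_flat]
  calc unit₂ w w' G ≫ (CohTop.push (w' ≫ w)).map (flat w' k)
      = (CohPull.invPushAdj w).unit.app G ≫
          ((CohTop.push w).map ((CohPull.invPushAdj w').unit.app ((CohPull.inv w).obj G)) ≫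
          (CohTop.push w).map ((CohTop.push w').map (flat w' k))) := Category.assoc _ _ _
    _ = _ := by rw [h]

/-- the comparison `(w' ≫ w)⁻¹ ⟶ w'⁻¹ w⁻¹` -/
noncomputable def theta : CohPull.inv (w' ≫ w) ⟶ CohPull.inv w ⋙ CohPull.inv w' where
  app G := flat (w' ≫ w) (unit₂ w w' G)
  naturality G₁ G₂ φ := by
    rw [← flat_comp_left, Functor.comp_map, ← flat_comp_right, unit₂_naturality]

lemma pullAb_pullAb (G : CohTop.Ab T) (q : ℕ) (x : Sheaf.H G q) :
    CohPull.pullAb w' ((CohPull.inv w).obj G) q (CohPull.pullAb w G q x) =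
      P (w' ≫ w) (unit₂ w w' G) q x := by
  have hα : DeltaCompat (CohPull.inv w ⋙ CohPull.inv w')
      (fun G q => (CohPull.pullAb w' ((CohPull.inv w).obj G) q).comp (CohPull.pullAb w G q)) :=
    (deltaCompat_pullAb w).comp (deltaCompat_pullAb w')
  have hβ : DeltaCompat (CohPull.inv w ⋙ CohPull.inv w')
      (fun G q => (Sheaf.H.map ((theta w w').app G) q).comp (CohPull.pullAb (w' ≫ w) G q)) :=
    (deltaCompat_pullAb (w' ≫ w)).postNat (theta w w')
  refine DeltaCompat.ext _ hα hβ (fun G s => ?_) q G x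
  apply (Sheaf.H.equiv₀ ((CohPull.inv w').obj ((CohPull.inv w).obj G)) isTerminalTop).injective
  have e1 : Sheaf.H.equiv₀ ((CohPull.inv w').obj ((CohPull.inv w).obj G)) isTerminalTop
      (CohPull.pullAb w' ((CohPull.inv w).obj G) 0 (CohPull.pullAb w G 0 s)) =
      ((CohPull.invPushAdj w').unit.app ((CohPull.inv w).obj G)).hom.app (op ⊤)
        (((CohPull.invPushAdj w).unit.app G).hom.app (op ⊤)
          (Sheaf.H.equiv₀ G isTerminalTop s)) := by
    rw [CohPull.equiv₀_pullAb, CohPull.equiv₀_pullAb]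
  have e2 : Sheaf.H.equiv₀ ((CohPull.inv w').obj ((CohPull.inv w).obj G)) isTerminalTop
      (P (w' ≫ w) (unit₂ w w' G) 0 s) =
      (unit₂ w w' G).hom.app (op ⊤) (Sheaf.H.equiv₀ G isTerminalTop s) :=
    equiv₀_P (w' ≫ w) (unit₂ w w' G) s
  exact e1.trans e2.symm

theorem P_comp {G : CohTop.Ab T} {G' : CohTop.Ab T'} {G'' : CohTop.Ab T''}
    (m : G ⟶ (CohTop.push w).obj G') (m' : G' ⟶ (CohTop.push w').obj G'') (q : ℕ)
    (x : Sheaf.H G q) :
    P w' m' q (P w m q x) = P (w' ≫ w) (m ≫ (CohTop.push w).map m') q x := by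
  have h1 : P w' m' q (P w m q x) =
      P w' (flat w m ≫ m') q (CohPull.pullAb w G q x) := by
    rw [P_apply w m, P_comp_left]
  have h2 : P w' (flat w m ≫ m') q (CohPull.pullAb w G q x) =
      Sheaf.H.map (flat w' (flat w m ≫ m')) q
        (CohPull.pullAb w' ((CohPull.inv w).obj G) q (CohPull.pullAb w G q x)) := rfl
  have h3 : Sheaf.H.map (flat w' (flat w m ≫ m')) q (P (w' ≫ w) (unit₂ w w' G) q x) =
      P (w' ≫ w) (unit₂ w w' G ≫ (CohTop.push (w' ≫ w)).map (flat w' (flat w m ≫ m'))) q x :=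
    P_comp_right (w' ≫ w) (unit₂ w w' G) _ q x
  have h4 : unit₂ w w' G ≫ (CohTop.push (w' ≫ w)).map (flat w' (flat w m ≫ m')) =
      m ≫ (CohTop.push w).map m' := by
    rw [unit₂_flat, Functor.map_comp, ← Category.assoc, unit_flat]
  rw [h1, h2, pullAb_pullAb, h3]
  exact congrArg (fun t => P (w' ≫ w) (G' := G'') t q x) h4

end Comp

/-! ### Identity -/

section Id

variable (T : TopCat.{u})

/-- the identity of `G`, seen as a map to `(𝟙)_* G` -/
noncomputable abbrev one (G : CohTop.Ab T) : G ⟶ (CohTop.push (𝟙 T)).obj G := 𝟙 G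

/-- the comparison `(𝟙)⁻¹ ⟶ 𝟭` -/
noncomputable def rho : CohPull.inv (𝟙 T) ⟶ 𝟭 (CohTop.Ab T) where
  app G := flat (𝟙 T) (one T G)
  naturality G₁ G₂ φ := by
    rw [← flat_comp_left, Functor.id_map, ← flat_comp_right]
    congr 1

theorem P_one (G : CohTop.Ab T) (q : ℕ) (x : Sheaf.H G q) : P (𝟙 T) (one T G) q x = x := by
  have hα : DeltaCompat (𝟭 (CohTop.Ab T))
      (fun G q => (Sheaf.H.map ((rho T).app G) q).comp (CohPull.pullAb (𝟙 T) G q)) :=
    (deltaCompat_pullAb (𝟙 T)).postNat (rho T)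
  refine DeltaCompat.ext _ hα deltaCompat_id (fun G s => ?_) q G x
  apply (Sheaf.H.equiv₀ G isTerminalTop).injective
  exact equiv₀_P (𝟙 T) (one T G) s

theorem P_id {G G' : CohTop.Ab T} (m : G ⟶ G') (q : ℕ) (x : Sheaf.H G q) :
    P (𝟙 T) (G' := G') m q x = Sheaf.H.map m q x := by
  have h := P_comp_left (𝟙 T) m (one T G') q x
  rw [P_one] at h
  exact (congrArg (fun t => P (𝟙 T) (G' := G') t q x) (Category.comp_id m)).symm.trans h.symm

end Id

end Groth.Agent.Lib.Helper5.PairPull
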