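import Mathlib

/-!
# Čech nerves and functors preserving pullbacks

If `G : 𝒮 ⥤ 𝒯` preserves (binary) pullbacks, then it commutes with Čech nerves:
`cechNerveMapIso G f : f.cechNerve ⋙ G ≅ (Arrow.mk (G.map f.hom)).cechNerve`.
The proof is by induction on the number of factors, using an explicit universal property `IsWP`.
-/

set_option autoImplicit false

universe v v' u u'

open CategoryTheory Limits Simplicial Opposite SimplicialObject

namespace Groth.Agent.Lib.Helper5.WP

section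

variable {𝒮 : Type u} [Category.{v} 𝒮]

/-- `W` with projections `p i` is an `(n+1)`-fold fibre power of `f : X ⟶ B`. -/
def IsWP {X B : 𝒮} (f : X ⟶ B) (n : ℕ) (W : 𝒮) (p : Fin (n + 1) → (W ⟶ X)) : Prop :=
  (∀ i j, p i ≫ f = p j ≫ f) ∧
  ∀ (T : 𝒮) (q : Fin (n + 1) → (T ⟶ X)), (∀ i j, q i ≫ f = q j ≫ f) →
    ∃! t : T ⟶ W, ∀ i, t ≫ p i = q i

variable {X B : 𝒮} (f : X ⟶ B)

lemma isWP_widePullback (n : ℕ) [HasWidePullback B (fun _ : Fin (n + 1) => X) (fun _ => f)] :
    IsWP f n (widePullback B (fun _ : Fin (n + 1) => X) (fun _ => f))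
      (fun i => WidePullback.π (fun _ : Fin (n + 1) => f) i) := by
  refine ⟨fun i j => ?_, fun T q hq => ?_⟩
  · rw [WidePullback.π_arrow, WidePullback.π_arrow]
  · refine ⟨WidePullback.lift (q 0 ≫ f) q (fun i => hq i 0), fun i => ?_, fun t ht => ?_⟩
    · exact WidePullback.lift_π _ _ _ _ _
    · apply WidePullback.hom_ext
      · intro j
        rw [ht j, WidePullback.lift_π]
      · rw [WidePullback.lift_base, ← WidePullback.π_arrow (fun _ : Fin (n + 1) => f) 0,
          ← Category.assoc, ht 0]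

variable {f}

lemma IsWP.exists_iso {n : ℕ} {W W' : 𝒮} {p : Fin (n + 1) → (W ⟶ X)} {p' : Fin (n + 1) → (W' ⟶ X)}
    (h : IsWP f n W p) (h' : IsWP f n W' p') :
    ∃ e : W ≅ W', ∀ i, e.hom ≫ p' i = p i := by
  obtain ⟨t, ht, -⟩ := h'.2 W p h.1
  obtain ⟨t', ht', -⟩ := h.2 W' p' h'.1
  obtain ⟨_, -, hu⟩ := h.2 W p h.1
  obtain ⟨_, -, hu'⟩ := h'.2 W' p' h'.1
  refine ⟨⟨t, t', ?_, ?_⟩, ht⟩
  · rw [hu (t ≫ t') (fun i => by rw [Category.assoc, ht', ht]),
      hu (𝟙 W) (fun i => Category.id_comp _)]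
  · rw [hu' (t' ≫ t) (fun i => by rw [Category.assoc, ht, ht']),
      hu' (𝟙 W') (fun i => Category.id_comp _)]

lemma IsWP.of_iso {n : ℕ} {W W' : 𝒮} {p : Fin (n + 1) → (W ⟶ X)} (h : IsWP f n W p) (e : W' ≅ W) :
    IsWP f n W' (fun i => e.hom ≫ p i) := by
  refine ⟨fun i j => ?_, fun T q hq => ?_⟩
  · rw [Category.assoc, Category.assoc, h.1 i j]
  · obtain ⟨t, ht, hu⟩ := h.2 T q hq
    refine ⟨t ≫ e.inv, fun i => ?_, fun t' ht' => ?_⟩
    · rw [Category.assoc, e.inv_hom_id_assoc, ht]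
    · rw [← hu (t' ≫ e.hom) (fun i => by rw [Category.assoc]; exact ht' i), Category.assoc,
        e.hom_inv_id, Category.comp_id]

lemma IsWP.succ {n : ℕ} {W : 𝒮} {p : Fin (n + 1) → (W ⟶ X)} (h : IsWP f n W p) {P : 𝒮}
    (a : P ⟶ W) (b : P ⟶ X) (hP : IsPullback a b (p 0 ≫ f) f) :
    IsWP f (n + 1) P (Fin.snoc (α := fun _ => P ⟶ X) (fun i : Fin (n + 1) => a ≫ p i) b) := by
  have hs : ∀ i : Fin (n + 2),
      Fin.snoc (α := fun _ => P ⟶ X) (fun i : Fin (n + 1) => a ≫ p i) b i ≫ f = b ≫ f := by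
    intro i
    refine Fin.lastCases ?_ (fun j => ?_) i
    · rw [Fin.snoc_last]
    · rw [Fin.snoc_castSucc, Category.assoc, h.1 j 0, ← hP.w]
  refine ⟨fun i j => (hs i).trans (hs j).symm, fun T q hq => ?_⟩
  obtain ⟨t₀, ht₀, hu₀⟩ := h.2 T (fun i => q i.castSucc) (fun i j => hq _ _)
  have hw : t₀ ≫ p 0 ≫ f = q (Fin.last _) ≫ f := by
    rw [← Category.assoc, ht₀ 0]
    exact hq _ _
  refine ⟨hP.lift t₀ (q (Fin.last _)) hw, fun i => ?_, fun t' ht' => ?_⟩
  · refine Fin.lastCases ?_ (fun j => ?_) i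
    · rw [Fin.snoc_last, hP.lift_snd]
    · rw [Fin.snoc_castSucc, ← Category.assoc, hP.lift_fst, ht₀]
  · apply hP.hom_ext
    · rw [hP.lift_fst]
      apply hu₀
      intro i
      have := ht' i.castSucc
      rw [Fin.snoc_castSucc] at this
      rw [Category.assoc]
      exact this
    · rw [hP.lift_snd]
      have := ht' (Fin.last _)
      rw [Fin.snoc_last] at this
      exact this

lemma isWP_zero : IsWP f 0 X (fun _ => 𝟙 X) := by
  refine ⟨fun _ _ => rfl, fun T q _ => ⟨q 0, fun i => ?_, fun t ht => ?_⟩⟩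
  · rw [Category.comp_id]
    congr 1
    exact (Fin.fin_one_eq_zero i).symm
  · rw [← ht 0, Category.comp_id]

lemma IsWP.isIso_zero {W : 𝒮} {p : Fin (0 + 1) → (W ⟶ X)} (h : IsWP f 0 W p) : IsIso (p 0) := by
  obtain ⟨e, he⟩ := h.exists_iso (isWP_zero (f := f))
  have : p 0 = e.hom := by rw [← he 0, Category.comp_id]
  rw [this]
  infer_instance

end

section Functor

variable {𝒮 : Type u} [Category.{v} 𝒮] {𝒯 : Type u'} [Category.{v'} 𝒯] (G : 𝒮 ⥤ 𝒯)
  [PreservesLimitsOfShape WalkingCospan G] [HasPullbacks 𝒮]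
  {X B : 𝒮} (f : X ⟶ B) [∀ n : ℕ, HasWidePullback B (fun _ : Fin (n + 1) => X) (fun _ => f)]

lemma IsWP.map : ∀ (n : ℕ) (W : 𝒮) (p : Fin (n + 1) → (W ⟶ X)), IsWP f n W p →
    IsWP (G.map f) n (G.obj W) (fun i => G.map (p i)) := by
  intro n
  induction n with
  | zero =>
    intro W p h
    haveI := h.isIso_zero
    have h0 := (isWP_zero (f := G.map f)).of_iso (G.mapIso (asIso (p 0)))
    have : (fun i : Fin (0 + 1) => G.map (p i)) =
        fun _ => (G.mapIso (asIso (p 0))).hom ≫ 𝟙 (G.obj X) := by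
      funext i
      have : i = 0 := Fin.fin_one_eq_zero i
      subst this
      simp
    rw [this]
    exact h0
  | succ n ih =>
    intro W' p' h
    let W := widePullback B (fun _ : Fin (n + 1) => X) (fun _ => f)
    let π : Fin (n + 1) → (W ⟶ X) := fun i => WidePullback.π (fun _ : Fin (n + 1) => f) i
    have hW : IsWP f n W π := isWP_widePullback f n
    have hP : IsPullback (pullback.fst (π 0 ≫ f) f) (pullback.snd (π 0 ≫ f) f) (π 0 ≫ f) f :=
      IsPullback.of_hasPullback _ _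
    have hsucc := hW.succ _ _ hP
    obtain ⟨e, he⟩ := h.exists_iso hsucc
    have hGP := hP.map G
    rw [Functor.map_comp] at hGP
    have h1 := ((ih W π hW).succ _ _ hGP).of_iso (G.mapIso e)
    have : (fun i : Fin (n + 1 + 1) => G.map (p' i)) =
        fun i => (G.mapIso e).hom ≫ Fin.snoc (α := fun _ => G.obj (pullback (π 0 ≫ f) f) ⟶ G.obj X)
          (fun i : Fin (n + 1) => G.map (pullback.fst (π 0 ≫ f) f) ≫ G.map (π i))
          (G.map (pullback.snd (π 0 ≫ f) f)) i := by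
      funext i
      refine Fin.lastCases ?_ (fun j => ?_) i
      · rw [Fin.snoc_last, ← he (Fin.last _), Fin.snoc_last, Functor.mapIso_hom, Functor.map_comp]
      · rw [Fin.snoc_castSucc, ← he j.castSucc, Fin.snoc_castSucc, Functor.mapIso_hom,
          Functor.map_comp, Functor.map_comp]
    rw [this]
    exact h1

variable [∀ n : ℕ, HasWidePullback (G.obj B) (fun _ : Fin (n + 1) => G.obj X) (fun _ => G.map f)]

/-- The comparison map `G(X ×_B ⋯ ×_B X) ⟶ G X ×_{G B} ⋯ ×_{G B} G X`. -/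
noncomputable def cmp (n : ℕ) :
    G.obj (widePullback B (fun _ : Fin (n + 1) => X) (fun _ => f)) ⟶
      widePullback (G.obj B) (fun _ : Fin (n + 1) => G.obj X) (fun _ => G.map f) :=
  WidePullback.lift (G.map (WidePullback.base (fun _ : Fin (n + 1) => f)))
    (fun i => G.map (WidePullback.π (fun _ : Fin (n + 1) => f) i))
    (fun i => by rw [← Functor.map_comp, WidePullback.π_arrow])

instance isIso_cmp (n : ℕ) : IsIso (cmp G f n) := by
  have h1 := IsWP.map G f n _ _ (isWP_widePullback f n)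
  have h2 := isWP_widePullback (G.map f) n
  obtain ⟨e, he⟩ := h1.exists_iso h2
  obtain ⟨_, -, hu⟩ := h2.2 _ _ h1.1
  have : cmp G f n = e.hom := by
    rw [hu (cmp G f n) (fun i => WidePullback.lift_π _ _ _ _ _), hu e.hom he]
  rw [this]
  infer_instance

end Functor

section Nerve

variable {𝒮 : Type u} [Category.{v} 𝒮] {𝒯 : Type u'} [Category.{v'} 𝒯] (G : 𝒮 ⥤ 𝒯)
  [PreservesLimitsOfShape WalkingCospan G] [HasPullbacks 𝒮]
  (f : Arrow 𝒮) [∀ n : ℕ, HasWidePullback f.right (fun _ : Fin (n + 1) => f.left) (fun _ => f.hom)]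
  [∀ n : ℕ, HasWidePullback (G.obj f.right) (fun _ : Fin (n + 1) => G.obj f.left)
    (fun _ => G.map f.hom)]
  [∀ n : ℕ, HasWidePullback (Arrow.mk (G.map f.hom)).right
    (fun _ : Fin (n + 1) => (Arrow.mk (G.map f.hom)).left) (fun _ => (Arrow.mk (G.map f.hom)).hom)]

/-- A pullback preserving functor commutes with Čech nerves. -/
noncomputable def cechNerveMapIso :
    f.cechNerve ⋙ G ≅ (Arrow.mk (G.map f.hom)).cechNerve :=
  NatIso.ofComponents (fun x => asIso (cmp G f.hom x.unop.len)) (by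
    intro x y θ
    apply WidePullback.hom_ext
    · intro j
      simp only [asIso_hom, Category.assoc, Functor.comp_map, Arrow.cechNerve_map, cmp,
        WidePullback.lift_π, Arrow.mk_left, Arrow.mk_hom]
      rw [← G.map_comp, WidePullback.lift_π]
    · simp only [asIso_hom, Category.assoc, Functor.comp_map, Arrow.cechNerve_map, cmp,
        WidePullback.lift_base, Arrow.mk_left, Arrow.mk_hom]
      rw [← G.map_comp, WidePullback.lift_base])

end Nerve

end Groth.Agent.Lib.Helper5.WP
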