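import Groth.Agent.Lib.Helper5.PushAcyclic
import Groth.Agent.Lib.Helper5.WP

/-!
# `g⁻¹` of a totally acyclic sheaf when `g_!` commutes with fibre products

For a continuous functor `u : D ⥤ C` of small sites such that the left adjoint `g_!` (sheaf pullback on sheaves
of sets) of `F ↦ u.op ⋙ F` preserves pullbacks, `u.op ⋙ F` is totally acyclic for every totally acyclic abelian
sheaf `F` on `C`.
-/

set_option autoImplicit false

universe u

open CategoryTheory Limits Simplicial Opposite SimplicialObject AlgebraicTopology Abelian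

namespace Groth.Agent.Lib.Helper5.PullAcyclic

open Groth.Agent.Lib.Helper5.AbPull Groth.Agent.Lib.Helper5.PushAcyclic
open Groth.Agent.Lib.Helper5.CechRes

section abstract

lemma lift_adj_rev {𝒬 𝒮 : Type*} [Category 𝒬] [Preadditive 𝒬] [Category 𝒮] [Preadditive 𝒮]
    {a : 𝒬 ⥤ 𝒮} {s : 𝒮 ⥤ 𝒬} (adj : a ⊣ s) [a.PreservesZeroMorphisms]
    {Z₂ Z₁ Z₀ : 𝒬} (dZ₂ : Z₂ ⟶ Z₁) (dZ₁ : Z₁ ⟶ Z₀) (F : 𝒮)
    (h : ∀ x : a.obj Z₁ ⟶ F, a.map dZ₂ ≫ x = 0 → ∃ y : a.obj Z₀ ⟶ F, a.map dZ₁ ≫ y = x)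
    (x₁ : Z₁ ⟶ s.obj F) (hx₁ : dZ₂ ≫ x₁ = 0) : ∃ y₁ : Z₀ ⟶ s.obj F, dZ₁ ≫ y₁ = x₁ := by
  have h1 : a.map dZ₂ ≫ (adj.homEquiv _ _).symm x₁ = 0 := by
    rw [← adj.homEquiv_naturality_left_symm, hx₁, Adjunction.homEquiv_counit, Functor.map_zero,
      zero_comp]
  obtain ⟨y, hy⟩ := h _ h1
  refine ⟨adj.homEquiv _ _ y, ?_⟩
  rw [← adj.homEquiv_naturality_left, hy, Equiv.apply_symm_apply]

lemma lift_iso {𝒮 : Type*} [Category 𝒮] [Limits.HasZeroMorphisms 𝒮] {A₂ A₁ A₀ B₂ B₁ B₀ : 𝒮}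
    (dA₂ : A₂ ⟶ A₁) (dA₁ : A₁ ⟶ A₀) (dB₂ : B₂ ⟶ B₁) (dB₁ : B₁ ⟶ B₀)
    (e₂ : A₂ ≅ B₂) (e₁ : A₁ ≅ B₁) (e₀ : A₀ ≅ B₀)
    (c₂ : dA₂ ≫ e₁.hom = e₂.hom ≫ dB₂) (c₁ : dA₁ ≫ e₀.hom = e₁.hom ≫ dB₁) (F : 𝒮)
    (h : ∀ x : B₁ ⟶ F, dB₂ ≫ x = 0 → ∃ y : B₀ ⟶ F, dB₁ ≫ y = x)
    (x : A₁ ⟶ F) (hx : dA₂ ≫ x = 0) : ∃ y : A₀ ⟶ F, dA₁ ≫ y = x := by
  have h1 : dB₂ ≫ e₁.inv ≫ x = 0 := by
    have : dB₂ = e₂.inv ≫ dA₂ ≫ e₁.hom := by rw [c₂, e₂.inv_hom_id_assoc]
    rw [this, Category.assoc, Category.assoc, e₁.hom_inv_id_assoc, hx, comp_zero]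
  obtain ⟨y, hy⟩ := h _ h1
  refine ⟨e₀.hom ≫ y, ?_⟩
  rw [← Category.assoc, c₁, Category.assoc, hy, e₁.hom_inv_id_assoc]

end abstract

variable {C D : Type u} [SmallCategory C] [SmallCategory D]
    (J : GrothendieckTopology C) (K : GrothendieckTopology D) (u : D ⥤ C) [u.IsContinuous K J]
    [PreservesLimitsOfShape WalkingCospan (u.sheafPullback (Type u) K J)]

variable {K' K₀ : Sheaf K (Type u)} (f : K' ⟶ K₀)

/-- `g_!` of the Čech nerve of `f` is the Čech nerve of `g_! f`, after passing to free abelian sheaves and using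
`g_! ℤ[L] = ℤ[g_! L]`. -/
noncomputable def nerveIso :
    ((Arrow.mk f).cechNerve ⋙ CechRes.Φ K) ⋙ pullA J K u ≅
      (Arrow.mk ((pullS J K u).map f)).cechNerve ⋙ CechRes.Φ J :=
  (Functor.associator _ _ _) ≪≫
    Functor.isoWhiskerLeft (Arrow.mk f).cechNerve (pullFreeIso J K u) ≪≫
    (Functor.associator _ _ _).symm ≪≫
    Functor.isoWhiskerRight (WP.cechNerveMapIso (pullS J K u) (Arrow.mk f)) (CechRes.Φ J)

/-- The induced isomorphism of chain complexes. -/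
noncomputable def complexIso :
    AlternatingFaceMapComplex.obj (((Arrow.mk f).cechNerve ⋙ CechRes.Φ K) ⋙ pullA J K u) ≅
      Ks ((pullS J K u).map f) :=
  (alternatingFaceMapComplex (Sheaf J AddCommGrpCat.{u})).mapIso (nerveIso J K u f)

lemma CB_push (F : Sheaf J AddCommGrpCat.{u}) (hF : CohCx.IsTotallyAcyclic F) [Epi f] (q : ℕ) :
    CB ((pushA J K u).obj F) f q := by
  haveI : (pullS J K u).PreservesEpimorphisms :=
    Functor.preservesEpimorphisms_of_adjunction (adjS J K u)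
  haveI : Epi ((pullS J K u).map f) := inferInstance
  have hCB : CB F ((pullS J K u).map f) q :=
    (isZero_homology_iff_CB F _ q).1 (isZero_cech_homology _ F hF q)
  intro x hx
  have hd : ∀ n : ℕ, (AlternatingFaceMapComplex.obj
      (((Arrow.mk f).cechNerve ⋙ CechRes.Φ K) ⋙ pullA J K u)).d (n + 1) n =
      (pullA J K u).map ((Ks f).d (n + 1) n) :=
    fun n => AugRes.afmc_d_map (pullA J K u) ((Arrow.mk f).cechNerve ⋙ CechRes.Φ K) n
  refine lift_adj_rev (adjA J K u) ((Ks f).d (q + 2) (q + 1)) ((Ks f).d (q + 1) q) F ?_ x hx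
  refine lift_iso _ _ ((Ks ((pullS J K u).map f)).d (q + 2) (q + 1))
    ((Ks ((pullS J K u).map f)).d (q + 1) q)
    ((HomologicalComplex.eval _ _ (q + 2)).mapIso (complexIso J K u f))
    ((HomologicalComplex.eval _ _ (q + 1)).mapIso (complexIso J K u f))
    ((HomologicalComplex.eval _ _ q).mapIso (complexIso J K u f)) ?_ ?_ F hCB
  · rw [← hd (q + 1)]
    exact ((complexIso J K u f).hom.comm (q + 2) (q + 1)).symm
  · rw [← hd q]
    exact ((complexIso J K u f).hom.comm (q + 1) q).symm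

/-- If `g_!` preserves fibre products, `g⁻¹` preserves totally acyclic abelian sheaves. -/
theorem isTotallyAcyclic_push_of_preservesPullbacks (F : Sheaf J AddCommGrpCat.{u})
    (hF : CohCx.IsTotallyAcyclic F) : CohCx.IsTotallyAcyclic ((pushA J K u).obj F) :=
  isTotallyAcyclic_of_cech _ (fun _ _ f _ q =>
    (isZero_homology_iff_CB _ f q).2 (CB_push J K u f F hF q))

end Groth.Agent.Lib.Helper5.PullAcyclic
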