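import Mathlib
import Groth.Prelude.Def_CohTop

/-!
# Stalks of the inverse image of an abelian sheaf

For a continuous map `f : X ⟶ Y`, an abelian sheaf `F` on `Y` and a point `x` of `X` the canonical
map `F_{f x} ⟶ (f⁻¹F)_x` is an isomorphism.  Consequences in terms of sections:

* `exists_res_eq_zero`: if the pulled back section `ρ s` vanishes near `x`, then `s` vanishes near
  `f x`;
* `exists_local_rep`: every section of `f⁻¹F` is, near each point, a pulled back section.
-/

set_option autoImplicit false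

universe u

open CategoryTheory CategoryTheory.Limits TopologicalSpace Opposite TopCat

namespace Groth.Agent.Lib.Helper5.PullStalk

variable {X Y : TopCat.{u}} (f : X ⟶ Y) (F : CohTop.Ab Y)

/-- the adjunction `f⁻¹ ⊣ f_*` -/
noncomputable abbrev adj : CohTop.pull f ⊣ CohTop.push f :=
  TopCat.Sheaf.pullbackPushforwardAdjunction AddCommGrpCat.{u} f

/-- the unit `F ⟶ f_* f⁻¹ F` -/
noncomputable abbrev η : F ⟶ (CohTop.push f).obj ((CohTop.pull f).obj F) := (adj f).unit.app F

/-- pulling back a section -/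
noncomputable def ρ (V : Opens Y) :
    F.obj.obj (op V) →+ ((CohTop.pull f).obj F).obj.obj (op ((Opens.map f).obj V)) :=
  ((η f F).hom.app (op V)).hom

lemma ρ_res {V V' : Opens Y} (h : V' ≤ V) (s : F.obj.obj (op V)) :
    ρ f F V' ((F.obj.map (homOfLE h).op).hom s) =
      (((CohTop.pull f).obj F).obj.map (homOfLE ((Opens.map f).monotone h)).op).hom (ρ f F V s) :=
  ConcreteCategory.congr_hom ((η f F).hom.naturality (homOfLE h).op) s

lemma ρ_natural {F F' : CohTop.Ab Y} (φ : F ⟶ F') (V : Opens Y) (s : F.obj.obj (op V)) :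
    ρ f F' V ((φ.hom.app (op V)).hom s) =
      (((CohTop.pull f).map φ).hom.app (op ((Opens.map f).obj V))).hom (ρ f F V s) := by
  have h := (adj f).unit.naturality φ
  have h2 := congrArg (fun ψ => (ψ.hom.app (op V)).hom s) h
  exact h2

/-- the germ map -/
noncomputable abbrev gm {T : TopCat.{u}} (G : CohTop.Ab T) (V : Opens T) (y : T) (h : y ∈ V) :
    G.obj.obj (op V) ⟶ CohTop.stalk G y :=
  TopCat.Presheaf.germ (C := AddCommGrpCat.{u}) (X := T) G.obj V y h

variable (x : X)

/-- the canonical map on stalks -/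
noncomputable def c : CohTop.stalk F (f x) ⟶ CohTop.stalk ((CohTop.pull f).obj F) x :=
  (Presheaf.stalkFunctor AddCommGrpCat.{u} (f x)).map (η f F).hom ≫
    Presheaf.stalkPushforward AddCommGrpCat.{u} f ((CohTop.pull f).obj F).obj x

lemma c_germ (V : Opens Y) (h : f x ∈ V) (s : F.obj.obj (op V)) :
    (c f F x).hom (gm F V (f x) h s) =
      gm ((CohTop.pull f).obj F) ((Opens.map f).obj V) x h (ρ f F V s) := by
  have h1 : gm F V (f x) h ≫ c f F x =
      (η f F).hom.app (op V) ≫ gm ((CohTop.pull f).obj F) ((Opens.map f).obj V) x h := by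
    have e1 := Presheaf.stalkFunctor_map_germ (C := AddCommGrpCat.{u}) V (f x) h (η f F).hom
    have e2 := Presheaf.stalkPushforward_germ AddCommGrpCat.{u} f ((CohTop.pull f).obj F).obj V x h
    exact (Category.assoc _ _ _).symm.trans
      ((congrArg (fun k => k ≫ Presheaf.stalkPushforward AddCommGrpCat.{u} f
        ((CohTop.pull f).obj F).obj x) e1).trans
        ((Category.assoc _ _ _).trans (congrArg (fun k => (η f F).hom.app (op V) ≫ k) e2)))
  exact ConcreteCategory.congr_hom h1 s

open Classical in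
/-- the skyscraper sheaf, as an object of `CohTop.Ab` -/
noncomputable abbrev sky {T : TopCat.{u}} (t : T) (A : AddCommGrpCat.{u}) : CohTop.Ab T :=
  skyscraperSheaf t A

section retraction

open Classical in
/-- the germ map to the skyscraper sheaf, pushed forward -/
noncomputable def g₀ : F ⟶ (CohTop.push f).obj (sky x (CohTop.stalk F (f x))) :=
  ⟨(StalkSkyscraperPresheafAdjunctionAuxs.toSkyscraperPresheaf (f x) (𝟙 (CohTop.stalk F (f x))) :
    F.obj ⟶ skyscraperPresheaf (f x) (CohTop.stalk F (f x)))⟩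

open Classical in
/-- the morphism `f⁻¹F ⟶ skyscraper` corresponding to `g₀` -/
noncomputable def ψ : (CohTop.pull f).obj F ⟶ sky x (CohTop.stalk F (f x)) :=
  ((adj f).homEquiv F (sky x (CohTop.stalk F (f x)))).symm (g₀ f F x)

open Classical in
lemma η_ψ : η f F ≫ (CohTop.push f).map (ψ f F x) = g₀ f F x := by
  have h := (adj f).homEquiv_unit (X := F) (Y := sky x (CohTop.stalk F (f x)))
    (f := ψ f F x)
  rw [← h]
  unfold ψ
  rw [Equiv.apply_symm_apply]

open Classical in
/-- the retraction of `c` -/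
noncomputable def φ : CohTop.stalk ((CohTop.pull f).obj F) x ⟶ CohTop.stalk F (f x) :=
  StalkSkyscraperPresheafAdjunctionAuxs.fromStalk x (ψ f F x).hom

lemma germ_c (V : Opens Y) (h : f x ∈ V) :
    gm F V (f x) h ≫ c f F x =
      (η f F).hom.app (op V) ≫ gm ((CohTop.pull f).obj F) ((Opens.map f).obj V) x h := by
  have e1 := Presheaf.stalkFunctor_map_germ (C := AddCommGrpCat.{u}) V (f x) h (η f F).hom
  have e2 := Presheaf.stalkPushforward_germ AddCommGrpCat.{u} f ((CohTop.pull f).obj F).obj V x h
  exact (Category.assoc _ _ _).symm.trans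
    ((congrArg (fun k => k ≫ Presheaf.stalkPushforward AddCommGrpCat.{u} f
      ((CohTop.pull f).obj F).obj x) e1).trans
      ((Category.assoc _ _ _).trans (congrArg (fun k => (η f F).hom.app (op V) ≫ k) e2)))

open Classical in
lemma germ_c_φ (V : Opens Y) (h : f x ∈ V) :
    gm F V (f x) h ≫ c f F x ≫ φ f F x = gm F V (f x) h := by
  have h1 := germ_c f F x V h
  have M1 : (η f F).hom.app (op V) ≫ (ψ f F x).hom.app (op ((Opens.map f).obj V)) =
      (g₀ f F x).hom.app (op V) :=
    congrArg (fun k => k.hom.app (op V)) (η_ψ f F x)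
  have M3 : gm ((CohTop.pull f).obj F) ((Opens.map f).obj V) x h ≫ φ f F x =
      (ψ f F x).hom.app (op ((Opens.map f).obj V)) ≫ eqToHom (if_pos h) :=
    StalkSkyscraperPresheafAdjunctionAuxs.germ_fromStalk x (ψ f F x).hom _ h
  have M2 : (g₀ f F x).hom.app (op V) =
      gm F V (f x) h ≫ 𝟙 _ ≫ eqToHom (if_pos h).symm := by
    change (StalkSkyscraperPresheafAdjunctionAuxs.toSkyscraperPresheaf (f x)
      (𝟙 (CohTop.stalk F (f x)))).app (op V) = _
    rw [StalkSkyscraperPresheafAdjunctionAuxs.toSkyscraperPresheaf_app]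
    exact dif_pos h
  refine (Category.assoc _ _ _).symm.trans ?_
  refine (congrArg (fun k => k ≫ φ f F x) h1).trans ?_
  refine (Category.assoc _ _ _).trans ?_
  refine (congrArg (fun k => (η f F).hom.app (op V) ≫ k) M3).trans ?_
  refine (Category.assoc _ _ _).symm.trans ?_
  refine (congrArg (fun k => k ≫ eqToHom (if_pos h)) M1).trans ?_
  refine (congrArg (fun k => k ≫ eqToHom (if_pos h)) M2).trans ?_
  simp

open Classical in
lemma c_φ : c f F x ≫ φ f F x = 𝟙 _ := by
  apply TopCat.Presheaf.stalk_hom_ext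
  intro V hV
  rw [Category.comp_id]
  exact germ_c_φ f F x V hV

lemma c_injective : Function.Injective (c f F x).hom := by
  intro a b hab
  have h := congrArg (fun z => (φ f F x).hom z) hab
  have e : ∀ z, (φ f F x).hom ((c f F x).hom z) = z := fun z =>
    ConcreteCategory.congr_hom (c_φ f F x) z
  simpa only [e] using h

end retraction

section surj

/-- the cokernel of `c` -/
noncomputable abbrev Cq : AddCommGrpCat.{u} :=
  AddCommGrpCat.of (CohTop.stalk ((CohTop.pull f).obj F) x ⧸ (c f F x).hom.range)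

/-- the projection to the cokernel of `c` -/
noncomputable abbrev q : CohTop.stalk ((CohTop.pull f).obj F) x ⟶ Cq f F x :=
  AddCommGrpCat.ofHom (QuotientAddGroup.mk' (c f F x).hom.range)

lemma c_q : c f F x ≫ q f F x = 0 := by
  ext a
  change QuotientAddGroup.mk' (c f F x).hom.range ((c f F x).hom a) = 0
  rw [QuotientAddGroup.mk'_apply, QuotientAddGroup.eq_zero_iff]
  exact ⟨a, rfl⟩

open Classical in
/-- the morphism to the skyscraper sheaf given by `q` -/
noncomputable def qt : (CohTop.pull f).obj F ⟶ sky x (Cq f F x) :=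
  ⟨StalkSkyscraperPresheafAdjunctionAuxs.toSkyscraperPresheaf x (q f F x)⟩

open Classical in
lemma η_qt_app (V : Opens Y) :
    (η f F).hom.app (op V) ≫ (qt f F x).hom.app (op ((Opens.map f).obj V)) = 0 := by
  by_cases h : f x ∈ V
  · have h1 := germ_c f F x V h
    have e : (qt f F x).hom.app (op ((Opens.map f).obj V)) =
        gm ((CohTop.pull f).obj F) ((Opens.map f).obj V) x h ≫ q f F x ≫
          eqToHom (if_pos h).symm := by
      change (StalkSkyscraperPresheafAdjunctionAuxs.toSkyscraperPresheaf x (q f F x)).app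
        (op ((Opens.map f).obj V)) = _
      rw [StalkSkyscraperPresheafAdjunctionAuxs.toSkyscraperPresheaf_app]
      exact dif_pos h
    refine (congrArg (fun k => (η f F).hom.app (op V) ≫ k) e).trans ?_
    refine (Category.assoc _ _ _).symm.trans ?_
    refine (congrArg (fun k => k ≫ q f F x ≫ eqToHom (if_pos h).symm) h1.symm).trans ?_
    refine (Category.assoc _ _ _).trans ?_
    refine (congrArg (fun k => gm F V (f x) h ≫ k) ((Category.assoc _ _ _).symm.trans
      ((congrArg (fun k => k ≫ eqToHom (if_pos h).symm) (c_q f F x)).trans zero_comp))).trans ?_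
    exact comp_zero
  · exact (isTerminalSkyscraperSheafObjObjOfNotMem (A := Cq f F x) (p₀ := x)
      (U := op ((Opens.map f).obj V)) h).hom_ext _ _

open Classical in
lemma qt_eq_zero : qt f F x = 0 := by
  apply ((adj f).homEquiv F (sky x (Cq f F x))).injective
  rw [(adj f).homEquiv_unit, (adj f).homEquiv_unit, Functor.map_zero, comp_zero]
  apply CategoryTheory.Sheaf.hom_ext
  ext V : 2
  exact η_qt_app f F x V.unop

open Classical in
lemma q_eq_zero : q f F x = 0 := by
  have h1 := StalkSkyscraperPresheafAdjunctionAuxs.fromStalk_to_skyscraper x (q f F x)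
  have h2 : StalkSkyscraperPresheafAdjunctionAuxs.toSkyscraperPresheaf x (q f F x) = 0 :=
    congrArg (fun k => k.hom) (qt_eq_zero f F x)
  rw [← h1, h2]
  apply TopCat.Presheaf.stalk_hom_ext
  intro U hU
  rw [StalkSkyscraperPresheafAdjunctionAuxs.germ_fromStalk, comp_zero]
  exact zero_comp

lemma c_surjective : Function.Surjective (c f F x).hom := by
  intro b
  have h := ConcreteCategory.congr_hom (q_eq_zero f F x) b
  change QuotientAddGroup.mk' (c f F x).hom.range b = 0 at h
  rw [QuotientAddGroup.mk'_apply, QuotientAddGroup.eq_zero_iff] at h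
  exact h

end surj

/-! ### Consequences for sections -/

/-- restriction of sections -/
noncomputable abbrev rs {T : TopCat.{u}} (G : CohTop.Ab T) {W V : Opens T} (h : W ≤ V) :
    G.obj.obj (op V) →+ G.obj.obj (op W) := (G.obj.map (homOfLE h).op).hom

lemma gm_rs {T : TopCat.{u}} (G : CohTop.Ab T) {W V : Opens T} (h : W ≤ V) (y : T) (hy : y ∈ W)
    (s : G.obj.obj (op V)) : gm G W y hy (rs G h s) = gm G V y (h hy) s :=
  TopCat.Presheaf.germ_res_apply G.obj (homOfLE h) y hy s

/-- if the pulled back section vanishes near `x`, the section vanishes near `f x` -/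
theorem exists_res_eq_zero (V : Opens Y) (s : F.obj.obj (op V)) (hx : f x ∈ V) (W' : Opens X)
    (hxW : x ∈ W') (hW : W' ≤ (Opens.map f).obj V)
    (h0 : rs ((CohTop.pull f).obj F) hW (ρ f F V s) = 0) :
    ∃ (V' : Opens Y) (hV' : V' ≤ V), f x ∈ V' ∧ rs F hV' s = 0 := by
  have h1 : gm ((CohTop.pull f).obj F) ((Opens.map f).obj V) x hx (ρ f F V s) = 0 := by
    rw [← gm_rs ((CohTop.pull f).obj F) hW x hxW, h0, map_zero]
  rw [← c_germ] at h1
  have h2 : gm F V (f x) hx s = 0 := by
    apply c_injective f F x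
    rw [h1, map_zero]
  have h3 : gm F V (f x) hx s = gm F V (f x) hx 0 := by rw [h2, map_zero]
  obtain ⟨V', hV', iU, iV, e⟩ := TopCat.Presheaf.germ_eq (C := AddCommGrpCat.{u}) F.obj (f x) hx hx
    s 0 h3
  refine ⟨V', leOfHom iU, hV', ?_⟩
  have e2 : (F.obj.map iV.op).hom 0 = 0 := map_zero _
  exact e.trans e2

/-- every section of `f⁻¹F` is locally a pulled back section -/
theorem exists_local_rep (W : Opens X) (t : ((CohTop.pull f).obj F).obj.obj (op W)) (hx : x ∈ W) :
    ∃ (V : Opens Y) (_ : f x ∈ V) (s : F.obj.obj (op V)) (W' : Opens X) (_ : x ∈ W')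
      (h1 : W' ≤ W) (h2 : W' ≤ (Opens.map f).obj V),
      rs ((CohTop.pull f).obj F) h1 t = rs ((CohTop.pull f).obj F) h2 (ρ f F V s) := by
  obtain ⟨a, ha⟩ := c_surjective f F x (gm ((CohTop.pull f).obj F) W x hx t)
  obtain ⟨V, hV, s, rfl⟩ := TopCat.Presheaf.exists_germ_eq (C := AddCommGrpCat.{u}) F.obj a
  have ha' : gm ((CohTop.pull f).obj F) W x hx t =
      gm ((CohTop.pull f).obj F) ((Opens.map f).obj V) x hV (ρ f F V s) :=
    ha.symm.trans (c_germ f F x V hV s)
  obtain ⟨W', hxW', iU, iV, e⟩ := TopCat.Presheaf.germ_eq (C := AddCommGrpCat.{u})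
    ((CohTop.pull f).obj F).obj x hx hV t (ρ f F V s) ha'
  exact ⟨V, hV, s, W', hxW', leOfHom iU, leOfHom iV, e⟩

end Groth.Agent.Lib.Helper5.PullStalk
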