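import Groth.Agent.Lib.Helper5.LocLift
import Groth.Agent.Lib.Helper5.TensorDual

/-!
# The localized adjunction `f^* ⊣ f_*` on sections of internal homs

For a morphism of schemes `f : X ⟶ Y`, an `O_Y`-module `E`, an `O_X`-module `M` and an open `V ⊆ Y`,
linear families `(f^*E)|_{f⁻¹V} → M|_{f⁻¹V}` correspond bijectively to linear families
`E|_V → (f_*M)|_V` by composing with the unit `E → f_* f^* E`.  The proof uses only the global
adjunction, applied to the module `j_* j^* M` for `j : f⁻¹V → X`.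
-/

set_option autoImplicit false

universe u

open CategoryTheory Limits Opposite AlgebraicGeometry TopologicalSpace

noncomputable section

namespace Groth.Agent.Lib.Helper5.PullbackBasis

open Groth.Agent.Lib.Helper17.IHom Groth.Agent.Lib.Helper5.DualBasis
  Groth.Agent.Lib.Helper5.LocBasisScheme Groth.Agent.Lib.Helper17.Tensor
  Groth.Agent.Lib.Helper5.LocLift

section thin

variable {X : Scheme.{u}}

lemma ev_hom_irrel {Q F : PresheafOfModules.{u} (X.sheaf.obj ⋙ forget₂ CommRingCat RingCat)}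
    {U : X.Opens} (α : HomAb Q F U) {W : X.Opens} (g g' : W ⟶ U) (q : Q.obj (op W)) :
    ev α g q = ev α g' q := by
  rw [Subsingleton.elim g g']

lemma rs_hom_irrel (M : PresheafOfModules.{u} (X.sheaf.obj ⋙ forget₂ CommRingCat RingCat))
    {U W : X.Opens} (g g' : W ⟶ U) (m : M.obj (op U)) : rs M g m = rs M g' m := by
  rw [Subsingleton.elim g g']

lemma rs_rs_self (M : PresheafOfModules.{u} (X.sheaf.obj ⋙ forget₂ CommRingCat RingCat))
    {U W : X.Opens} (g : W ⟶ U) (g' : U ⟶ W) (m : M.obj (op U)) : rs M g' (rs M g m) = m := by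
  rw [← rs_comp, Subsingleton.elim (g' ≫ g) (𝟙 U), rs_id]

end thin

section GU

variable {X : Scheme.{u}}

/-- `j_* j^* M` for the inclusion `j` of the open `U` -/
abbrev GU (U : X.Opens) (M : X.Modules) : X.Modules :=
  (Scheme.Modules.pushforward U.ι).obj (M.restrict U.ι)

/-- `W ∩ U` in the form appearing in the sections of `GU U M` -/
abbrev cap (U W : X.Opens) : X.Opens := U.ι ''ᵁ (U.ι ⁻¹ᵁ W)

lemma cap_le_left (U W : X.Opens) : cap U W ≤ W := U.ι.image_preimage_le W

lemma cap_le_right (U W : X.Opens) : cap U W ≤ U := U.ι_image_le _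

lemma le_cap {U W : X.Opens} (h : W ≤ U) : W ≤ cap U W := by
  rw [cap, image_preimage_of_le U h]

lemma GU_smul (U : X.Opens) (M : X.Modules) (W : X.Opens) (r : Γ(X, W)) (x : Γ(M, cap U W)) :
    (@HSMul.hSMul Γ(X, W) Γ(GU U M, W) Γ(GU U M, W) _ r x) =
      (X.presheaf.map (homOfLE (cap_le_left U W)).op).hom r • x := by
  have h := Scheme.Hom.app_appIso_inv U.ι W
  have h2 : (U.ι.appIso (U.ι ⁻¹ᵁ W)).inv.hom ((U.ι.app W).hom r) =
      (X.presheaf.map (homOfLE (cap_le_left U W)).op).hom r := by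
    have := congrArg (fun t => t.hom r) h
    exact this
  rw [← h2]
  rfl

variable (E' M : X.Modules) (U : X.Opens)

/-- a linear family over `U` as a morphism into `j_* j^* M` -/
def toGU (β : linSubgroup (toPMod (O := X.sheaf) E') (toPMod (O := X.sheaf) M) U) : E' ⟶ GU U M :=
  (Scheme.Modules.restrictAdjunction U.ι).homEquiv _ _ (homOfFam E' M U β)

lemma toGU_app (β : linSubgroup (toPMod (O := X.sheaf) E') (toPMod (O := X.sheaf) M) U)
    (W : X.Opens) (e : Γ(E', W)) :
    ((toGU E' M U β).app W).hom e =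
      ev β.1 (homOfLE (cap_le_right U W))
        (rs (toPMod (O := X.sheaf) E') (homOfLE (cap_le_left U W)) e) := rfl

lemma ev_eq_rs_toGU (β : linSubgroup (toPMod (O := X.sheaf) E') (toPMod (O := X.sheaf) M) U)
    {W : X.Opens} (g : W ⟶ U) (q : (toPMod (O := X.sheaf) E').obj (op W)) :
    ev β.1 g q = rs (toPMod (O := X.sheaf) M) (homOfLE (le_cap (leOfHom g)))
      (((toGU E' M U β).app W).hom q) := by
  rw [toGU_app, ev_naturality, rs_rs_self]
  exact ev_hom_irrel _ _ _ _

lemma toGU_injective : Function.Injective (toGU E' M U) := by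
  intro β β' h
  apply ext_lin
  intro W g q
  rw [ev_eq_rs_toGU, ev_eq_rs_toGU, h]

/-- sections of `GU U M` over `W` as sections of `M` over `cap U W` -/
def gu {W : X.Opens} (x : Γ(GU U M, W)) : (toPMod (O := X.sheaf) M).obj (op (cap U W)) := x

lemma gu_add {W : X.Opens} (x y : Γ(GU U M, W)) : gu M U (x + y) = gu M U x + gu M U y := rfl

lemma gu_smul {W : X.Opens} (r : X.sheaf.obj.obj (op W)) (x : Γ(GU U M, W)) :
    gu M U (@HSMul.hSMul Γ(X, W) Γ(GU U M, W) Γ(GU U M, W) _ r x) =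
      rmap (R := X.sheaf.obj) (homOfLE (cap_le_left U W)) r • gu M U x :=
  GU_smul U M W r x

lemma gu_map {W W₂ : X.Opens} (h : W₂ ⟶ W) (k : cap U W₂ ⟶ cap U W) (x : Γ(GU U M, W)) :
    gu M U ((GU U M).presheaf.map h.op x) = rs (toPMod (O := X.sheaf) M) k (gu M U x) := by
  have : rs (toPMod (O := X.sheaf) M) k (gu M U x) =
      rs (toPMod (O := X.sheaf) M) (homOfLE (U.ι.image_mono
        ((Opens.map U.ι.base).map h).le)) (gu M U x) := rs_hom_irrel _ _ _ _
  rw [this]
  rfl

/-- a morphism into `j_* j^* M` as a linear family over `U` -/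
def fromGU (b : E' ⟶ GU U M) :
    linSubgroup (toPMod (O := X.sheaf) E') (toPMod (O := X.sheaf) M) U :=
  ⟨mkHomAb (fun {W} g => AddMonoidHom.mk' (fun q =>
      rs (toPMod (O := X.sheaf) M) (homOfLE (le_cap (leOfHom g))) (gu M U ((b.app W).hom q)))
      (by
        intro q q'
        have h : (b.app W).hom (q + q') = (b.app W).hom q + (b.app W).hom q' :=
          map_add (b.app W).hom q q'
        show rs (toPMod (O := X.sheaf) M) (homOfLE (le_cap (leOfHom g)))
            (gu M U ((b.app W).hom (q + q'))) = _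
        rw [h, gu_add, rs_add]))
    (by
      intro W W₂ g h q
      show rs (toPMod (O := X.sheaf) M) h
          (rs (toPMod (O := X.sheaf) M) (homOfLE (le_cap (leOfHom g))) (gu M U ((b.app W).hom q))) =
        rs (toPMod (O := X.sheaf) M) (homOfLE (le_cap (leOfHom (h ≫ g))))
          (gu M U ((b.app W₂).hom (rs (toPMod (O := X.sheaf) E') h q)))
      have nat : (b.app W₂).hom (rs (toPMod (O := X.sheaf) E') h q) =
          (GU U M).presheaf.map h.op ((b.app W).hom q) := by
        have := PresheafOfModules.naturality_apply b.val h.op q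
        exact this
      rw [nat, gu_map M U h (homOfLE (U.ι.image_mono ((Opens.map U.ι.base).map h).le)),
        ← rs_comp, ← rs_comp]
      exact rs_hom_irrel _ _ _ _),
    by
      intro W g r q
      show rs (toPMod (O := X.sheaf) M) (homOfLE (le_cap (leOfHom g)))
          (gu M U ((b.app W).hom (r • q))) =
        r • rs (toPMod (O := X.sheaf) M) (homOfLE (le_cap (leOfHom g))) (gu M U ((b.app W).hom q))
      have lin : (b.app W).hom (r • q) =
          @HSMul.hSMul Γ(X, W) Γ(GU U M, W) Γ(GU U M, W) _ r ((b.app W).hom q) :=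
        Scheme.Modules.Hom.app_smul b r q
      rw [lin, gu_smul, rs_smul, ← rmap_comp,
        Subsingleton.elim (homOfLE (le_cap (leOfHom g)) ≫ homOfLE (cap_le_left U W)) (𝟙 W), rmap_id]⟩

lemma ev_fromGU (b : E' ⟶ GU U M) {W : X.Opens} (g : W ⟶ U)
    (q : (toPMod (O := X.sheaf) E').obj (op W)) :
    ev (fromGU E' M U b).1 g q =
      rs (toPMod (O := X.sheaf) M) (homOfLE (le_cap (leOfHom g))) (gu M U ((b.app W).hom q)) := rfl

end GU

section adj

variable {X Y : Scheme.{u}} (f : X ⟶ Y)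

/-- the unit `E ⟶ f_* f^* E` -/
def η (E : Y.Modules) :
    E ⟶ (Scheme.Modules.pushforward f).obj ((Scheme.Modules.pullback f).obj E) :=
  (Scheme.Modules.pullbackPushforwardAdjunction f).unit.app E

/-- `η` on sections: `E(W) → (f^*E)(f⁻¹W)` -/
def ηs (E : Y.Modules) {W : Y.Opens} (e : (toPMod (O := Y.sheaf) E).obj (op W)) :
    (toPMod (O := X.sheaf) ((Scheme.Modules.pullback f).obj E)).obj (op (f ⁻¹ᵁ W)) :=
  ((η f E).app W).hom e

lemma ηs_rs (E : Y.Modules) {W W₂ : Y.Opens} (h : W₂ ⟶ W)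
    (e : (toPMod (O := Y.sheaf) E).obj (op W)) :
    ηs f E (rs (toPMod (O := Y.sheaf) E) h e) =
      rs (toPMod (O := X.sheaf) ((Scheme.Modules.pullback f).obj E)) ((Opens.map f.base).map h)
        (ηs f E e) :=
  appE_rs (pv (O := Y.sheaf) (η f E)) h e

lemma ηs_add (E : Y.Modules) {W : Y.Opens} (e e' : (toPMod (O := Y.sheaf) E).obj (op W)) :
    ηs f E (e + e') = ηs f E e + ηs f E e' :=
  appE_add (pv (O := Y.sheaf) (η f E)) e e'

/-- the ring map `O_Y(W) → O_X(f⁻¹W)` -/
def φs {W : Y.Opens} (r : Y.sheaf.obj.obj (op W)) : X.sheaf.obj.obj (op (f ⁻¹ᵁ W)) :=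
  (f.app W).hom r

lemma ηs_smul (E : Y.Modules) {W : Y.Opens} (r : Y.sheaf.obj.obj (op W))
    (e : (toPMod (O := Y.sheaf) E).obj (op W)) :
    ηs f E (r • e) = φs f r • ηs f E e :=
  appE_smul (pv (O := Y.sheaf) (η f E)) r e

lemma homEquiv_app (E : Y.Modules) (Z : X.Modules) (b : (Scheme.Modules.pullback f).obj E ⟶ Z)
    (W : Y.Opens) (e : (toPMod (O := Y.sheaf) E).obj (op W)) :
    (((Scheme.Modules.pullbackPushforwardAdjunction f).homEquiv _ _ b).app W).hom e =
      (b.app (f ⁻¹ᵁ W)).hom (ηs f E e) := rfl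

variable (E : Y.Modules) (M : X.Modules) (V : Y.Opens)

lemma capf_le (W : Y.Opens) : cap (f ⁻¹ᵁ V) (f ⁻¹ᵁ W) ≤ f ⁻¹ᵁ (W ⊓ V) :=
  le_inf (cap_le_left _ _) (cap_le_right _ _)

/-- the key computation: the adjoint of `toGU β` in terms of `β ∘ η` -/
lemma homEquiv_toGU_app
    (β : linSubgroup (toPMod (O := X.sheaf) ((Scheme.Modules.pullback f).obj E))
      (toPMod (O := X.sheaf) M) (f ⁻¹ᵁ V))
    (W : Y.Opens) (e : (toPMod (O := Y.sheaf) E).obj (op W)) :
    (((Scheme.Modules.pullbackPushforwardAdjunction f).homEquiv _ _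
        (toGU ((Scheme.Modules.pullback f).obj E) M (f ⁻¹ᵁ V) β)).app W).hom e =
      rs (toPMod (O := X.sheaf) M) (homOfLE (capf_le f V W))
        (ev β.1 ((Opens.map f.base).map (homOfLE (inf_le_right : W ⊓ V ≤ V)))
          (ηs f E (rs (toPMod (O := Y.sheaf) E) (homOfLE (inf_le_left : W ⊓ V ≤ W)) e))) := by
  rw [homEquiv_app, toGU_app, ev_naturality, ηs_rs, ← rs_comp]
  exact (ev_hom_irrel β.1 _ _ _).trans (congrArg _ (rs_hom_irrel _ _ _ _))

/-- **Uniqueness**: a linear family out of `f^* E` over `f⁻¹V` is determined by its composite with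
the unit. -/
theorem family_ext
    (β β' : linSubgroup (toPMod (O := X.sheaf) ((Scheme.Modules.pullback f).obj E))
      (toPMod (O := X.sheaf) M) (f ⁻¹ᵁ V))
    (h : ∀ {W : Y.Opens} (g : W ⟶ V) (e : (toPMod (O := Y.sheaf) E).obj (op W)),
      ev β.1 ((Opens.map f.base).map g) (ηs f E e) =
        ev β'.1 ((Opens.map f.base).map g) (ηs f E e)) : β = β' := by
  apply toGU_injective
  apply ((Scheme.Modules.pullbackPushforwardAdjunction f).homEquiv _ _).injective
  apply Scheme.Modules.hom_ext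
  intro W
  apply AddCommGrpCat.hom_ext
  ext e
  exact (homEquiv_toGU_app f E M V β W e).trans
    ((congrArg _ (h _ _)).trans (homEquiv_toGU_app f E M V β' W e).symm)

/-- a section of `f_* M` over `W` as a section of `M` over `f⁻¹W` -/
def toX {W : Y.Opens}
    (m : (toPMod (O := Y.sheaf) ((Scheme.Modules.pushforward f).obj M)).obj (op W)) :
    (toPMod (O := X.sheaf) M).obj (op (f ⁻¹ᵁ W)) := m

/-- a section of `M` over `f⁻¹W` as a section of `f_* M` over `W` -/
def ofX {W : Y.Opens} (m : (toPMod (O := X.sheaf) M).obj (op (f ⁻¹ᵁ W))) :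
    (toPMod (O := Y.sheaf) ((Scheme.Modules.pushforward f).obj M)).obj (op W) := m

lemma toX_ofX {W : Y.Opens} (m : (toPMod (O := X.sheaf) M).obj (op (f ⁻¹ᵁ W))) :
    toX f M (ofX f M m) = m := rfl

lemma ofX_toX {W : Y.Opens}
    (m : (toPMod (O := Y.sheaf) ((Scheme.Modules.pushforward f).obj M)).obj (op W)) :
    ofX f M (toX f M m) = m := rfl

lemma toX_add {W : Y.Opens}
    (m m' : (toPMod (O := Y.sheaf) ((Scheme.Modules.pushforward f).obj M)).obj (op W)) :
    toX f M (m + m') = toX f M m + toX f M m' := rfl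

lemma toX_smul {W : Y.Opens} (r : Y.sheaf.obj.obj (op W))
    (m : (toPMod (O := Y.sheaf) ((Scheme.Modules.pushforward f).obj M)).obj (op W)) :
    toX f M (r • m) = φs f r • toX f M m := rfl

lemma toX_rs {W W₂ : Y.Opens} (h : W₂ ⟶ W)
    (m : (toPMod (O := Y.sheaf) ((Scheme.Modules.pushforward f).obj M)).obj (op W)) :
    toX f M (rs (toPMod (O := Y.sheaf) ((Scheme.Modules.pushforward f).obj M)) h m) =
      rs (toPMod (O := X.sheaf) M) ((Opens.map f.base).map h) (toX f M m) := rfl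

lemma φs_rmap {W W₂ : Y.Opens} (h : W₂ ⟶ W) (r : Y.sheaf.obj.obj (op W)) :
    φs f (rmap (R := Y.sheaf.obj) h r) =
      rmap (R := X.sheaf.obj) ((Opens.map f.base).map h) (φs f r) := by
  have := f.naturality h.op
  exact congrArg (fun t => t.hom r) this

/-- the section of `a` -/
def aFun (α : linSubgroup (toPMod (O := Y.sheaf) E)
      (toPMod (O := Y.sheaf) ((Scheme.Modules.pushforward f).obj M)) V)
    (W : Y.Opens) (e : (toPMod (O := Y.sheaf) E).obj (op W)) :
    (toPMod (O := X.sheaf) M).obj (op (cap (f ⁻¹ᵁ V) (f ⁻¹ᵁ W))) :=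
  rs (toPMod (O := X.sheaf) M) (homOfLE (capf_le f V W))
    (toX f M (ev α.1 (homOfLE (inf_le_right : W ⊓ V ≤ V))
      (rs (toPMod (O := Y.sheaf) E) (homOfLE (inf_le_left : W ⊓ V ≤ W)) e)))

lemma aFun_add (α : linSubgroup (toPMod (O := Y.sheaf) E)
      (toPMod (O := Y.sheaf) ((Scheme.Modules.pushforward f).obj M)) V)
    (W : Y.Opens) (e e' : (toPMod (O := Y.sheaf) E).obj (op W)) :
    aFun f E M V α W (e + e') = aFun f E M V α W e + aFun f E M V α W e' := by
  unfold aFun
  rw [rs_add, ev_add, toX_add, rs_add]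

lemma aFun_rs (α : linSubgroup (toPMod (O := Y.sheaf) E)
      (toPMod (O := Y.sheaf) ((Scheme.Modules.pushforward f).obj M)) V)
    {W W₂ : Y.Opens} (h : W₂ ⟶ W) (k : cap (f ⁻¹ᵁ V) (f ⁻¹ᵁ W₂) ⟶ cap (f ⁻¹ᵁ V) (f ⁻¹ᵁ W))
    (e : (toPMod (O := Y.sheaf) E).obj (op W)) :
    aFun f E M V α W₂ (rs (toPMod (O := Y.sheaf) E) h e) =
      rs (toPMod (O := X.sheaf) M) k (aFun f E M V α W e) := by
  unfold aFun
  let h' : W₂ ⊓ V ⟶ W ⊓ V := homOfLE (inf_le_inf_right V (leOfHom h))
  have h1 : rs (toPMod (O := Y.sheaf) E) (homOfLE (inf_le_left : W₂ ⊓ V ≤ W₂))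
      (rs (toPMod (O := Y.sheaf) E) h e) =
      rs (toPMod (O := Y.sheaf) E) h'
        (rs (toPMod (O := Y.sheaf) E) (homOfLE (inf_le_left : W ⊓ V ≤ W)) e) := by
    rw [← rs_comp, ← rs_comp]
    exact rs_hom_irrel _ _ _ _
  have h2 : ev α.1 (homOfLE (inf_le_right : W₂ ⊓ V ≤ V))
      (rs (toPMod (O := Y.sheaf) E) h'
        (rs (toPMod (O := Y.sheaf) E) (homOfLE (inf_le_left : W ⊓ V ≤ W)) e)) =
      rs (toPMod (O := Y.sheaf) ((Scheme.Modules.pushforward f).obj M)) h'
        (ev α.1 (homOfLE (inf_le_right : W ⊓ V ≤ V))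
          (rs (toPMod (O := Y.sheaf) E) (homOfLE (inf_le_left : W ⊓ V ≤ W)) e)) := by
    rw [ev_naturality]
    exact ev_hom_irrel _ _ _ _
  rw [h1, h2, toX_rs, ← rs_comp, ← rs_comp]
  exact rs_hom_irrel _ _ _ _

lemma aFun_smul (α : linSubgroup (toPMod (O := Y.sheaf) E)
      (toPMod (O := Y.sheaf) ((Scheme.Modules.pushforward f).obj M)) V)
    (W : Y.Opens) (r : Y.sheaf.obj.obj (op W)) (e : (toPMod (O := Y.sheaf) E).obj (op W)) :
    aFun f E M V α W (r • e) =
      rmap (R := X.sheaf.obj) (homOfLE (cap_le_left (f ⁻¹ᵁ V) (f ⁻¹ᵁ W))) (φs f r) •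
        aFun f E M V α W e := by
  unfold aFun
  rw [rs_smul, α.2, toX_smul, rs_smul, φs_rmap, ← rmap_comp]
  congr 1

/-- the morphism of abelian presheaves underlying `aHom` -/
def aPre (α : linSubgroup (toPMod (O := Y.sheaf) E)
      (toPMod (O := Y.sheaf) ((Scheme.Modules.pushforward f).obj M)) V) :
    E.val.presheaf ⟶ ((Scheme.Modules.pushforward f).obj (GU (f ⁻¹ᵁ V) M)).val.presheaf where
  app W := AddCommGrpCat.ofHom
    (AddMonoidHom.mk' (fun e => aFun f E M V α W.unop e) (aFun_add f E M V α W.unop))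
  naturality {W₁ W₂} i := by
    apply AddCommGrpCat.hom_ext
    ext e
    exact aFun_rs f E M V α i.unop _ e

/-- a linear family `E|_V → (f_* M)|_V` as a morphism `E ⟶ f_* j_* j^* M` -/
def aHom (α : linSubgroup (toPMod (O := Y.sheaf) E)
      (toPMod (O := Y.sheaf) ((Scheme.Modules.pushforward f).obj M)) V) :
    E ⟶ (Scheme.Modules.pushforward f).obj (GU (f ⁻¹ᵁ V) M) :=
  ⟨PresheafOfModules.homMk (aPre f E M V α) (by
    intro W r m
    have h1 := aFun_smul f E M V α W.unop r m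
    have h2 := GU_smul (f ⁻¹ᵁ V) M (f ⁻¹ᵁ W.unop) ((f.app W.unop).hom r)
      (aFun f E M V α W.unop m)
    exact h1.trans h2.symm)⟩

lemma aHom_app (α : linSubgroup (toPMod (O := Y.sheaf) E)
      (toPMod (O := Y.sheaf) ((Scheme.Modules.pushforward f).obj M)) V)
    (W : Y.Opens) (e : (toPMod (O := Y.sheaf) E).obj (op W)) :
    ((aHom f E M V α).app W).hom e = aFun f E M V α W e := rfl

/-- **Existence**: every linear family `E|_V → (f_* M)|_V` is the composite of a linear family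
`(f^* E)|_{f⁻¹V} → M|_{f⁻¹V}` with the unit. -/
theorem exists_family (α : linSubgroup (toPMod (O := Y.sheaf) E)
      (toPMod (O := Y.sheaf) ((Scheme.Modules.pushforward f).obj M)) V) :
    ∃ β : linSubgroup (toPMod (O := X.sheaf) ((Scheme.Modules.pullback f).obj E))
      (toPMod (O := X.sheaf) M) (f ⁻¹ᵁ V),
      ∀ {W : Y.Opens} (g : W ⟶ V) (e : (toPMod (O := Y.sheaf) E).obj (op W)),
        ev β.1 ((Opens.map f.base).map g) (ηs f E e) = toX f M (ev α.1 g e) := by
  let b := ((Scheme.Modules.pullbackPushforwardAdjunction f).homEquiv _ _).symm (aHom f E M V α)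
  refine ⟨fromGU _ M _ b, ?_⟩
  intro W g e
  rw [ev_fromGU]
  have h1 : (b.app (f ⁻¹ᵁ W)).hom (ηs f E e) = ((aHom f E M V α).app W).hom e := by
    rw [← homEquiv_app]
    show (((Scheme.Modules.pullbackPushforwardAdjunction f).homEquiv _ _
      (((Scheme.Modules.pullbackPushforwardAdjunction f).homEquiv _ _).symm
        (aHom f E M V α))).app W).hom e = _
    rw [Equiv.apply_symm_apply]
  have h2 : gu M (f ⁻¹ᵁ V) ((b.app (f ⁻¹ᵁ W)).hom (ηs f E e)) = aFun f E M V α W e := by
    rw [h1]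
    rfl
  rw [h2]
  unfold aFun
  have h3 : ev α.1 (homOfLE (inf_le_right : W ⊓ V ≤ V))
      (rs (toPMod (O := Y.sheaf) E) (homOfLE (inf_le_left : W ⊓ V ≤ W)) e) =
      rs (toPMod (O := Y.sheaf) ((Scheme.Modules.pushforward f).obj M))
        (homOfLE (inf_le_left : W ⊓ V ≤ W)) (ev α.1 g e) := by
    rw [ev_naturality]
    exact ev_hom_irrel _ _ _ _
  rw [h3, toX_rs, ← rs_comp, ← rs_comp]
  have h4 : ∀ (k : f ⁻¹ᵁ W ⟶ f ⁻¹ᵁ W) (t : (toPMod (O := X.sheaf) M).obj (op (f ⁻¹ᵁ W))),
      rs (toPMod (O := X.sheaf) M) k t = t := by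
    intro k t
    rw [Subsingleton.elim k (𝟙 _), rs_id]
  exact h4 _ _

end adj

section basis

variable {X Y : Scheme.{u}} (f : X ⟶ Y)

/-- the structure sheaf of `X` as a module -/
abbrev OX (X : Scheme.{u}) : X.Modules := ModSite.unit X.sheaf

/-- a scalar as a section of the structure module -/
def csX {W : X.Opens} (r : X.sheaf.obj.obj (op W)) : (toPMod (O := X.sheaf) (OX X)).obj (op W) := r

/-- a section of the structure module as a scalar -/
def scX {W : X.Opens} (x : (toPMod (O := X.sheaf) (OX X)).obj (op W)) : X.sheaf.obj.obj (op W) := x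

lemma scX_csX {W : X.Opens} (r : X.sheaf.obj.obj (op W)) : scX (csX r) = r := rfl

lemma csX_add {W : X.Opens} (r r' : X.sheaf.obj.obj (op W)) : csX (r + r') = csX r + csX r' := rfl

lemma scX_add {W : X.Opens} (x x' : (toPMod (O := X.sheaf) (OX X)).obj (op W)) :
    scX (x + x') = scX x + scX x' := rfl

lemma scX_smul {W : X.Opens} (r : X.sheaf.obj.obj (op W))
    (x : (toPMod (O := X.sheaf) (OX X)).obj (op W)) : scX (r • x) = r * scX x := rfl

lemma csX_mul {W : X.Opens} (r r' : X.sheaf.obj.obj (op W)) : csX (r * r') = r • csX r' := rfl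

lemma scX_rs {W W₂ : X.Opens} (h : W₂ ⟶ W) (x : (toPMod (O := X.sheaf) (OX X)).obj (op W)) :
    scX (rs (toPMod (O := X.sheaf) (OX X)) h x) = rmap (R := X.sheaf.obj) h (scX x) := rfl

lemma csX_rmap {W W₂ : X.Opens} (h : W₂ ⟶ W) (r : X.sheaf.obj.obj (op W)) :
    csX (rmap (R := X.sheaf.obj) h r) = rs (toPMod (O := X.sheaf) (OX X)) h (csX r) := rfl

lemma φs_add {W : Y.Opens} (r r' : Y.sheaf.obj.obj (op W)) :
    φs f (r + r') = φs f r + φs f r' := map_add (f.app W).hom r r'

lemma φs_mul {W : Y.Opens} (r r' : Y.sheaf.obj.obj (op W)) :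
    φs f (r * r') = φs f r * φs f r' := map_mul (f.app W).hom r r'

variable (E : Y.Modules) (V : Y.Opens) {n : ℕ} (lb : LocBasis (toPMod (O := Y.sheaf) E) V n)

/-- the linear family `φ ∘ c_i : E|_V → (f_* O_X)|_V` -/
def coordFamY (i : Fin n) : linSubgroup (toPMod (O := Y.sheaf) E)
    (toPMod (O := Y.sheaf) ((Scheme.Modules.pushforward f).obj (OX X))) V :=
  ⟨mkHomAb (fun {W} g => AddMonoidHom.mk' (fun e => ofX f (OX X) (csX (φs f (lb.c i g e)))) (by
      intro e e'
      rw [map_add, φs_add, csX_add]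
      rfl))
    (by
      intro W W₂ g h e
      show rs (toPMod (O := Y.sheaf) ((Scheme.Modules.pushforward f).obj (OX X))) h
          (ofX f (OX X) (csX (φs f (lb.c i g e)))) =
        ofX f (OX X) (csX (φs f (lb.c i (h ≫ g) (rs (toPMod (O := Y.sheaf) E) h e))))
      rw [← lb.c_nat i g h e, φs_rmap, csX_rmap]
      rfl),
    by
      intro W g r e
      show ofX f (OX X) (csX (φs f (lb.c i g (r • e)))) =
        r • ofX f (OX X) (csX (φs f (lb.c i g e)))
      rw [lb.c_smul, φs_mul, csX_mul]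
      rfl⟩

lemma ev_coordFamY (i : Fin n) {W : Y.Opens} (g : W ⟶ V)
    (e : (toPMod (O := Y.sheaf) E).obj (op W)) :
    toX f (OX X) (ev (coordFamY f E V lb i).1 g e) = csX (φs f (lb.c i g e)) := rfl

/-- the pulled-back coordinate families -/
def coordFamX (i : Fin n) : linSubgroup
    (toPMod (O := X.sheaf) ((Scheme.Modules.pullback f).obj E)) (toPMod (O := X.sheaf) (OX X))
    (f ⁻¹ᵁ V) :=
  (exists_family f E (OX X) V (coordFamY f E V lb i)).choose

lemma ev_coordFamX (i : Fin n) {W : Y.Opens} (g : W ⟶ V)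
    (e : (toPMod (O := Y.sheaf) E).obj (op W)) :
    scX (ev (coordFamX f E V lb i).1 ((Opens.map f.base).map g) (ηs f E e)) =
      φs f (lb.c i g e) := by
  have := (exists_family f E (OX X) V (coordFamY f E V lb i)).choose_spec g e
  unfold coordFamX
  rw [this, ev_coordFamY, scX_csX]

/-- the pulled-back coordinates -/
def cX (i : Fin n) {W' : X.Opens} (g' : W' ⟶ f ⁻¹ᵁ V) :
    (toPMod (O := X.sheaf) ((Scheme.Modules.pullback f).obj E)).obj (op W') →+
      X.sheaf.obj.obj (op W') :=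
  AddMonoidHom.mk' (fun e' => scX (ev (coordFamX f E V lb i).1 g' e')) (by
    intro e e'
    rw [ev_add, scX_add])

lemma cX_apply (i : Fin n) {W' : X.Opens} (g' : W' ⟶ f ⁻¹ᵁ V)
    (e' : (toPMod (O := X.sheaf) ((Scheme.Modules.pullback f).obj E)).obj (op W')) :
    cX f E V lb i g' e' = scX (ev (coordFamX f E V lb i).1 g' e') := rfl

lemma cX_smul (i : Fin n) {W' : X.Opens} (g' : W' ⟶ f ⁻¹ᵁ V) (r : X.sheaf.obj.obj (op W'))
    (e' : (toPMod (O := X.sheaf) ((Scheme.Modules.pullback f).obj E)).obj (op W')) :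
    cX f E V lb i g' (r • e') = r * cX f E V lb i g' e' := by
  rw [cX_apply, cX_apply, (coordFamX f E V lb i).2, scX_smul]

lemma cX_nat (i : Fin n) {W' W'' : X.Opens} (g' : W' ⟶ f ⁻¹ᵁ V) (h : W'' ⟶ W')
    (e' : (toPMod (O := X.sheaf) ((Scheme.Modules.pullback f).obj E)).obj (op W')) :
    rmap (R := X.sheaf.obj) h (cX f E V lb i g' e') =
      cX f E V lb i (h ≫ g') (rs (toPMod (O := X.sheaf) ((Scheme.Modules.pullback f).obj E)) h e') := by
  rw [cX_apply, cX_apply, ← scX_rs, ev_naturality]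

lemma cX_ηs (i : Fin n) {W : Y.Opens} (g : W ⟶ V) (e : (toPMod (O := Y.sheaf) E).obj (op W)) :
    cX f E V lb i ((Opens.map f.base).map g) (ηs f E e) = φs f (lb.c i g e) :=
  ev_coordFamX f E V lb i g e

lemma ηs_sum {W : Y.Opens} {ι : Type*} (t : Finset ι)
    (m : ι → (toPMod (O := Y.sheaf) E).obj (op W)) :
    ηs f E (∑ i ∈ t, m i) = ∑ i ∈ t, ηs f E (m i) :=
  appE_sum (pv (O := Y.sheaf) (η f E)) t m

/-- the linear family `e' ↦ ∑ c'_i(e') • η(s_i)` -/
def sumFam : linSubgroup (toPMod (O := X.sheaf) ((Scheme.Modules.pullback f).obj E))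
    (toPMod (O := X.sheaf) ((Scheme.Modules.pullback f).obj E)) (f ⁻¹ᵁ V) :=
  ⟨mkHomAb (fun {W'} g' => AddMonoidHom.mk' (fun e' => ∑ i, cX f E V lb i g' e' •
        rs (toPMod (O := X.sheaf) ((Scheme.Modules.pullback f).obj E)) g' (ηs f E (lb.s i))) (by
      intro e e'
      rw [← Finset.sum_add_distrib]
      refine Finset.sum_congr rfl fun i _ => ?_
      rw [map_add, add_smul]))
    (by
      intro W' W'' g' h e'
      show rs (toPMod (O := X.sheaf) ((Scheme.Modules.pullback f).obj E)) h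
          (∑ i, cX f E V lb i g' e' •
            rs (toPMod (O := X.sheaf) ((Scheme.Modules.pullback f).obj E)) g' (ηs f E (lb.s i))) =
        ∑ i, cX f E V lb i (h ≫ g')
            (rs (toPMod (O := X.sheaf) ((Scheme.Modules.pullback f).obj E)) h e') •
          rs (toPMod (O := X.sheaf) ((Scheme.Modules.pullback f).obj E)) (h ≫ g')
            (ηs f E (lb.s i))
      rw [rs_sum]
      refine Finset.sum_congr rfl fun i _ => ?_
      rw [rs_smul, cX_nat, rs_comp]),
    by
      intro W' g' r e'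
      show ∑ i, cX f E V lb i g' (r • e') •
          rs (toPMod (O := X.sheaf) ((Scheme.Modules.pullback f).obj E)) g' (ηs f E (lb.s i)) =
        r • ∑ i, cX f E V lb i g' e' •
          rs (toPMod (O := X.sheaf) ((Scheme.Modules.pullback f).obj E)) g' (ηs f E (lb.s i))
      rw [Finset.smul_sum]
      refine Finset.sum_congr rfl fun i _ => ?_
      rw [cX_smul, mul_smul]⟩

lemma ev_sumFam {W' : X.Opens} (g' : W' ⟶ f ⁻¹ᵁ V)
    (e' : (toPMod (O := X.sheaf) ((Scheme.Modules.pullback f).obj E)).obj (op W')) :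
    ev (sumFam f E V lb).1 g' e' = ∑ i, cX f E V lb i g' e' •
      rs (toPMod (O := X.sheaf) ((Scheme.Modules.pullback f).obj E)) g' (ηs f E (lb.s i)) := rfl

lemma sumFam_eq : sumFam f E V lb = famOfHom (𝟙 ((Scheme.Modules.pullback f).obj E)) (f ⁻¹ᵁ V) := by
  apply family_ext f E ((Scheme.Modules.pullback f).obj E) V
  intro W g e
  rw [ev_sumFam]
  have h1 : ev (famOfHom (𝟙 ((Scheme.Modules.pullback f).obj E)) (f ⁻¹ᵁ V)).1
      ((Opens.map f.base).map g) (ηs f E e) = ηs f E e := rfl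
  rw [h1]
  conv_rhs => rw [lb.total g e]
  rw [ηs_sum]
  refine Finset.sum_congr rfl fun i _ => ?_
  rw [cX_ηs, ηs_smul, ηs_rs]

/-- **The pullback of a local basis**: `f^* E` has the local basis `η(s_i)` over `f⁻¹V`. -/
def pullbackLocBasis :
    LocBasis (toPMod (O := X.sheaf) ((Scheme.Modules.pullback f).obj E)) (f ⁻¹ᵁ V) n where
  s i := ηs f E (lb.s i)
  c i {W'} g' := cX f E V lb i g'
  c_smul i {W'} g' r e' := cX_smul f E V lb i g' r e'
  c_nat i {W' W''} g' h e' := cX_nat f E V lb i g' h e'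
  total {W'} g' e' := by
    have h := congrArg (fun β => ev β.1 g' e') (sumFam_eq f E V lb)
    exact h.symm.trans (ev_sumFam f E V lb g' e')

lemma pullbackLocBasis_s (i : Fin n) : (pullbackLocBasis f E V lb).s i = ηs f E (lb.s i) := rfl

lemma pullbackLocBasis_c_ηs (i : Fin n) {W : Y.Opens} (g : W ⟶ V)
    (e : (toPMod (O := Y.sheaf) E).obj (op W)) :
    (pullbackLocBasis f E V lb).c i ((Opens.map f.base).map g) (ηs f E e) = φs f (lb.c i g e) :=
  cX_ηs f E V lb i g e

end basis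

end Groth.Agent.Lib.Helper5.PullbackBasis
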