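import Groth.Agent.Lib.Helper22.Cech.SiteLeray

/-!
# Čech cohomology of the pullback of an injective sheaf along a pullback-preserving functor

For `u : C ⥤ D` between small categories, `C` with pullbacks and `u` preserving them, and an injective abelian
presheaf `I` on `D`, the restriction of `u.op ⋙ I` to every `Over U` is an injective presheaf; in particular the
Čech cohomology of `u.op ⋙ I` vanishes in positive degrees for every family.  No pullbacks in `D` are needed.
-/

set_option autoImplicit false

universe u

open CategoryTheory CategoryTheory.Limits Opposite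

namespace Groth.Agent.Lib.Helper5.PushCech

variable {C D : Type u} [SmallCategory C] [SmallCategory D] [HasPullbacks C]
  (u : C ⥤ D) [PreservesLimitsOfShape WalkingCospan u] (U : C)

instance preservesTerminal_post :
    PreservesLimitsOfShape (Discrete PEmpty.{1}) (Over.post u (X := U)) := by
  have ht : IsTerminal ((Over.post u (X := U)).obj (Over.mk (𝟙 U))) :=
    IsTerminal.ofIso Over.mkIdTerminal
      (Over.isoMk (Iso.refl _) (by
        change 𝟙 (u.obj U) ≫ u.map (𝟙 U) = 𝟙 (u.obj U)
        rw [CategoryTheory.Functor.map_id, Category.comp_id]) :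
          Over.mk (𝟙 (u.obj U)) ≅ (Over.post u).obj (Over.mk (𝟙 U)))
  have : PreservesLimit (Functor.empty.{0} (Over U)) (Over.post u (X := U)) :=
    preservesLimit_of_preserves_limit_cone Over.mkIdTerminal
      ((isLimitMapConeEmptyConeEquiv _ _).symm ht)
  exact preservesLimitsOfShape_pempty_of_preservesTerminal _

instance preservesPullbacks_post :
    PreservesLimitsOfShape WalkingCospan (Over.post u (X := U)) := by
  have : PreservesLimitsOfShape WalkingCospan (Over.post u (X := U) ⋙ Over.forget (u.obj U)) :=
    inferInstanceAs (PreservesLimitsOfShape WalkingCospan (Over.forget U ⋙ u))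
  exact preservesLimitsOfShape_of_reflects_of_preserves (Over.post u (X := U)) (Over.forget (u.obj U))

instance preservesFiniteLimits_post : PreservesFiniteLimits (Over.post u (X := U)) :=
  preservesFiniteLimits_of_preservesTerminal_and_pullbacks _

/-- Restriction along `Over.post u` preserves injective abelian presheaves. -/
lemma injective_whisker_post (A : (Over (u.obj U))ᵒᵖ ⥤ AddCommGrpCat.{u}) [Injective A] :
    Injective (C := (Over U)ᵒᵖ ⥤ AddCommGrpCat.{u}) ((Over.post u (X := U)).op ⋙ A) := by
  have : HasFiniteLimits (Over U) := hasFiniteLimits_of_hasTerminal_and_pullbacks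
  have : PreservesFiniteLimits
      ((Over.post u (X := U)).op.lan : _ ⥤ (Over (u.obj U))ᵒᵖ ⥤ AddCommGrpCat.{u}) :=
    inferInstance
  exact Injective.injective_of_adjoint
    ((Over.post u (X := U)).op.lanAdjunction AddCommGrpCat.{u}) A

/-- The restriction to `Over U` of `u.op ⋙ I`, for an injective presheaf `I`, is injective. -/
instance injective_res_push (I : Dᵒᵖ ⥤ AddCommGrpCat.{u}) [Injective I] :
    Injective (C := (Over U)ᵒᵖ ⥤ AddCommGrpCat.{u})
      (Groth.Agent.Lib.Helper22.Cech.OverInj.res (U := U) (u.op ⋙ I)) :=
  injective_whisker_post u U (Groth.Agent.Lib.Helper22.Cech.OverInj.res (U := u.obj U) I)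

/-- Čech cohomology of `u.op ⋙ I`, for `I` an injective presheaf, vanishes in positive degrees. -/
theorem isZero_cechH_succ_push (I : Dᵒᵖ ⥤ AddCommGrpCat.{u}) [Injective I]
    {ι : Type u} (Y : ι → Over U) (p : ℕ) : IsZero (CohCx.cechH (u.op ⋙ I) Y (p + 1)) :=
  Groth.Agent.Lib.Helper22.Cech.isZero_homology_succ_of_injective Y
    (Groth.Agent.Lib.Helper22.Cech.OverInj.res (U := U) (u.op ⋙ I)) p

variable (J : GrothendieckTopology C) (K : GrothendieckTopology D) [u.IsContinuous J K]

/-- The pullback `V ↦ I(u V)` of an injective abelian sheaf along a continuous functor preserving pullbacks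
has vanishing higher cohomology on every object. -/
theorem subsingleton_HU_succ_push (I : Sheaf K AddCommGrpCat.{u}) [Injective I] (U : C) (p : ℕ) :
    Subsingleton (CohSite.HU ((CohSite.push K J u).obj I) (p + 1) U) := by
  classical
  refine Groth.Agent.Lib.Helper22.Cech.Site.subsingleton_HU_succ_of_covAcyclic
    (B := Set.univ)
    (Cov := fun U ι Y => Sieve.ofArrows (fun i => (Y i).left) (fun i => (Y i).hom) ∈ J U)
    (fun U ι Y hY => ⟨Set.mem_univ _, hY, fun _ _ => Set.mem_univ _⟩) ?_
    ((CohSite.push K J u).obj I) ?_ U (Set.mem_univ _) p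
  · intro V _ T hT
    refine ⟨(Σ W : C, {f : W ⟶ V // T.arrows f}), fun x => Over.mk x.2.1, ?_, fun x => x.2.2⟩
    refine J.superset_covering ?_ hT
    intro W f hf
    exact ⟨W, 𝟙 W, f, Presieve.ofArrows.mk (ι := (Σ W : C, {f : W ⟶ V // T.arrows f})) ⟨W, f, hf⟩,
      by simp⟩
  · intro V ι Y _ q
    exact isZero_cechH_succ_push u V I.obj Y q

end Groth.Agent.Lib.Helper5.PushCech
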