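import Groth.Agent.Lib.Helper5.CoprodBdd
import Groth.Prelude.Def_RelSpec2

/-!
# `f_*` commutes with filtered colimits of modules (helper5)

For `f : X ⟶ S` quasi-compact and quasi-separated, the direct image functors
`Coh.pushAb f` (abelian sheaves), `Scheme.Modules.pushforward f` (`O`-modules) and
`AMod.dirImg f` (modules over `f_* O_X`) commute with filtered colimits.
-/

set_option autoImplicit false
set_option linter.unusedSectionVars false

universe u

open CategoryTheory CategoryTheory.Limits Opposite AlgebraicGeometry TopologicalSpace

namespace Groth.Agent.Lib.Helper5.PushColim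

open Groth.Agent.Lib.Helper5.RpushAb

variable {X S : Scheme.{u}} (f : X ⟶ S) [QuasiCompact f] [QuasiSeparated f]

/-- `f_*` on abelian sheaves commutes with filtered colimits (`f` qcqs). -/
theorem preservesFilteredColimits_pushAb (J : Type u) [SmallCategory J] [IsFiltered J] :
    PreservesColimitsOfShape J (Coh.pushAb f) := by
  haveI : PreservesColimitsOfShape J (Coh.RpushAb f 0) :=
    Groth.Agent.Lib.Helper5.RpushColim.preservesColimitsOfShape_RpushAb f 0 J
  exact preservesColimitsOfShape_of_natIso (Functor.rightDerivedZeroIsoSelf (Coh.pushAb f))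

/-- if `f_*` on abelian sheaves preserves colimits of shape `K`, so does `f_*` on `O`-modules. -/
theorem preservesColimitsOfShape_pushforward_of_pushAb (K : Type u) [SmallCategory K]
    [PreservesColimitsOfShape K (Coh.pushAb f)] :
    PreservesColimitsOfShape K (Scheme.Modules.pushforward f) := by
  haveI hX := Groth.Agent.Lib.Helper17.ModSiteColim.toSheaf_preservesColimits X.ringCatSheaf
  haveI hS := Groth.Agent.Lib.Helper17.ModSiteColim.toSheaf_preservesColimits S.ringCatSheaf
  haveI : PreservesColimitsOfShape K (TT X) :=
    inferInstanceAs (PreservesColimitsOfShape K (SheafOfModules.toSheaf X.ringCatSheaf))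
  haveI : PreservesColimitsOfShape K (TT S) :=
    inferInstanceAs (PreservesColimitsOfShape K (SheafOfModules.toSheaf S.ringCatSheaf))
  haveI : PreservesColimitsOfShape K (TT X ⋙ Coh.pushAb f) := inferInstance
  haveI : PreservesColimitsOfShape K (Scheme.Modules.pushforward f ⋙ TT S) :=
    preservesColimitsOfShape_of_natIso (pushIso f).symm
  haveI : (TT S).ReflectsIsomorphisms :=
    inferInstanceAs (SheafOfModules.toSheaf S.ringCatSheaf).ReflectsIsomorphisms
  haveI : ReflectsColimitsOfShape K (TT S) :=
    reflectsColimitsOfShape_of_reflectsIsomorphisms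
  exact preservesColimitsOfShape_of_reflects_of_preserves (Scheme.Modules.pushforward f) (TT S)

/-- `f_*` on `O`-modules commutes with filtered colimits (`f` qcqs). -/
theorem preservesFilteredColimits_pushforward (J : Type u) [SmallCategory J] [IsFiltered J] :
    PreservesColimitsOfShape J (Scheme.Modules.pushforward f) := by
  haveI := preservesFilteredColimits_pushAb f J
  exact preservesColimitsOfShape_pushforward_of_pushAb f J

/-- `f_*` with values in `f_* O_X`-modules commutes with filtered colimits (`f` qcqs). -/
theorem preservesFilteredColimits_dirImg (J : Type u) [SmallCategory J] [IsFiltered J] :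
    PreservesColimitsOfShape J (AMod.dirImg f) := by
  obtain ⟨-, hc, hr⟩ := Groth.Agent.Lib.Helper17.ModSiteColim.restrictScalars_props
    (AMod.strHom (RelSpec.QCAlg.directImage f))
  haveI : PreservesColimitsOfSize.{u, u} (AMod.toOS (RelSpec.QCAlg.directImage f)) := hc
  haveI : (AMod.toOS (RelSpec.QCAlg.directImage f)).ReflectsIsomorphisms := hr
  haveI : PreservesColimitsOfShape J (AMod.toOS (RelSpec.QCAlg.directImage f)) := inferInstance
  haveI : PreservesColimitsOfShape J
      (AMod.dirImg f ⋙ AMod.toOS (RelSpec.QCAlg.directImage f)) := by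
    have h := preservesFilteredColimits_pushforward f J
    rw [← AMod.toOS_dirImg f] at h
    exact h
  haveI : ReflectsColimitsOfShape J (AMod.toOS (RelSpec.QCAlg.directImage f)) :=
    reflectsColimitsOfShape_of_reflectsIsomorphisms
  exact preservesColimitsOfShape_of_reflects_of_preserves (AMod.dirImg f)
    (AMod.toOS (RelSpec.QCAlg.directImage f))

/-- the comparison `colim f_* D_j ⟶ f_* colim D_j` is an isomorphism in `f_* O_X`-modules. -/
theorem isIso_colimit_desc_dirImg (J : Type u) [SmallCategory J] [IsFiltered J]
    (D : J ⥤ X.Modules) :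
    IsIso (colimit.desc (D ⋙ AMod.dirImg f) ((AMod.dirImg f).mapCocone (colimit.cocone D))) := by
  haveI := preservesFilteredColimits_dirImg f J
  exact inferInstanceAs (IsIso (colimit.post D (AMod.dirImg f)))

end Groth.Agent.Lib.Helper5.PushColim
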