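import Groth.Agent.Lib.Helper5.PushColim

/-!
# `f_*` with values in `f_* O_X`-modules commutes with direct sums (helper5)
-/

set_option autoImplicit false
set_option linter.unusedSectionVars false

universe u

open CategoryTheory CategoryTheory.Limits Opposite AlgebraicGeometry TopologicalSpace

namespace Groth.Agent.Lib.Helper5.PushColim

variable {X S : Scheme.{u}} (f : X ⟶ S) [QuasiCompact f] [QuasiSeparated f]

/-- if `f_*` on `O`-modules preserves colimits of shape `K`, so does `f_*` with values in
`f_* O_X`-modules. -/
theorem preservesColimitsOfShape_dirImg_of_pushforward (K : Type u) [SmallCategory K]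
    [PreservesColimitsOfShape K (Scheme.Modules.pushforward f)] :
    PreservesColimitsOfShape K (AMod.dirImg f) := by
  obtain ⟨-, hc, hr⟩ := Groth.Agent.Lib.Helper17.ModSiteColim.restrictScalars_props
    (AMod.strHom (RelSpec.QCAlg.directImage f))
  haveI : PreservesColimitsOfSize.{u, u} (AMod.toOS (RelSpec.QCAlg.directImage f)) := hc
  haveI : (AMod.toOS (RelSpec.QCAlg.directImage f)).ReflectsIsomorphisms := hr
  haveI : PreservesColimitsOfShape K (AMod.toOS (RelSpec.QCAlg.directImage f)) := inferInstance
  haveI : PreservesColimitsOfShape K
      (AMod.dirImg f ⋙ AMod.toOS (RelSpec.QCAlg.directImage f)) := by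
    have h : PreservesColimitsOfShape K (Scheme.Modules.pushforward f) := inferInstance
    rw [← AMod.toOS_dirImg f] at h
    exact h
  haveI : ReflectsColimitsOfShape K (AMod.toOS (RelSpec.QCAlg.directImage f)) :=
    reflectsColimitsOfShape_of_reflectsIsomorphisms
  exact preservesColimitsOfShape_of_reflects_of_preserves (AMod.dirImg f)
    (AMod.toOS (RelSpec.QCAlg.directImage f))

/-- `f_*` with values in `f_* O_X`-modules commutes with direct sums (`f` qcqs). -/
theorem preservesCoproducts_dirImg (ι : Type u) :
    PreservesColimitsOfShape (Discrete ι) (AMod.dirImg f) := by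
  haveI := Groth.Agent.Lib.Helper5.CoprodBdd.preservesCoproducts_pushforward f ι
  exact preservesColimitsOfShape_dirImg_of_pushforward f (Discrete ι)

theorem isIso_sigmaComparison_dirImg {ι : Type u} (F : ι → X.Modules) :
    IsIso (sigmaComparison (AMod.dirImg f) F) := by
  haveI := preservesCoproducts_dirImg f ι
  infer_instance

end Groth.Agent.Lib.Helper5.PushColim
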