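import Groth.Agent.Lib.Helper5.PlusAcyc
import Groth.Agent.Lib.Helper5.RpushAb
import Groth.Agent.Lib.Helper5.CechShRes
import Groth.Agent.Lib.Helper22.Cech.AffineMorphism
import Groth.Agent.Lib.Helper22.Cech.SchemeLeray
import Groth.Agent.Lib.Helper17.RpushRes
import Groth.Prelude.Def_CechOX

/-!
# `(j_W)_*(F|_W)` is `f_*`-acyclic for `W` affine (helper5)

`X`, `S` schemes with affine diagonal, `f : X ⟶ S`, `W ⊆ X` an affine open, `F` quasi-coherent: the higher direct
images `R^q f_*` of `(j_W)_*(F|_W)` vanish; consequently the terms of the Čech complex of sheaves of a finite affine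
covering are `f_*`-acyclic.
-/

set_option autoImplicit false
set_option linter.unusedSectionVars false

universe u

open CategoryTheory CategoryTheory.Limits Opposite TopologicalSpace AlgebraicGeometry

attribute [local instance] HasDerivedCategory.standard

namespace Groth.Agent.Lib.Helper5.PushRestrAcyc

open Groth.Agent.Lib.Helper22 Groth.Agent.Lib.Helper22.Cech Groth.Agent.Lib.Helper22.CohTop
  Groth.Agent.Lib.Helper5.GrothSS Groth.Agent.Lib.Helper22.EGA7

/-- a morphism from an affine scheme to a scheme with affine diagonal is affine -/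
lemma isAffineHom_of_affineDiagonal {W S : Scheme.{u}} [IsAffine W]
    [IsAffineHom (pullback.diagonal (terminal.from S))] (g : W ⟶ S) : IsAffineHom g := by
  have h : MorphismProperty.HasOfPostcompProperty @IsAffineHom
      (MorphismProperty.diagonal @IsAffineHom) :=
    MorphismProperty.hasOfPostcompProperty_iff_le_diagonal.2 le_rfl
  have h1 : MorphismProperty.diagonal @IsAffineHom (terminal.from S) :=
    (inferInstance : IsAffineHom (pullback.diagonal (terminal.from S)))
  have h2 : IsAffineHom (g ≫ terminal.from S) := isAffineHom_of_isAffine _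
  exact h.of_postcomp g (terminal.from S) h1 h2

lemma isZero_pi {C : Type*} [Category C] [HasZeroMorphisms C] {J : Type*} (Z : J → C)
    [HasProduct Z] (h : ∀ j, IsZero (Z j)) : IsZero (∏ᶜ Z) := by
  rw [IsZero.iff_id_eq_zero]
  exact Pi.hom_ext _ _ fun j => (h j).eq_of_tgt _ _

lemma isZero_of_faithful {C D : Type*} [Category C] [Category D] [HasZeroMorphisms C]
    [HasZeroMorphisms D] (G : C ⥤ D) [G.Faithful] [G.PreservesZeroMorphisms] (M : C)
    (h : IsZero (G.obj M)) : IsZero M := by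
  rw [IsZero.iff_id_eq_zero]
  apply G.map_injective
  rw [G.map_zero]
  exact h.eq_of_src _ _

variable {X S : Scheme.{u}} (f : X ⟶ S)
  [IsAffineHom (pullback.diagonal (terminal.from X))]
  [IsAffineHom (pullback.diagonal (terminal.from S))]

/-- `H^{q+1}(f⁻¹V, j_*G) = 0` for `V ⊆ S` affine, `j : W ⟶ X` the inclusion of an affine open and `G`
quasi-coherent on `W`. -/
theorem subsingleton_HU_push (W : X.Opens) (hW : IsAffineOpen W) (G : (W : Scheme.{u}).Modules)
    [G.IsQuasicoherent] (V : S.Opens) (hV : IsAffineOpen V) (q : ℕ) :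
    Subsingleton (CohTop.HU (Coh.toAb ((Scheme.Modules.pushforward W.ι).obj G)) (q + 1)
      (f ⁻¹ᵁ V)) := by
  haveI : IsAffine (W : Scheme.{u}) := hW
  haveI hjf : IsAffineHom (W.ι ≫ f) := isAffineHom_of_affineDiagonal _
  haveI hj : IsAffineHom W.ι := isAffineHom_of_affineDiagonal _
  set U : X.Opens := f ⁻¹ᵁ V with hU
  haveI : IsAffineHom (W.ι ∣_ U) := IsZariskiLocalAtTarget.restrict hj U
  have hW' : IsAffineOpen (W.ι ⁻¹ᵁ U) := hV.preimage (W.ι ≫ f)
  haveI : IsAffine ((W.ι ⁻¹ᵁ U : (W : Scheme.{u}).Opens) : Scheme.{u}) := hW'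
  set M := (Scheme.Modules.pushforward W.ι).obj G with hM
  obtain ⟨e⟩ := nonempty_HU_addEquiv_H_restr (X := X.carrier) U (Coh.toAb M) (q + 1)
  have e2 : CohTop.restr (Coh.toAb M) U ≅ Coh.toAb (M.restrict U.ι) :=
    (fullyFaithfulSheafToPresheaf _ _).preimageIso (Iso.refl _)
  have e3 : M.restrict U.ι ≅ (Scheme.Modules.pushforward (W.ι ∣_ U)).obj
      (G.restrict (W.ι ⁻¹ᵁ U).ι) := (Groth.Agent.Lib.Helper17.RpushRes.θ W.ι U).app G
  obtain ⟨e4⟩ := nonempty_HH_addEquiv_HH_push (W.ι ∣_ U) (G.restrict (W.ι ⁻¹ᵁ U).ι) (q + 1)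
  have h5 : Subsingleton (Coh.HH _ (G.restrict (W.ι ⁻¹ᵁ U).ι) (q + 1)) :=
    subsingleton_HH_succ_of_isAffine _ (G.restrict (W.ι ⁻¹ᵁ U).ι) q
  have h6 : Subsingleton (Coh.HH _ ((Coh.push (W.ι ∣_ U)).obj (G.restrict (W.ι ⁻¹ᵁ U).ι))
      (q + 1)) := e4.symm.toEquiv.subsingleton
  have h7 : Subsingleton (CohTop.H (Coh.toAb (M.restrict U.ι)) (q + 1)) :=
    subsingleton_H_of_iso ((SheafOfModules.toSheaf _).mapIso e3) (q + 1) h6
  have h8 := subsingleton_H_of_iso e2 (q + 1) h7
  exact e.toEquiv.subsingleton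

variable [HasInjectiveResolutions X.Modules]

/-- **`R^{k+1} f_* ((j_W)_*(F|_W)) = 0`** for `W` affine and `F` quasi-coherent. -/
theorem isZero_Rpush_pushRestr (W : X.Opens) (hW : IsAffineOpen W) (F : X.Modules)
    [F.IsQuasicoherent] (k : ℕ) :
    IsZero ((Coh.Rpush f (k + 1)).obj ((CechOX.pushRestr W).obj F)) := by
  set M := (CechOX.pushRestr W).obj F with hM
  have hPA : PreimageAcyclic f.base (S.affineOpens : Set S.Opens) (Coh.toAb M) := by
    intro V hV q x
    have h := subsingleton_HU_push f W hW ((Scheme.Modules.restrictFunctor W.ι).obj F) V hV q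
    exact h.elim x 0
  have hz : IsZero ((Coh.RpushAb f (k + 1)).obj (Coh.toAb M)) :=
    isZero_Rpush_succ_of_preimageAcyclic f.base S.isBasis_affineOpens (Coh.toAb M) hPA k
  obtain ⟨e⟩ := Groth.Agent.Lib.Helper5.RpushAb.main f M (k + 1)
  have hz' : IsZero ((Groth.Agent.Lib.Helper5.RpushAb.TT S).obj ((Coh.Rpush f (k + 1)).obj M)) :=
    hz.of_iso e
  haveI : (Groth.Agent.Lib.Helper5.RpushAb.TT S).Faithful :=
    inferInstanceAs (SheafOfModules.toSheaf S.ringCatSheaf).Faithful
  exact isZero_of_faithful (Groth.Agent.Lib.Helper5.RpushAb.TT S) _ hz'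

theorem acyc_pushRestr (W : X.Opens) (hW : IsAffineOpen W) (F : X.Modules)
    [F.IsQuasicoherent] : Acyc (Scheme.Modules.pushforward f) ((CechOX.pushRestr W).obj F) :=
  fun k => isZero_Rpush_pushRestr f W hW F k

/-- finite products of acyclic objects are acyclic -/
lemma acyc_pi {A B : Type*} [Category A] [Category B] [Abelian A] [Abelian B]
    [HasInjectiveResolutions A] (T : A ⥤ B) [T.Additive] {J : Type*} [Finite J] (M : J → A)
    [HasProduct M] (h : ∀ j, Acyc T (M j)) : Acyc T (∏ᶜ M) := by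
  intro k
  haveI : HasProduct fun j => (T.rightDerived (k + 1)).obj (M j) := by
    haveI : HasFiniteProducts B := inferInstance
    infer_instance
  exact IsZero.of_iso (isZero_pi _ fun j => h j k) (PreservesProduct.iso (T.rightDerived (k + 1)) M)

lemma pi_opens_eq_iInf {J : Type} (g : J → X.Opens) : ∏ᶜ g = ⨅ j, g j :=
  le_antisymm (le_iInf fun j => leOfHom (Pi.π g j))
    (leOfHom (Pi.lift fun j => homOfLE (iInf_le g j)))

variable {ι : Type u} [Finite ι] (𝒰 : ι → X.Opens) (h𝒰 : ∀ i, IsAffineOpen (𝒰 i))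

include h𝒰 in
lemma isAffineOpen_Uσ {p : ℕ} (σ : Fin (p + 1) → ι) : IsAffineOpen (Uσg 𝒰 σ) := by
  show IsAffineOpen (∏ᶜ (𝒰 ∘ σ))
  rw [pi_opens_eq_iInf]
  exact IsAffineOpen.iInf (fun j => h𝒰 (σ j))

include h𝒰 in
/-- the terms of the Čech complex of sheaves are `f_*`-acyclic -/
theorem acyc_cechSh_X (F : X.Modules) [F.IsQuasicoherent] (p : ℕ) :
    Acyc (Scheme.Modules.pushforward f) (((CechOX.cechSh 𝒰).obj F).X p) := by
  have h : Acyc (Scheme.Modules.pushforward f)
      (∏ᶜ fun σ : Fin (p + 1) → ι => (CechOX.pushRestr (Uσg 𝒰 σ)).obj F) :=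
    acyc_pi (Scheme.Modules.pushforward f) _
      (fun σ => acyc_pushRestr f (Uσg 𝒰 σ) (isAffineOpen_Uσ 𝒰 h𝒰 σ) F)
  exact h

include h𝒰 in
theorem acyc_cechShZ_X (F : X.Modules) [F.IsQuasicoherent] (n : ℤ) :
    Acyc (Scheme.Modules.pushforward f) ((CechOX.cechShZ 𝒰 F).X n) := by
  haveI : PreservesFiniteLimits (Scheme.Modules.pushforward f) := by
    haveI := (Scheme.Modules.pullbackPushforwardAdjunction f).rightAdjoint_preservesLimits
    infer_instance
  have hP := isAdapted_acyc (Scheme.Modules.pushforward f)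
  by_cases hn : 0 ≤ n
  · obtain ⟨p, rfl⟩ := Int.eq_ofNat_of_zero_le hn
    exact hP.of_iso (((CechOX.cechSh 𝒰).obj F).extendXIso ComplexShape.embeddingUpNat
      (rfl : ComplexShape.embeddingUpNat.f p = (p : ℤ))).symm (acyc_cechSh_X f 𝒰 h𝒰 F p)
  · exact hP.of_isZero _ ((CechOX.cechShZ 𝒰 F).isZero_of_isStrictlyGE 0 n (by lia))

end Groth.Agent.Lib.Helper5.PushRestrAcyc
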