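import Groth.Agent.Lib.Helper5.QS
import Groth.Agent.Lib.Helper17.LocInj

/-!
# `M ↦ M/M_U` is exact, `Γ_Z` preserves injectives
-/

set_option autoImplicit false

universe u

open CategoryTheory Limits Opposite

namespace Groth.Agent.Lib.Helper5.QS

open Groth.Agent.Lib.Helper17.IHom Groth.Agent.Lib.Helper17.Tensor
  Groth.Agent.Lib.Helper17.LocInj Groth.Agent.Lib.Helper17.ExtZeroP
  Groth.Agent.Lib.Helper17.ExtZero

variable {C : Type u} [SmallCategory C] {J : GrothendieckTopology C} (O : Sheaf J CommRingCat.{u})
  (U : C)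

variable {O} in
lemma isZero_of_sections_eq_zero (Z : ModSite.Mod O)
    (h : ∀ (V : C) (z : (toPMod Z).obj (op V)), z = 0) : IsZero Z := by
  rw [IsZero.iff_id_eq_zero]
  apply (SheafOfModules.toSheaf _).map_injective
  ext Y m
  exact (h (unop Y) _).trans (h (unop Y) _).symm

variable {O} in
lemma section_eq_zero_of_locally (Z : ModSite.Mod O) {V : C} (z : (toPMod Z).obj (op V))
    (S : Sieve V) (hS : S ∈ J V)
    (h : ∀ {W : C} (g : W ⟶ V), S g → rs (toPMod Z) g z = 0) : z = 0 :=
  eq_of_forall_rs_eq J Z.isSheaf S hS z 0 (fun g hg => (h g hg).trans (rs_zero _ g).symm)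

variable {O} in
lemma appE_injective_of_mono {M N : ModSite.Mod O} (m : M ⟶ N) [Mono m] {V : C}
    (x : (toPMod M).obj (op V)) (hx : appE (pv m) x = 0) : x = 0 := by
  have h1 : Mono ((SheafOfModules.forget _).map m) := inferInstance
  have h2 := (PresheafOfModules.mono_iff_surjective _).1 h1 (X := op V)
  exact h2 (hx.trans (map_zero _).symm)

variable {O} in
lemma isLocallySurjective_of_epi {M N : ModSite.Mod O} (q : M ⟶ N) [Epi q] :
    Presheaf.IsLocallySurjective J (ab (pv q)) := by
  haveI := Groth.Agent.Lib.Helper17.ModSiteExact.toSheaf_preservesFiniteColimits (ModSite.ringSh O)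
  haveI : Epi ((SheafOfModules.toSheaf (ModSite.ringSh O)).map q) := inferInstance
  exact (Sheaf.isLocallySurjective_iff_epi' _
    ((SheafOfModules.toSheaf (ModSite.ringSh O)).map q)).2 this

/-- A null quotient of a submodule of the sheafification of a presheaf of modules vanishing
outside `U` is zero. -/
theorem isZero_of_epi_of_mono_sheafify (P : PMod O)
    (hP : ∀ W : C, IsEmpty (W ⟶ U) → ∀ x : P.obj (op W), x = 0)
    {P' Z : ModSite.Mod O} (m : P' ⟶ (shF O).obj P) [Mono m] (q : P' ⟶ Z) [Epi q]
    (hZ : ModSite.IsNullOn O U Z) : IsZero Z := by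
  apply isZero_of_sections_eq_zero
  intro V z
  have hq := isLocallySurjective_of_epi q
  let S : Sieve V :=
    { arrows := fun W' f => rs (toPMod Z) f z = 0
      downward_closed := by
        intro Y Y' f hf g
        change rs (toPMod Z) (g ≫ f) z = 0
        rw [rs_comp, hf, rs_zero] }
  have hS : S ∈ J V := by
    refine J.transitive (Presheaf.imageSieve_mem J (ab (pv q)) z) S ?_
    rintro W g ⟨p, hp⟩
    have hp' : appE (pv q) p = rs (toPMod Z) g z := hp
    refine J.superset_covering ?_
      (Presheaf.imageSieve_mem J (ab (un P)) (appE (pv m) p))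
    rintro W' h ⟨x, hx⟩
    have hx' : appE (un P) x = rs (toPMod ((shF O).obj P)) h (appE (pv m) p) := hx
    change rs (toPMod Z) (h ≫ g) z = 0
    by_cases hW' : Nonempty (W' ⟶ U)
    · obtain ⟨φ⟩ := hW'
      exact (ExtSupp.isNullOn_iff O U Z).1 hZ φ _
    · have hx0 : x = 0 := hP W' (not_nonempty_iff.1 hW') x
      have h1 : appE (pv m) (rs (toPMod P') h p) = 0 := by
        rw [appE_rs, ← hx', hx0]
        exact map_zero _
      have h2 : rs (toPMod P') h p = 0 := appE_injective_of_mono m _ h1
      rw [rs_comp, ← hp', ← appE_rs, h2]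
      exact map_zero _
  exact section_eq_zero_of_locally Z z S hS (fun g hg => hg)


lemma jP_eq_zero_of_isEmpty (G : PModU O U) (W : C) (hW : IsEmpty (W ⟶ U))
    (x : (jP G).obj (op W)) : x = 0 := by
  have h : (𝟙 (jObj G (op W)) : jObj G (op W) ⟶ jObj G (op W)) = 0 :=
    jObj_hom_ext G (fun φ _ => (hW.false φ).elim)
  have h1 : (𝟙 (jObj G (op W)) : jObj G (op W) ⟶ jObj G (op W)).hom x = x := rfl
  have h2 : (0 : jObj G (op W) ⟶ jObj G (op W)).hom x = 0 := rfl
  exact h1.symm.trans ((congrArg (fun t : jObj G (op W) ⟶ jObj G (op W) => t.hom x) h).trans h2)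

/-- A null quotient of a submodule of an extension by zero from `U` is zero. -/
theorem isZero_of_epi_of_mono_extZero {G : ModSite.Mod (O.over U)} {P' Z : ModSite.Mod O}
    (m : P' ⟶ (ModSite.extZero O U).obj G) [Mono m] (q : P' ⟶ Z) [Epi q]
    (hZ : ModSite.IsNullOn O U Z) : IsZero Z := by
  let e : (ModSite.extZero O U).obj G ≅ (shF O).obj (jP ((forgetU O U).obj G)) :=
    (extZeroIso O U).app G
  exact isZero_of_epi_of_mono_sheafify O U (jP ((forgetU O U).obj G))
    (fun W hW x => jP_eq_zero_of_isEmpty O U _ W hW x) (m ≫ e.hom) q hZ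

lemma isNullOn_of_mono {K Y : ModSite.Mod O} (k : K ⟶ Y) [Mono k]
    (hY : ModSite.IsNullOn O U Y) : ModSite.IsNullOn O U K := by
  haveI : Mono ((ModSite.restr O U).map k) := inferInstance
  exact IsZero.of_mono ((ModSite.restr O U).map k) hY

instance quotOn_preservesMonomorphisms : (ModSite.quotOn O U).PreservesMonomorphisms where
  preserves {A B} f hf := by
    let Qf := (ModSite.quotOn O U).map f
    let k := kernel.ι Qf
    have hK : ModSite.IsNullOn O U (kernel Qf) :=
      isNullOn_of_mono O U k (isNullOn_quotOn' O U A)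
    -- first pullback
    let a : pullback (π O U A) k ⟶ A := pullback.fst (π O U A) k
    let b : pullback (π O U A) k ⟶ kernel Qf := pullback.snd (π O U A) k
    haveI : Mono a := inferInstanceAs (Mono (pullback.fst (π O U A) k))
    haveI : Epi b := inferInstanceAs (Epi (pullback.snd (π O U A) k))
    have hab : a ≫ π O U A = b ≫ k := pullback.condition
    have h0 : (a ≫ f) ≫ cokernel.π (ε O U B) = 0 := by
      change (a ≫ f) ≫ π O U B = 0
      rw [Category.assoc, ← π_naturality, ← Category.assoc, hab, Category.assoc]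
      change b ≫ kernel.ι Qf ≫ Qf = 0
      rw [kernel.condition, comp_zero]
    let l : pullback (π O U A) k ⟶ Abelian.image (ε O U B) :=
      kernel.lift (cokernel.π (ε O U B)) (a ≫ f) h0
    have hl : l ≫ Abelian.image.ι (ε O U B) = a ≫ f := kernel.lift_ι _ _ _
    haveI : Mono (a ≫ f) := mono_comp a f
    haveI : Mono l := mono_of_mono_fac hl
    let e := Abelian.factorThruImage (ε O U B)
    -- second pullback
    let c : pullback l e ⟶ pullback (π O U A) k := pullback.fst l e
    let d : pullback l e ⟶ (ModSite.extZero O U).obj ((ModSite.restr O U).obj B) :=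
      pullback.snd l e
    haveI : Epi c := inferInstanceAs (Epi (pullback.fst l e))
    haveI : Mono d := inferInstanceAs (Mono (pullback.snd l e))
    haveI : Epi (c ≫ b) := epi_comp c b
    have hz : IsZero (kernel Qf) := isZero_of_epi_of_mono_extZero O U d (c ≫ b) hK
    exact Preadditive.mono_of_kernel_zero (hz.eq_of_src _ _)

section Push

variable [ModSite.HasPushOver O U]

instance sectOn_preservesInjectiveObjects : (ModSite.sectOn O U).PreservesInjectiveObjects where
  injective_obj {I} _ := Injective.injective_of_adjoint (adj O U) I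

end Push

end Groth.Agent.Lib.Helper5.QS
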