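import Groth.Agent.Lib.Helper5.CechClosed
import Groth.Agent.Lib.Helper29.QCohQcqs

/-!
# Sections of a quasi-coherent module over `⋃ X_{f_i}` are closed for the extended Čech complex

For a quasi-compact quasi-separated scheme `X`, global functions `fs` and a quasi-coherent module `M`,
the `Γ(X, O_X)`-module `Γ(W ∩ ⋃ X_{f_i}, M)` (`W` quasi-compact open) has vanishing `H^0` and `H^1` of
the extended Čech complex with respect to `fs` (`closed_sections`).  Consequently (`main`) the kernel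
and cokernel of `Γ(X, M) → Γ(⋃ X_{f_i}, M)` are `H^0` and `H^1` of the extended Čech complex of
`Γ(X, M)`.
-/

set_option autoImplicit false

universe u

open CategoryTheory CategoryTheory.Limits AlgebraicGeometry Opposite TopologicalSpace
open Groth.Agent.Lib.Helper29.QCoh Groth.Agent.Lib.Helper5.CechClosed

noncomputable section

namespace Groth.Agent.Lib.Helper5.QcqsClosed

variable {X : Scheme.{u}}

/-! ### Two-element covers -/

theorem glue₂ (M : X.Modules) {V₁ V₂ U : X.Opens} (h₁ : V₁ ≤ U) (h₂ : V₂ ≤ U)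
    (hc : U ≤ V₁ ⊔ V₂) (s₁ : Γ(M, V₁)) (s₂ : Γ(M, V₂))
    (h : res M (inf_le_left : V₁ ⊓ V₂ ≤ V₁) s₁ = res M (inf_le_right : V₁ ⊓ V₂ ≤ V₂) s₂) :
    ∃ s : Γ(M, U), res M h₁ s = s₁ ∧ res M h₂ s = s₂ := by
  let V : Bool → X.Opens := fun b => cond b V₁ V₂
  let sf : ∀ b : Bool, Γ(M, V b) := fun b =>
    match b with
    | true => s₁
    | false => s₂
  have hVU : ∀ b, V b ≤ U := fun b => by
    cases b
    · exact h₂
    · exact h₁
  have hcov : U ≤ iSup V := hc.trans (sup_le (le_iSup V true) (le_iSup V false))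
  have hcomp : ∀ i j, res M (inf_le_left : V i ⊓ V j ≤ V i) (sf i) =
      res M (inf_le_right : V i ⊓ V j ≤ V j) (sf j) := by
    intro i j
    cases i <;> cases j
    · rfl
    · have h' := congrArg (res M (le_inf inf_le_right inf_le_left : V₂ ⊓ V₁ ≤ V₁ ⊓ V₂)) h
      rw [res_res, res_res] at h'
      exact h'.symm
    · exact h
    · rfl
  obtain ⟨s, hs⟩ := exists_gluing M V U hVU hcov sf hcomp
  exact ⟨s, hs true, hs false⟩

theorem eq_zero_of_res₂ (M : X.Modules) {V₁ V₂ U : X.Opens} (h₁ : V₁ ≤ U) (h₂ : V₂ ≤ U)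
    (hc : U ≤ V₁ ⊔ V₂) (s : Γ(M, U)) (e₁ : res M h₁ s = 0) (e₂ : res M h₂ s = 0) : s = 0 := by
  refine eq_zero_of_res_cover_eq_zero M (fun b : Bool => cond b V₁ V₂) (fun b => ?_)
    (hc.trans (sup_le (le_iSup (fun b : Bool => cond b V₁ V₂) true)
      (le_iSup (fun b : Bool => cond b V₁ V₂) false))) s (fun b => ?_)
  · cases b
    · exact h₂
    · exact h₁
  · cases b
    · exact e₂
    · exact e₁

lemma subsingleton_sections_of_le_bot (M : X.Modules) {V : X.Opens} (hV : V ≤ ⊥) :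
    Subsingleton Γ(M, V) := by
  refine ⟨fun a b => ?_⟩
  rw [← sub_eq_zero]
  exact eq_zero_of_res_cover_eq_zero M (fun i : PEmpty.{1} => i.elim) (fun i => i.elim)
    (hV.trans bot_le) _ (fun i => i.elim)

/-! ### Functions invertible on an open -/

theorem isUnit_res_of_le_basicOpen (f : Γ(X, ⊤)) {V : X.Opens} (hV : V ≤ X.basicOpen f) :
    IsUnit (X.presheaf.map (homOfLE (le_top : V ≤ ⊤)).op f) := by
  have h : IsUnit (X.presheaf.map (homOfLE (X.basicOpen_le f)).op f) :=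
    RingedSpace.isUnit_res_basicOpen _ f
  have e : X.presheaf.map (homOfLE (le_top : V ≤ ⊤)).op f =
      X.presheaf.map (homOfLE hV).op (X.presheaf.map (homOfLE (X.basicOpen_le f)).op f) :=
    (map_map_apply X (X.basicOpen_le f) hV f).symm
  rw [e]
  exact h.map (X.presheaf.map (homOfLE hV).op).hom

section Cover

variable (M : X.Modules) (f : Γ(X, ⊤)) {V₁ V₂ U : X.Opens} (h₁ : V₁ ≤ U) (h₂ : V₂ ≤ U)
  (hc : U ≤ V₁ ⊔ V₂) (hf : V₁ ≤ X.basicOpen f)

include h₁ hc hf in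
theorem a1 (x : Γ(M, U)) (hx : res M h₂ x = 0) (hfx : rsmul M le_top f x = 0) : x = 0 := by
  refine eq_zero_of_res₂ M h₁ h₂ hc x ?_ hx
  have h := congrArg (res M h₁) hfx
  rw [rsmul_res, map_zero] at h
  unfold rsmul at h
  exact eq_zero_of_isUnit_smul (isUnit_res_of_le_basicOpen f hf) h

include h₁ hc hf in
theorem a2 (x : Γ(M, U)) (hx : res M h₂ x = 0) :
    ∃ y : Γ(M, U), res M h₂ y = 0 ∧ rsmul M le_top f y = x := by
  obtain ⟨u, hu⟩ := isUnit_res_of_le_basicOpen f hf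
  obtain ⟨y, hy₁, hy₂⟩ := glue₂ M h₁ h₂ hc ((↑u⁻¹ : Γ(X, V₁)) • res M h₁ x) 0 (by
    rw [map_zero, res_smul, res_res, ← res_res M h₂ (inf_le_right : V₁ ⊓ V₂ ≤ V₂), hx, map_zero,
      smul_zero])
  refine ⟨y, hy₂, ?_⟩
  rw [← sub_eq_zero]
  refine eq_zero_of_res₂ M h₁ h₂ hc _ ?_ ?_
  · rw [map_sub, rsmul_res, hy₁, sub_eq_zero]
    unfold rsmul
    rw [← hu, smul_smul, Units.mul_inv, one_smul]
  · rw [map_sub, rsmul_res, hy₂, rsmul_zero, hx, sub_zero]

include h₁ hc hf in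
theorem bb (s : Γ(M, V₂)) (t : Γ(M, U)) (ht : res M h₂ t = rsmul M le_top f s) :
    ∃ t' : Γ(M, U), res M h₂ t' = s := by
  obtain ⟨u, hu⟩ := isUnit_res_of_le_basicOpen f hf
  obtain ⟨y, _, hy₂⟩ := glue₂ M h₁ h₂ hc ((↑u⁻¹ : Γ(X, V₁)) • res M h₁ t) s (by
    rw [res_smul, res_res, ← res_res M h₂ (inf_le_right : V₁ ⊓ V₂ ≤ V₂), ht, rsmul_res]
    unfold rsmul
    rw [smul_smul]
    have e : X.presheaf.map (homOfLE (inf_le_left : V₁ ⊓ V₂ ≤ V₁)).op (↑u⁻¹ : Γ(X, V₁)) *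
        X.presheaf.map (homOfLE (le_top : V₁ ⊓ V₂ ≤ ⊤)).op f = 1 := by
      rw [← map_map_apply X (le_top : V₁ ≤ ⊤) (inf_le_left : V₁ ⊓ V₂ ≤ V₁) f, ← hu, ← map_mul,
        Units.inv_mul, map_one]
    rw [e, one_smul])
  exact ⟨y, hy₂⟩

end Cover

/-! ### The qcqs lemma with a global function -/

section Qcqs

variable (M : X.Modules) [M.IsQuasicoherent] {W V : X.Opens}

theorem ker_tors (hW : IsCompact (W : Set X)) (hV : V ≤ W) (g : Γ(X, ⊤))
    (hg : W ⊓ X.basicOpen g ≤ V) (m : Γ(M, W)) (hm : res M hV m = 0) :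
    ∃ n : ℕ, rsmul M le_top (g ^ n) m = 0 := by
  have e0 : X.basicOpen (X.presheaf.map (homOfLE (le_top : W ≤ ⊤)).op g) = W ⊓ X.basicOpen g :=
    basicOpen_res_eq le_top g
  have hle : X.basicOpen (X.presheaf.map (homOfLE (le_top : W ≤ ⊤)).op g) ≤ V := e0.le.trans hg
  have h0 : res M (X.basicOpen_le (X.presheaf.map (homOfLE (le_top : W ≤ ⊤)).op g)) m = 0 := by
    rw [← res_res M hV hle, hm, map_zero]
  obtain ⟨n, hn⟩ := exists_pow_smul_eq_zero_of_isCompact M hW _ m h0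
  refine ⟨n, ?_⟩
  unfold rsmul
  rw [map_pow]
  exact hn

theorem coker_tors (hW : IsCompact (W : Set X)) (hW' : IsQuasiSeparated (W : Set X))
    (hVc : IsCompact (V : Set X)) (hV : V ≤ W) (g : Γ(X, ⊤))
    (hg : W ⊓ X.basicOpen g ≤ V) (y : Γ(M, V)) :
    ∃ (n : ℕ) (m : Γ(M, W)), res M hV m = rsmul M le_top (g ^ n) y := by
  have e0 : X.basicOpen (X.presheaf.map (homOfLE (le_top : W ≤ ⊤)).op g) = W ⊓ X.basicOpen g :=
    basicOpen_res_eq le_top g
  have hle : X.basicOpen (X.presheaf.map (homOfLE (le_top : W ≤ ⊤)).op g) ≤ V := e0.le.trans hg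
  obtain ⟨n, m, hm⟩ := exists_pow_smul_eq_res_of_qcqs M hW hW' _ (res M hle y)
  have e1 : X.basicOpen (X.presheaf.map (homOfLE (le_top : V ≤ ⊤)).op g) = V ⊓ X.basicOpen g :=
    basicOpen_res_eq le_top g
  have hle2 : X.basicOpen (X.presheaf.map (homOfLE (le_top : V ≤ ⊤)).op g) ≤
      X.basicOpen (X.presheaf.map (homOfLE (le_top : W ≤ ⊤)).op g) := by
    rw [e0, e1]
    exact inf_le_inf_right _ hV
  have hd0 : res M (X.basicOpen_le (X.presheaf.map (homOfLE (le_top : V ≤ ⊤)).op g))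
      (rsmul M (le_top : V ≤ ⊤) (g ^ n) y - res M hV m) = 0 := by
    rw [map_sub, sub_eq_zero, rsmul_res, res_res,
      ← res_res M (X.basicOpen_le (X.presheaf.map (homOfLE (le_top : W ≤ ⊤)).op g)) hle2 m, ← hm,
      res_smul, res_res]
    unfold rsmul
    congr 1
    rw [map_pow, map_pow, map_map_apply, map_map_apply]
  obtain ⟨k, hk⟩ := exists_pow_smul_eq_zero_of_isCompact M hVc _ _ hd0
  refine ⟨k + n, rsmul M le_top (g ^ k) m, ?_⟩
  rw [rsmul_res, rsmul_pow_add]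
  have h2 : rsmul M (le_top : V ≤ ⊤) (g ^ k)
      (rsmul M (le_top : V ≤ ⊤) (g ^ n) y - res M hV m) = 0 := by
    unfold rsmul
    rw [map_pow]
    exact hk
  rw [rsmul_sub, sub_eq_zero] at h2
  exact h2.symm

end Qcqs

/-! ### The union of the basic opens -/

variable (X) in
/-- the union of the `X_f`, `f ∈ fs` -/
def UL : List Γ(X, ⊤) → X.Opens
  | [] => ⊥
  | f :: fs => X.basicOpen f ⊔ UL fs

lemma mem_UL (fs : List Γ(X, ⊤)) (x : X) : x ∈ UL X fs ↔ ∃ g ∈ fs, x ∈ X.basicOpen g := by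
  induction fs with
  | nil =>
    constructor
    · intro h
      exact (Opens.mem_bot.1 h).elim
    · rintro ⟨g, hg, _⟩
      exact absurd hg List.not_mem_nil
  | cons f fs ih =>
    change x ∈ X.basicOpen f ⊔ UL X fs ↔ _
    rw [← SetLike.mem_coe, Opens.coe_sup, Set.mem_union, SetLike.mem_coe, SetLike.mem_coe, ih]
    constructor
    · rintro (h | ⟨g, hg, h⟩)
      · exact ⟨f, List.mem_cons_self, h⟩
      · exact ⟨g, List.mem_cons_of_mem _ hg, h⟩
    · rintro ⟨g, hg, h⟩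
      rcases List.mem_cons.1 hg with rfl | hg
      · exact Or.inl h
      · exact Or.inr ⟨g, hg, h⟩

lemma basicOpen_le_UL {fs : List Γ(X, ⊤)} {g : Γ(X, ⊤)} (hg : g ∈ fs) :
    X.basicOpen g ≤ UL X fs := fun x hx => (mem_UL fs x).2 ⟨g, hg, hx⟩

lemma UL_eq (fs : List Γ(X, ⊤)) :
    UL X fs = ⨆ i : Fin fs.length, X.basicOpen (fs.get i) := by
  ext x
  rw [SetLike.mem_coe, SetLike.mem_coe, mem_UL, Opens.mem_iSup]
  constructor
  · rintro ⟨g, hg, h⟩
    obtain ⟨i, rfl⟩ := List.mem_iff_get.1 hg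
    exact ⟨i, h⟩
  · rintro ⟨i, h⟩
    exact ⟨fs.get i, List.get_mem fs i, h⟩

theorem isCompact_inf_UL {W : X.Opens} (hW : IsCompact (W : Set X)) :
    ∀ fs : List Γ(X, ⊤), IsCompact ((W ⊓ UL X fs : X.Opens) : Set X)
  | [] => by
    have e : (W ⊓ UL X [] : X.Opens) = ⊥ := inf_bot_eq _
    rw [e, Opens.coe_bot]
    exact isCompact_empty
  | f :: fs => by
    have e : (W ⊓ UL X (f :: fs) : X.Opens) = (W ⊓ X.basicOpen f) ⊔ (W ⊓ UL X fs) :=
      inf_sup_left _ _ _
    rw [e, Opens.coe_sup]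
    refine IsCompact.union ?_ (isCompact_inf_UL hW fs)
    have h := AlgebraicGeometry.isCompact_basicOpen X hW
      (X.presheaf.map (homOfLE (le_top : W ≤ ⊤)).op f)
    rwa [basicOpen_res_eq] at h

/-! ### Sections as modules over the global functions -/

/-- sections over `V` as a module over the global functions -/
def secMod (M : X.Modules) (V : X.Opens) : ModuleCat.{u} Γ(X, ⊤) :=
  letI := sectionsModule M (le_top : V ≤ ⊤)
  ModuleCat.of Γ(X, ⊤) Γ(M, V)

/-- restriction of sections -/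
def secRes (M : X.Modules) {V V' : X.Opens} (h : V' ≤ V) : secMod M V ⟶ secMod M V' :=
  letI := sectionsModule M (le_top : V ≤ ⊤)
  letI := sectionsModule M (le_top : V' ≤ ⊤)
  ModuleCat.ofHom
    { toFun := fun m => res M h m
      map_add' := fun a b => map_add (res M h) a b
      map_smul' := fun g m => rsmul_res M (le_top : V ≤ ⊤) h g m }

lemma closed_of_isZero {R : Type u} [CommRing R] (fs : List R) (N : ModuleCat.{u} R)
    (h : IsZero N) : Closed fs N := by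
  have hz : IsZero ((Groth.Agent.Lib.Helper5.ExtCechH0.cechF fs).obj N) :=
    (Groth.Agent.Lib.Helper5.ExtCechH0.cechF fs).map_isZero h
  have hX : ∀ n, IsZero (((Groth.Agent.Lib.Helper5.ExtCechH0.cechF fs).obj N).X n) := fun n =>
    (HomologicalComplex.eval _ _ n).map_isZero hz
  exact ⟨Groth.Agent.Lib.Helper5.ExtCechH0.isZero_homology_of_isZero_X _ _ (hX 0),
    Groth.Agent.Lib.Helper5.ExtCechH0.isZero_homology_of_isZero_X _ _ (hX 1)⟩

/-! ### The induction -/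

theorem closed_sections [QuasiSeparatedSpace X] (M : X.Modules) [M.IsQuasicoherent] :
    ∀ (fs : List Γ(X, ⊤)) (W : X.Opens), IsCompact (W : Set X) →
      Closed fs (secMod M (W ⊓ UL X fs))
  | [], W, _ => by
    refine closed_of_isZero [] _ ?_
    haveI : Subsingleton (secMod M (W ⊓ UL X [])) :=
      subsingleton_sections_of_le_bot M (inf_le_right : W ⊓ UL X [] ≤ ⊥)
    exact ModuleCat.isZero_of_subsingleton _
  | f :: fs, W, hW => by
    have hW'c : IsCompact ((W ⊓ UL X (f :: fs) : X.Opens) : Set X) := isCompact_inf_UL hW (f :: fs)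
    have hN := closed_sections M fs (W ⊓ UL X (f :: fs)) hW'c
    have h₁ : (W ⊓ UL X (f :: fs)) ⊓ X.basicOpen f ≤ W ⊓ UL X (f :: fs) := inf_le_left
    have h₂ : (W ⊓ UL X (f :: fs)) ⊓ UL X fs ≤ W ⊓ UL X (f :: fs) := inf_le_left
    have hc : W ⊓ UL X (f :: fs) ≤
        ((W ⊓ UL X (f :: fs)) ⊓ X.basicOpen f) ⊔ ((W ⊓ UL X (f :: fs)) ⊓ UL X fs) := by
      rw [← inf_sup_left]
      exact le_inf le_rfl inf_le_right
    have hf : (W ⊓ UL X (f :: fs)) ⊓ X.basicOpen f ≤ X.basicOpen f := inf_le_right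
    refine closed_cons_of (secRes M h₂) fs f ?_ ?_ hN ?_ ?_ ?_
    · intro m hm g hg
      exact ker_tors M hW'c h₂ g (inf_le_inf_left _ (basicOpen_le_UL hg)) m hm
    · intro y g hg
      exact coker_tors M hW'c (IsQuasiSeparated.of_quasiSeparatedSpace _)
        (isCompact_inf_UL hW'c fs) h₂ g (inf_le_inf_left _ (basicOpen_le_UL hg)) y
    · intro x hx hfx
      exact a1 M f h₁ h₂ hc hf x hx hfx
    · intro x hx
      exact a2 M f h₁ h₂ hc hf x hx
    · rintro s ⟨t, ht⟩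
      exact bb M f h₁ h₂ hc hf s t ht

end Groth.Agent.Lib.Helper5.QcqsClosed
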