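import Groth.Agent.Lib.Helper5.QcqsClosed

/-!
# Closedness of sections over `⋃ X_{φ f_i}` as modules over a ring mapping to the global functions

The version of `QcqsClosed.closed_sections` for a ring homomorphism `φ : R →+* Γ(X, ⊤)` and a list of
elements of `R` (for instance `X = Spec R`).
-/

set_option autoImplicit false

universe u

open CategoryTheory CategoryTheory.Limits AlgebraicGeometry Opposite TopologicalSpace
open Groth.Agent.Lib.Helper29.QCoh Groth.Agent.Lib.Helper5.CechClosed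
open Groth.Agent.Lib.Helper5.QcqsClosed

noncomputable section

namespace Groth.Agent.Lib.Helper5.QcqsClosedHom

variable {X : Scheme.{u}} {R : Type u} [CommRing R] (φ : R →+* Γ(X, ⊤))

/-- sections over `V` as an `R`-module through `φ` -/
def secModφ (M : X.Modules) (V : X.Opens) : ModuleCat.{u} R :=
  letI := sectionsModule M (le_top : V ≤ ⊤)
  letI : Module R Γ(M, V) := Module.compHom Γ(M, V) φ
  ModuleCat.of R Γ(M, V)

lemma smul_def (M : X.Modules) (V : X.Opens) (r : R) (m : secModφ φ M V) :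
    r • m = rsmul M (le_top : V ≤ ⊤) (φ r) m := rfl

/-- restriction of sections -/
def secResφ (M : X.Modules) {V V' : X.Opens} (h : V' ≤ V) : secModφ φ M V ⟶ secModφ φ M V' :=
  letI := sectionsModule M (le_top : V ≤ ⊤)
  letI := sectionsModule M (le_top : V' ≤ ⊤)
  letI : Module R Γ(M, V) := Module.compHom Γ(M, V) φ
  letI : Module R Γ(M, V') := Module.compHom Γ(M, V') φ
  ModuleCat.ofHom
    { toFun := fun m => res M h m
      map_add' := fun a b => map_add (res M h) a b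
      map_smul' := fun g m => rsmul_res M (le_top : V ≤ ⊤) h (φ g) m }

lemma secResφ_apply (M : X.Modules) {V V' : X.Opens} (h : V' ≤ V) (m : secModφ φ M V) :
    (secResφ φ M h).hom m = res M h m := rfl

theorem closed_sectionsφ [QuasiSeparatedSpace X] (M : X.Modules) [M.IsQuasicoherent] :
    ∀ (fs : List R) (W : X.Opens), IsCompact (W : Set X) →
      Closed fs (secModφ φ M (W ⊓ UL X (fs.map φ)))
  | [], W, _ => by
    refine closed_of_isZero [] _ ?_
    haveI : Subsingleton (secModφ φ M (W ⊓ UL X (([] : List R).map φ))) :=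
      subsingleton_sections_of_le_bot M (inf_le_right : W ⊓ UL X (([] : List R).map φ) ≤ ⊥)
    exact ModuleCat.isZero_of_subsingleton _
  | f :: fs, W, hW => by
    have hW'c : IsCompact ((W ⊓ UL X ((f :: fs).map φ) : X.Opens) : Set X) :=
      isCompact_inf_UL hW ((f :: fs).map φ)
    have hN := closed_sectionsφ M fs (W ⊓ UL X ((f :: fs).map φ)) hW'c
    have h₁ : (W ⊓ UL X ((f :: fs).map φ)) ⊓ X.basicOpen (φ f) ≤ W ⊓ UL X ((f :: fs).map φ) :=
      inf_le_left
    have h₂ : (W ⊓ UL X ((f :: fs).map φ)) ⊓ UL X (fs.map φ) ≤ W ⊓ UL X ((f :: fs).map φ) :=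
      inf_le_left
    have hc : W ⊓ UL X ((f :: fs).map φ) ≤
        ((W ⊓ UL X ((f :: fs).map φ)) ⊓ X.basicOpen (φ f)) ⊔
          ((W ⊓ UL X ((f :: fs).map φ)) ⊓ UL X (fs.map φ)) := by
      rw [← inf_sup_left]
      exact le_inf le_rfl inf_le_right
    have hf : (W ⊓ UL X ((f :: fs).map φ)) ⊓ X.basicOpen (φ f) ≤ X.basicOpen (φ f) :=
      inf_le_right
    refine closed_cons_of (secResφ φ M h₂) fs f ?_ ?_ hN ?_ ?_ ?_
    · intro m hm g hg
      obtain ⟨n, hn⟩ := ker_tors M hW'c h₂ (φ g)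
        (inf_le_inf_left _ (basicOpen_le_UL (List.mem_map_of_mem hg))) m hm
      refine ⟨n, ?_⟩
      change rsmul M le_top (φ (g ^ n)) m = 0
      rw [map_pow]
      exact hn
    · intro y g hg
      obtain ⟨n, m, hm⟩ := coker_tors M hW'c (IsQuasiSeparated.of_quasiSeparatedSpace _)
        (isCompact_inf_UL hW'c (fs.map φ)) h₂ (φ g)
        (inf_le_inf_left _ (basicOpen_le_UL (List.mem_map_of_mem hg))) y
      refine ⟨n, m, ?_⟩
      change res M h₂ m = rsmul M le_top (φ (g ^ n)) y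
      rw [map_pow]
      exact hm
    · intro x hx hfx
      exact a1 M (φ f) h₁ h₂ hc hf x hx hfx
    · intro x hx
      exact a2 M (φ f) h₁ h₂ hc hf x hx
    · rintro s ⟨t, ht⟩
      exact bb M (φ f) h₁ h₂ hc hf s t ht

/-- For an `R`-linear map `r₀ : M₀ ⟶ Γ(X, M)` which is bijective, the kernel and the cokernel of
`M₀ → Γ(W, M)`, `W = ⋃ X_{φ f}`, are `H^0` and `H^1` of the extended Čech complex of `M₀`. -/
theorem thmA_sections [CompactSpace X] [QuasiSeparatedSpace X] (M : X.Modules) [M.IsQuasicoherent]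
    (fs : List R) (M₀ : ModuleCat.{u} R) (r₀ : M₀ ⟶ secModφ φ M ⊤)
    (hr₀ : Function.Bijective r₀.hom) :
    Nonempty (Hq fs M₀ 0 ≅ ModuleCat.of R (LinearMap.ker
      (r₀ ≫ secResφ φ M (inf_le_left : ⊤ ⊓ UL X (fs.map φ) ≤ ⊤)).hom)) ∧
    Nonempty (Hq fs M₀ 1 ≅ ModuleCat.of R (secModφ φ M (⊤ ⊓ UL X (fs.map φ)) ⧸ LinearMap.range
      (r₀ ≫ secResφ φ M (inf_le_left : ⊤ ⊓ UL X (fs.map φ) ≤ ⊤)).hom)) := by
  have hT : IsCompact ((⊤ : X.Opens) : Set X) := by
    rw [Opens.coe_top]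
    exact isCompact_univ
  refine thmA (r₀ ≫ secResφ φ M (inf_le_left : ⊤ ⊓ UL X (fs.map φ) ≤ ⊤)) fs ?_ ?_
    (closed_sectionsφ φ M fs ⊤ hT)
  · intro m hm g hg
    have hm' : res M (inf_le_left : ⊤ ⊓ UL X (fs.map φ) ≤ ⊤) (r₀.hom m) = 0 := hm
    obtain ⟨n, hn⟩ := ker_tors M hT (inf_le_left : ⊤ ⊓ UL X (fs.map φ) ≤ ⊤) (φ g)
      (inf_le_inf_left _ (basicOpen_le_UL (List.mem_map_of_mem hg))) (r₀.hom m) hm'
    refine ⟨n, hr₀.1 ?_⟩
    rw [map_smul, map_zero]
    change rsmul M le_top (φ (g ^ n)) (r₀.hom m) = 0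
    rw [map_pow]
    exact hn
  · intro y g hg
    obtain ⟨n, m, hm⟩ := coker_tors M hT (IsQuasiSeparated.of_quasiSeparatedSpace _)
      (isCompact_inf_UL hT (fs.map φ)) (inf_le_left : ⊤ ⊓ UL X (fs.map φ) ≤ ⊤) (φ g)
      (inf_le_inf_left _ (basicOpen_le_UL (List.mem_map_of_mem hg))) y
    obtain ⟨m₀, hm₀⟩ := hr₀.2 m
    refine ⟨n, m₀, ?_⟩
    change res M (inf_le_left : ⊤ ⊓ UL X (fs.map φ) ≤ ⊤) (r₀.hom m₀) = rsmul M le_top (φ (g ^ n)) y
    rw [hm₀, map_pow]
    exact hm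

end Groth.Agent.Lib.Helper5.QcqsClosedHom
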