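import Groth.Agent.Lib.Helper5.ColimTopGen
import Groth.Agent.Lib.Helper5.ToSheafColim
import Groth.Agent.Lib.Helper5.RpushAb
import Groth.Agent.Lib.Helper29.SerreA
import Groth.Agent.Lib.Helper29.QCohCrit
import Groth.Agent.Lib.Helper29.QCohLocFree
import Groth.Agent.Lib.Helper29.QCohQcqs
import Groth.Agent.Lib.Helper22.FourTerm
import Groth.Agent.S2128
import Groth.Agent.S0010

/-!
# Vanishing of quasi-coherent cohomology on a quasi-affine scheme with acyclic structure sheaf

* `subsingleton_H_of_cofan`: cohomology of a finite coproduct vanishes if it does for the terms;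
* `exists_fin_global_sections`: a quasi-coherent module of finite type on a quasi-affine scheme is
  generated by finitely many global sections;
* `subsingleton_HH_of_quasiAffine`: if `X` is quasi-affine and `H^p(X, O_X) = 0` for `p > 0`, then
  `H^p(X, F) = 0` for all quasi-coherent `F` and `p > 0` (descending induction on `p`).
-/

set_option autoImplicit false
set_option linter.unusedSectionVars false

universe u

open CategoryTheory CategoryTheory.Limits Opposite TopologicalSpace AlgebraicGeometry Abelian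

namespace Groth.Agent.Lib.Helper5.QuasiAffineVanish

open Groth.Agent.Lib.Helper29.QCoh Groth.Agent.Lib.Helper22

section Additivity

variable {T : TopCat.{u}}

lemma H_map_zero {F G : Sheaf (Opens.grothendieckTopology T) AddCommGrpCat.{u}} (n : ℕ)
    (x : Sheaf.H F n) : Sheaf.H.map (0 : F ⟶ G) n x = 0 := by
  rw [Sheaf.H.map_apply, Ext.mk₀_zero, Ext.comp_zero]

lemma H_map_sum {F G : Sheaf (Opens.grothendieckTopology T) AddCommGrpCat.{u}} {κ : Type*}
    (s : Finset κ) (φ : κ → (F ⟶ G)) (n : ℕ) (x : Sheaf.H F n) :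
    Sheaf.H.map (∑ j ∈ s, φ j) n x = ∑ j ∈ s, Sheaf.H.map (φ j) n x := by
  classical
  induction s using Finset.induction_on with
  | empty => simp [H_map_zero]
  | insert a s ha ih =>
    rw [Finset.sum_insert ha, Finset.sum_insert ha, Sheaf.H.map_add_apply, ih]

/-- Cohomology of a finite coproduct vanishes as soon as it does for all the terms. -/
lemma subsingleton_H_of_cofan {𝒜 : Type*} [Category 𝒜] [Preadditive 𝒜] [HasFiniteBiproducts 𝒜]
    (G : 𝒜 ⥤ Sheaf (Opens.grothendieckTopology T) AddCommGrpCat.{u}) [G.Additive]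
    {κ : Type} [Fintype κ] (g : κ → 𝒜) (c : Cofan g) (hc : IsColimit c) (n : ℕ)
    (h : ∀ k, Subsingleton (Sheaf.H (G.obj (g k)) n)) :
    Subsingleton (Sheaf.H (G.obj c.pt) n) := by
  classical
  suffices hx : ∀ x : Sheaf.H (G.obj c.pt) n, x = 0 from ⟨fun a b => (hx a).trans (hx b).symm⟩
  intro x
  let e : c.pt ≅ ⨁ g := hc.coconePointUniqueUpToIso (biproduct.isColimit g)
  have hid : ∑ k, (e.hom ≫ biproduct.π g k) ≫ (biproduct.ι g k ≫ e.inv) = 𝟙 c.pt := by
    calc ∑ k, (e.hom ≫ biproduct.π g k) ≫ (biproduct.ι g k ≫ e.inv)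
        = e.hom ≫ (∑ k, biproduct.π g k ≫ biproduct.ι g k) ≫ e.inv := by
          simp only [Preadditive.comp_sum, Preadditive.sum_comp, Category.assoc]
      _ = 𝟙 _ := by
          have ht : ∑ k, biproduct.π g k ≫ biproduct.ι g k = 𝟙 (⨁ g) := biproduct.total
          rw [ht, Category.id_comp, e.hom_inv_id]
  have h1 : x = Sheaf.H.map (G.map (𝟙 c.pt)) n x := by
    rw [G.map_id, Sheaf.H.map_id_apply]
  rw [h1, ← hid, G.map_sum, H_map_sum]
  apply Finset.sum_eq_zero
  intro k _
  rw [G.map_comp, Sheaf.H.map_comp_apply,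
    (h k).elim (Sheaf.H.map (G.map (e.hom ≫ biproduct.π g k)) n x) 0, map_zero]

end Additivity

section Scheme

variable {X : Scheme.{u}}

lemma subsingleton_HH_of_iso {M N : X.Modules} (e : M ≅ N) (p : ℕ)
    (h : Subsingleton (Coh.HH X M p)) : Subsingleton (Coh.HH X N p) := by
  suffices hx : ∀ x : Coh.HH X N p, x = 0 from ⟨fun a b => (hx a).trans (hx b).symm⟩
  intro x
  let E := (SheafOfModules.toSheaf X.ringCatSheaf).mapIso e
  have h1 : Sheaf.H.map E.hom p (Sheaf.H.map E.inv p x) = x := by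
    rw [← Sheaf.H.map_comp_apply, E.inv_hom_id, Sheaf.H.map_id_apply]
  rw [← h1, h.elim (Sheaf.H.map E.inv p x) 0, map_zero]

lemma subsingleton_HH_freeMod (n : ℕ) (p : ℕ)
    (h : Subsingleton (Coh.HH X (Coh.structureModule X) p)) :
    Subsingleton (Coh.HH X (FlatMod.freeMod X n) p) := by
  haveI : HasFiniteBiproducts (SheafOfModules X.ringCatSheaf) := Abelian.hasFiniteBiproducts
  exact subsingleton_H_of_cofan (T := X.carrier) (SheafOfModules.toSheaf X.ringCatSheaf)
    (fun _ : Fin n => Coh.structureModule X)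
    (Cofan.mk (∐ fun _ : Fin n => Coh.structureModule X)
      (Sigma.ι fun _ : Fin n => Coh.structureModule X))
    (coproductIsCoproduct _) p (fun _ => h)

lemma subsingleton_HH_freeM (n : ℕ) (p : ℕ)
    (h : Subsingleton (Coh.HH X (Coh.structureModule X) p)) :
    Subsingleton (Coh.HH X (freeM X (ULift.{u} (Fin n))) p) :=
  subsingleton_HH_of_iso (freeModIso X n) p (subsingleton_HH_freeMod n p h)

/-- A quasi-coherent module of finite type on a quasi-affine scheme is generated by finitely many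
global sections. -/
theorem exists_fin_global_sections [X.IsQuasiAffine] (F : X.Modules) [F.IsQuasicoherent]
    [F.IsFiniteType] :
    ∃ (n : ℕ) (s : ULift.{u} (Fin n) → Γ(F, ⊤)), ∀ x : X,
      Submodule.span (X.presheaf.stalk x)
        (Set.range fun i => F.presheaf.germ ⊤ x trivial (s i)) = ⊤ := by
  have key : ∀ x : X, ∃ (U : X.Opens) (_ : x ∈ U) (n : ℕ) (σ : Fin n → Γ(F, ⊤)),
      ∀ (y : X) (_ : y ∈ U), Submodule.span (X.presheaf.stalk y)
        (Set.range fun i => F.presheaf.germ ⊤ y trivial (σ i)) = ⊤ := by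
    intro x
    obtain ⟨_, ⟨r, hr, rfl⟩, hxr, -⟩ :=
      Opens.isBasis_iff_nbhd.mp (Scheme.IsQuasiAffine.isBasis_basicOpen X)
        (show x ∈ (⊤ : X.Opens) from trivial)
    obtain ⟨n, t, ht⟩ := exists_fin_sections_span_germ_eq_top F hr
    have hσ : ∀ i, ∃ (m : ℕ) (σ : Γ(F, ⊤)),
        (X.presheaf.map (homOfLE (X.basicOpen_le r)).op r) ^ m • t i =
          res F (X.basicOpen_le r) σ :=
      fun i => exists_pow_smul_eq_res_of_qcqs F (U := ⊤) isCompact_univ isQuasiSeparated_univ r
        (t i)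
    choose m σ hσ using hσ
    refine ⟨X.basicOpen r, hxr, n, σ, fun y hy => ?_⟩
    rw [eq_top_iff, ← ht y hy, Submodule.span_le]
    rintro _ ⟨i, rfl⟩
    have h1 := congrArg (F.presheaf.germ (X.basicOpen r) y hy) (hσ i)
    rw [germ_smul, germ_res, map_pow] at h1
    have hu : IsUnit (X.presheaf.germ (X.basicOpen r) y hy
        (X.presheaf.map (homOfLE (X.basicOpen_le r)).op r)) := by
      have := (X.mem_basicOpen r y trivial).mp hy
      rwa [X.presheaf.germ_res_apply]
    obtain ⟨c, hc⟩ := (hu.pow (m i)).exists_left_inv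
    have h2 : F.presheaf.germ (X.basicOpen r) y hy (t i) =
        c • F.presheaf.germ ⊤ y trivial (σ i) := by
      rw [← h1, smul_smul, hc, one_smul]
    beta_reduce
    rw [SetLike.mem_coe, h2]
    exact Submodule.smul_mem _ _ (Submodule.subset_span ⟨i, rfl⟩)
  choose U hxU n σ hσ using key
  obtain ⟨t, ht⟩ := isCompact_univ.elim_finite_subcover (fun x => (U x : Set X))
    (fun x => (U x).isOpen) (fun x _ => Set.mem_iUnion.2 ⟨x, hxU x⟩)
  let I := Σ x : t, Fin (n x.1)
  let e := Fintype.equivFin I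
  let S : I → Γ(F, ⊤) := fun z => σ z.1.1 z.2
  refine ⟨Fintype.card I, fun k => S (e.symm k.down), fun y => ?_⟩
  obtain ⟨x, hx⟩ := Set.mem_iUnion.1 (ht (Set.mem_univ y))
  obtain ⟨hxt, hyU⟩ := Set.mem_iUnion.1 hx
  rw [eq_top_iff, ← hσ x y hyU]
  apply Submodule.span_mono
  rintro _ ⟨i, rfl⟩
  refine ⟨ULift.up (e ⟨⟨x, hxt⟩, i⟩), ?_⟩
  have hz : S (e.symm (e ⟨⟨x, hxt⟩, i⟩)) = σ x i := congrArg S (e.symm_apply_apply _)
  exact congrArg (F.presheaf.germ ⊤ y trivial) hz

/-- Long exact sequence step: a quotient of an acyclic-in-degree-`p` module by a kernel acyclic in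
degree `p + 1` is acyclic in degree `p`. -/
lemma subsingleton_HH_of_epi {A F : X.Modules} (e : A ⟶ F) [Epi e] (p : ℕ)
    (hA : Subsingleton (Coh.HH X A p)) (hK : Subsingleton (Coh.HH X (kernel e) (p + 1))) :
    Subsingleton (Coh.HH X F p) := by
  let S : ShortComplex X.Modules := ShortComplex.mk (kernel.ι e) e (kernel.condition e)
  have hS : S.ShortExact :=
    { exact := ShortComplex.exact_kernel e
      mono_f := inferInstanceAs (Mono (kernel.ι e))
      epi_g := ‹Epi e› }
  have hTS := hS.map_of_exact (Groth.Agent.Lib.Helper5.RpushAb.TT X)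
  have hz := ExtCompare.ext_eq_zero_X₃ hTS _ p (fun x => hA.elim x 0) (fun x => hK.elim x 0)
  exact ⟨fun a b => (hz a).trans (hz b).symm⟩

lemma step [X.IsQuasiAffine]
    (h : ∀ p : ℕ, 0 < p → Subsingleton (Coh.HH X (Coh.structureModule X) p)) (p : ℕ) (hp : 0 < p)
    (ih : ∀ G : X.Modules, G.IsQuasicoherent → Subsingleton (Coh.HH X G (p + 1)))
    (F : X.Modules) (hF : F.IsQuasicoherent) : Subsingleton (Coh.HH X F p) := by
  haveI : QuasiSeparatedSpace X := (quasiSeparatedSpace_iff_quasiSeparated X).2 inferInstance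
  suffices hx : ∀ x : Coh.HH X F p, x = 0 from ⟨fun a b => (hx a).trans (hx b).symm⟩
  intro x
  obtain ⟨K, hK1, hK2, D, c, hc, hfp, hpt⟩ := Groth.Agent.S2128.result X F hF
  subst hpt
  have hTc : IsColimit ((SheafOfModules.toSheaf X.ringCatSheaf).mapCocone c) :=
    isColimitOfPreserves (SheafOfModules.toSheaf X.ringCatSheaf) hc
  obtain ⟨k, y, hy⟩ := Groth.Agent.Lib.Helper5.ColimTopGen.H_rep (X := X.carrier)
    ((SheafOfModules.toSheaf X.ringCatSheaf).mapCocone c) hTc p x
  have hfpk : SheafOfModules.IsFinitePresentation (R := X.ringCatSheaf) (D.obj k) := hfp k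
  have hqk : SheafOfModules.IsQuasicoherent (R := X.ringCatSheaf) (D.obj k) := inferInstance
  have hfk : SheafOfModules.IsFiniteType (R := X.ringCatSheaf) (D.obj k) := inferInstance
  obtain ⟨n, s, hs⟩ := exists_fin_global_sections (D.obj k)
  have hepi : Epi (homOfSections (D.obj k) s) := epi_homOfSections_of_span _ s hs
  have hq0 : (FlatMod.freeMod X n).IsQuasicoherent :=
    isQuasicoherent_of_isFinLocFree (isFinLocFree_freeMod X n)
  have hqfree : (freeM X (ULift.{u} (Fin n))).IsQuasicoherent :=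
    isQuasicoherent_of_iso (freeModIso X n)
  have hqK : (kernel (homOfSections (D.obj k) s)).IsQuasicoherent := isQuasicoherent_kernel _
  have h0 : Subsingleton (Coh.HH X (D.obj k) p) :=
    subsingleton_HH_of_epi (homOfSections (D.obj k) s) p
      (subsingleton_HH_freeM n p (h p hp)) (ih _ hqK)
  rw [← hy, h0.elim y 0, map_zero]

/-- On a quasi-affine scheme with `H^p(X, O_X) = 0` for all `p > 0`, all quasi-coherent modules
have vanishing higher cohomology. -/
theorem subsingleton_HH_of_quasiAffine [X.IsQuasiAffine]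
    (h : ∀ p : ℕ, 0 < p → Subsingleton (Coh.HH X (Coh.structureModule X) p)) :
    ∀ (p : ℕ), 0 < p → ∀ (F : X.Modules), F.IsQuasicoherent → Subsingleton (Coh.HH X F p) := by
  obtain ⟨t, V, hV, -, hcov⟩ := exists_finite_affine_cover (X := X) (U := ⊤) isCompact_univ
  have hcov' : ⨆ i, V i = ⊤ := top_le_iff.1 hcov
  have hbig : ∀ p, t ≤ p → ∀ F : X.Modules, F.IsQuasicoherent →
      Subsingleton (Coh.HH X F p) := fun p hp F hF =>
    Groth.Agent.S0010.result X t V hV hcov' (fun A B hA hB => hA.inf hB) F p hp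
  have key : ∀ (d p : ℕ), 0 < p → t ≤ p + d → ∀ F : X.Modules, F.IsQuasicoherent →
      Subsingleton (Coh.HH X F p) := by
    intro d
    induction d with
    | zero =>
      intro p _ hp F hF
      exact hbig p hp F hF
    | succ d ih =>
      intro p hp0 hp F hF
      have ih' : ∀ G : X.Modules, G.IsQuasicoherent → Subsingleton (Coh.HH X G (p + 1)) :=
        fun G hG => ih (p + 1) (Nat.succ_pos p) (by omega) G hG
      exact step h p hp0 ih' F hF
  intro p hp F hF
  exact key t p hp (by omega) F hF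

end Scheme

end Groth.Agent.Lib.Helper5.QuasiAffineVanish
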