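import Groth.Agent.Lib.Helper5.PushRestrAcyc
import Groth.Agent.Lib.Helper22.EGA7.ExtendMap
import Groth.Agent.Lib.Helper17.PushCoh2
import Groth.Agent.Lib.Helper29.QCohPush
import Groth.Agent.Lib.Helper29.QCohPullback
import Groth.Agent.S5744
import Groth.Prelude.Def_DCoh2

/-!
# The relative Čech complex of a finite affine covering computes `Rf_*` (helper5)

* `nonempty_inD_iso`: `F ≅ 𝔠(𝒰, F)` in `D(O_X)` for a covering `𝒰` (the Čech complex of sheaves is a resolution);
* `isQuasicoherent_relCech_X`: the terms of the relative Čech complex of a finite affine covering are quasi-coherent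
  (target with affine diagonal);
* `nonempty_relCechZ_iso`: `Č(𝒰, f, F) ≅ Rf_* F` in `D(O_S)` (source and target with affine diagonal, `F`
  quasi-coherent, `𝒰` a finite affine covering).
-/

set_option autoImplicit false
set_option linter.unusedSectionVars false

universe u

open CategoryTheory CategoryTheory.Limits Opposite TopologicalSpace AlgebraicGeometry

attribute [local instance] HasDerivedCategory.standard

namespace Groth.Agent.Lib.Helper5.RelCechRpush

open Groth.Agent.Lib.Helper5.CechShRes Groth.Agent.Lib.Helper5.PushRestrAcyc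
  Groth.Agent.Lib.Helper22.EGA7 Groth.Agent.Lib.Helper29

section B1

variable {X : Scheme.{u}} {ι : Type u} (𝒰 : ι → X.Opens) (F : X.Modules) (h𝒰 : ⨆ i, 𝒰 i = ⊤)

include h𝒰

/-- `H^0` of the Čech complex of sheaves of a covering is `F`. -/
theorem nonempty_homologyZeroIso : Nonempty (((CechOX.cechSh 𝒰).obj F).homology 0 ≅ F) := by
  haveI hm : Mono (CechOX.cechShAug 𝒰 F) := mono_aug 𝒰 F h𝒰
  have hex := exact_zero 𝒰 F h𝒰
  haveI : Mono (ShortComplex.mk (CechOX.cechShAug 𝒰 F) (((CechOX.cechSh 𝒰).obj F).d 0 1)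
      (aug_d 𝒰 F)).f := hm
  exact ⟨((CechOX.cechSh 𝒰).obj F).isoHomologyπ₀.symm ≪≫
    IsLimit.conePointUniqueUpToIso (((CechOX.cechSh 𝒰).obj F).cyclesIsKernel 0 1 (by simp))
      hex.fIsKernel⟩

lemma isLE_cechShZ : (CechOX.cechShZ 𝒰 F).IsLE 0 := by
  rw [CochainComplex.isLE_iff]
  intro i hi
  obtain ⟨n, rfl⟩ : ∃ n : ℕ, i = ((n + 1 : ℕ) : ℤ) := ⟨(i - 1).toNat, by lia⟩
  have h1 : ((CechOX.cechSh 𝒰).obj F).ExactAt (n + 1) := by
    rw [HomologicalComplex.exactAt_iff' _ n (n + 1) (n + 1 + 1) (by simp) (by simp)]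
    exact exact_succ 𝒰 F h𝒰 n
  exact (HomologicalComplex.extend_exactAt_iff ((CechOX.cechSh 𝒰).obj F)
    ComplexShape.embeddingUpNat
    (rfl : ComplexShape.embeddingUpNat.f (n + 1) = ((n + 1 : ℕ) : ℤ))).2 h1

/-- **`F ≅ 𝔠(𝒰, F)` in `D(O_X)`.** -/
theorem nonempty_inD_iso : Nonempty (DCoh.inD X F ≅ DCoh.toD X (CechOX.cechShZ 𝒰 F)) := by
  haveI := isLE_cechShZ 𝒰 F h𝒰
  haveI : (CechOX.cechShZ 𝒰 F).IsGE 0 := inferInstance
  obtain ⟨A, ⟨e⟩⟩ := DerivedCategory.exists_iso_singleFunctor_obj_of_isGE_of_isLE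
    (DerivedCategory.Q.obj (CechOX.cechShZ 𝒰 F)) 0
  obtain ⟨e0⟩ := nonempty_homologyZeroIso 𝒰 F h𝒰
  have eA : A ≅ F :=
    ((DerivedCategory.singleFunctorCompHomologyFunctorIso X.Modules 0).app A).symm ≪≫
      (DerivedCategory.homologyFunctor X.Modules 0).mapIso e.symm ≪≫
      (DerivedCategory.homologyFunctorFactors X.Modules 0).app (CechOX.cechShZ 𝒰 F) ≪≫
      ((CechOX.cechSh 𝒰).obj F).extendHomologyIso ComplexShape.embeddingUpNat
        (rfl : ComplexShape.embeddingUpNat.f 0 = 0) ≪≫ e0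
  exact ⟨((DerivedCategory.singleFunctor X.Modules 0).mapIso eA).symm ≪≫ e.symm⟩

end B1

section GA

variable {X S : Scheme.{u}} (f : X ⟶ S)
  [IsAffineHom (pullback.diagonal (terminal.from S))]

lemma isQuasicoherent_push_pushRestr (W : X.Opens) (hW : IsAffineOpen W) (F : X.Modules)
    [F.IsQuasicoherent] :
    ((Scheme.Modules.pushforward f).obj ((CechOX.pushRestr W).obj F)).IsQuasicoherent := by
  haveI : IsAffine (W : Scheme.{u}) := hW
  haveI : IsAffineHom (W.ι ≫ f) := isAffineHom_of_affineDiagonal _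
  have e : (Scheme.Modules.pushforward (W.ι ≫ f)).obj
      ((Scheme.Modules.restrictFunctor W.ι).obj F) ≅
      (Scheme.Modules.pushforward f).obj ((CechOX.pushRestr W).obj F) :=
    ((Scheme.Modules.pushforwardComp W.ι f).app
      ((Scheme.Modules.restrictFunctor W.ι).obj F)).symm
  haveI := QCoh.isQuasicoherent_pushforward_of_isAffineHom (W.ι ≫ f)
    ((Scheme.Modules.restrictFunctor W.ι).obj F)
  exact QCoh.isQuasicoherent_of_iso e

variable [IsAffineHom (pullback.diagonal (terminal.from X))]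
  {ι : Type u} [Finite ι] (𝒰 : ι → X.Opens) (h𝒰 : ∀ i, IsAffineOpen (𝒰 i))

include h𝒰 in
/-- the terms of the relative Čech complex are quasi-coherent -/
theorem isQuasicoherent_relCech_X (F : X.Modules) [F.IsQuasicoherent] (p : ℕ) :
    (((CechOX.relCech 𝒰 f).obj F).X p).IsQuasicoherent := by
  haveI := (Scheme.Modules.pullbackPushforwardAdjunction f).rightAdjoint_preservesLimits
  let M : (Fin (p + 1) → ι) → X.Modules := fun σ => (CechOX.pushRestr (Uσg 𝒰 σ)).obj F
  have e : (Scheme.Modules.pushforward f).obj (∏ᶜ M) ≅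
      ∏ᶜ fun σ => (Scheme.Modules.pushforward f).obj (M σ) :=
    PreservesProduct.iso (Scheme.Modules.pushforward f) M
  haveI : (∏ᶜ fun σ => (Scheme.Modules.pushforward f).obj (M σ)).IsQuasicoherent :=
    Groth.Agent.S5744.isQuasicoherent_pi_of_finite _
      (fun σ => isQuasicoherent_push_pushRestr f (Uσg 𝒰 σ) (isAffineOpen_Uσ 𝒰 h𝒰 σ) F)
  have h : ((Scheme.Modules.pushforward f).obj (∏ᶜ M)).IsQuasicoherent :=
    QCoh.isQuasicoherent_of_iso e.symm
  exact h

end GA

section Main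

variable {X S : Scheme.{u}} (f : X ⟶ S)
  [IsAffineHom (pullback.diagonal (terminal.from X))]
  [IsAffineHom (pullback.diagonal (terminal.from S))]
  {ι : Type u} [Finite ι] (𝒰 : ι → X.Opens) (h𝒰 : ∀ i, IsAffineOpen (𝒰 i))
  (hcov : ⨆ i, 𝒰 i = ⊤) [DCoh.HasRpush f]

include h𝒰 hcov in
/-- **The relative Čech complex computes `Rf_* F`.** -/
theorem nonempty_relCechZ_iso (F : X.Modules) [F.IsQuasicoherent] :
    Nonempty (DCoh.toD S (CechOX.relCechZ 𝒰 f F) ≅ (DCoh.Rpush f).obj (DCoh.inD X F)) := by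
  haveI : EnoughInjectives X.Modules :=
    Groth.Agent.S0485.result (Opens.grothendieckTopology X) X.ringCatSheaf
  haveI : HasInjectiveResolutions X.Modules := inferInstance
  haveI : PreservesFiniteLimits (Scheme.Modules.pushforward f) := by
    haveI := (Scheme.Modules.pullbackPushforwardAdjunction f).rightAdjoint_preservesLimits
    infer_instance
  obtain ⟨e1⟩ := nonempty_inD_iso 𝒰 F hcov
  obtain ⟨e2⟩ := Groth.Agent.Lib.Helper5.PlusAcyc.nonempty_RF_iso (Scheme.Modules.pushforward f)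
    (Groth.Agent.Lib.Helper17.PushCoh2.hA X) (CechOX.cechShZ 𝒰 F) 0
    (acyc_cechShZ_X f 𝒰 h𝒰 F)
  have e3 := DerivedCategory.Q.mapIso (mapExtendIso ComplexShape.embeddingUpNat
    (Scheme.Modules.pushforward f) ((CechOX.cechSh 𝒰).obj F))
  exact ⟨(((DCoh.Rpush f).mapIso e1) ≪≫ e2 ≪≫ e3).symm⟩

end Main

end Groth.Agent.Lib.Helper5.RelCechRpush
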