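import Groth.Agent.Lib.Helper5.SheafHomSeq
import Groth.Agent.Lib.Helper5.RelExtSS

/-!
# The long exact sequence of relative Ext sheaves in the first variable
-/

set_option autoImplicit false

universe u

open CategoryTheory Limits Opposite Abelian AlgebraicGeometry TopologicalSpace

namespace Groth.Agent.Lib.Helper5.RelExtLES

variable {X Y : Scheme.{u}} (f : X ⟶ Y)

/-- the direct image functor, with source written as `ModSite.Mod X.sheaf` -/
noncomputable abbrev pushP : ModSite.Mod X.sheaf ⥤ Y.Modules := Scheme.Modules.pushforward f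

instance : (pushP f).Additive := inferInstanceAs (Scheme.Modules.pushforward f).Additive

instance : PreservesFiniteLimits (pushP f) := by
  haveI := (Scheme.Modules.pullbackPushforwardAdjunction f).rightAdjoint_preservesLimits
  exact inferInstanceAs (PreservesFiniteLimits (Scheme.Modules.pushforward f))

lemma hP (S' : ShortComplex (ModSite.Mod X.sheaf)) (hS' : S'.ShortExact)
    (hM : CohCx.IsTotallyAcyclic (ModSite.toAb S'.X₁)) : Epi ((pushP f).map S'.g) :=
  RelExtSS.epi_pushforward_map f S' hS' hM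

variable (S : ShortComplex (ModSite.Mod X.sheaf)) (hS : S.ShortExact)
  [ModSite.HasSheafHom S.X₁] [ModSite.HasSheafHom S.X₂] [ModSite.HasSheafHom S.X₃]
  [HasInjectiveResolutions (ModSite.Mod X.sheaf)]
  [(ModSite.sheafHom S.X₁ ⋙ pushP f).Additive] [(ModSite.sheafHom S.X₂ ⋙ pushP f).Additive]
  [(ModSite.sheafHom S.X₃ ⋙ pushP f).Additive]

include hS in
theorem les (G : ModSite.Mod X.sheaf) :
    Mono ((NatTrans.rightDerived (SheafHomSeq.aP S (pushP f)) 0).app G) ∧
    (∀ p : ℕ, ∃ w : (NatTrans.rightDerived (SheafHomSeq.aP S (pushP f)) p).app G ≫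
        (NatTrans.rightDerived (SheafHomSeq.bP S (pushP f)) p).app G = 0,
        (ShortComplex.mk _ _ w).Exact) ∧
    ∃ δ : ∀ p : ℕ, ((ModSite.sheafHom S.X₁ ⋙ pushP f).rightDerived p).obj G ⟶
        ((ModSite.sheafHom S.X₃ ⋙ pushP f).rightDerived (p + 1)).obj G,
      ∀ p : ℕ,
        (∃ w : (NatTrans.rightDerived (SheafHomSeq.bP S (pushP f)) p).app G ≫ δ p = 0,
          (ShortComplex.mk _ _ w).Exact) ∧
        (∃ w : δ p ≫ (NatTrans.rightDerived (SheafHomSeq.aP S (pushP f)) (p + 1)).app G = 0,
          (ShortComplex.mk _ _ w).Exact) :=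
  SheafHomSeq.les (pushP f) hS (hP f) G

end Groth.Agent.Lib.Helper5.RelExtLES
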