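import Groth.Agent.Lib.Helper5.ProjFormulaLF

/-!
# Relative Ext sheaves and tensor products with finite locally free modules

`Ext^p_f(F ⊗ L, G ⊗ f^*N) ≅ Ext^p_f(F, G ⊗ L^∨) ⊗ N` for `L`, `N` with local bases.
-/

set_option autoImplicit false

universe u

open CategoryTheory Limits Opposite AlgebraicGeometry

noncomputable section

namespace Groth.Agent.Lib.Helper5.RelExtTensor

open Groth.Agent.Lib.Helper17.IHom Groth.Agent.Lib.Helper5.DualBasis
  Groth.Agent.Lib.Helper17.Tensor Groth.Agent.Lib.Helper5.TensorDual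
  Groth.Agent.Lib.Helper5.FinLocFreeDual Groth.Agent.Lib.Helper17.ProjFormula
  Groth.Agent.Lib.Helper5.ProjFormulaLF

section abstract

universe v₁ u₁ v₂ u₂

variable {A : Type u₁} [Category.{v₁} A] [Abelian A] {B : Type u₂} [Category.{v₂} B] [Abelian B]
  [HasInjectiveResolutions A] [EnoughInjectives A]

/-- the abstract form of the statement -/
theorem nonempty_iso_of_commute₂ (Q : A ⥤ B) [Q.Additive] [PreservesFiniteLimits Q]
    (Q' : A ⥤ B) [Q'.Additive]
    (TD : A ⥤ A) [TD.Additive] [PreservesFiniteLimits TD] [PreservesFiniteColimits TD]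
    (TA : A ⥤ A) [TA.Additive] [PreservesFiniteLimits TA] [PreservesFiniteColimits TA]
    (TB : B ⥤ B) [TB.Additive] [PreservesFiniteLimits TB] [PreservesFiniteColimits TB]
    (hinjD : ∀ I : A, Injective I → Injective (TD.obj I))
    (hinjA : ∀ I : A, Injective I → Injective (TA.obj I))
    (α : Q' ≅ TD ⋙ Q) (Φ : Q ⋙ TB ≅ TA ⋙ Q) (G G₂ : A) (s : TD.obj (TA.obj G) ≅ TA.obj G₂)
    (p : ℕ) :
    Nonempty ((Q'.rightDerived p).obj (TA.obj G) ≅ TB.obj ((Q.rightDerived p).obj G₂)) := by
  have hacyc : ∀ (I : A), Injective I → ∀ n : ℕ,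
      IsZero ((Q.rightDerived (n + 1)).obj (TD.obj I)) := by
    intro I hI n
    haveI := hinjD I hI
    exact Functor.isZero_rightDerived_obj_injective_succ _ n _
  obtain ⟨i4⟩ := nonempty_iso_of_commute Q TA TB hinjA Φ G₂ p
  exact ⟨(Groth.Agent.Lib.Helper22.DimShift.rightDerivedIsoOfNatIso α p).app (TA.obj G) ≪≫
    (Groth.Agent.Lib.Helper5.PrecompDelta.rightDerivedPrecompIso TD Q hacyc p).app (TA.obj G) ≪≫
    (Q.rightDerived p).mapIso s ≪≫ i4.symm⟩

end abstract

section site

variable {C : Type u} [SmallCategory C] {J : GrothendieckTopology C} {O : Sheaf J CommRingCat.{u}}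

/-- `Hom(F, -) ⊗ E ≅ Hom(F, - ⊗ E)` for `E` with local bases -/
def HFunTTIso (F E : ModSite.Mod O) (hE : HasLocBases E) : HFun F ⋙ TT E ≅ TT E ⋙ HFun F :=
  Functor.isoWhiskerLeft (HFun F) (tensorIsoHomDual E hE) ≪≫
    (HFunTensIso (dual E) F).symm ≪≫
    HFunCongr (braidIso (dual E) F) ≪≫
    HFunTensIso F (dual E) ≪≫
    Functor.isoWhiskerRight (tensorIsoHomDual E hE).symm (HFun F)

/-- the chosen internal hom version of `HFunTTIso` -/
def sheafHomTTIso (F E : ModSite.Mod O) [ModSite.HasSheafHom F] (hE : HasLocBases E) :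
    ModSite.sheafHom F ⋙ TT E ≅ TT E ⋙ ModSite.sheafHom F :=
  Functor.isoWhiskerRight (sheafHomIso F) (TT E) ≪≫ HFunTTIso F E hE ≪≫
    Functor.isoWhiskerLeft (TT E) (sheafHomIso F).symm

/-- `(G ⊗ A) ⊗ B ≅ (G ⊗ B) ⊗ A` -/
def tensSwapIso (G A B : ModSite.Mod O) : tens (tens G A) B ≅ tens (tens G B) A :=
  assocIso G A B ≪≫ ((ModSite.tensorBi O).obj G).mapIso (braidIso A B) ≪≫ (assocIso G B A).symm

/-- `Hom(F ⊗ L, -) ≅ Hom(F, - ⊗ L^∨)` -/
def HFunTensDualIso (F L : ModSite.Mod O) (hL : HasLocBases L) :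
    HFun (tens F L) ≅ TT (dual L) ⋙ HFun F :=
  HFunTensIso F L ≪≫ Functor.isoWhiskerRight (tensorDualIso L hL).symm (HFun F)

/-- the chosen internal hom version of `HFunTensDualIso` -/
def sheafHomTensDualIso (F L : ModSite.Mod O) [ModSite.HasSheafHom F]
    [ModSite.HasSheafHom (tens F L)] (hL : HasLocBases L) :
    ModSite.sheafHom (tens F L) ≅ TT (dual L) ⋙ ModSite.sheafHom F :=
  sheafHomIso (tens F L) ≪≫ HFunTensDualIso F L hL ≪≫
    Functor.isoWhiskerLeft (TT (dual L)) (sheafHomIso F).symm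

/-- `I ⊗ L^∨` is injective for `I` injective and `L` with local bases -/
theorem injective_TT_dual_obj (L : ModSite.Mod O) (hL : HasLocBases L) (I : ModSite.Mod O)
    [Injective I] : Injective ((TT (dual L)).obj I) := by
  haveI := preservesFiniteLimits_TT L hL
  haveI : (TT L).PreservesMonomorphisms := inferInstance
  haveI : Injective ((HFun L).obj I) := Injective.injective_of_adjoint (HAdj L) I
  exact Injective.of_iso ((tensorDualIso L hL).app I).symm inferInstance

lemma preservesFiniteLimits_sheafHom (F : ModSite.Mod O) [ModSite.HasSheafHom F] :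
    PreservesFiniteLimits (ModSite.sheafHom F) := by
  have h : PreservesLimitsOfSize.{0, 0} (ModSite.sheafHom F) :=
    (ModSite.sheafHomAdj F).rightAdjoint_preservesLimits
  infer_instance

end site

section scheme

variable {X Y : Scheme.{u}} (f : X ⟶ Y)

/-- `f_* Hom(F, -)` -/
abbrev QF (F : X.Modules) [ModSite.HasSheafHom (O := X.sheaf) F] : X.Modules ⥤ Y.Modules :=
  ModSite.sheafHom (O := X.sheaf) F ⋙ Scheme.Modules.pushforward f

lemma preservesFiniteLimits_QF (F : X.Modules) [ModSite.HasSheafHom (O := X.sheaf) F] :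
    PreservesFiniteLimits (QF f F) := by
  exact @comp_preservesFiniteLimits X.Modules Scheme.Modules.instCategory X.Modules
    Scheme.Modules.instCategory Y.Modules Scheme.Modules.instCategory
    (ModSite.sheafHom (O := X.sheaf) F) (Scheme.Modules.pushforward f)
    (preservesFiniteLimits_sheafHom (O := X.sheaf) F) (preservesFiniteLimits_pushforward f)

/-- `f_* Hom(F, -) ⊗ N ≅ f_* Hom(F, - ⊗ f^* N)` -/
def PhiIso (F : X.Modules) [ModSite.HasSheafHom (O := X.sheaf) F] (N : Y.Modules)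
    (hN : HasLocBases (O := Y.sheaf) N) :
    QF f F ⋙ TT (O := Y.sheaf) N ≅ TT (O := X.sheaf) (pE f N) ⋙ QF f F :=
  Functor.associator _ _ _ ≪≫
    Functor.isoWhiskerLeft (ModSite.sheafHom (O := X.sheaf) F) (PiNatIso f N hN) ≪≫
    (Functor.associator _ _ _).symm ≪≫
    Functor.isoWhiskerRight (sheafHomTTIso (O := X.sheaf) F (pE f N) (hasLocBases_pullback f N hN))
      (Scheme.Modules.pushforward f) ≪≫
    Functor.associator _ _ _

/-- `f_* Hom(F ⊗ L, -) ≅ f_* Hom(F, - ⊗ L^∨)` -/
def AlphaIso (F L : X.Modules) [ModSite.HasSheafHom (O := X.sheaf) F]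
    [ModSite.HasSheafHom (O := X.sheaf) (tens (O := X.sheaf) F L)]
    (hL : HasLocBases (O := X.sheaf) L) :
    QF f (tens (O := X.sheaf) F L) ≅ TT (O := X.sheaf) (dual (O := X.sheaf) L) ⋙ QF f F :=
  Functor.isoWhiskerRight (sheafHomTensDualIso (O := X.sheaf) F L hL)
    (Scheme.Modules.pushforward f) ≪≫ Functor.associator _ _ _

theorem nonempty_relExt_iso (F G L : X.Modules) (N : Y.Modules)
    (hL : HasLocBases (O := X.sheaf) L) (hN : HasLocBases (O := Y.sheaf) N) (p : ℕ)
    [ModSite.HasSheafHom (O := X.sheaf) F] [ModSite.HasSheafHom (O := X.sheaf) L]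
    [ModSite.HasSheafHom (O := X.sheaf) (tens (O := X.sheaf) F L)]
    [HasInjectiveResolutions X.Modules]
    [(QF f F).Additive] [(QF f (tens (O := X.sheaf) F L)).Additive] :
    Nonempty (((QF f (tens (O := X.sheaf) F L)).rightDerived p).obj
        (tens (O := X.sheaf) G (pE f N)) ≅
      tens (O := Y.sheaf) (((QF f F).rightDerived p).obj
        (tens (O := X.sheaf) G ((ModSite.sheafHom (O := X.sheaf) L).obj (ModSite.unit X.sheaf)))) N) := by
  have hN' := hasLocBases_pullback f N hN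
  let D' : X.Modules := (ModSite.sheafHom (O := X.sheaf) L).obj (ModSite.unit X.sheaf)
  let d : D' ≅ dual (O := X.sheaf) L := sheafHomObjIso (O := X.sheaf) L (ModSite.unit X.sheaf)
  let s : (TT (O := X.sheaf) (dual (O := X.sheaf) L)).obj ((TT (O := X.sheaf) (pE f N)).obj G) ≅
      (TT (O := X.sheaf) (pE f N)).obj (tens (O := X.sheaf) G D') :=
    tensSwapIso (O := X.sheaf) G (pE f N) (dual (O := X.sheaf) L) ≪≫
      (TT (O := X.sheaf) (pE f N)).mapIso
        (((ModSite.tensorBi X.sheaf).obj G).mapIso d.symm)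
  exact @nonempty_iso_of_commute₂ X.Modules Scheme.Modules.instCategory Scheme.Modules.instAbelian
    Y.Modules Scheme.Modules.instCategory Scheme.Modules.instAbelian
    ‹HasInjectiveResolutions X.Modules›
    (Groth.Agent.S0485.result _ (ModSite.ringSh X.sheaf))
    (QF f F) ‹(QF f F).Additive› (preservesFiniteLimits_QF f F)
    (QF f (tens (O := X.sheaf) F L)) ‹(QF f (tens (O := X.sheaf) F L)).Additive›
    (TT (O := X.sheaf) (dual (O := X.sheaf) L)) (flip_obj_additive (O := X.sheaf) _)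
    (preservesFiniteLimits_TT_dual (O := X.sheaf) L hL)
    (preservesFiniteColimits_TT (O := X.sheaf) _)
    (TT (O := X.sheaf) (pE f N)) (flip_obj_additive (O := X.sheaf) (pE f N))
    (preservesFiniteLimits_TT (O := X.sheaf) (pE f N) hN')
    (preservesFiniteColimits_TT (O := X.sheaf) (pE f N))
    (TT (O := Y.sheaf) N) (flip_obj_additive (O := Y.sheaf) N)
    (preservesFiniteLimits_TT (O := Y.sheaf) N hN)
    (preservesFiniteColimits_TT (O := Y.sheaf) N)
    (fun I hI => @injective_TT_dual_obj _ _ _ X.sheaf L hL I hI)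
    (fun I hI => @injective_TT_obj _ _ _ X.sheaf (pE f N) hN' I hI)
    (AlphaIso f F L hL) (PhiIso f F N hN) G (tens (O := X.sheaf) G D') s p

end scheme

end Groth.Agent.Lib.Helper5.RelExtTensor
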