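import Groth.Prelude.Def_CohCmp
import Groth.Agent.Lib.Helper5.PushEdge
import Groth.Agent.Lib.Helper5.SectCmpSurj

/-!
# Naturality of `CohPull.resLE`

`CohPull.resLE F h p : H^p(U, F|_U) → H^p(U', F|_{U'})` is `H^p` of a morphism of abelian sheaves
`tau h F : g⁻¹(F|_U) ⟶ F|_{U'}` after `CohPull.pullAb` along `g : U' ⟶ U`.  We prove that `tau` is natural in
`F`, deduce compatibility of `resLE` with maps and with connecting homomorphisms, and show that in degree zero
`resLE` factors through the restriction of sections followed by a map natural in `F`.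
-/

set_option autoImplicit false
set_option linter.unusedSectionVars false

universe u

open CategoryTheory CategoryTheory.Limits Opposite TopologicalSpace AlgebraicGeometry Abelian
  AlgebraicGeometry.Scheme.Modules

namespace Groth.Agent.Lib.Helper5.ResLENat

open Groth.Agent.Lib.Helper5.PushEdge

section Theta

variable {A B : Scheme.{u}} (g : A ⟶ B)

lemma theta_naturality {M N : B.Modules} (φ : M ⟶ N) :
    (CohPull.inv g.base).map ((SheafOfModules.toSheaf B.ringCatSheaf).map φ) ≫ CohPull.theta g N =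
      CohPull.theta g M ≫ (SheafOfModules.toSheaf A.ringCatSheaf).map ((Scheme.Modules.pullback g).map φ) := by
  unfold CohPull.theta
  have h := (pullbackPushforwardAdjunction g).unit.naturality φ
  have h' : (SheafOfModules.toSheaf B.ringCatSheaf).map
        (φ ≫ (pullbackPushforwardAdjunction g).unit.app N) =
      (SheafOfModules.toSheaf B.ringCatSheaf).map
        ((pullbackPushforwardAdjunction g).unit.app M ≫
          (pushforward g).map ((Scheme.Modules.pullback g).map φ)) :=
    congrArg (fun k => (SheafOfModules.toSheaf B.ringCatSheaf).map k) h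
  have key : (SheafOfModules.toSheaf B.ringCatSheaf).map φ ≫
      (SheafOfModules.toSheaf B.ringCatSheaf).map ((pullbackPushforwardAdjunction g).unit.app N) =
      (SheafOfModules.toSheaf B.ringCatSheaf).map ((pullbackPushforwardAdjunction g).unit.app M) ≫
        (CohTop.push g.base).map
          ((SheafOfModules.toSheaf A.ringCatSheaf).map ((Scheme.Modules.pullback g).map φ)) :=
    ((SheafOfModules.toSheaf B.ringCatSheaf).map_comp _ _).symm.trans
      (h'.trans ((SheafOfModules.toSheaf B.ringCatSheaf).map_comp _ _))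
  exact (Adjunction.homEquiv_naturality_left_symm _ _ _).symm.trans
    ((congrArg (fun k => ((CohPull.invPushAdj g.base).homEquiv _ _).symm k) key).trans
      (Adjunction.homEquiv_naturality_right_symm _ _ _))

end Theta

section Res

variable {X : Scheme.{u}} {U U' : X.Opens} (h : U' ≤ U)

omit h in
lemma le' (h : U' ≤ U) : U' ≤ (𝟙 X) ⁻¹ᵁ U := by rwa [Scheme.Hom.id_preimage]

instance isOpenImmersion_resLE_id (e : U' ≤ (𝟙 X) ⁻¹ᵁ U) :
    IsOpenImmersion (Scheme.Hom.resLE (𝟙 X) U U' e) := by
  rw [Scheme.Hom.resLE_id]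
  infer_instance

/-- the restricted morphism `U' ⟶ U` -/
noncomputable abbrev gg : (U' : Scheme.{u}) ⟶ (U : Scheme.{u}) :=
  Scheme.Hom.resLE (𝟙 X) U U' (le' h)

/-- the comparison `g^*(F|_U) ⟶ F|_{U'}` of `CohPull.resLE`, as a natural transformation -/
noncomputable def PsiN : restrictFunctor U.ι ⋙ Scheme.Modules.pullback (gg h) ⟶ restrictFunctor U'.ι :=
  Functor.whiskerRight (restrictFunctorIsoPullback U.ι).hom (Scheme.Modules.pullback (gg h)) ≫
    (pullbackComp (gg h) U.ι).hom ≫
    (pullbackCongr (Scheme.Hom.resLE_comp_ι (𝟙 X) (le' h))).hom ≫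
    (pullbackComp U'.ι (𝟙 X)).inv ≫
    Functor.whiskerLeft (Scheme.Modules.pullback (𝟙 X)) (restrictFunctorIsoPullback U'.ι).inv ≫
    Functor.whiskerRight (pullbackId X).hom (restrictFunctor U'.ι) ≫
    (Functor.leftUnitor _).hom

lemma PsiN_app (F : X.Modules) :
    (PsiN h).app F =
      (CohPull.pullOnIso (𝟙 X) U U' (le' h) F).hom ≫
        (restrictFunctor U'.ι).map ((pullbackId X).hom.app F) := by
  unfold PsiN CohPull.pullOnIso
  simp only [NatTrans.comp_app, Functor.whiskerRight_app, Functor.whiskerLeft_app,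
    Functor.leftUnitor_hom_app, Category.comp_id, Iso.trans_hom, Functor.mapIso_hom, Iso.app_hom,
    Iso.symm_hom, Iso.app_inv, Category.assoc]
  rfl

/-- the morphism of abelian sheaves `g⁻¹(F|_U) ⟶ F|_{U'}` inducing `resLE` -/
noncomputable def tau (F : X.Modules) :
    (CohPull.inv (gg h).base).obj (Coh.toAb (F.restrict U.ι)) ⟶ Coh.toAb (F.restrict U'.ι) :=
  CohPull.theta (gg h) (F.restrict U.ι) ≫
    (SheafOfModules.toSheaf (U' : Scheme.{u}).ringCatSheaf).map ((PsiN h).app F)

lemma resLE_eq (F : X.Modules) (p : ℕ) (x : Coh.HHon X F U p) :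
    CohPull.resLE F h p x =
      Sheaf.H.map (tau h F) p (CohPull.pullAb (gg h).base (Coh.toAb (F.restrict U.ι)) p x) := by
  have e0 : tau h F = CohPull.theta (gg h) (F.restrict U.ι) ≫
      ((SheafOfModules.toSheaf (U' : Scheme.{u}).ringCatSheaf).map
          (CohPull.pullOnIso (𝟙 X) U U' (le' h) F).hom ≫
        (SheafOfModules.toSheaf (U' : Scheme.{u}).ringCatSheaf).map
          ((restrictFunctor U'.ι).map ((pullbackId X).hom.app F))) := by
    unfold tau
    exact congrArg (fun k => CohPull.theta (gg h) (F.restrict U.ι) ≫ k)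
      ((congrArg (fun k => (SheafOfModules.toSheaf (U' : Scheme.{u}).ringCatSheaf).map k)
        (PsiN_app h F)).trans (Functor.map_comp _ _ _))
  refine Eq.trans ?_ (congrArg (fun k => Sheaf.H.map k p
    (CohPull.pullAb (gg h).base (Coh.toAb (F.restrict U.ι)) p x)) e0.symm)
  refine Eq.trans ?_ (Sheaf.H.map_comp_apply _ _ _).symm
  refine Eq.trans ?_ (Sheaf.H.map_comp_apply _ _ _).symm
  rfl

lemma tau_naturality {F G : X.Modules} (ψ : F ⟶ G) :
    (CohPull.inv (gg h).base).map ((CohCmp.toAbOn X U).map ψ) ≫ tau h G =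
      tau h F ≫ (CohCmp.toAbOn X U').map ψ := by
  unfold tau
  have h1 := theta_naturality (gg h) ((restrictFunctor U.ι).map ψ)
  have h2 := (PsiN h).naturality ψ
  have h3 : (SheafOfModules.toSheaf (U' : Scheme.{u}).ringCatSheaf).map
        ((Scheme.Modules.pullback (gg h)).map ((restrictFunctor U.ι).map ψ)) ≫
      (SheafOfModules.toSheaf (U' : Scheme.{u}).ringCatSheaf).map ((PsiN h).app G) =
      (SheafOfModules.toSheaf (U' : Scheme.{u}).ringCatSheaf).map ((PsiN h).app F) ≫
        (SheafOfModules.toSheaf (U' : Scheme.{u}).ringCatSheaf).map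
          ((restrictFunctor U'.ι).map ψ) := by
    rw [← Functor.map_comp, ← Functor.map_comp]
    exact congrArg (fun k => (SheafOfModules.toSheaf (U' : Scheme.{u}).ringCatSheaf).map k) h2
  have e1 : (CohCmp.toAbOn X U).map ψ =
      (SheafOfModules.toSheaf (U : Scheme.{u}).ringCatSheaf).map ((restrictFunctor U.ι).map ψ) := rfl
  have e2 : (CohCmp.toAbOn X U').map ψ =
      (SheafOfModules.toSheaf (U' : Scheme.{u}).ringCatSheaf).map
        ((restrictFunctor U'.ι).map ψ) := rfl
  rw [e1, e2, ← Category.assoc, h1, Category.assoc, h3, Category.assoc]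

lemma resLE_map {F G : X.Modules} (ψ : F ⟶ G) (p : ℕ) (x : Coh.HHon X F U p) :
    CohPull.resLE G h p (CohPull.mapH ((restrictFunctor U.ι).map ψ) p x) =
      CohPull.mapH ((restrictFunctor U'.ι).map ψ) p (CohPull.resLE F h p x) := by
  rw [resLE_eq, resLE_eq]
  have h1 := pullAb_map (gg h).base ((CohCmp.toAbOn X U).map ψ) p x
  have h2 := tau_naturality h ψ
  refine (congrArg (fun z => Sheaf.H.map (tau h G) p z) h1).trans ?_
  refine (Sheaf.H.map_comp_apply _ _ _).symm.trans ?_
  rw [h2]
  exact Sheaf.H.map_comp_apply _ _ _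

/-- the morphism of short complexes given by `tau` -/
noncomputable def tauSC (S : ShortComplex X.Modules) :
    (S.map (CohCmp.toAbOn X U)).map (CohPull.inv (gg h).base) ⟶ S.map (CohCmp.toAbOn X U') where
  τ₁ := tau h S.X₁
  τ₂ := tau h S.X₂
  τ₃ := tau h S.X₃
  comm₁₂ := (tau_naturality h S.f).symm
  comm₂₃ := (tau_naturality h S.g).symm

lemma resLE_extδ {S : ShortComplex X.Modules} (hA : (S.map (CohCmp.toAbOn X U)).ShortExact)
    (hA' : (S.map (CohCmp.toAbOn X U')).ShortExact) (p : ℕ) (x : Coh.HHon X S.X₃ U p) :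
    CohPull.resLE S.X₁ h (p + 1) (CohCmp.extδ hA p x) =
      CohCmp.extδ hA' p (CohPull.resLE S.X₃ h p x) := by
  rw [resLE_eq, resLE_eq]
  have h1 := pullAb_extClass (gg h).base hA p x
  have h2 := ShortComplex.ShortExact.extClass_naturality
    (hA.map_of_exact (CohPull.inv (gg h).base)) hA' (tauSC h S)
  show Sheaf.H.map (tau h S.X₁) (p + 1)
      (CohPull.pullAb (gg h).base _ (p + 1) (x.comp hA.extClass rfl)) =
    (Sheaf.H.map (tau h S.X₃) p (CohPull.pullAb (gg h).base _ p x)).comp hA'.extClass rfl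
  rw [Sheaf.H.map_apply, Sheaf.H.map_apply]
  refine (congrArg (fun z => z.comp (Ext.mk₀ (tau h S.X₁)) (add_zero (p + 1))) h1).trans ?_
  refine (Ext.comp_assoc_of_third_deg_zero _ _ _ _).trans ?_
  refine (congrArg (fun z => (CohPull.pullAb (gg h).base _ p x).comp z rfl) h2).trans ?_
  exact (Ext.comp_assoc_of_second_deg_zero _ _ _ _).symm

end Res

end Groth.Agent.Lib.Helper5.ResLENat
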