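import Groth.Agent.Lib.Helper5.ResLENat

/-!
# `CohPull.resLE` in degree zero

In degree zero `resLE` factors through the restriction of sections followed by a map which is natural in the
module.  Consequence: if the restriction of a section `s` of `Q` lifts along `π : I ⟶ Q`, then
`resLE (sectH0 s)` is in the image of `H^0(π)`.
-/

set_option autoImplicit false
set_option linter.unusedSectionVars false

universe u

open CategoryTheory CategoryTheory.Limits Opposite TopologicalSpace AlgebraicGeometry Abelian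
  AlgebraicGeometry.Scheme.Modules

namespace Groth.Agent.Lib.Helper5.ResLENat

section Abstract

variable {A B : Scheme.{u}} (g : A ⟶ B) [IsOpenImmersion g]

/-- degree zero of `H^0(Ψ) ∘ pullMod g`, for an open immersion `g` and any `Ψ : g^*M ⟶ N` -/
lemma equiv₀_map_pullMod (M : B.Modules) (N : A.Modules)
    (Ψ : (Scheme.Modules.pullback g).obj M ⟶ N) (x : Coh.HH B M 0) :
    Sheaf.H.equiv₀ (Coh.toAb N) isTerminalTop
        (Sheaf.H.map ((SheafOfModules.toSheaf A.ringCatSheaf).map Ψ) 0 (CohPull.pullMod g M 0 x)) =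
      ((restrictFunctorIsoPullback g).hom.app M ≫ Ψ).app ⊤
        (M.presheaf.map (homOfLE (g.image_preimage_le ⊤)).op
          (Sheaf.H.equiv₀ (Coh.toAb M) isTerminalTop x)) := by
  refine (Sheaf.H.equiv₀_naturality (hT := isTerminalTop) _ _).symm.trans ?_
  have hp := CohPull.equiv₀_pullMod g M x
  have hu := Adjunction.unit_leftAdjointUniq_hom_app (restrictAdjunction g)
    (pullbackPushforwardAdjunction g) M
  have k1 : ((pullbackPushforwardAdjunction g).unit.app M).app ⊤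
        (Sheaf.H.equiv₀ (Coh.toAb M) isTerminalTop x) =
      ((restrictFunctorIsoPullback g).hom.app M).app (g ⁻¹ᵁ ⊤)
        (((restrictAdjunction g).unit.app M).app ⊤
          (Sheaf.H.equiv₀ (Coh.toAb M) isTerminalTop x)) := by
    have h3 := congrArg (fun k => Scheme.Modules.Hom.app k ⊤) hu.symm
    exact congrArg (fun k => k.hom (Sheaf.H.equiv₀ (Coh.toAb M) isTerminalTop x)) h3
  refine (congrArg (fun z => ((SheafOfModules.toSheaf A.ringCatSheaf).map Ψ).hom.app (op ⊤) z)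
    (hp.trans k1)).trans ?_
  rfl

/-- naturality on global sections -/
lemma nat_app_top {𝒞 : Type*} [Category 𝒞] {F₁ F₂ : 𝒞 ⥤ A.Modules} (α : F₁ ⟶ F₂) {I Q : 𝒞}
    (π : I ⟶ Q) (t : (F₁.obj I).presheaf.obj (op ⊤)) :
    (α.app Q).app ⊤ ((F₁.map π).app ⊤ t) = (F₂.map π).app ⊤ ((α.app I).app ⊤ t) := by
  have h2 := α.naturality π
  have h3 := congrArg (fun k => Scheme.Modules.Hom.app k ⊤) h2
  exact congrArg (fun k => k.hom t) h3

end Abstract

variable {X : Scheme.{u}} {U U' : X.Opens} (h : U' ≤ U)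

/-- the natural transformation through which `resLE` factors in degree zero -/
noncomputable def PhiN : restrictFunctor U.ι ⋙ restrictFunctor (gg h) ⟶ restrictFunctor U'.ι :=
  Functor.whiskerLeft (restrictFunctor U.ι) (restrictFunctorIsoPullback (gg h)).hom ≫ PsiN h

lemma resLE_zero_eq (F : X.Modules) (x : Coh.HHon X F U 0) :
    CohPull.resLE F h 0 x =
      Sheaf.H.map ((SheafOfModules.toSheaf (U' : Scheme.{u}).ringCatSheaf).map ((PsiN h).app F)) 0
        (CohPull.pullMod (gg h) (F.restrict U.ι) 0 x) := by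
  have e0 := (congrArg (fun k => (SheafOfModules.toSheaf (U' : Scheme.{u}).ringCatSheaf).map k)
    (PsiN_app h F)).trans (Functor.map_comp _ _ _)
  refine Eq.trans ?_ (congrArg (fun k => Sheaf.H.map k 0
    (CohPull.pullMod (gg h) (F.restrict U.ι) 0 x)) e0.symm)
  refine Eq.trans ?_ (Sheaf.H.map_comp_apply _ _ _).symm
  rfl

set_option maxRecDepth 8000 in
lemma equiv₀_resLE (F : X.Modules) (x : Coh.HHon X F U 0) :
    Sheaf.H.equiv₀ (Coh.toAb (F.restrict U'.ι)) isTerminalTop (CohPull.resLE F h 0 x) =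
      ((PhiN h).app F).app ⊤
        ((F.restrict U.ι).presheaf.map (homOfLE ((gg h).image_preimage_le ⊤)).op
          (Sheaf.H.equiv₀ (Coh.toAb (F.restrict U.ι)) isTerminalTop x)) := by
  rw [resLE_zero_eq]
  have hPhi : (PhiN h).app F =
      (restrictFunctorIsoPullback (gg h)).hom.app (F.restrict U.ι) ≫ (PsiN h).app F := rfl
  rw [hPhi]
  exact equiv₀_map_pullMod (gg h) (F.restrict U.ι) (F.restrict U'.ι) ((PsiN h).app F) x

lemma equiv₀_sectH0 (F : X.Modules) (s : F.presheaf.obj (op U)) :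
    Sheaf.H.equiv₀ (Coh.toAb (F.restrict U.ι)) isTerminalTop (CohPull.sectH0 F U s) =
      F.presheaf.map (eqToHom U.ι_image_top).op s := by
  unfold CohPull.sectH0
  rw [AddEquiv.trans_apply, AddEquiv.apply_symm_apply]
  rfl

/-- naturality of the action of a morphism of modules on sections -/
lemma app_map' {M N : X.Modules} (ψ : M ⟶ N) {V W : X.Opens} (i : W ⟶ V)
    (t : M.presheaf.obj (op V)) :
    ψ.app W (M.presheaf.map i.op t) = N.presheaf.map i.op (ψ.app V t) := by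
  have := ψ.mapPresheaf.naturality i.op
  exact congrArg (fun k => k.hom t) this

lemma map_map_eq (F : X.Modules) {O₁ O₂ O₂' O₃ : X.Opens} (a : O₂ ⟶ O₃) (b : O₁ ⟶ O₂)
    (a' : O₂' ⟶ O₃) (b' : O₁ ⟶ O₂') (s : F.presheaf.obj (op O₃)) :
    F.presheaf.map b.op (F.presheaf.map a.op s) = F.presheaf.map b'.op (F.presheaf.map a'.op s) := by
  rw [← CategoryTheory.Functor.map_comp_apply, ← CategoryTheory.Functor.map_comp_apply]
  exact congrArg (fun m => F.presheaf.map m s) (Subsingleton.elim _ _)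

lemma image_congr' {A B : Scheme.{u}} {f g : A ⟶ B} [IsOpenImmersion f] [IsOpenImmersion g]
    (e : f = g) (W : A.Opens) : f ''ᵁ W = g ''ᵁ W := by
  subst e
  rfl

lemma image_le (W : (U' : Scheme.{u}).Opens) : U.ι ''ᵁ ((gg h) ''ᵁ W) ≤ U' := by
  have e1 : U.ι ''ᵁ ((gg h) ''ᵁ W) = (gg h ≫ U.ι) ''ᵁ W := (Scheme.Hom.comp_image _ _ _).symm
  have e2 : (gg h ≫ U.ι) ''ᵁ W = (U'.ι ≫ 𝟙 X) ''ᵁ W :=
    image_congr' (Scheme.Hom.resLE_comp_ι (𝟙 X) (le' h)) W
  have e3 : (U'.ι ≫ 𝟙 X) ''ᵁ W = U'.ι ''ᵁ W := by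
    rw [Scheme.Hom.comp_image, Scheme.Hom.id_image]
  rw [e1, e2, e3]
  exact U'.ι_image_le W

set_option maxRecDepth 8000 in
/-- **Degree zero.**  If the restriction of `s` to `U'` lifts along `π`, then `resLE (sectH0 s)` is in the image
of `H^0(U', π)`. -/
theorem exists_resLE_sectH0_eq_mapH {I Q : X.Modules} (π : I ⟶ Q) (s : Q.presheaf.obj (op U))
    (t' : I.presheaf.obj (op U'))
    (hs : Q.presheaf.map (homOfLE h).op s = π.app U' t') :
    ∃ w : Coh.HHon X I U' 0, CohPull.resLE Q h 0 (CohPull.sectH0 Q U s) =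
      CohPull.mapH ((restrictFunctor U'.ι).map π) 0 w := by
  have hO₁ : U.ι ''ᵁ ((gg h) ''ᵁ ((gg h) ⁻¹ᵁ ⊤)) ≤ U' := image_le h _
  let t'' : I.presheaf.obj (op (U.ι ''ᵁ ((gg h) ''ᵁ ((gg h) ⁻¹ᵁ ⊤)))) :=
    I.presheaf.map (homOfLE hO₁).op t'
  let c : (I.restrict U'.ι).presheaf.obj (op ⊤) := ((PhiN h).app I).app ⊤ t''
  refine ⟨(Sheaf.H.equiv₀ (Coh.toAb (I.restrict U'.ι)) isTerminalTop).symm c, ?_⟩
  apply (Sheaf.H.equiv₀ (Coh.toAb (Q.restrict U'.ι)) isTerminalTop).injective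
  have hb : (Q.restrict U.ι).presheaf.map (homOfLE ((gg h).image_preimage_le ⊤)).op
      (Q.presheaf.map (eqToHom U.ι_image_top).op s) =
      π.app (U.ι ''ᵁ ((gg h) ''ᵁ ((gg h) ⁻¹ᵁ ⊤))) t'' := by
    have e1 : (Q.restrict U.ι).presheaf.map (homOfLE ((gg h).image_preimage_le ⊤)).op
        (Q.presheaf.map (eqToHom U.ι_image_top).op s) =
        Q.presheaf.map (homOfLE hO₁).op (Q.presheaf.map (homOfLE h).op s) :=
      map_map_eq Q (eqToHom U.ι_image_top)
        (U.ι.opensFunctor.map (homOfLE ((gg h).image_preimage_le ⊤))) (homOfLE h) (homOfLE hO₁) s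
    rw [e1, hs]
    exact (app_map' π (homOfLE hO₁) t').symm
  have hn : ((PhiN h).app Q).app ⊤ (π.app (U.ι ''ᵁ ((gg h) ''ᵁ ((gg h) ⁻¹ᵁ ⊤))) t'') =
      ((restrictFunctor U'.ι).map π).app ⊤ c := by
    exact nat_app_top (PhiN h) π t''
  have hR : Sheaf.H.equiv₀ (Coh.toAb (Q.restrict U'.ι)) isTerminalTop
      (CohPull.mapH ((restrictFunctor U'.ι).map π) 0
        ((Sheaf.H.equiv₀ (Coh.toAb (I.restrict U'.ι)) isTerminalTop).symm c)) =
      ((restrictFunctor U'.ι).map π).app ⊤ c := by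
    refine (Sheaf.H.equiv₀_naturality (hT := isTerminalTop) _ _).symm.trans ?_
    rw [AddEquiv.apply_symm_apply]
    rfl
  rw [hR, equiv₀_resLE, equiv₀_sectH0, hb]
  exact hn

end Groth.Agent.Lib.Helper5.ResLENat
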