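import Groth.Agent.Lib.Helper5.SectFlasque
import Groth.Agent.Lib.Helper5.PrecompDelta
import Groth.Agent.Lib.Helper5.RDPost
import Groth.Agent.Lib.Helper17.ModSiteColim

/-!
# Local cohomology sheaves commute with restriction of scalars
-/

set_option autoImplicit false

universe u

open CategoryTheory Limits Opposite Abelian

namespace Groth.Agent.Lib.Helper5.RSS

open Groth.Agent.Lib.Helper17.IHom Groth.Agent.Lib.Helper17.Tensor
  Groth.Agent.Lib.Helper17.FreeOn Groth.Agent.Lib.Helper5.QS Groth.Agent.Lib.Helper5.SectFlasque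
  Groth.Agent.Lib.Helper22

variable {C : Type u} [SmallCategory C] {J : GrothendieckTopology C}

section General

variable (O : Sheaf J CommRingCat.{u}) (U : C)

/-- a morphism restricts to zero on `U` iff it vanishes on all sections over objects over `U` -/
lemma restr_map_eq_zero_iff_sections {M N : ModSite.Mod O} (f : M ⟶ N) :
    (ModSite.restr O U).map f = 0 ↔
      ∀ (W : C) (_ : W ⟶ U) (z : (toPMod M).obj (op W)), appE (pv f) z = 0 := by
  constructor
  · intro h W g z
    have := congrArg (fun ψ : (ModSite.restr O U).obj M ⟶ (ModSite.restr O U).obj N =>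
      (ψ.val.app (op (Over.mk g))).hom z) h
    exact this
  · intro h
    apply SheafOfModules.hom_ext
    apply PresheafOfModules.hom_ext
    intro Y
    ext z
    exact h Y.unop.left Y.unop.hom z

lemma restr_ι_eq_zero [ModSite.HasPushOver O U] (M : ModSite.Mod O) :
    (ModSite.restr O U).map (ι O U M) = 0 := by
  have := restr_map_comp_ι O U (𝟙 ((ModSite.sectOn O U).obj M))
  rwa [Category.id_comp] at this

end General

variable {O O' : Sheaf J CommRingCat.{u}} (φ : O ⟶ O')

/-- the underlying morphism of sheaves of rings -/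
noncomputable abbrev φR : ModSite.ringSh O ⟶ ModSite.ringSh O' :=
  (sheafCompose J (forget₂ CommRingCat.{u} RingCat.{u})).map φ

/-- restriction of scalars -/
noncomputable abbrev ρ : ModSite.Mod O' ⥤ ModSite.Mod O :=
  SheafOfModules.restrictScalars (φR φ)

instance : PreservesFiniteLimits (ρ φ) := by
  haveI := (Groth.Agent.Lib.Helper17.ModSiteColim.restrictScalars_props (φR φ)).1
  exact PreservesLimitsOfSize.preservesFiniteLimits _

instance : PreservesFiniteColimits (ρ φ) := by
  haveI := (Groth.Agent.Lib.Helper17.ModSiteColim.restrictScalars_props (φR φ)).2.1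
  exact PreservesColimitsOfSize.preservesFiniteColimits _

lemma restr_ρ_map_eq_zero_iff (U : C) {M N : ModSite.Mod O'} (f : M ⟶ N) :
    (ModSite.restr O U).map ((ρ φ).map f) = 0 ↔ (ModSite.restr O' U).map f = 0 := by
  rw [restr_map_eq_zero_iff_sections, restr_map_eq_zero_iff_sections]
  constructor
  · intro h W g z
    exact h W g z
  · intro h W g z
    exact h W g z

variable (U : C) [ModSite.HasPushOver O U] [ModSite.HasPushOver O' U]

/-- the comparison `ρ (Γ_Z M') ⟶ Γ_Z (ρ M')` -/
noncomputable def α (M' : ModSite.Mod O') :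
    (ρ φ).obj ((ModSite.sectOn O' U).obj M') ⟶ (ModSite.sectOn O U).obj ((ρ φ).obj M') :=
  liftS O U ((ρ φ).map (ι O' U M'))
    ((restr_ρ_map_eq_zero_iff φ U _).2 (restr_ι_eq_zero O' U M'))

lemma α_ι (M' : ModSite.Mod O') :
    α φ U M' ≫ ι O U ((ρ φ).obj M') = (ρ φ).map (ι O' U M') :=
  liftS_ι O U _ _

lemma α_naturality {M' N' : ModSite.Mod O'} (f : M' ⟶ N') :
    (ρ φ).map ((ModSite.sectOn O' U).map f) ≫ α φ U N' =
      α φ U M' ≫ (ModSite.sectOn O U).map ((ρ φ).map f) := by
  apply sect_hom_ext O U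
  rw [Category.assoc, Category.assoc, α_ι, ι_naturality, ← Category.assoc, α_ι,
    ← Functor.map_comp, ← Functor.map_comp, ι_naturality]

instance mono_α (M' : ModSite.Mod O') : Mono (α φ U M') := by
  haveI : Mono (ι O' U M') := inferInstanceAs (Mono (kernel.ι _))
  haveI : Mono ((ρ φ).map (ι O' U M')) := inferInstance
  exact mono_of_mono_fac (α_ι φ U M')

lemma epi_α (M' : ModSite.Mod O') : Epi (α φ U M') := by
  apply epi_of_sections_surjective
  intro V y
  let s : (toPMod ((ρ φ).obj M')).obj (op V) := appE (pv (ι O U ((ρ φ).obj M'))) y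
  let s' : (toPMod M').obj (op V) := s
  have hs : ∀ (W : C) (f : W ⟶ V), Nonempty (W ⟶ U) → rs (toPMod M') f s' = 0 := by
    rintro W f ⟨g⟩
    have h1 : rs (toPMod ((ρ φ).obj M')) f s = 0 := by
      change rs _ f (appE (pv (ι O U ((ρ φ).obj M'))) y) = 0
      rw [← appE_rs]
      exact (restr_map_eq_zero_iff_sections O U _).1 (restr_ι_eq_zero O U _) W g _
    exact h1
  let τ' : ModSite.freeOn O' V ⟶ M' := (freeOnHomEquiv M' V).symm s'
  have hr : (ModSite.restr O' U).map τ' = 0 :=
    restr_map_eq_zero_of_sections O' U V M' τ' (fun W f hW => by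
      rw [Equiv.apply_symm_apply]
      exact hs W f hW)
  let ℓ : ModSite.freeOn O' V ⟶ (ModSite.sectOn O' U).obj M' := liftS O' U τ' hr
  let x' : (toPMod ((ModSite.sectOn O' U).obj M')).obj (op V) := freeOnHomEquiv _ V ℓ
  have hx' : appE (pv (ι O' U M')) x' = s' := by
    have h5 := freeOnHomEquiv_comp V ℓ (ι O' U M')
    rw [liftS_ι, Equiv.apply_symm_apply] at h5
    exact h5.symm
  let x : (toPMod ((ρ φ).obj ((ModSite.sectOn O' U).obj M'))).obj (op V) := x'
  refine ⟨x, ?_⟩
  have h7 : appE (pv (ι O U ((ρ φ).obj M'))) (appE (pv (α φ U M')) x) = s :=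
    (congrArg (fun ψ : (ρ φ).obj ((ModSite.sectOn O' U).obj M') ⟶ (ρ φ).obj M' =>
      appE (pv ψ) x) (α_ι φ U M')).trans hx'
  have h6 : appE (pv (ι O U ((ρ φ).obj M'))) (appE (pv (α φ U M')) x - y) = 0 := by
    have h8 : appE (pv (ι O U ((ρ φ).obj M'))) (appE (pv (α φ U M')) x - y) =
        appE (pv (ι O U ((ρ φ).obj M'))) (appE (pv (α φ U M')) x) -
          appE (pv (ι O U ((ρ φ).obj M'))) y := map_sub _ _ _
    rw [h8, h7]
    exact sub_self _
  haveI : Mono (ι O U ((ρ φ).obj M')) := inferInstanceAs (Mono (kernel.ι _))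
  exact sub_eq_zero.1 (appE_injective_of_mono (ι O U ((ρ φ).obj M')) _ h6)

lemma isIso_α (M' : ModSite.Mod O') : IsIso (α φ U M') :=
  haveI := epi_α φ U M'
  isIso_of_mono_of_epi _

/-- **`Γ_Z` commutes with restriction of scalars.** -/
noncomputable def sectIso : ModSite.sectOn O' U ⋙ ρ φ ≅ ρ φ ⋙ ModSite.sectOn O U :=
  NatIso.ofComponents (fun M' => haveI := isIso_α φ U M'; asIso (α φ U M'))
    (fun f => α_naturality φ U f)

/-- `ρ` of an injective module is `Γ_Z`-acyclic -/
lemma isZero_HZsh_ρ_injective [HasInjectiveResolutions (ModSite.Mod O)]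
    (I : ModSite.Mod O') (hI : Injective I) (n : ℕ) :
    IsZero ((ModSite.HZsh O U (n + 1)).obj ((ρ φ).obj I)) := by
  apply isZero_HZsh_succ O U n
  exact ModAcyclic.isTotallyAcyclic_toSheaf (ModSite.ringSh O') I

/-- **The local cohomology sheaves commute with restriction of scalars.** -/
theorem main [HasInjectiveResolutions (ModSite.Mod O)] [HasInjectiveResolutions (ModSite.Mod O')]
    (q : ℕ) :
    Nonempty (ModSite.HZsh O' U q ⋙ ρ φ ≅ ρ φ ⋙ ModSite.HZsh O U q) := by
  haveI : EnoughInjectives (ModSite.Mod O) := Groth.Agent.S0485.result J (ModSite.ringSh O)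
  haveI : EnoughInjectives (ModSite.Mod O') := Groth.Agent.S0485.result J (ModSite.ringSh O')
  haveI : PreservesFiniteLimits (ModSite.sectOn O U) := by
    haveI := (QS.adj O U).rightAdjoint_preservesLimits
    infer_instance
  haveI : (ρ φ).PreservesHomology := Functor.preservesHomologyOfExact _
  have e1 : ModSite.HZsh O' U q ⋙ ρ φ ≅ (ModSite.sectOn O' U ⋙ ρ φ).rightDerived q :=
    (RDPost.rightDerivedPostIso (ModSite.sectOn O' U) (ρ φ) q).symm
  have e2 : (ModSite.sectOn O' U ⋙ ρ φ).rightDerived q ≅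
      (ρ φ ⋙ ModSite.sectOn O U).rightDerived q :=
    DimShift.rightDerivedIsoOfNatIso (sectIso φ U) q
  have e3 : (ρ φ ⋙ ModSite.sectOn O U).rightDerived q ≅ ρ φ ⋙ ModSite.HZsh O U q :=
    PrecompDelta.rightDerivedPrecompIso (ρ φ) (ModSite.sectOn O U)
      (fun I hI n => isZero_HZsh_ρ_injective φ U I hI n) q
  exact ⟨e1 ≪≫ e2 ≪≫ e3⟩

end Groth.Agent.Lib.Helper5.RSS
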