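import Groth.Agent.Lib.Helper5.QExact
import Groth.Agent.Lib.Helper5.RDPost
import Groth.Agent.Lib.Helper5.RightDerivedComp
import Groth.Agent.Lib.Helper5.ExtDerived

/-!
# Sections with supports commute with localisation
-/

set_option autoImplicit false

universe u

open CategoryTheory Limits Opposite

namespace Groth.Agent.Lib.Helper5.QS

open Groth.Agent.Lib.Helper17.IHom Groth.Agent.Lib.Helper17.Tensor
  Groth.Agent.Lib.Helper17.LocInj Groth.Agent.Lib.Helper17.ExtZeroP
  Groth.Agent.Lib.Helper17.ExtZero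

variable {C : Type u} [SmallCategory C] {J : GrothendieckTopology C} (O : Sheaf J CommRingCat.{u})

/-- the sheafification of a presheaf of modules vanishing over `U` is null on `U` -/
lemma isNullOn_sheafify (U : C) (P : PMod O)
    (hP : ∀ V : C, Nonempty (V ⟶ U) → ∀ x : P.obj (op V), x = 0) :
    ModSite.IsNullOn O U ((shF O).obj P) := by
  rw [ExtSupp.isNullOn_iff]
  intro V f x
  refine section_eq_zero_of_locally ((shF O).obj P) x _
    (Presheaf.imageSieve_mem J (ab (un P)) x) ?_
  rintro W g ⟨y, hy⟩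
  have hy' : appE (un P) y = rs (toPMod ((shF O).obj P)) g x := hy
  rw [← hy', hP W ⟨g ≫ f⟩ y]
  exact map_zero _

lemma jP_eq_zero_of_forall (X : C) (G : PModU O X) (V : C)
    (h : ∀ (φ : V ⟶ X) (y : smd G V φ), y = 0) (x : (jP G).obj (op V)) : x = 0 := by
  have h0 : (𝟙 (jObj G (op V)) : jObj G (op V) ⟶ jObj G (op V)) = 0 :=
    jObj_hom_ext G (fun φ y => by
      rw [h φ y]
      change (𝟙 (jObj G (op V)) : jObj G (op V) ⟶ jObj G (op V)).hom (inj G φ 0) =
        (0 : jObj G (op V) ⟶ jObj G (op V)).hom (inj G φ 0)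
      have : inj G φ (0 : smd G V φ) = 0 := map_zero _
      rw [this, map_zero, map_zero])
  have h1 : (𝟙 (jObj G (op V)) : jObj G (op V) ⟶ jObj G (op V)).hom x = x := rfl
  have h2 : (0 : jObj G (op V) ⟶ jObj G (op V)).hom x = 0 := rfl
  exact h1.symm.trans ((congrArg (fun t : jObj G (op V) ⟶ jObj G (op V) => t.hom x) h0).trans h2)

section Prod

variable [HasBinaryProducts C] (U X : C)

/-- the object `U × X ⟶ X` of `C/X` -/
noncomputable abbrev W : Over X := Over.mk (Limits.prod.snd : U ⨯ X ⟶ X)

/-- restriction to `C/X` turns modules null on `U` into modules null on `U × X` -/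
lemma isNullOn_restr (Z : ModSite.Mod O) (hZ : ModSite.IsNullOn O U Z) :
    ModSite.IsNullOn (O.over X) (W U X) ((ModSite.restr O X).obj Z) := by
  rw [ExtSupp.isNullOn_iff]
  intro Y g x
  exact (ExtSupp.isNullOn_iff O U Z).1 hZ (g.left ≫ Limits.prod.fst) x

/-- extension by zero from `C/X` turns modules null on `U × X` into modules null on `U` -/
lemma isNullOn_extZero (H : ModSite.Mod (O.over X))
    (hH : ModSite.IsNullOn (O.over X) (W U X) H) :
    ModSite.IsNullOn O U ((ModSite.extZero O X).obj H) := by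
  let e : (ModSite.extZero O X).obj H ≅ (shF O).obj (jP ((forgetU O X).obj H)) :=
    (extZeroIso O X).app H
  refine IsZero.of_iso ?_ ((ModSite.restr O U).mapIso e)
  refine isNullOn_sheafify O U _ ?_
  rintro V ⟨f⟩ x
  refine jP_eq_zero_of_forall O X _ V ?_ x
  intro φ y
  exact (ExtSupp.isNullOn_iff (O.over X) (W U X) H).1 hH
    (Over.homMk (Limits.prod.lift f φ) (Limits.prod.lift_snd f φ) : Over.mk φ ⟶ W U X) y

lemma hom_extZero_extZero_null (G : ModSite.Mod ((O.over X).over (W U X))) (Z : ModSite.Mod O)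
    (hZ : ModSite.IsNullOn O U Z)
    (f : (ModSite.extZero O X).obj ((ModSite.extZero (O.over X) (W U X)).obj G) ⟶ Z) : f = 0 := by
  apply ((ModSite.extZeroAdj O X).homEquiv _ _).injective
  exact (hom_null_eq_zero (O.over X) (W U X) (isNullOn_restr O U X Z hZ) _).trans
    (hom_null_eq_zero (O.over X) (W U X) (isNullOn_restr O U X Z hZ) _).symm

/-- `j_{X!}(π)` is a model of the quotient of `j_{X!} G` -/
lemma isQuot_extZero_map (G : ModSite.Mod (O.over X)) :
    IsQuot O U ((ModSite.extZero O X).map (π (O.over X) (W U X) G)) where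
  null := isNullOn_extZero O U X _ (isNullOn_quotOn' (O.over X) (W U X) G)
  exists_cokernel := by
    refine ⟨_, (ModSite.extZero O X).map (ε (O.over X) (W U X) G),
      by rw [← Functor.map_comp, ε_π, Functor.map_zero], ⟨?_⟩,
      hom_extZero_extZero_null O U X _ _ (isNullOn_quotOn' O U _) _⟩
    have hc : IsColimit (CokernelCofork.ofπ (π (O.over X) (W U X) G) (ε_π (O.over X) (W U X) G)) :=
      cokernelIsCokernel (ε (O.over X) (W U X) G)
    exact CokernelCofork.mapIsColimit _ hc (ModSite.extZero O X)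

/-- the natural transformation from `j_{X!}` to `j_{X!}` of the quotient by `W` -/
noncomputable def extZeroπ :
    ModSite.extZero O X ⟶ ModSite.quotOn (O.over X) (W U X) ⋙ ModSite.extZero O X where
  app G := (ModSite.extZero O X).map (π (O.over X) (W U X) G)
  naturality G G' f := by
    change (ModSite.extZero O X).map f ≫ (ModSite.extZero O X).map (π (O.over X) (W U X) G') =
      (ModSite.extZero O X).map (π (O.over X) (W U X) G) ≫
        (ModSite.extZero O X).map ((ModSite.quotOn (O.over X) (W U X)).map f)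
    rw [← Functor.map_comp, ← Functor.map_comp, π_naturality]

/-- `(j_{X!} G)/(j_{X!} G)_U ≅ j_{X!}(G/G_W)` -/
noncomputable def quotExtZeroIso :
    ModSite.extZero O X ⋙ ModSite.quotOn O U ≅
      ModSite.quotOn (O.over X) (W U X) ⋙ ModSite.extZero O X :=
  quotNatIso (extZeroπ O U X) (fun G => isQuot_extZero_map O U X G)

variable [ModSite.HasPushOver (O.over X) (W U X)]

/-- `Γ_Z(M)|_X ≅ Γ_{Z/X}(M|_X)` -/
noncomputable def sectRestrIso :
    ModSite.sectOn O U ⋙ ModSite.restr O X ≅
      ModSite.restr O X ⋙ ModSite.sectOn (O.over X) (W U X) :=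
  ((ModSite.extZeroAdj O X).comp (adj O U)).rightAdjointUniq
    (((adj (O.over X) (W U X)).comp (ModSite.extZeroAdj O X)).ofNatIsoLeft
      (quotExtZeroIso O U X).symm)

/-- `ℋ^q_Z(M)|_X ≅ ℋ^q_{Z/X}(M|_X)` -/
noncomputable def HZshRestrIso [HasInjectiveResolutions (ModSite.Mod O)]
    [HasInjectiveResolutions (ModSite.Mod (O.over X))] (q : ℕ) :
    ModSite.HZsh O U q ⋙ ModSite.restr O X ≅
      ModSite.restr O X ⋙ ModSite.HZsh (O.over X) (W U X) q :=
  haveI := RestrExact.restr_additive O X
  haveI := RestrExact.restr_preservesHomology O X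
  haveI := RestrExact.restr_preservesInjectiveObjects O X
  (RDPost.rightDerivedPostIso (ModSite.sectOn O U) (ModSite.restr O X) q).symm ≪≫
    ExtDer.rightDerivedMapIso (sectRestrIso O U X) q ≪≫
    RDComp.rightDerivedCompIso (ModSite.restr O X) (ModSite.sectOn (O.over X) (W U X)) q

end Prod

end Groth.Agent.Lib.Helper5.QS
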