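import Groth.Agent.Lib.Helper5.RelSerre
import Groth.Agent.S0007

/-!
# Vanishing of stalks of higher direct images

If `f ⁻¹ W` is affine for all small affine opens `W` around `y`, then the stalk of `R^p f_* M` at
`y` vanishes for `p > 0`.
-/

set_option autoImplicit false
set_option linter.unusedSectionVars false

universe u

open CategoryTheory CategoryTheory.Limits Opposite TopologicalSpace AlgebraicGeometry

namespace Groth.Agent.Lib.Helper5.RpushStalk

variable {X Y : Scheme.{u}} (f : X ⟶ Y) [QuasiCompact f] [QuasiSeparated f]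
  (M : X.Modules) [M.IsQuasicoherent]

/-- sections of `R^p f_* M` over an affine open with affine preimage vanish -/
theorem subsingleton_sections (W : Y.Opens) (hW : IsAffineOpen W)
    (hfW : IsAffineOpen (f ⁻¹ᵁ W)) (p : ℕ) (hp : 0 < p) :
    Subsingleton (((Coh.RpushAb f p).obj (Coh.toAb M)).obj.obj (op W)) := by
  obtain ⟨e⟩ := RelSerre.nonempty_HHon_addEquiv_sections f M W hW p
  haveI : IsAffine (f ⁻¹ᵁ W : Scheme.{u}) := hfW
  haveI hs : Subsingleton (Coh.HHon X M (f ⁻¹ᵁ W) p) :=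
    Groth.Agent.S0007.result _ (M.restrict (f ⁻¹ᵁ W).ι) p hp
  exact e.symm.toEquiv.subsingleton

theorem isZero_stalk_of_affine_preimage (V : Y.Opens)
    (hV : ∀ W : Y.Opens, W ≤ V → IsAffineOpen W → IsAffineOpen (f ⁻¹ᵁ W))
    (y : Y) (hy : y ∈ V) (p : ℕ) (hp : 0 < p) :
    IsZero (TopCat.Presheaf.stalk ((Coh.RpushAb f p).obj (Coh.toAb M)).obj y) := by
  let R : TopCat.Presheaf AddCommGrpCat.{u} Y.carrier :=
    ((Coh.RpushAb f p).obj (Coh.toAb M)).obj
  change IsZero (TopCat.Presheaf.stalk R y)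
  suffices h : ∀ a : (TopCat.Presheaf.stalk R y : AddCommGrpCat.{u}), a = 0 by
    have : Subsingleton (TopCat.Presheaf.stalk R y : AddCommGrpCat.{u}) :=
      ⟨fun a b => (h a).trans (h b).symm⟩
    exact AddCommGrpCat.isZero_of_subsingleton _
  intro a
  obtain ⟨W', hyW', s, rfl⟩ := TopCat.Presheaf.exists_germ_eq R a
  have hyW'V : y ∈ W' ⊓ V := ⟨hyW', hy⟩
  obtain ⟨W, hW, hyW, hWsub⟩ := exists_isAffineOpen_mem_and_subset hyW'V
  have hWW' : W ≤ W' := fun z hz => (hWsub hz).1
  have hWV : W ≤ V := fun z hz => (hWsub hz).2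
  haveI := subsingleton_sections f M W hW (hV W hWV hW) p hp
  rw [← TopCat.Presheaf.germ_res_apply R (homOfLE hWW') y hyW s]
  have h0 : (ConcreteCategory.hom (R.map (homOfLE hWW').op)) s = 0 := Subsingleton.elim _ _
  rw [h0, map_zero]

end Groth.Agent.Lib.Helper5.RpushStalk
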