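import Groth.Agent.Lib.Helper5.SSRows

/-!
# Prepending a first page to an `E₂` spectral sequence

Given an `E₂` cohomological spectral sequence whose second page is identified with the cohomology
of a family of rows `K q` (cochain complexes), we build an `E₁` spectral sequence with
`E₁^{p,q} = (K q)^p`, `d₁` the differentials of the rows, and the given pages from `E₂` on.
Abutment data are carried over.
-/

set_option autoImplicit false

open CategoryTheory Limits ZeroObject

namespace Groth.Agent.Lib.Helper5.SSPrepend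

universe v u

variable {C : Type u} [Category.{v} C] [Abelian C]

section Construction

variable (E2 : CohomologicalSpectralSequence C 2) (R : ℤ → CochainComplex C ℤ)

/-- the pages: the rows on page one, the given pages from page two on -/
noncomputable def page (r : ℤ) : HomologicalComplex C (ComplexShape.up' ((r, 1 - r) : ℤ × ℤ)) :=
  if h : 2 ≤ r then E2.page r h else SSRows.pageGen r R

lemma page_of_le (r : ℤ) (h : 2 ≤ r) : page E2 R r = E2.page r h := dif_pos h

lemma page_one : page E2 R 1 = SSRows.pageGen 1 R := dif_neg (by norm_num)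

variable (e : ∀ pq : ℤ × ℤ, (R pq.2).homology pq.1 ≅ (E2.page 2 le_rfl).X pq)

/-- the isomorphisms between the homology of a page and the next page -/
noncomputable def isoAux (r r' : ℤ) (pq : ℤ × ℤ) (hrr' : r + 1 = r') (hr : 1 ≤ r) :
    (page E2 R r).homology pq ≅ (page E2 R r').X pq := by
  by_cases h : r = 1
  · obtain rfl : r' = 2 := by omega
    subst h
    have e1 : (page E2 R 1).homology pq = (SSRows.pageGen 1 R).homology pq := by rw [page_one]
    have e3 : (E2.page 2 le_rfl).X pq = (page E2 R 2).X pq := by rw [page_of_le E2 R 2 le_rfl]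
    exact eqToIso e1 ≪≫ SSRows.homologyIso R pq.1 pq.2 ≪≫ e pq ≪≫ eqToIso e3
  · have h2 : 2 ≤ r := by omega
    have h2' : 2 ≤ r' := by omega
    have e1 : (page E2 R r).homology pq = (E2.page r h2).homology pq := by rw [page_of_le E2 R r h2]
    have e3 : (E2.page r' h2').X pq = (page E2 R r').X pq := by rw [page_of_le E2 R r' h2']
    exact eqToIso e1 ≪≫ E2.iso r r' pq hrr' h2 ≪≫ eqToIso e3

/-- the spectral sequence with the first page prepended -/
noncomputable def E : CohomologicalSpectralSequence C 1 where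
  page r _ := page E2 R r
  iso r r' pq hrr' hr := isoAux E2 R e r r' pq hrr' hr

lemma E_page (r : ℤ) (hr : 1 ≤ r) : (E E2 R e).page r hr = page E2 R r := rfl

lemma stationary (pq : ℤ × ℤ) (r : ℤ) (h : SpSeq.StationaryAt E2 pq r) :
    SpSeq.StationaryAt (E E2 R e) pq r := by
  obtain ⟨h2, hd⟩ := h
  refine ⟨by omega, fun r' h₀ hr' => ?_⟩
  have h2' : 2 ≤ r' := h2.trans hr'
  obtain ⟨hd1, hd2⟩ := hd r' h2' hr'
  have hp : (E E2 R e).page r' h₀ = E2.page r' h2' := page_of_le E2 R r' h2'
  rw [hp]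
  exact ⟨hd1, hd2⟩

variable {H : ℤ → C}

/-- abutment data are carried over -/
noncomputable def abut (a : SpSeq.Abutment E2 H) : SpSeq.Abutment (E E2 R e) H where
  fil := a.fil
  anti := a.anti
  rk := a.rk
  stat pq := stationary E2 R e pq (a.rk pq) (a.stat pq)
  β pq :=
    eqToIso (by
      have hp : (E E2 R e).page (a.rk pq) (stationary E2 R e pq (a.rk pq) (a.stat pq)).1 =
        E2.page (a.rk pq) (a.stat pq).1 := page_of_le E2 R (a.rk pq) (a.stat pq).1
      rw [hp]) ≪≫ a.β pq

lemma abut_isFinite (a : SpSeq.Abutment E2 H) (n : ℤ) (h : a.IsFinite n) :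
    (abut E2 R e a).IsFinite n := h

lemma isBounded (hX : ∀ p q : ℤ, (p < 0 ∨ q < 0) → IsZero ((R q).X p)) :
    SpSeq.IsBounded (E E2 R e) := by
  intro n
  refine (Set.finite_Icc (0 : ℤ) n).subset ?_
  intro p hp
  by_contra hcon
  apply hp
  have e1 : ((E E2 R e).page 1 le_rfl).X (p, n - p) = (R (n - p)).X p := by
    rw [E_page, page_one]
    rfl
  rw [e1]
  apply hX
  simp only [Set.mem_Icc, not_and_or, not_le] at hcon
  rcases hcon with h | h
  · exact Or.inl h
  · exact Or.inr (by omega)

lemma page_one_X (pq : ℤ × ℤ) : ((E E2 R e).page 1 le_rfl).X pq = (R pq.2).X pq.1 := by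
  rw [E_page, page_one]
  rfl

end Construction

/-! ### rows indexed by natural numbers -/

lemma nonempty_rowsOfNat_homology_iso (K : ℕ → CochainComplex C ℕ) (p q : ℤ) (hp : 0 ≤ p)
    (hq : 0 ≤ q) :
    Nonempty ((SSRows.rowsOfNat K q).homology p ≅ (K q.toNat).homology p.toNat) := by
  rw [SSRows.rowsOfNat_nonneg K q hq]
  exact ⟨(K q.toNat).extendHomologyIso ComplexShape.embeddingUpNat
    (show ((p.toNat : ℕ) : ℤ) = p from Int.toNat_of_nonneg hp)⟩

lemma isZero_rowsOfNat_homology_of_neg (K : ℕ → CochainComplex C ℕ) (p q : ℤ)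
    (h : p < 0 ∨ q < 0) : IsZero ((SSRows.rowsOfNat K q).homology p) := by
  by_cases hq : 0 ≤ q
  · have hp : p < 0 := by
      rcases h with h | h
      · exact h
      · omega
    rw [SSRows.rowsOfNat_nonneg K q hq, ← HomologicalComplex.exactAt_iff_isZero_homology]
    apply HomologicalComplex.extend_exactAt
    intro i hi
    have h1 : (i : ℤ) = p := hi
    omega
  · exact SSRows.isZero_rowsOfNat_homology_neg K p q hq

/-- the main existence statement -/
theorem exists_prepend (E2 : CohomologicalSpectralSequence C 2) {H : ℤ → C}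
    (a : SpSeq.Abutment E2 H) (hfin : ∀ n, a.IsFinite n) (K : ℕ → CochainComplex C ℕ) (Z : C)
    (hZ : IsZero Z)
    (e2 : ∀ p q : ℤ, Nonempty ((E2.page 2 le_rfl).X (p, q) ≅
        (if 0 ≤ p ∧ 0 ≤ q then (K q.toNat).homology p.toNat else Z))) :
    ∃ (E : CohomologicalSpectralSequence C 1) (a' : SpSeq.Abutment E H),
      (∀ n, a'.IsFinite n) ∧ SpSeq.IsBounded E ∧
      ∀ p q : ℤ, Nonempty ((E.page 1 le_rfl).X (p, q) ≅
        (if 0 ≤ p ∧ 0 ≤ q then (K q.toNat).X p.toNat else Z)) := by
  have he : ∀ pq : ℤ × ℤ, Nonempty ((SSRows.rowsOfNat K pq.2).homology pq.1 ≅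
      (E2.page 2 le_rfl).X pq) := by
    rintro ⟨p, q⟩
    obtain ⟨e3⟩ := e2 p q
    by_cases h : 0 ≤ p ∧ 0 ≤ q
    · rw [if_pos h] at e3
      obtain ⟨e4⟩ := nonempty_rowsOfNat_homology_iso K p q h.1 h.2
      exact ⟨e4 ≪≫ e3.symm⟩
    · rw [if_neg h] at e3
      refine ⟨IsZero.iso (isZero_rowsOfNat_homology_of_neg K p q ?_) (hZ.of_iso e3)⟩
      by_contra hcon
      apply h
      constructor <;> omega
  let e := fun pq => (he pq).some
  refine ⟨E E2 (SSRows.rowsOfNat K) e, abut E2 (SSRows.rowsOfNat K) e a,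
    fun n => abut_isFinite E2 _ e a n (hfin n),
    isBounded E2 _ e (SSRows.isZero_rowsOfNat_X K), fun p q => ?_⟩
  rw [page_one_X]
  by_cases h : 0 ≤ p ∧ 0 ≤ q
  · rw [if_pos h]
    exact SSRows.nonempty_rowsOfNat_X_iso K p q h.1 h.2
  · rw [if_neg h]
    refine ⟨IsZero.iso (SSRows.isZero_rowsOfNat_X K p q ?_) hZ⟩
    by_contra hcon
    apply h
    constructor <;> omega

end Groth.Agent.Lib.Helper5.SSPrepend
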