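import Groth.Prelude.Def_SpSeq
import Mathlib

/-
Helper5: elementary facts on abstract cohomological spectral sequences and `SpSeq.Abutment`:
zero terms stay zero on later pages, stationary positions have isomorphic terms on all later
pages, vanishing graded pieces collapse the filtration.
-/

set_option autoImplicit false

open CategoryTheory Limits

namespace Groth.Agent.Lib.Helper5.SpSeqStat

universe v u

variable {C : Type u} [Category.{v} C] [Abelian C] {r₀ : ℤ}
  (E : CohomologicalSpectralSequence C r₀)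

lemma prev_eq (r : ℤ) (pq : ℤ × ℤ) :
    (ComplexShape.up' ((r, 1 - r) : ℤ × ℤ)).prev pq = pq - (r, 1 - r) :=
  ComplexShape.prev_eq' _ (by simp [ComplexShape.up'])

lemma next_eq (r : ℤ) (pq : ℤ × ℤ) :
    (ComplexShape.up' ((r, 1 - r) : ℤ × ℤ)).next pq = pq + (r, 1 - r) :=
  ComplexShape.next_eq' _ (by simp [ComplexShape.up'])

lemma isZero_page_succ (r : ℤ) (hr : r₀ ≤ r) (pq : ℤ × ℤ) (h : IsZero ((E.page r hr).X pq)) :
    IsZero ((E.page (r + 1) (by lia)).X pq) :=
  ((HomologicalComplex.ExactAt.of_isZero h).isZero_homology).of_iso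
    (E.iso r (r + 1) pq rfl hr).symm

lemma isZero_page_of_le (r : ℤ) (hr : r₀ ≤ r) (pq : ℤ × ℤ) (h : IsZero ((E.page r hr).X pq))
    (r' : ℤ) (hrr' : r ≤ r') : IsZero ((E.page r' (hr.trans hrr')).X pq) := by
  induction r', hrr' using Int.le_induction with
  | base => exact h
  | succ R hR ih => exact isZero_page_succ E R (hr.trans hR) pq ih

/-- If the differentials into and out of `pq` vanish on page `r`, the term at `pq` does not
change on the next page. -/
noncomputable def pageSuccIso (r : ℤ) (hr : r₀ ≤ r) (pq : ℤ × ℤ)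
    (h1 : (E.page r hr).d (pq - (r, 1 - r)) pq = 0)
    (h2 : (E.page r hr).d pq (pq + (r, 1 - r)) = 0) :
    (E.page r hr).X pq ≅ (E.page (r + 1) (by lia)).X pq :=
  haveI := (E.page r hr).isIso_iCycles pq _ (next_eq r pq) h2
  haveI := (E.page r hr).isIso_homologyπ _ pq (prev_eq r pq) h1
  (asIso ((E.page r hr).iCycles pq)).symm ≪≫ asIso ((E.page r hr).homologyπ pq) ≪≫
    E.iso r (r + 1) pq rfl hr

lemma nonempty_pageIso_of_stationary (pq : ℤ × ℤ) (r : ℤ) (h : SpSeq.StationaryAt E pq r)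
    (r' : ℤ) (hrr' : r ≤ r') :
    Nonempty ((E.page r h.1).X pq ≅ (E.page r' (h.1.trans hrr')).X pq) := by
  induction r', hrr' using Int.le_induction with
  | base => exact ⟨Iso.refl _⟩
  | succ R hR ih =>
    obtain ⟨e⟩ := ih
    obtain ⟨h1, h2⟩ := h.2 R (h.1.trans hR) hR
    exact ⟨e ≪≫ pageSuccIso E R (h.1.trans hR) pq h1 h2⟩

/-- Two pages from which `pq` is stationary have isomorphic terms at `pq`. -/
lemma nonempty_pageIso_of_stationary' (pq : ℤ × ℤ) (r r' : ℤ) (h : SpSeq.StationaryAt E pq r)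
    (h' : SpSeq.StationaryAt E pq r') :
    Nonempty ((E.page r h.1).X pq ≅ (E.page r' h'.1).X pq) := by
  rcases le_total r r' with hrr' | hrr'
  · exact nonempty_pageIso_of_stationary E pq r h r' hrr'
  · obtain ⟨e⟩ := nonempty_pageIso_of_stationary E pq r' h' r hrr'
    exact ⟨e.symm⟩

section Fil

variable {X : C}

lemma eq_of_isZero_subquot (Z B : Subobject X) (h : B ≤ Z) (hz : IsZero (SpSeq.subquot Z B h)) :
    B = Z := by
  have : Epi (B.ofLE Z h) := by
    apply Preadditive.epi_of_isZero_cokernel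
    exact hz
  have : IsIso (B.ofLE Z h) := isIso_of_mono_of_epi _
  refine le_antisymm h ?_
  exact Subobject.le_of_comm (inv (B.ofLE Z h)) (by simp)

lemma fil_succ_eq_of_isZero_gr (F : ℤ → Subobject X) (hF : Antitone F) (p : ℤ)
    (h : IsZero (SpSeq.grPiece F hF p)) : F (p + 1) = F p :=
  eq_of_isZero_subquot _ _ _ h

noncomputable def subquotTopBotIso (Z B : Subobject X) (h : B ≤ Z) (hZ : Z = ⊤) (hB : B = ⊥) :
    SpSeq.subquot Z B h ≅ X := by
  subst hZ hB
  have h0 : (⊥ : Subobject X).ofLE ⊤ h = 0 :=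
    zero_of_source_iso_zero _ Subobject.botCoeIsoZero
  haveI : IsIso (cokernel.π ((⊥ : Subobject X).ofLE ⊤ h)) := by
    rw [h0]
    infer_instance
  exact (asIso (cokernel.π ((⊥ : Subobject X).ofLE ⊤ h))).symm ≪≫ asIso (⊤ : Subobject X).arrow

end Fil

end Groth.Agent.Lib.Helper5.SpSeqStat
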