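import Groth.Prelude.Def_SpSeq
import Groth.Agent.Lib.Helper5.SpSeqStat

/-!
# The spectral sequence of a family of rows with cohomology concentrated in degree zero

Given cochain complexes `K q` (`q : ℕ`, the rows), we build the cohomological spectral sequence
starting at page one with `E₁^{p,q} = (K q)^p`, `d₁` the differentials of the rows, and all
higher differentials zero.  If `H^k(K q) = 0` for `k > 0`, it has `H^0(K q)` as abutment.
-/

set_option autoImplicit false

open CategoryTheory Limits ZeroObject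

namespace Groth.Agent.Lib.Helper5.SSRows

universe v u

variable {C : Type u} [Category.{v} C] [Abelian C]

/-- a page with differentials in direction `(r, 1 - r)`, which are nonzero only for `r = 1` -/
noncomputable def pageGen (r : ℤ) (R : ℤ → CochainComplex C ℤ) :
    HomologicalComplex C (ComplexShape.up' ((r, 1 - r) : ℤ × ℤ)) where
  X pq := (R pq.2).X pq.1
  d pq pq' := if h : r = 1 ∧ pq.2 = pq'.2 then
      (R pq.2).d pq.1 pq'.1 ≫ eqToHom (by rw [h.2]) else 0
  shape pq pq' hrel := by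
    by_cases h : r = 1 ∧ pq.2 = pq'.2
    · rw [dif_pos h]
      have h4 : ¬ (ComplexShape.up ℤ).Rel pq.1 pq'.1 := by
        intro h1
        apply hrel
        obtain ⟨h2, h3⟩ := h
        subst h2
        show pq + (1, 1 - 1) = pq'
        ext
        · exact h1
        · simpa using h3
      rw [(R pq.2).shape _ _ h4, zero_comp]
    · exact dif_neg h
  d_comp_d' pq pq' pq'' _ _ := by
    by_cases h : r = 1 ∧ pq.2 = pq'.2
    · by_cases h' : r = 1 ∧ pq'.2 = pq''.2
      · rw [dif_pos h, dif_pos h']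
        obtain ⟨_, h2⟩ := h
        obtain ⟨_, h3⟩ := h'
        obtain ⟨p, q⟩ := pq
        obtain ⟨p', q'⟩ := pq'
        obtain ⟨p'', q''⟩ := pq''
        dsimp only at h2 h3 ⊢
        subst h2 h3
        simp
      · rw [dif_neg h', comp_zero]
    · rw [dif_neg h, zero_comp]

lemma pageGen_d_eq_zero (r : ℤ) (R : ℤ → CochainComplex C ℤ) (hr : r ≠ 1) (a b : ℤ × ℤ) :
    (pageGen r R).d a b = 0 :=
  dif_neg (fun h' => hr h'.1)

lemma pageGen_one_d (R : ℤ → CochainComplex C ℤ) (p p' q : ℤ) :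
    (pageGen 1 R).d (p, q) (p', q) = (R q).d p p' := by
  show (if h : (1 : ℤ) = 1 ∧ q = q then (R q).d p p' ≫ eqToHom _ else 0) = _
  rw [dif_pos ⟨rfl, rfl⟩]
  simp

/-- the rows with zero differentials and the cohomology of the given rows as objects -/
noncomputable def HRows (R : ℤ → CochainComplex C ℤ) : ℤ → CochainComplex C ℤ := fun q =>
  { X := fun p => (R q).homology p
    d := fun _ _ => 0
    shape := fun _ _ _ => rfl
    d_comp_d' := fun _ _ _ _ _ => comp_zero }

/-- the rows of page `r` -/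
noncomputable def rowsAt (R : ℤ → CochainComplex C ℤ) (r : ℤ) : ℤ → CochainComplex C ℤ :=
  if r = 1 then R else HRows R

lemma rowsAt_one (R : ℤ → CochainComplex C ℤ) : rowsAt R 1 = R := if_pos rfl

lemma rowsAt_ne (R : ℤ → CochainComplex C ℤ) (r : ℤ) (hr : r ≠ 1) : rowsAt R r = HRows R :=
  if_neg hr

/-- page `r` -/
noncomputable def page (R : ℤ → CochainComplex C ℤ) (r : ℤ) :
    HomologicalComplex C (ComplexShape.up' ((r, 1 - r) : ℤ × ℤ)) :=
  pageGen r (rowsAt R r)

lemma page_one (R : ℤ → CochainComplex C ℤ) : page R 1 = pageGen 1 R := by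
  unfold page
  rw [rowsAt_one]

lemma page_X_one (R : ℤ → CochainComplex C ℤ) (pq : ℤ × ℤ) :
    (page R 1).X pq = (R pq.2).X pq.1 := by
  rw [page_one]
  rfl

lemma page_X_ne (R : ℤ → CochainComplex C ℤ) (r : ℤ) (hr : r ≠ 1) (pq : ℤ × ℤ) :
    (page R r).X pq = (R pq.2).homology pq.1 := by
  unfold page
  rw [rowsAt_ne R r hr]
  rfl

lemma page_d_eq_zero (R : ℤ → CochainComplex C ℤ) (r : ℤ) (hr : r ≠ 1) (a b : ℤ × ℤ) :
    (page R r).d a b = 0 :=
  pageGen_d_eq_zero r _ hr a b

lemma prev_eq1 (p q : ℤ) :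
    (ComplexShape.up' ((1, 1 - 1) : ℤ × ℤ)).prev (p, q) = (p - 1, q) :=
  ComplexShape.prev_eq' _ (by
    show ((p - 1, q) : ℤ × ℤ) + (1, 1 - 1) = (p, q)
    ext <;> simp)

lemma next_eq1 (p q : ℤ) :
    (ComplexShape.up' ((1, 1 - 1) : ℤ × ℤ)).next (p, q) = (p + 1, q) :=
  ComplexShape.next_eq' _ (by
    show ((p, q) : ℤ × ℤ) + (1, 1 - 1) = (p + 1, q)
    ext <;> simp)

/-- the short complex computing the homology of page one at `(p, q)` -/
noncomputable def scIso (R : ℤ → CochainComplex C ℤ) (p q : ℤ) :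
    (pageGen 1 R).sc' (p - 1, q) (p, q) (p + 1, q) ≅ (R q).sc' (p - 1) p (p + 1) :=
  ShortComplex.isoMk (Iso.refl _) (Iso.refl _) (Iso.refl _)
    (by
      refine (Category.id_comp _).trans (Eq.trans ?_ (Category.comp_id _).symm)
      exact (pageGen_one_d R (p - 1) p q).symm)
    (by
      refine (Category.id_comp _).trans (Eq.trans ?_ (Category.comp_id _).symm)
      exact (pageGen_one_d R p (p + 1) q).symm)

/-- the homology of page one is the homology of the rows -/
noncomputable def homologyIso (R : ℤ → CochainComplex C ℤ) (p q : ℤ) :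
    (pageGen 1 R).homology (p, q) ≅ (R q).homology p :=
  (pageGen 1 R).homologyIsoSc' _ _ _ (prev_eq1 p q) (next_eq1 p q) ≪≫
    ShortComplex.homologyMapIso (scIso R p q) ≪≫
    ((R q).homologyIsoSc' (p - 1) p (p + 1) (by simp) (by simp)).symm

/-- the isomorphisms between the homology of a page and the next page -/
noncomputable def isoAux (R : ℤ → CochainComplex C ℤ) (r r' : ℤ) (pq : ℤ × ℤ)
    (hrr' : r + 1 = r') (hr : 1 ≤ r) : (page R r).homology pq ≅ (page R r').X pq := by
  have hr' : r' ≠ 1 := by omega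
  have e2 : (page R r').X pq = (R pq.2).homology pq.1 := page_X_ne R r' hr' pq
  by_cases h : r = 1
  · subst h
    have e1 : (page R 1).homology pq = (pageGen 1 R).homology pq := by rw [page_one]
    exact eqToIso e1 ≪≫ homologyIso R pq.1 pq.2 ≪≫ eqToIso e2.symm
  · have d0 : ∀ a b, (page R r).d a b = 0 := page_d_eq_zero R r h
    have e1 : (page R r).X pq = (R pq.2).homology pq.1 := page_X_ne R r h pq
    haveI := (page R r).isIso_iCycles pq _ (SpSeqStat.next_eq r pq) (d0 _ _)
    haveI := (page R r).isIso_homologyπ _ pq (SpSeqStat.prev_eq r pq) (d0 _ _)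
    exact (asIso ((page R r).homologyπ pq)).symm ≪≫ asIso ((page R r).iCycles pq) ≪≫
      eqToIso (e1.trans e2.symm)

/-- the spectral sequence of the rows -/
noncomputable def E (R : ℤ → CochainComplex C ℤ) : CohomologicalSpectralSequence C 1 where
  page r _ := page R r
  iso r r' pq hrr' hr := isoAux R r r' pq hrr' hr

lemma E_page (R : ℤ → CochainComplex C ℤ) (r : ℤ) (hr : 1 ≤ r) : (E R).page r hr = page R r := rfl

lemma stationary (R : ℤ → CochainComplex C ℤ) (pq : ℤ × ℤ) : SpSeq.StationaryAt (E R) pq 2 := by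
  refine ⟨by norm_num, fun r' h₀ h2 => ⟨?_, ?_⟩⟩
  · exact page_d_eq_zero R r' (by omega) _ _
  · exact page_d_eq_zero R r' (by omega) _ _

lemma isZero_subquot_of_eq {X : C} (Z B : Subobject X) (h : B ≤ Z) (hZB : B = Z) :
    IsZero (SpSeq.subquot Z B h) := by
  subst hZB
  unfold SpSeq.subquot
  have h1 : B.ofLE B h = 𝟙 _ := Subobject.ofLE_refl _
  have : Epi (B.ofLE B h) := by
    rw [h1]
    infer_instance
  exact isZero_cokernel_of_epi _

/-- the filtration of the abutment: everything in degree `≤ 0`, nothing above -/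
noncomputable def fil (X : C) (p : ℤ) : Subobject X := if p ≤ 0 then ⊤ else ⊥

lemma fil_anti (X : C) : Antitone (fil X) := by
  intro p p' h
  unfold fil
  by_cases h1 : p' ≤ 0
  · rw [if_pos h1, if_pos (h.trans h1)]
  · rw [if_neg h1]
    exact bot_le

/-- the abutment -/
noncomputable def abut (R : ℤ → CochainComplex C ℤ) (Hn : ℤ → C)
    (e : ∀ n, (R n).homology 0 ≅ Hn n)
    (hz : ∀ p q : ℤ, p ≠ 0 → IsZero ((R q).homology p)) : SpSeq.Abutment (E R) Hn where
  fil n := fil (Hn n)
  anti n := fil_anti (Hn n)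
  rk _ := 2
  stat pq := stationary R pq
  β pq := by
    obtain ⟨p, q⟩ := pq
    have e2 : ((E R).page 2 (stationary R (p, q)).1).X (p, q) = (R q).homology p :=
      page_X_ne R 2 (by norm_num) (p, q)
    by_cases hp : p = 0
    · subst hp
      have h3 : Hn q = Hn (0 + q) := by rw [zero_add]
      exact eqToIso e2 ≪≫ e q ≪≫ eqToIso h3 ≪≫
        (SpSeqStat.subquotTopBotIso _ _ _ (if_pos le_rfl) (if_neg (by norm_num))).symm
    · refine IsZero.iso ?_ ?_
      · rw [e2]
        exact hz p q hp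
      · apply isZero_subquot_of_eq
        show fil _ (p + 1) = fil _ p
        unfold fil
        by_cases h1 : p ≤ 0
        · rw [if_pos h1, if_pos (by omega)]
        · rw [if_neg h1, if_neg (by omega)]

lemma abut_isFinite (R : ℤ → CochainComplex C ℤ) (Hn : ℤ → C)
    (e : ∀ n, (R n).homology 0 ≅ Hn n)
    (hz : ∀ p q : ℤ, p ≠ 0 → IsZero ((R q).homology p)) (n : ℤ) :
    (abut R Hn e hz).IsFinite n :=
  ⟨⟨0, show fil (Hn n) 0 = ⊤ from if_pos le_rfl⟩,
    ⟨1, show fil (Hn n) 1 = ⊥ from if_neg (by norm_num)⟩⟩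

lemma isBounded (R : ℤ → CochainComplex C ℤ)
    (hX : ∀ p q : ℤ, (p < 0 ∨ q < 0) → IsZero ((R q).X p)) : SpSeq.IsBounded (E R) := by
  intro n
  refine (Set.finite_Icc (0 : ℤ) n).subset ?_
  intro p hp
  by_contra hcon
  apply hp
  have e1 : ((E R).page 1 le_rfl).X (p, n - p) = (R (n - p)).X p := page_X_one R (p, n - p)
  rw [e1]
  apply hX
  simp only [Set.mem_Icc, not_and_or, not_le] at hcon
  rcases hcon with h | h
  · exact Or.inl h
  · exact Or.inr (by omega)

/-! ### rows indexed by natural numbers -/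

/-- the zero complex -/
noncomputable def zeroCx : CochainComplex C ℤ where
  X _ := 0
  d _ _ := 0
  shape _ _ _ := rfl
  d_comp_d' _ _ _ _ _ := comp_zero

/-- extension of rows indexed by `ℕ × ℕ` to `ℤ × ℤ` -/
noncomputable def rowsOfNat (K : ℕ → CochainComplex C ℕ) : ℤ → CochainComplex C ℤ := fun q =>
  if 0 ≤ q then (K q.toNat).extend ComplexShape.embeddingUpNat else zeroCx

lemma rowsOfNat_nonneg (K : ℕ → CochainComplex C ℕ) (q : ℤ) (hq : 0 ≤ q) :
    rowsOfNat K q = (K q.toNat).extend ComplexShape.embeddingUpNat := if_pos hq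

lemma rowsOfNat_neg (K : ℕ → CochainComplex C ℕ) (q : ℤ) (hq : ¬ 0 ≤ q) :
    rowsOfNat K q = zeroCx := if_neg hq

lemma isZero_rowsOfNat_X (K : ℕ → CochainComplex C ℕ) (p q : ℤ) (h : p < 0 ∨ q < 0) :
    IsZero ((rowsOfNat K q).X p) := by
  by_cases hq : 0 ≤ q
  · rw [rowsOfNat_nonneg K q hq]
    apply HomologicalComplex.isZero_extend_X
    intro i hi
    have h1 : (i : ℤ) = p := hi
    omega
  · rw [rowsOfNat_neg K q hq]
    exact isZero_zero C

lemma nonempty_rowsOfNat_X_iso (K : ℕ → CochainComplex C ℕ) (p q : ℤ) (hp : 0 ≤ p)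
    (hq : 0 ≤ q) : Nonempty ((rowsOfNat K q).X p ≅ (K q.toNat).X p.toNat) := by
  rw [rowsOfNat_nonneg K q hq]
  exact ⟨(K q.toNat).extendXIso ComplexShape.embeddingUpNat
    (show ((p.toNat : ℕ) : ℤ) = p from Int.toNat_of_nonneg hp)⟩

lemma isZero_rowsOfNat_homology (K : ℕ → CochainComplex C ℕ)
    (hz : ∀ q k : ℕ, IsZero ((K q).homology (k + 1))) (p q : ℤ) (hp : p ≠ 0) :
    IsZero ((rowsOfNat K q).homology p) := by
  by_cases hq : 0 ≤ q
  · rw [rowsOfNat_nonneg K q hq]
    by_cases hp0 : 0 ≤ p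
    · obtain ⟨k, hk⟩ : ∃ k : ℕ, p = ((k + 1 : ℕ) : ℤ) := ⟨(p - 1).toNat, by omega⟩
      exact (hz q.toNat k).of_iso
        ((K q.toNat).extendHomologyIso ComplexShape.embeddingUpNat
          (show (((k + 1 : ℕ)) : ℤ) = p from hk.symm))
    · rw [← HomologicalComplex.exactAt_iff_isZero_homology]
      apply HomologicalComplex.extend_exactAt
      intro i hi
      have h1 : (i : ℤ) = p := hi
      omega
  · rw [rowsOfNat_neg K q hq]
    exact (HomologicalComplex.ExactAt.of_isZero (isZero_zero C)).isZero_homology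

lemma nonempty_rowsOfNat_homology_zero_iso (K : ℕ → CochainComplex C ℕ) (q : ℤ) (hq : 0 ≤ q) :
    Nonempty ((rowsOfNat K q).homology 0 ≅ (K q.toNat).homology 0) := by
  rw [rowsOfNat_nonneg K q hq]
  exact ⟨(K q.toNat).extendHomologyIso ComplexShape.embeddingUpNat
    (show ((0 : ℕ) : ℤ) = 0 from rfl)⟩

lemma isZero_rowsOfNat_homology_neg (K : ℕ → CochainComplex C ℕ) (p q : ℤ) (hq : ¬ 0 ≤ q) :
    IsZero ((rowsOfNat K q).homology p) := by
  rw [rowsOfNat_neg K q hq]
  exact (HomologicalComplex.ExactAt.of_isZero (isZero_zero C)).isZero_homology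

/-- the main existence statement -/
theorem exists_spectralSequence (K : ℕ → CochainComplex C ℕ) (A : ℕ → C) (Z : C) (hZ : IsZero Z)
    (e0 : ∀ q, Nonempty ((K q).homology 0 ≅ A q))
    (hz : ∀ q k : ℕ, IsZero ((K q).homology (k + 1))) :
    ∃ (E : CohomologicalSpectralSequence C 1)
      (a : SpSeq.Abutment E (fun n : ℤ => if 0 ≤ n then A n.toNat else Z)),
      (∀ n, a.IsFinite n) ∧ SpSeq.IsBounded E ∧
      ∀ p q : ℤ, Nonempty ((E.page 1 le_rfl).X (p, q) ≅
        (if 0 ≤ p ∧ 0 ≤ q then (K q.toNat).X p.toNat else Z)) := by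
  have he : ∀ n : ℤ, Nonempty ((rowsOfNat K n).homology 0 ≅
      (if 0 ≤ n then A n.toNat else Z)) := by
    intro n
    by_cases hn : 0 ≤ n
    · rw [if_pos hn]
      obtain ⟨e1⟩ := nonempty_rowsOfNat_homology_zero_iso K n hn
      obtain ⟨e2⟩ := e0 n.toNat
      exact ⟨e1 ≪≫ e2⟩
    · rw [if_neg hn]
      exact ⟨IsZero.iso (isZero_rowsOfNat_homology_neg K 0 n hn) hZ⟩
  refine ⟨E (rowsOfNat K), abut (rowsOfNat K) _ (fun n => (he n).some)
    (fun p q hp => isZero_rowsOfNat_homology K hz p q hp), fun n => abut_isFinite _ _ _ _ n,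
    isBounded _ (isZero_rowsOfNat_X K), fun p q => ?_⟩
  have e1 : ((E (rowsOfNat K)).page 1 le_rfl).X (p, q) = (rowsOfNat K q).X p :=
    page_X_one (rowsOfNat K) (p, q)
  rw [e1]
  by_cases h : 0 ≤ p ∧ 0 ≤ q
  · rw [if_pos h]
    exact nonempty_rowsOfNat_X_iso K p q h.1 h.2
  · rw [if_neg h]
    refine ⟨IsZero.iso (isZero_rowsOfNat_X K p q ?_) hZ⟩
    by_contra hcon
    apply h
    constructor <;> omega

end Groth.Agent.Lib.Helper5.SSRows
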