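import Groth.Agent.Lib.Helper5.FibreB
import Groth.Agent.Lib.Helper5.ProperDescent
import Groth.Agent.Lib.Helper5.DUnit2

/-!
# The Čech diagram of a map with a section

For a continuous map `f : X ⟶ S` with a section `s`, the Čech diagram of `f` extends to a diagram
`DplusS` indexed by the finite sets and partial maps (a split augmentation), whose level `0` is
the base.  We deduce that the inverse image to the Čech diagram of any abelian sheaf on the base
is acyclic for the direct image to the base, and that the unit is an isomorphism.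
-/

set_option autoImplicit false

universe u

open CategoryTheory CategoryTheory.Limits Opposite TopologicalSpace Simplicial

noncomputable section

namespace Groth.Agent.Lib.Helper5.SecDiag

open Groth.Agent.Lib.Helper5.DSite Groth.Agent.Lib.Helper5.DYoneda Groth.Agent.Lib.Helper5.DPull
  Groth.Agent.Lib.Helper5.CechDiag Groth.Agent.Lib.Helper5.FreePsh Groth.Agent.Lib.Helper5.DEps
  Groth.Agent.Lib.Helper5.DLev Groth.Agent.Lib.Helper5.GermFam Groth.Agent.Lib.Helper5.DRestr
  Groth.Agent.Lib.Helper5.ProperDescent Groth.Agent.Lib.Helper5.FibreB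
  Groth.Agent.Lib.Helper5.DeltaSite Groth.Agent.Lib.Helper5.DeltaCmp
  Groth.Agent.Lib.Helper5.DeltaAcyc Groth.Agent.Lib.Helper5.LimPush Groth.Agent.Lib.Helper5.LimAdj
  Groth.Agent.Lib.Helper22

/-! ### generalities -/

section generalities

/-- Higher right derived functors of an exact functor vanish. -/
theorem isZero_rightDerived_succ_of_preservesHomology {C : Type*} [Category C] [Abelian C]
    [HasInjectiveResolutions C] {E : Type*} [Category E] [Abelian E]
    (G : C ⥤ E) [G.Additive] [G.PreservesHomology] (n : ℕ) (A : C) :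
    IsZero ((G.rightDerived (n + 1)).obj A) := by
  let I : InjectiveResolution A := injectiveResolution A
  refine IsZero.of_iso ?_ (I.isoRightDerivedObj G (n + 1))
  have hex : (I.cocomplex.sc (n + 1)).Exact := I.cocomplex_exactAt_succ n
  have h2 : ((G.mapHomologicalComplex _).obj I.cocomplex).ExactAt (n + 1) := hex.map G
  exact h2.isZero_homology

/-- direct images along equal maps -/
def pushCongr {T R : TopCat.{u}} {g g' : T ⟶ R} (h : g = g') : CohTop.push g ≅ CohTop.push g' :=
  eqToIso (by rw [h])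

/-- the direct image along a composite -/
def pushComp {T R Q : TopCat.{u}} (g : T ⟶ R) (k : R ⟶ Q) :
    CohTop.push (g ≫ k) ≅ CohTop.push g ⋙ CohTop.push k := Iso.refl _

/-- the direct image along the identity -/
def pushId (T : TopCat.{u}) : CohTop.push (𝟙 T) ≅ 𝟭 (CohTop.Ab T) := Iso.refl _

/-- the direct image along a homeomorphism is an equivalence -/
def pushEquiv {T R : TopCat.{u}} (e : T ≅ R) : CohTop.Ab T ≌ CohTop.Ab R :=
  CategoryTheory.Equivalence.mk (CohTop.push e.hom) (CohTop.push e.inv)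
    ((pushId T).symm ≪≫ pushCongr e.hom_inv_id.symm ≪≫ pushComp e.hom e.inv)
    ((pushComp e.inv e.hom).symm ≪≫ pushCongr e.inv_hom_id ≪≫ pushId R)

instance {T R : TopCat.{u}} (e : T ≅ R) : (CohTop.push e.hom).IsEquivalence :=
  (pushEquiv e).isEquivalence_functor

end generalities

variable {X S : TopCat.{u}} (f : X ⟶ S) (s : S ⟶ X) (hs : s ≫ f = 𝟙 S)

/-! ### the split augmented diagram -/

/-- the projections of the fibre powers, extended by the section -/
def optS {n : ℕ} (o : Option (Fin n)) : C(Xc f n, X) :=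
  match o with
  | none => ⟨fun w => s w.1.1, s.hom.continuous.comp (continuous_fst.comp continuous_subtype_val)⟩
  | some l => ⟨fun w => w.1.2 l,
      (continuous_apply l).comp (continuous_snd.comp continuous_subtype_val)⟩

lemma optS_some {n : ℕ} (l : Fin n) (w : Xc f n) : optS f s (some l) w = w.1.2 l := rfl

lemma optS_none {n : ℕ} (w : Xc f n) : optS f s (none : Option (Fin n)) w = s w.1.1 := rfl

include hs in
lemma f_optS {n : ℕ} (o : Option (Fin n)) (w : Xc f n) : f (optS f s o w) = w.1.1 := by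
  cases o with
  | none => exact ConcreteCategory.congr_hom hs w.1.1
  | some l => exact w.2 l

/-- reindexing of the fibre powers along partial maps -/
def reidxS {m n : ℕ} (θ : Fin m → Option (Fin n)) : XcT f n ⟶ XcT f m :=
  TopCat.ofHom ⟨fun w => ⟨(w.1.1, fun k => optS f s (θ k) w), fun k => f_optS f s hs (θ k) w⟩,
    Continuous.subtype_mk ((continuous_fst.comp continuous_subtype_val).prodMk
      (continuous_pi fun k => (optS f s (θ k)).continuous)) _⟩

/-- the split augmented Čech diagram -/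
def YptS : FinPt.{u}ᵒᵖ ⥤ TopCat.{u} where
  obj a := XcT f a.unop.n
  map θ := reidxS f s hs θ.unop.down
  map_id a := by
    refine ConcreteCategory.hom_ext _ _ (fun w => ?_)
    apply Xc_ext
    · rfl
    · intro k
      rfl
  map_comp θ θ' := by
    refine ConcreteCategory.hom_ext _ _ (fun w => ?_)
    apply Xc_ext
    · rfl
    · intro k
      change optS f s ((θ'.unop.down k).bind θ.unop.down) w =
        optS f s (θ'.unop.down k) (reidxS f s hs θ.unop.down w)
      cases θ'.unop.down k with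
      | none => rfl
      | some l => rfl

/-- the split augmented Čech diagram, over `S` -/
def DplusS : OverS FinPt.{u} S where
  Y := YptS f s hs
  π a := πc f a.n
  hπ _ _ := rfl

/-- the Čech diagram, as a restriction of the split augmented diagram -/
abbrev Dfib : OverS FinAll.{u} S := (DplusS f s hs).restr jF.{u}

lemma Dfib_eq : Dfib f s hs = Df f := rfl

/-- restriction to the Čech diagram -/
abbrev uR : Sh (DplusS f s hs).Y ⥤ Sh (Dfib f s hs).Y := resSh jF.{u} (DplusS f s hs)

/-! ### the contraction -/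

section contraction

variable (V : Opens S)

/-- the objects over an open subset of the base -/
abbrev A (n : ℕ) : Obj (DplusS f s hs).Y :=
  (φs jF.{u} (DplusS f s hs)).obj (BV (Dfib f s hs) V n)

/-- the contraction -/
def hn (n : ℕ) : A f s hs V n ⟶ A f s hs V (n + 1) :=
  mkHom (A := A f s hs V n) (B := A f s hs V (n + 1)) (hα n) (fun _ hw => hw)

lemma hn_face_zero (n : ℕ) :
    hn f s hs V n ≫ (φs jF.{u} (DplusS f s hs)).map ((powV (Dfib f s hs) V).face n 0) =
      𝟙 (A f s hs V n) :=
  DSite.hom_ext (hα_zero n)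

lemma hn_face_succ (n : ℕ) (k : Fin (n + 2)) :
    hn f s hs V (n + 1) ≫
        (φs jF.{u} (DplusS f s hs)).map ((powV (Dfib f s hs) V).face (n + 1) k.succ) =
      (φs jF.{u} (DplusS f s hs)).map ((powV (Dfib f s hs) V).face n k) ≫ hn f s hs V n :=
  DSite.hom_ext (hα_succ n k)

/-- exactness in positive degrees of the complex of sections over `V` of a restricted sheaf -/
lemma hex_res (Q : Sh (DplusS f s hs).Y) (n : ℕ)
    (x : ((uR f s hs).obj Q).obj.obj (op (BV (Dfib f s hs) V (n + 1))))
    (hx : (powV (Dfib f s hs) V).dP ((uR f s hs).obj Q).obj (n + 1) x = 0) :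
    ∃ y : ((uR f s hs).obj Q).obj.obj (op (BV (Dfib f s hs) V n)),
      (powV (Dfib f s hs) V).dP ((uR f s hs).obj Q).obj n y = x := by
  let x' : Q.obj.obj (op (A f s hs V (n + 1))) := x
  refine ⟨(Q.obj.map (hn f s hs V n).op).hom x', ?_⟩
  rw [Pow.dP_apply]
  rw [Pow.dP_apply] at hx
  have hsum : ∑ k : Fin (n + 3), (-1 : ℤ) ^ (k : ℕ) • (Q.obj.map (hn f s hs V (n + 1)).op).hom
      ((Q.obj.map ((φs jF.{u} (DplusS f s hs)).map
        ((powV (Dfib f s hs) V).face (n + 1) k)).op).hom x') = 0 := by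
    have h1 : (Q.obj.map (hn f s hs V (n + 1)).op).hom (∑ k : Fin (n + 3), (-1 : ℤ) ^ (k : ℕ) •
        (Q.obj.map ((φs jF.{u} (DplusS f s hs)).map
          ((powV (Dfib f s hs) V).face (n + 1) k)).op).hom x') = 0 :=
      (congrArg (fun t => (Q.obj.map (hn f s hs V (n + 1)).op).hom t) hx).trans (map_zero _)
    rw [map_sum] at h1
    refine Eq.trans (Finset.sum_congr rfl fun k _ => ?_) h1
    exact (map_zsmul _ _ _).symm
  refine contraction_aux n x'
    (fun k => (Q.obj.map ((φs jF.{u} (DplusS f s hs)).map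
        ((powV (Dfib f s hs) V).face n k)).op).hom
      ((Q.obj.map (hn f s hs V n).op).hom x'))
    (fun k => (Q.obj.map (hn f s hs V (n + 1)).op).hom
      ((Q.obj.map ((φs jF.{u} (DplusS f s hs)).map
        ((powV (Dfib f s hs) V).face (n + 1) k)).op).hom x')) ?_ ?_ hsum
  · change (Q.obj.map (hn f s hs V (n + 1)).op).hom
      ((Q.obj.map ((φs jF.{u} (DplusS f s hs)).map
        ((powV (Dfib f s hs) V).face (n + 1) 0)).op).hom x') = x'
    rw [DSite.map_comp_apply, hn_face_zero]
    exact map_id_apply Q.obj (𝟙 _) rfl x'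
  · intro k
    change (Q.obj.map (hn f s hs V (n + 1)).op).hom
      ((Q.obj.map ((φs jF.{u} (DplusS f s hs)).map
        ((powV (Dfib f s hs) V).face (n + 1) k.succ)).op).hom x') =
      (Q.obj.map ((φs jF.{u} (DplusS f s hs)).map ((powV (Dfib f s hs) V).face n k)).op).hom
        ((Q.obj.map (hn f s hs V n).op).hom x')
    rw [DSite.map_comp_apply, DSite.map_comp_apply, hn_face_succ]

/-- the object of level `0` -/
abbrev O0 : Obj (DplusS f s hs).Y := ⟨⟨0⟩, (Opens.map ((DplusS f s hs).π ⟨0⟩)).obj V⟩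

/-- the augmentation -/
def e₀ : A f s hs V 0 ⟶ O0 f s hs V :=
  mkHom (A := A f s hs V 0) (B := O0 f s hs V)
    (FinPt.homMk (a := ⟨0⟩) (b := ⟨0 + 1⟩) (fun l => l.elim0)) (fun _ hw => hw)

/-- the retraction of the augmentation -/
def r₀ : O0 f s hs V ⟶ A f s hs V 0 :=
  mkHom (A := O0 f s hs V) (B := A f s hs V 0)
    (FinPt.homMk (a := ⟨0 + 1⟩) (b := ⟨0⟩) (fun _ => none)) (fun _ hw => hw)

lemma r₀_e₀ : r₀ f s hs V ≫ e₀ f s hs V = 𝟙 (O0 f s hs V) :=
  DSite.hom_ext (ULift.ext _ _ (funext fun l => l.elim0))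

lemma hn_face_one :
    hn f s hs V 0 ≫ (φs jF.{u} (DplusS f s hs)).map ((powV (Dfib f s hs) V).face 0 1) =
      e₀ f s hs V ≫ r₀ f s hs V := by
  refine DSite.hom_ext (ULift.ext _ _ (funext fun (l : Fin (0 + 1)) => ?_))
  have hl : l = 0 := Fin.ext (Nat.lt_one_iff.1 l.isLt)
  subst hl
  rfl

lemma face_e₀ :
    (φs jF.{u} (DplusS f s hs)).map ((powV (Dfib f s hs) V).face 0 0) ≫ e₀ f s hs V =
      (φs jF.{u} (DplusS f s hs)).map ((powV (Dfib f s hs) V).face 0 1) ≫ e₀ f s hs V :=
  DSite.hom_ext (ULift.ext _ _ (funext fun l => l.elim0))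

variable (Q : Sh (DplusS f s hs).Y)

/-- the augmentation on sections -/
def augB : Q.obj.obj (op (O0 f s hs V)) →+ EVobj (Dfib f s hs) V ((uR f s hs).obj Q).obj where
  toFun y := ⟨(Q.obj.map (e₀ f s hs V).op).hom y, by
    rw [mem_EVobj, dP_zero_iff]
    change (Q.obj.map ((φs jF.{u} (DplusS f s hs)).map
          ((powV (Dfib f s hs) V).face 0 0)).op).hom
        ((Q.obj.map (e₀ f s hs V).op).hom y) =
      (Q.obj.map ((φs jF.{u} (DplusS f s hs)).map ((powV (Dfib f s hs) V).face 0 1)).op).hom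
        ((Q.obj.map (e₀ f s hs V).op).hom y)
    rw [DSite.map_comp_apply, DSite.map_comp_apply, face_e₀]⟩
  map_zero' := Subtype.ext (map_zero _)
  map_add' a c := Subtype.ext (map_add _ _ _)

lemma augB_val (y : Q.obj.obj (op (O0 f s hs V))) :
    (augB f s hs V Q y).1 = (Q.obj.map (e₀ f s hs V).op).hom y := rfl

lemma augB_injective : Function.Injective (augB f s hs V Q) := by
  intro y y' h
  have h1 : (Q.obj.map (e₀ f s hs V).op).hom y = (Q.obj.map (e₀ f s hs V).op).hom y' :=
    congrArg Subtype.val h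
  have h2 : (Q.obj.map (r₀ f s hs V).op).hom ((Q.obj.map (e₀ f s hs V).op).hom y) =
      (Q.obj.map (r₀ f s hs V).op).hom ((Q.obj.map (e₀ f s hs V).op).hom y') :=
    congrArg (fun t => (Q.obj.map (r₀ f s hs V).op).hom t) h1
  rw [DSite.map_comp_apply, DSite.map_comp_apply, r₀_e₀] at h2
  have e1 := map_id_apply Q.obj (𝟙 (O0 f s hs V)) rfl y
  have e2 := map_id_apply Q.obj (𝟙 (O0 f s hs V)) rfl y'
  exact e1.symm.trans (h2.trans e2)

lemma augB_surjective : Function.Surjective (augB f s hs V Q) := by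
  intro x
  let x' : Q.obj.obj (op (A f s hs V 0)) := x.1
  have hx := (dP_zero_iff (powV (Dfib f s hs) V) ((uR f s hs).obj Q).obj x.1).1
    ((mem_EVobj (Dfib f s hs) V _ x.1).1 x.2)
  have hx' : (Q.obj.map ((φs jF.{u} (DplusS f s hs)).map
        ((powV (Dfib f s hs) V).face 0 0)).op).hom x' =
      (Q.obj.map ((φs jF.{u} (DplusS f s hs)).map
        ((powV (Dfib f s hs) V).face 0 1)).op).hom x' := hx
  have h2 : (Q.obj.map (hn f s hs V 0).op).hom
      ((Q.obj.map ((φs jF.{u} (DplusS f s hs)).map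
        ((powV (Dfib f s hs) V).face 0 0)).op).hom x') =
      (Q.obj.map (hn f s hs V 0).op).hom
      ((Q.obj.map ((φs jF.{u} (DplusS f s hs)).map
        ((powV (Dfib f s hs) V).face 0 1)).op).hom x') :=
    congrArg (fun t => (Q.obj.map (hn f s hs V 0).op).hom t) hx'
  rw [DSite.map_comp_apply, DSite.map_comp_apply, hn_face_zero, hn_face_one] at h2
  refine ⟨(Q.obj.map (r₀ f s hs V).op).hom x', Subtype.ext ?_⟩
  rw [augB_val, DSite.map_comp_apply]
  exact h2.symm.trans (map_id_apply Q.obj (𝟙 _) rfl x')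

end contraction

/-! ### the direct image of a restricted sheaf -/

/-- the direct image of a restricted sheaf is the direct image of its level `0`, for one sheaf -/
def augIsoObj (Q : Sh (DplusS f s hs).Y) :
    (CohTop.push ((DplusS f s hs).π ⟨0⟩)).obj ((ev (DplusS f s hs).Y ⟨0⟩).obj Q) ≅
      (epsPush (Dfib f s hs)).obj ((uR f s hs).obj Q) :=
  (fullyFaithfulSheafToPresheaf _ _).preimageIso
    (NatIso.ofComponents (fun V => (AddEquiv.ofBijective (augB f s hs V.unop Q)
      ⟨augB_injective f s hs V.unop Q, augB_surjective f s hs V.unop Q⟩).toAddCommGrpIso) (by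
      intro V V' h
      refine AddCommGrpCat.hom_ext (AddMonoidHom.ext fun y => Subtype.ext ?_)
      let y' : Q.obj.obj (op (O0 f s hs V.unop)) := y
      change (Q.obj.map (e₀ f s hs V'.unop).op).hom
          ((Q.obj.map ((DSite.ι (DplusS f s hs).Y ⟨0⟩).map
            ((Opens.map ((DplusS f s hs).π ⟨0⟩)).map h.unop)).op).hom y') =
        (Q.obj.map ((φs jF.{u} (DplusS f s hs)).map
          (homBV (Dfib f s hs) V.unop id (leOfHom h.unop))).op).hom
            ((Q.obj.map (e₀ f s hs V.unop).op).hom y')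
      have e1 := DSite.map_comp_apply Q.obj (e₀ f s hs V'.unop)
        ((DSite.ι (DplusS f s hs).Y ⟨0⟩).map
          ((Opens.map ((DplusS f s hs).π ⟨0⟩)).map h.unop)) y'
      have e2 := DSite.map_comp_apply Q.obj ((φs jF.{u} (DplusS f s hs)).map
        (homBV (Dfib f s hs) V.unop id (leOfHom h.unop))) (e₀ f s hs V.unop) y'
      exact e1.trans ((map_congr Q.obj
        (DSite.hom_ext (ULift.ext _ _ (funext fun l => l.elim0))) y').trans e2.symm)))

/-- **the direct image of a restricted sheaf is the direct image of its level `0`** -/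
def augIso : ev (DplusS f s hs).Y ⟨0⟩ ⋙ CohTop.push ((DplusS f s hs).π ⟨0⟩) ≅
    uR f s hs ⋙ epsPush (Dfib f s hs) :=
  NatIso.ofComponents (fun Q => augIsoObj f s hs Q) (by
    intro Q Q' θ
    apply CategoryTheory.Sheaf.hom_ext
    ext V y
    apply Subtype.ext
    exact (NatTrans.naturality_apply θ.hom (e₀ f s hs V.unop).op y).symm)

/-! ### the level `0` is the base -/

/-- the base as the fibre power of order `0` -/
def isoXc0 : XcT f 0 ≅ S where
  hom := πc f 0
  inv := TopCat.ofHom ⟨fun z => ⟨(z, fun i => i.elim0), fun i => i.elim0⟩,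
    Continuous.subtype_mk (continuous_id.prodMk (continuous_pi fun i => i.elim0)) _⟩
  hom_inv_id := by
    refine ConcreteCategory.hom_ext _ _ (fun w => ?_)
    apply Xc_ext
    · rfl
    · intro k
      exact k.elim0
  inv_hom_id := rfl

instance : (CohTop.push ((DplusS f s hs).π ⟨0⟩)).IsEquivalence :=
  inferInstanceAs (CohTop.push (isoXc0 f).hom).IsEquivalence

/-! ### the vanishing -/

lemma isFlasque_lev (Q : Sh (DplusS f s hs).Y) [Injective Q] (i : 𝕀.{u}) :
    TopCat.Sheaf.IsFlasque ((ev (DΔ (Dfib f s hs)).Y i).obj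
      ((resSh jΔ (Dfib f s hs)).obj ((uR f s hs).obj Q))) where
  epi {V W} h := by
    haveI := injective_obj (DplusS f s hs).Y Q
    rw [AddCommGrpCat.epi_iff_surjective]
    refine map_surjective_of_injective Q.obj
      ((φs jF.{u} (DplusS f s hs)).map ((φs jΔ (Dfib f s hs)).map
        ((DSite.ι (DΔ (Dfib f s hs)).Y i).map h.unop))) ?_
    intro B g g' e
    apply DSite.hom_ext
    have e' := congrArg DSite.Hom.α e
    change jF.{u}.map (jΔ.map (𝟙 i)) ≫ g.α = jF.{u}.map (jΔ.map (𝟙 i)) ≫ g'.α at e'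
    rwa [jΔ.map_id, jF.{u}.map_id, Category.id_comp, Category.id_comp] at e'

lemma hex_TΔ (Q : Sh (DplusS f s hs).Y) (k : ℕ) :
    IsZero (((TΔ (DΔ (Dfib f s hs))).obj
      ((resSh jΔ (Dfib f s hs)).obj ((uR f s hs).obj Q))).homology (k + 1)) := by
  rw [← HomologicalComplex.exactAt_iff_isZero_homology,
    HomologicalComplex.exactAt_iff' _ k (k + 1) (k + 2) (by simp) (by simp)]
  apply SheafExact.exact_of_presheaf_exact
  apply SheafExact.exact_of_evaluation
  intro V
  rw [ShortComplex.ab_exact_iff]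
  intro x₂ hx₂
  let x₂' : ((uR f s hs).obj Q).obj.obj (op (BV (Dfib f s hs) V.unop (k + 1))) := x₂
  have h2 : (powV (Dfib f s hs) V.unop).dP ((uR f s hs).obj Q).obj (k + 1) x₂' = 0 :=
    (d_eq_dP (Dfib f s hs) ((uR f s hs).obj Q) (k + 1) V.unop x₂').symm.trans hx₂
  obtain ⟨z, hz⟩ := hex_res f s hs V.unop Q k x₂' h2
  exact ⟨z, (d_eq_dP (Dfib f s hs) ((uR f s hs).obj Q) k V.unop z).trans hz⟩

/-- restrictions of injective sheaves are acyclic for the direct image -/
theorem acyc_res (Q : Sh (DplusS f s hs).Y) (hQ : Injective Q) (n : ℕ) :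
    IsZero (((epsPush (Dfib f s hs)).rightDerived (n + 1)).obj ((uR f s hs).obj Q)) := by
  have h0 := isZero_RD_limPush (DΔ (Dfib f s hs))
    ((resSh jΔ (Dfib f s hs)).obj ((uR f s hs).obj Q))
    (fun p => isFlasque_lev f s hs Q (up ⦋p⦌)) (fun k => hex_TΔ f s hs Q k) n
  exact IsZero.of_iso h0 (RDresIso (Dfib f s hs) (n + 1) ((uR f s hs).obj Q))

lemma hacyc_ev0 (I : Sh (DplusS f s hs).Y) (hI : Injective I) (n : ℕ) :
    IsZero (((CohTop.push ((DplusS f s hs).π ⟨0⟩)).rightDerived (n + 1)).obj
      ((ev (DplusS f s hs).Y ⟨0⟩).obj I)) := by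
  haveI := isFlasque_ev (DplusS f s hs).Y I ⟨0⟩
  exact Groth.Agent.Lib.Helper22.CohTop.isZero_Rpush_succ_of_flasque _ n _

include s hs in
/-- **the inverse image of a sheaf on the base to the Čech diagram of a map with a section is
acyclic for the direct image** -/
theorem isZero_RDeps (F : CohTop.Ab S) (q : ℕ) :
    IsZero (((epsPush (Df f)).rightDerived (q + 1)).obj ((pullS (Df f)).obj F)) := by
  let L : Sh (DplusS f s hs).Y := (pullS (DplusS f s hs)).obj F
  have e1 : ((epsPush (Dfib f s hs)).rightDerived (q + 1)).obj ((pullS (Dfib f s hs)).obj F) ≅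
      ((epsPush (Dfib f s hs)).rightDerived (q + 1)).obj ((uR f s hs).obj L) :=
    ((epsPush (Dfib f s hs)).rightDerived (q + 1)).mapIso
      (pullSRestrIso jF.{u} (DplusS f s hs) F)
  have e2 := (PrecompDelta.rightDerivedPrecompIso (uR f s hs) (epsPush (Dfib f s hs))
    (fun I hI n => acyc_res f s hs I hI n) (q + 1)).app L
  have e3 := (DimShift.rightDerivedIsoOfNatIso (augIso f s hs) (q + 1)).app L
  have h0 : IsZero (((ev (DplusS f s hs).Y ⟨0⟩ ⋙
      CohTop.push ((DplusS f s hs).π ⟨0⟩)).rightDerived (q + 1)).obj L) :=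
    isZero_rightDerived_succ_of_preservesHomology _ q L
  exact IsZero.of_iso h0 (e1 ≪≫ e2.symm ≪≫ e3.symm)

end Groth.Agent.Lib.Helper5.SecDiag
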