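import Groth.Agent.Lib.Helper5.ResLENat2
import Groth.Agent.Lib.Helper5.SectCmpAffine
import Groth.Agent.Lib.Helper22.Cech.Site

/-!
# The comparison `H^p(f⁻¹V, F) → Γ(V, R^p f_* F)` is locally injective
-/

set_option autoImplicit false
set_option linter.unusedSectionVars false

universe u

open CategoryTheory CategoryTheory.Limits Opposite TopologicalSpace AlgebraicGeometry
  AlgebraicGeometry.Scheme.Modules Abelian

namespace Groth.Agent.Lib.Helper5.SectCmpInj

open Groth.Agent.Lib.Helper22 Groth.Agent.Lib.Helper22.DimShift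
  Groth.Agent.Lib.Helper5.SectCmpSurj Groth.Agent.Lib.Helper5.SectCmpAffine
  Groth.Agent.Lib.Helper5.ResLENat

section Top

variable {Y : TopCat.{u}}

/-- local lifting along an exact sequence of abelian sheaves -/
lemma exists_local_lift_of_exact (S : ShortComplex (CohTop.Ab Y)) (hS : S.Exact) (V : Opens Y)
    (t : S.X₂.obj.obj (op V)) (ht : S.g.hom.app (op V) t = 0) (y : Y) (hy : y ∈ V) :
    ∃ (W : Opens Y) (hWV : W ≤ V), y ∈ W ∧ ∃ u : S.X₁.obj.obj (op W),
      S.f.hom.app (op W) u = S.X₂.obj.map (homOfLE hWV).op t := by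
  haveI hepi : Epi (kernel.lift S.g S.f S.zero) := hS.epi_kernelLift
  obtain ⟨k, hk⟩ := Groth.Agent.Lib.Helper22.Cech.Site.sections_exact_of_left_exact
    (S := ShortComplex.kernelSequence S.g)
    (ShortComplex.kernelSequence_exact S.g) (inferInstance : Mono (kernel.ι S.g)) V t ht
  have hk' : (kernel.ι S.g).hom.app (op V) k = t := hk
  have h := (TopCat.Sheaf.isLocallySurjective_iff_epi (kernel.lift S.g S.f S.zero)).mpr hepi
  rw [TopCat.Presheaf.isLocallySurjective_iff] at h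
  obtain ⟨W, hWV, ⟨u, hu⟩, hyW⟩ := h V k y hy
  have hu' : (kernel.lift S.g S.f S.zero).hom.app (op W) u =
      (kernel S.g).obj.map (homOfLE hWV).op k := hu
  refine ⟨W, hWV, hyW, u, ?_⟩
  have e : kernel.lift S.g S.f S.zero ≫ kernel.ι S.g = S.f := kernel.lift_ι _ _ _
  have e1 : S.f.hom.app (op W) u =
      (kernel.ι S.g).hom.app (op W) ((kernel.lift S.g S.f S.zero).hom.app (op W) u) :=
    congrArg (fun φ : S.X₁ ⟶ S.X₂ => φ.hom.app (op W) u) e.symm
  have e2 := (kernel.ι S.g).hom.naturality (homOfLE hWV).op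
  have e3 : (kernel.ι S.g).hom.app (op W) ((kernel S.g).obj.map (homOfLE hWV).op k) =
      S.X₂.obj.map (homOfLE hWV).op ((kernel.ι S.g).hom.app (op V) k) :=
    congrArg (fun φ => φ.hom k) e2
  rw [e1, hu', e3, hk']

end Top

section Sch

variable {X Y : Scheme.{u}}

/-- local lifting along an exact sequence of modules -/
lemma exists_local_lift_of_exact_mod {A B C : Y.Modules} (a : A ⟶ B) (b : B ⟶ C) (w : a ≫ b = 0)
    (hex : (ShortComplex.mk a b w).Exact) (V : Y.Opens) (t : B.presheaf.obj (op V))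
    (ht : b.app V t = 0) (y : Y) (hy : y ∈ V) :
    ∃ (W : Y.Opens) (hWV : W ≤ V), y ∈ W ∧ ∃ u : A.presheaf.obj (op W),
      a.app W u = B.presheaf.map (homOfLE hWV).op t := by
  haveI : (T Y).PreservesHomology := Functor.preservesHomologyOfExact _
  have hex' := hex.map (T Y)
  exact exists_local_lift_of_exact ((ShortComplex.mk a b w).map (T Y)) hex' V t ht y hy

/-- a monomorphism of modules is injective on sections -/
lemma injective_app_of_mono {M N : Y.Modules} (ψ : M ⟶ N) [Mono ψ] (V : Y.Opens)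
    (s : M.presheaf.obj (op V)) (hs : ψ.app V s = 0) : s = 0 := by
  haveI : Mono ((T Y).map ψ) := inferInstance
  have h := Groth.Agent.Lib.Helper22.Cech.Site.injective_app_of_mono ((T Y).map ψ) V
  have h0 : ((T Y).map ψ).hom.app (op V) 0 = 0 := map_zero _
  exact h (hs.trans h0.symm)

variable (f : X ⟶ Y) [HasInjectiveResolutions X.Modules]
  {Δ : RDer.DerivedLES (pushforward f)} (E : CohCmp.SectCmp f Δ)

theorem locally_zero_zero (F : X.Modules) (V : Y.Opens) (x : Coh.HHon X F (f ⁻¹ᵁ V) 0)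
    (hx : E.ε V F 0 x = 0) : x = 0 := by
  obtain ⟨s, rfl⟩ := (CohPull.sectH0 F (f ⁻¹ᵁ V)).surjective x
  rw [E.zero] at hx
  have hiso : IsIso ((pushforward f).toRightDerivedZero.app F) := inferInstance
  have hb := bijective_app_of_isIso ((pushforward f).toRightDerivedZero.app F) V
  have h0 : ((pushforward f).toRightDerivedZero.app F).app V 0 = 0 := map_zero _
  have hs : s = 0 := hb.1 (hx.trans h0.symm)
  rw [hs, map_zero]

theorem locally_zero_one (F : X.Modules) (V : Y.Opens) (x : Coh.HHon X F (f ⁻¹ᵁ V) 1)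
    (hx : E.ε V F 1 x = 0) (y : Y) (hy : y ∈ V) :
    ∃ (W : Y.Opens) (hWV : W ≤ V), y ∈ W ∧ CohPull.resLE F (f.preimage_mono hWV) 1 x = 0 := by
  have hS := injSC_shortExact F
  have hA := shortExact_toAbOn (f ⁻¹ᵁ V) hS
  have hx1 : x.comp (Ext.mk₀ ((injSC F).map (CohCmp.toAbOn X (f ⁻¹ᵁ V))).f) (add_zero 1) = 0 :=
    HHon_eq_zero_of_injective (injSC F).X₂ (f ⁻¹ᵁ V) 0 _
  obtain ⟨z, hz⟩ := Ext.covariant_sequence_exact₁ _ hA x hx1 (rfl : 0 + 1 = 1)
  have hz' : CohCmp.extδ hA 0 z = x := hz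
  obtain ⟨s, rfl⟩ := (CohPull.sectH0 (injSC F).X₃ (f ⁻¹ᵁ V)).surjective z
  have hd := E.delta V (injSC F) hS hA 0 (CohPull.sectH0 (injSC F).X₃ (f ⁻¹ᵁ V) s)
  rw [hz', hx, E.zero] at hd
  obtain ⟨W, hWV, hyW, u, hu⟩ := exists_local_lift_of_exact_mod
    ((Coh.Rpush f 0).map (injSC F).g) (Δ.δ (injSC F) hS 0 1 rfl) (Δ.comp_δ (injSC F) hS 0 1 rfl)
    (Δ.exact₃ (injSC F) hS 0 1 rfl) V _ hd.symm y hy
  refine ⟨W, hWV, hyW, ?_⟩
  have hisoI : IsIso ((pushforward f).toRightDerivedZero.app (injSC F).X₂) := inferInstance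
  have hisoQ : IsIso ((pushforward f).toRightDerivedZero.app (injSC F).X₃) := inferInstance
  have hbI := bijective_app_of_isIso ((pushforward f).toRightDerivedZero.app (injSC F).X₂) W
  have hbQ := bijective_app_of_isIso ((pushforward f).toRightDerivedZero.app (injSC F).X₃) W
  obtain ⟨t', ht'⟩ := hbI.2 u
  have ht'' : ((pushforward f).toRightDerivedZero.app (injSC F).X₂).app W t' = u := ht'
  have hnat : ((pushforward f).toRightDerivedZero.app (injSC F).X₃).app W
      (((pushforward f).map (injSC F).g).app W t') =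
      ((Coh.Rpush f 0).map (injSC F).g).app W
        (((pushforward f).toRightDerivedZero.app (injSC F).X₂).app W t') := by
    have h2 := (pushforward f).toRightDerivedZero.naturality (injSC F).g
    have h3 := congrArg (fun k => Scheme.Modules.Hom.app k W) h2
    exact congrArg (fun k => k.hom t') h3
  have hres := app_map ((pushforward f).toRightDerivedZero.app (injSC F).X₃) hWV s
  have hs : (injSC F).X₃.presheaf.map (homOfLE (f.preimage_mono hWV)).op s =
      (injSC F).g.app (f ⁻¹ᵁ W) t' := by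
    apply hbQ.1
    show ((pushforward f).toRightDerivedZero.app (injSC F).X₃).app W
        (((pushforward f).obj (injSC F).X₃).presheaf.map (homOfLE hWV).op s) =
      ((pushforward f).toRightDerivedZero.app (injSC F).X₃).app W
        (((pushforward f).map (injSC F).g).app W t')
    rw [hres, hnat, ht'', hu]
  obtain ⟨w, hw⟩ := exists_resLE_sectH0_eq_mapH (f.preimage_mono hWV) (injSC F).g s t' hs
  have hA' := shortExact_toAbOn (f ⁻¹ᵁ W) hS
  rw [← hz', resLE_extδ (f.preimage_mono hWV) hA hA' 0, hw]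
  exact comp_g_extClass hA' w

theorem locally_zero_succ_succ (p : ℕ) (F : X.Modules)
    (ih : ∀ (V : Y.Opens) (x : Coh.HHon X (injSC F).X₃ (f ⁻¹ᵁ V) (p + 1)),
      E.ε V (injSC F).X₃ (p + 1) x = 0 → ∀ y ∈ V, ∃ (W : Y.Opens) (hWV : W ≤ V), y ∈ W ∧
        CohPull.resLE (injSC F).X₃ (f.preimage_mono hWV) (p + 1) x = 0)
    (V : Y.Opens) (x : Coh.HHon X F (f ⁻¹ᵁ V) (p + 2)) (hx : E.ε V F (p + 2) x = 0)
    (y : Y) (hy : y ∈ V) :
    ∃ (W : Y.Opens) (hWV : W ≤ V), y ∈ W ∧
      CohPull.resLE F (f.preimage_mono hWV) (p + 2) x = 0 := by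
  have hS := injSC_shortExact F
  have hA := shortExact_toAbOn (f ⁻¹ᵁ V) hS
  have hx1 : x.comp (Ext.mk₀ ((injSC F).map (CohCmp.toAbOn X (f ⁻¹ᵁ V))).f)
      (add_zero (p + 2)) = 0 :=
    HHon_eq_zero_of_injective (injSC F).X₂ (f ⁻¹ᵁ V) (p + 1) _
  obtain ⟨z, hz⟩ := Ext.covariant_sequence_exact₁ _ hA x hx1 (rfl : p + 1 + 1 = p + 2)
  have hz' : CohCmp.extδ hA (p + 1) z = x := hz
  have hd := E.delta V (injSC F) hS hA (p + 1) z
  rw [hz', hx] at hd
  have hzI : IsZero ((Coh.Rpush f (p + 1)).obj (injSC F).X₂) :=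
    Functor.isZero_rightDerived_obj_injective_succ _ p _
  haveI hmono : Mono (Δ.δ (injSC F) hS (p + 1) (p + 2) rfl) :=
    (Δ.exact₃ (injSC F) hS (p + 1) (p + 2) rfl).mono_g (hzI.eq_of_src _ _)
  have hinj : E.ε V (injSC F).X₃ (p + 1) z = 0 :=
    injective_app_of_mono (Δ.δ (injSC F) hS (p + 1) (p + 2) rfl) V _ hd.symm
  obtain ⟨W, hWV, hyW, hr⟩ := ih V z hinj y hy
  refine ⟨W, hWV, hyW, ?_⟩
  have hA' := shortExact_toAbOn (f ⁻¹ᵁ W) hS
  rw [← hz', resLE_extδ (f.preimage_mono hWV) hA hA' (p + 1), hr]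
  exact map_zero _

/-- **The comparison maps are locally injective.** -/
theorem locally_zero : ∀ (p : ℕ) (F : X.Modules) (V : Y.Opens)
    (x : Coh.HHon X F (f ⁻¹ᵁ V) p), E.ε V F p x = 0 → ∀ y ∈ V,
    ∃ (W : Y.Opens) (hWV : W ≤ V), y ∈ W ∧ CohPull.resLE F (f.preimage_mono hWV) p x = 0
  | 0, F, V, x, hx, y, hy =>
    ⟨V, le_rfl, hy, by rw [locally_zero_zero f E F V x hx]; exact map_zero _⟩
  | 1, F, V, x, hx, y, hy => locally_zero_one f E F V x hx y hy
  | (p + 2), F, V, x, hx, y, hy =>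
    locally_zero_succ_succ f E p F
      (fun V' x' hx' y' hy' => locally_zero (p + 1) (injSC F).X₃ V' x' hx' y' hy') V x hx y hy

end Sch

end Groth.Agent.Lib.Helper5.SectCmpInj
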