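import Groth.Agent.Lib.Helper5.HZLink
import Groth.Agent.Lib.Helper5.QExact
import Groth.Agent.Lib.Helper17.FreeOn
import Groth.Agent.Lib.Helper22.DimShiftIso
import Groth.Agent.Lib.Helper5.ModAcyclic

/-!
# Local cohomology sheaves of flasque (totally acyclic) modules vanish
-/

set_option autoImplicit false

universe u

open CategoryTheory Limits Opposite Abelian

namespace Groth.Agent.Lib.Helper5.SectFlasque

open Groth.Agent.Lib.Helper5.CechRes Groth.Agent.Lib.Helper5.HZLink

variable {C : Type u} [SmallCategory C] {J : GrothendieckTopology C}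

section Sets

/-- functoriality of `eps` -/
noncomputable def epsMap {W V : C} (f : W ⟶ V) : ToposFin.eps J W ⟶ ToposFin.eps J V :=
  (presheafToSheaf J (Type u)).map (yoneda.map f)

lemma val_epsMap {W V : C} (f : W ⟶ V) {S : Sheaf J (Type u)} (φ : ToposFin.eps J V ⟶ S) :
    val W (epsMap f ≫ φ) = S.obj.map f.op (val V φ) := by
  rw [val_eq, val_eq]
  have h : (sheafificationAdjunction J (Type u)).homEquiv (yoneda.obj W) S (epsMap f ≫ φ) =
      yoneda.map f ≫ (sheafificationAdjunction J (Type u)).homEquiv (yoneda.obj V) S φ :=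
    Adjunction.homEquiv_naturality_left _ _ _
  rw [h]
  exact (yonedaEquiv_naturality _ f).symm

lemma val_surjective (V : C) (S : Sheaf J (Type u)) :
    Function.Surjective (val V (J := J) (S := S)) := by
  intro s
  refine ⟨((sheafificationAdjunction J (Type u)).homEquiv (yoneda.obj V) S).symm
    (yonedaEquiv.symm s), ?_⟩
  rw [val_eq, Equiv.apply_symm_apply, Equiv.apply_symm_apply]

end Sets

section Ab

/-- the section over `V` given by a map out of `ℤ[V]` -/
noncomputable def sec (V : C) {A : Sheaf J AddCommGrpCat.{u}}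
    (σ : (Φ J).obj (ToposFin.eps J V) ⟶ A) : A.obj.obj (op V) :=
  val V ((adjΦ J).homEquiv (ToposFin.eps J V) A σ)

lemma sec_surjective (V : C) (A : Sheaf J AddCommGrpCat.{u}) (a : A.obj.obj (op V)) :
    ∃ σ : (Φ J).obj (ToposFin.eps J V) ⟶ A, sec V σ = a := by
  obtain ⟨φ, hφ⟩ := val_surjective V ((Uf J).obj A) a
  exact ⟨((adjΦ J).homEquiv _ _).symm φ, by unfold sec; rw [Equiv.apply_symm_apply]; exact hφ⟩

lemma sec_injective (V : C) (A : Sheaf J AddCommGrpCat.{u}) :
    Function.Injective (sec V (J := J) (A := A)) := by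
  intro σ σ' h
  exact ((adjΦ J).homEquiv _ _).injective (val_injective V _ h)

lemma sec_zero (V : C) (A : Sheaf J AddCommGrpCat.{u}) :
    sec V (0 : (Φ J).obj (ToposFin.eps J V) ⟶ A) = 0 := val_homEquiv_zero V A

lemma sec_comp (V : C) {A B : Sheaf J AddCommGrpCat.{u}}
    (σ : (Φ J).obj (ToposFin.eps J V) ⟶ A) (f : A ⟶ B) :
    sec V (σ ≫ f) = f.hom.app (op V) (sec V σ) := by
  unfold sec
  rw [Adjunction.homEquiv_naturality_right]
  rfl

lemma sec_epsMap {W V : C} (f : W ⟶ V) {A : Sheaf J AddCommGrpCat.{u}}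
    (σ : (Φ J).obj (ToposFin.eps J V) ⟶ A) :
    sec W ((Φ J).map (epsMap f) ≫ σ) = A.obj.map f.op (sec V σ) := by
  unfold sec
  rw [Adjunction.homEquiv_naturality_left]
  exact val_epsMap f _

variable (J) in
/-- index set of the arrows to `V` from objects mapping to `U` -/
abbrev Idx (U V : C) : Type u := Σ W : C, {_f : W ⟶ V // Nonempty (W ⟶ U)}

variable (J) in
/-- the coproduct of the `eps W` over the arrows `W ⟶ V` from objects mapping to `U` -/
noncomputable abbrev Y (U V : C) : Sheaf J (Type u) :=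
  ∐ (fun k : Idx U V => ToposFin.eps J k.1)

variable (J) in
/-- the canonical map `Y ⟶ eps V` -/
noncomputable abbrev ιY (U V : C) : Y J U V ⟶ ToposFin.eps J V :=
  Sigma.desc (fun k : Idx U V => epsMap k.2.1)

lemma comp_eq_zero_iff (U V : C) {A : Sheaf J AddCommGrpCat.{u}}
    (σ : (Φ J).obj (ToposFin.eps J V) ⟶ A) :
    (Φ J).map (ιY J U V) ≫ σ = 0 ↔
      ∀ (W : C) (f : W ⟶ V), Nonempty (W ⟶ U) → A.obj.map f.op (sec V σ) = 0 := by
  constructor
  · intro h W f hW
    rw [← sec_epsMap]
    have h1 : epsMap f = Sigma.ι (fun k : Idx U V => ToposFin.eps J k.1) ⟨W, f, hW⟩ ≫ ιY J U V :=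
      (Sigma.ι_desc (fun k : Idx U V => epsMap (J := J) k.2.1) (⟨W, f, hW⟩ : Idx U V)).symm
    rw [h1, Functor.map_comp, Category.assoc, h, comp_zero]
    exact sec_zero W A
  · intro h
    apply ((adjΦ J).homEquiv _ _).injective
    rw [Adjunction.homEquiv_naturality_left]
    apply Sigma.hom_ext
    rintro ⟨W, f, hW⟩
    rw [← Category.assoc, Sigma.ι_desc]
    have h2 : (Φ J).map (epsMap f) ≫ σ = 0 := by
      apply sec_injective W A
      rw [sec_epsMap, h W f hW]
      exact (sec_zero W A).symm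
    change epsMap f ≫ (adjΦ J).homEquiv _ _ σ = _
    rw [← Adjunction.homEquiv_naturality_left, h2, ← Adjunction.homEquiv_naturality_left,
      comp_zero]

/-- sections vanishing over `U` lift along an epimorphism with totally acyclic kernel -/
lemma exists_lift (S : ShortComplex (Sheaf J AddCommGrpCat.{u})) (hS : S.ShortExact)
    (hM : CohCx.IsTotallyAcyclic S.X₁) (U V : C)
    (σ : (Φ J).obj (ToposFin.eps J V) ⟶ S.X₃) (hσ : (Φ J).map (ιY J U V) ≫ σ = 0) :
    ∃ τ : (Φ J).obj (ToposFin.eps J V) ⟶ S.X₂,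
      (Φ J).map (ιY J U V) ≫ τ = 0 ∧ τ ≫ S.g = σ := by
  obtain ⟨x₂, hx₂⟩ := Ext.covariant_sequence_exact₃ _ hS
    (Ext.mk₀ (cokernel.desc ((Φ J).map (ιY J U V)) σ hσ)) (zero_add 1)
    (FreeMono.ext_cokernel_eq_zero S.X₁ hM (ιY J U V) 0 _)
  obtain ⟨τ', rfl⟩ := (Ext.mk₀_bijective _ _).2 x₂
  rw [Ext.mk₀_comp_mk₀] at hx₂
  have h := (Ext.mk₀_bijective _ _).1 hx₂
  refine ⟨cokernel.π _ ≫ τ', ?_, ?_⟩
  · rw [← Category.assoc, cokernel.condition, zero_comp]
  · rw [Category.assoc, h, cokernel.π_desc]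

end Ab

section Mod

open Groth.Agent.Lib.Helper17.IHom Groth.Agent.Lib.Helper17.Tensor
  Groth.Agent.Lib.Helper17.LocInj Groth.Agent.Lib.Helper17.ExtZeroP
  Groth.Agent.Lib.Helper17.ExtZero Groth.Agent.Lib.Helper17.FreeOn
  Groth.Agent.Lib.Helper5.QS

variable (O : Sheaf J CommRingCat.{u})

/-- a map out of an explicit extension by zero vanishes on the sections over `W` as soon as it
vanishes on the generators over the objects over `W` -/
lemma extZero'_app_eq_zero (X : C) (G : ModSite.Mod (O.over X)) (F : ModSite.Mod O)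
    (a : (shF O).obj (jP ((forgetU O X).obj G)) ⟶ F) (W : C)
    (h : ∀ (W' : C) (_ : W' ⟶ W) (f : W' ⟶ X) (y : smd ((forgetU O X).obj G) W' f),
      appE (un (jP ((forgetU O X).obj G)) ≫ pv a) (inj ((forgetU O X).obj G) f y) = 0)
    (z : (toPMod ((shF O).obj (jP ((forgetU O X).obj G)))).obj (op W)) :
    appE (pv a) z = 0 := by
  refine section_eq_zero_of_locally F (appE (pv a) z) _
    (Presheaf.imageSieve_mem J (ab (un (jP ((forgetU O X).obj G)))) z) ?_
  rintro W' g ⟨x, hx⟩
  have hx' : appE (un (jP ((forgetU O X).obj G))) x =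
      rs (toPMod ((shF O).obj (jP ((forgetU O X).obj G)))) g z := hx
  rw [← appE_rs, ← hx']
  have h0 : (un (jP ((forgetU O X).obj G)) ≫ pv a).app (op W') = 0 :=
    jObj_hom_ext ((forgetU O X).obj G) (fun f y => (h W' g f y).trans (by rfl))
  exact congrArg (fun k => k.hom x) h0

/-- the value of a map out of an explicit extension by zero on a generator -/
lemma appE_un_inj (X : C) (G : ModSite.Mod (O.over X)) (F : ModSite.Mod O)
    (a : (extZero' O X).obj G ⟶ F) {W' : C} (f : W' ⟶ X)
    (y : smd ((forgetU O X).obj G) W' f) :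
    appE (un (jP ((forgetU O X).obj G)) ≫ pv a) (inj ((forgetU O X).obj G) f y) =
      (((extZero'Adj O X).homEquiv G F a).val.app (op (Over.mk f))).hom y := by
  have h1 : (extZero'Adj O X).homEquiv G F a =
      (extZero'Adj O X).unit.app G ≫ (ModSite.restr O X).map a :=
    Adjunction.homEquiv_unit _ _ _ _
  have h3 : ((extZero'Adj O X).unit.app G ≫ (ModSite.restr O X).map a).val =
      (forgetU O X).map ((extZero'Adj O X).unit.app G) ≫
        (forgetU O X).map ((ModSite.restr O X).map a) := rfl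
  rw [h1, h3, unit_val]
  rfl

/-- the adjunct of a map out of `j_! G` computed with the explicit model -/
lemma homEquiv_extZeroIso (X : C) (G : ModSite.Mod (O.over X)) (F : ModSite.Mod O)
    (τ : (ModSite.extZero O X).obj G ⟶ F) :
    (extZero'Adj O X).homEquiv G F (((extZeroIso O X).app G).inv ≫ τ) =
      (ModSite.extZeroAdj O X).homEquiv G F τ := by
  have h1 : (ModSite.extZeroAdj O X).homEquiv G _ (((extZeroIso O X).app G).hom) =
      (extZero'Adj O X).unit.app G :=
    Adjunction.homEquiv_leftAdjointUniq_hom_app (ModSite.extZeroAdj O X) (extZero'Adj O X) G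
  have h2 : τ = ((extZeroIso O X).app G).hom ≫ (((extZeroIso O X).app G).inv ≫ τ) := by
    rw [Iso.hom_inv_id_assoc]
  conv_rhs => rw [h2, Adjunction.homEquiv_naturality_right, h1]
  exact Adjunction.homEquiv_unit _ _ _ _

/-- the adjunct of a map out of the free module on `V` vanishes over `f : W' ⟶ V` as soon as the
corresponding section does -/
lemma homEquiv_freeOn_app_eq_zero (V : C) (F : ModSite.Mod O) (τ : ModSite.freeOn O V ⟶ F)
    {W' : C} (f : W' ⟶ V) (h0 : rs (toPMod F) f (freeOnHomEquiv F V τ) = 0)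
    (y : (ModSite.unit (O.over V)).val.obj (op (Over.mk f))) :
    (((ModSite.extZeroAdj O V).homEquiv (ModSite.unit (O.over V)) F τ).val.app
      (op (Over.mk f))).hom y = 0 := by
  let β : ModSite.unit (O.over V) ⟶ (ModSite.restr O V).obj F :=
    (ModSite.extZeroAdj O V).homEquiv (ModSite.unit (O.over V)) F τ
  let k : Over.mk f ⟶ Over.mk (𝟙 V) := Over.homMk f
  have e := PresheafOfModules.naturality_apply β.val k.op
    (1 : (ModSite.ringSh (O.over V)).obj.obj (op (Over.mk (𝟙 V))))
  have e1 : (ModSite.unit (O.over V)).val.map k.op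
      (1 : (ModSite.ringSh (O.over V)).obj.obj (op (Over.mk (𝟙 V)))) =
      (1 : (ModSite.ringSh (O.over V)).obj.obj (op (Over.mk f))) :=
    PresheafOfModules.unit_map_one (ModSite.ringSh (O.over V)).obj k.op
  rw [e1] at e
  have e2 : (β.val.app (op (Over.mk f))).hom
      (1 : (ModSite.ringSh (O.over V)).obj.obj (op (Over.mk f))) = 0 := e.trans h0
  let r : (ModSite.ringSh (O.over V)).obj.obj (op (Over.mk f)) := y
  let one' : (ModSite.unit (O.over V)).val.obj (op (Over.mk f)) :=
    (1 : (ModSite.ringSh (O.over V)).obj.obj (op (Over.mk f)))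
  have hy : y = r • one' := (mul_one r).symm
  change (β.val.app (op (Over.mk f))).hom y = 0
  rw [hy, map_smul]
  have e3 : (β.val.app (op (Over.mk f))).hom one' = 0 := e2
  rw [e3, smul_zero]

/-- a map out of the free module on `V` whose section vanishes on all objects over `V` mapping to
`U` restricts to zero on `U` -/
lemma restr_map_eq_zero_of_sections (U V : C) (F : ModSite.Mod O) (τ : ModSite.freeOn O V ⟶ F)
    (h : ∀ (W : C) (f : W ⟶ V), Nonempty (W ⟶ U) →
      rs (toPMod F) f (freeOnHomEquiv F V τ) = 0) :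
    (ModSite.restr O U).map τ = 0 := by
  let G := ModSite.unit (O.over V)
  let e := (extZeroIso O V).app G
  have key : ∀ (W : C) (_ : W ⟶ U) (z : (toPMod (ModSite.freeOn O V)).obj (op W)),
      appE (pv τ) z = 0 := by
    intro W φ z
    have h1 : appE (pv τ) z = appE (pv (e.inv ≫ τ)) (appE (pv e.hom) z) := by
      have : τ = e.hom ≫ (e.inv ≫ τ) := by rw [Iso.hom_inv_id_assoc]
      conv_lhs => rw [this]
      rfl
    rw [h1]
    refine extZero'_app_eq_zero O V G F (e.inv ≫ τ) W ?_ _
    intro W' g f y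
    refine (appE_un_inj O V G F (e.inv ≫ τ) f y).trans ?_
    refine (congrArg (fun ψ : G ⟶ (ModSite.restr O V).obj F =>
      (ψ.val.app (op (Over.mk f))).hom y) (homEquiv_extZeroIso O V G F τ)).trans ?_
    exact homEquiv_freeOn_app_eq_zero O V F τ f (h W' f ⟨g ≫ φ⟩) y
  apply SheafOfModules.hom_ext
  apply PresheafOfModules.hom_ext
  intro Y
  ext z
  exact key Y.unop.left Y.unop.hom z

/-- a morphism of modules which is surjective on sections is an epimorphism -/
lemma epi_of_sections_surjective {A B : ModSite.Mod O} (q : A ⟶ B)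
    (h : ∀ (V : C) (y : (toPMod B).obj (op V)), ∃ x : (toPMod A).obj (op V),
      appE (pv q) x = y) : Epi q := by
  have hZ : IsZero (cokernel q) := by
    apply isZero_of_sections_eq_zero
    intro V z
    haveI := isLocallySurjective_of_epi (cokernel.π q)
    refine section_eq_zero_of_locally (cokernel q) z _
      (Presheaf.imageSieve_mem J (ab (pv (cokernel.π q))) z) ?_
    rintro W g ⟨b, hb⟩
    have hb' : appE (pv (cokernel.π q)) b = rs (toPMod (cokernel q)) g z := hb
    obtain ⟨x, rfl⟩ := h W b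
    rw [← hb']
    have h0 : q ≫ cokernel.π q = 0 := cokernel.condition q
    exact (congrArg (fun ψ : A ⟶ cokernel q => appE (pv ψ) x) h0).trans (by rfl)
  exact Preadditive.epi_of_cokernel_zero (hZ.eq_of_tgt _ _)

variable (U : C) [ModSite.HasPushOver O U]

/-- `Γ_Z` sends an epimorphism with flasque kernel to an epimorphism -/
theorem epi_sectOn_map (S : ShortComplex (ModSite.Mod O)) (hS : S.ShortExact)
    (hM : CohCx.IsTotallyAcyclic (ModSite.toAb S.X₁)) :
    Epi ((ModSite.sectOn O U).map S.g) := by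
  haveI := Groth.Agent.Lib.Helper17.ModSiteExact.toSheaf_preservesFiniteColimits (ModSite.ringSh O)
  have hnull : ModSite.IsNullOn O U ((ModSite.sectOn O U).obj S.X₃) := by
    haveI : Mono ((ModSite.restr O U).map (ι O U S.X₃)) := inferInstance
    have h0 : (ModSite.restr O U).map (ι O U S.X₃) = 0 := by
      have := restr_map_comp_ι O U (𝟙 ((ModSite.sectOn O U).obj S.X₃))
      rwa [Category.id_comp] at this
    exact IsZero.of_mono_eq_zero _ h0
  apply epi_of_sections_surjective
  intro V y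
  let s : (toPMod S.X₃).obj (op V) := appE (pv (ι O U S.X₃)) y
  have hs : ∀ (W : C) (f : W ⟶ V), Nonempty (W ⟶ U) → rs (toPMod S.X₃) f s = 0 := by
    rintro W f ⟨φ⟩
    change rs (toPMod S.X₃) f (appE (pv (ι O U S.X₃)) y) = 0
    rw [← appE_rs]
    have h1 : rs (toPMod ((ModSite.sectOn O U).obj S.X₃)) f y = 0 :=
      (ExtSupp.isNullOn_iff O U _).1 hnull φ _
    rw [h1]
    exact map_zero _
  obtain ⟨σ, hσ⟩ := sec_surjective V (ModSite.toAb S.X₃) s
  have hσ0 : (Φ J).map (ιY J U V) ≫ σ = 0 :=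
    (comp_eq_zero_iff U V σ).2 (fun W f hW => by rw [hσ]; exact hs W f hW)
  obtain ⟨τ, hτ0, hτ⟩ := exists_lift (S.map (toAb O)) (hS.map_of_exact (toAb O)) hM U V σ hσ0
  let t' : (toPMod S.X₂).obj (op V) := sec V τ
  have ht'p : appE (pv S.g) t' = s := by
    have h2 := sec_comp V τ ((toAb O).map S.g)
    have h3 : τ ≫ (toAb O).map S.g = σ := hτ
    rw [h3, hσ] at h2
    exact h2.symm
  have ht'0 : ∀ (W : C) (f : W ⟶ V), Nonempty (W ⟶ U) → rs (toPMod S.X₂) f t' = 0 :=
    (comp_eq_zero_iff U V τ).1 hτ0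
  let τ' : ModSite.freeOn O V ⟶ S.X₂ := (freeOnHomEquiv S.X₂ V).symm t'
  have hr : (ModSite.restr O U).map τ' = 0 :=
    restr_map_eq_zero_of_sections O U V S.X₂ τ' (fun W f hW => by
      rw [Equiv.apply_symm_apply]
      exact ht'0 W f hW)
  let y'' : ModSite.freeOn O V ⟶ (ModSite.sectOn O U).obj S.X₂ := liftS O U τ' hr
  let y' : (toPMod ((ModSite.sectOn O U).obj S.X₂)).obj (op V) := freeOnHomEquiv _ V y''
  have hy' : appE (pv (ι O U S.X₂)) y' = t' := by
    have h5 := freeOnHomEquiv_comp V y'' (ι O U S.X₂)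
    rw [liftS_ι, Equiv.apply_symm_apply] at h5
    exact h5.symm
  refine ⟨y', ?_⟩
  have h7 : appE (pv (ι O U S.X₃)) (appE (pv ((ModSite.sectOn O U).map S.g)) y') =
      appE (pv S.g) (appE (pv (ι O U S.X₂)) y') :=
    congrArg (fun ψ : (ModSite.sectOn O U).obj S.X₂ ⟶ S.X₃ => appE (pv ψ) y')
      (ι_naturality O U S.g)
  have h6 : appE (pv (ι O U S.X₃)) (appE (pv ((ModSite.sectOn O U).map S.g)) y' - y) = 0 := by
    have h8 : appE (pv (ι O U S.X₃)) (appE (pv ((ModSite.sectOn O U).map S.g)) y' - y) =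
        appE (pv (ι O U S.X₃)) (appE (pv ((ModSite.sectOn O U).map S.g)) y') -
          appE (pv (ι O U S.X₃)) y := map_sub _ _ _
    rw [h8, h7, hy', ht'p]
    exact sub_self _
  exact sub_eq_zero.1 (appE_injective_of_mono (ι O U S.X₃) _ h6)

omit [ModSite.HasPushOver O U] in
/-- the quotient of an injective module by a flasque submodule is flasque -/
lemma isTotallyAcyclic_X₃ (S : ShortComplex (ModSite.Mod O)) (hS : S.ShortExact)
    [Injective S.X₂] (hM : CohCx.IsTotallyAcyclic (ModSite.toAb S.X₁)) :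
    CohCx.IsTotallyAcyclic (ModSite.toAb S.X₃) := by
  haveI := Groth.Agent.Lib.Helper17.ModSiteExact.toSheaf_preservesFiniteColimits (ModSite.ringSh O)
  intro K p
  have hS' := hS.map_of_exact (toAb O)
  suffices h : ∀ x : CohCx.HK K (ModSite.toAb S.X₃) (p + 1), x = 0 from
    ⟨fun x y => (h x).trans (h y).symm⟩
  intro x
  obtain ⟨x₂, rfl⟩ := Ext.covariant_sequence_exact₃ _ hS' x (rfl : p + 1 + 1 = p + 2)
    ((hM K (p + 1)).elim _ _)
  have h2 : x₂ = 0 :=
    (ModAcyclic.isTotallyAcyclic_toSheaf (ModSite.ringSh O) S.X₂ K p).elim _ _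
  rw [h2]
  exact Ext.zero_comp _ _ _ _ _

open Groth.Agent.Lib.Helper22.DimShift in
/-- **The local cohomology sheaves of a flasque module vanish in positive degrees.** -/
theorem isZero_HZsh_succ [HasInjectiveResolutions (ModSite.Mod O)] (q : ℕ) :
    ∀ (M : ModSite.Mod O), CohCx.IsTotallyAcyclic (ModSite.toAb M) →
      IsZero ((ModSite.HZsh O U (q + 1)).obj M) := by
  haveI : EnoughInjectives (ModSite.Mod O) := Groth.Agent.S0485.result J (ModSite.ringSh O)
  haveI : PreservesFiniteLimits (ModSite.sectOn O U) := by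
    haveI := (QS.adj O U).rightAdjoint_preservesLimits
    infer_instance
  induction q with
  | zero =>
    intro M hM
    exact (isZero_rightDerived_one_iff (ModSite.sectOn O U) (injSC M) (injSC_shortExact M)).2
      (epi_sectOn_map O U (injSC M) (injSC_shortExact M) hM)
  | succ n ih =>
    intro M hM
    exact (isZero_rightDerived_succ_succ_iff (ModSite.sectOn O U) (injSC M)
      (injSC_shortExact M) n).2
      (ih _ (isTotallyAcyclic_X₃ O (injSC M) (injSC_shortExact M) hM))

end Mod

end Groth.Agent.Lib.Helper5.SectFlasque
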