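import Groth.Agent.Lib.Helper5.SectSuppLocal1

set_option autoImplicit false
universe u
open CategoryTheory CategoryTheory.Limits TopologicalSpace Opposite Abelian

namespace Groth.Agent.Lib.Helper5.SectSupp

open Groth.Agent.Lib.Helper22 Groth.Agent.Lib.Helper22.CohTop

variable {X : TopCat.{u}} {U : Opens X}

/-- Lemma B. -/
theorem isZero_HZsh_succ_of_toE_injective (m : ℕ) : ∀ (Q : CohTop.Ab X), Good U Q →
    (∀ j < m, IsZero ((LocCohZ.HZsh U (j + 1)).obj Q)) →
    (∀ V : Opens X, Function.Injective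
      ((Ext.mk₀ (cokernel.π (CohCx.freeSheafMap (Opens.grothendieckTopology X)
        (homOfLE (inf_le_left : V ⊓ U ≤ V))))).precomp Q (zero_add (m + 1)))) →
    IsZero ((LocCohZ.HZsh U (m + 1)).obj Q) := by
  induction m with
  | zero =>
    intro Q _ _ hinj
    exact isZero_HZsh_one_of_toE_injective U hinj
  | succ m ih =>
    intro Q hQ hz hinj
    have hS := injSC_shortExact Q
    rw [DimShift.isZero_rightDerived_succ_succ_iff (LocCohZ.sectSuppF U) (injSC Q) hS m]
    apply ih
    · apply good_X₃ hQ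
      rw [← DimShift.isZero_rightDerived_one_iff (LocCohZ.sectSuppF U) (injSC Q) hS]
      exact hz 0 (Nat.succ_pos m)
    · intro j hj
      rw [← DimShift.isZero_rightDerived_succ_succ_iff (LocCohZ.sectSuppF U) (injSC Q) hS j]
      exact hz (j + 1) (Nat.succ_lt_succ hj)
    · intro V
      rw [injective_iff_map_eq_zero]
      intro x hx
      have h1 : x.comp hS.extClass (rfl : m + 1 + 1 = m + 2) = 0 := by
        apply hinj V
        rw [map_zero]
        change (Ext.mk₀ _).comp (x.comp hS.extClass rfl) (zero_add _) = 0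
        rw [← Ext.comp_assoc (Ext.mk₀ _) x hS.extClass (zero_add (m + 1)) rfl (by omega)]
        change (Ext.mk₀ _).comp x (zero_add _) = 0 at hx
        rw [hx, Ext.zero_comp]
      obtain ⟨y, rfl⟩ := Ext.covariant_sequence_exact₃ _ hS x rfl h1
      rw [Ext.eq_zero_of_injective y, Ext.zero_comp]

/-- S6021. -/
theorem isZero_HZsh_le_of_res_bijective (F : CohTop.Ab X) (U : Opens X) (N : ℕ) (hN : 0 < N)
    (h : ∀ (V : Opens X) (i : ℕ), i < N →
      Function.Bijective (CohTop.res F i (inf_le_left : V ⊓ U ≤ V))) :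
    ∀ i : ℕ, i ≤ N → IsZero ((LocCohZ.HZsh U i).obj F) := by
  obtain ⟨m, rfl⟩ := Nat.exists_eq_succ_of_ne_zero hN.ne'
  have hE : ∀ (V : Opens X) (i : ℕ), i < m + 1 →
      Subsingleton (LocCohZ.HZ F i (inf_le_left : V ⊓ U ≤ V)) := by
    intro V i hi
    exact (HZ_subsingleton_le_iff_res F (inf_le_left : V ⊓ U ≤ V) m).2
      ⟨fun i hi => h V i (by omega), (h V m (by omega)).1⟩ i (by omega)
  have hlt := (isZero_HZsh_lt_iff U F (m + 1)).2 hE
  intro i hi
  rcases hi.lt_or_eq with hlt' | rfl
  · exact hlt i hlt'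
  · apply isZero_HZsh_succ_of_toE_injective m F
    · apply isFlasque_of_subsingleton_sections
      intro V
      exact ((sectEquiv U F V).trans (LocCohZ.sect0Equiv F _).symm).toEquiv.subsingleton_congr.2
        (hE V 0 (Nat.succ_pos m))
    · intro j hj
      exact hlt (j + 1) (Nat.succ_lt_succ hj)
    · intro V
      have hsurj := (h V m (by omega)).2
      rw [res_coe_eq] at hsurj
      exact precomp_g_injective_of_surjective
        (LocCohZ.zqSeq_shortExact (inf_le_left : V ⊓ U ≤ V)) F m hsurj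

end Groth.Agent.Lib.Helper5.SectSupp
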