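import Mathlib
import Groth.Agent.Lib.Helper22.DimShiftIso
import Groth.Agent.Lib.Helper22.DeltaMV

/-!
# Edge sequences of a partially degenerate Grothendieck spectral sequence (by dimension shifting)
-/

set_option autoImplicit false

universe v v' v'' u u' u''

open CategoryTheory CategoryTheory.Limits

namespace Groth.Agent.Lib.Helper5.SiteCmpEdge

open Groth.Agent.Lib.Helper22.DimShift

section coker

variable {𝒞 : Type u} [Category.{v} 𝒞] [Abelian 𝒞]

/-- for `u : X ⟶ Y` and `v : Y ⟶ Z` the kernel of `t : Z ⟶ W`, the sequence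
`0 → coker u → coker (u ≫ v) → W` is exact -/
theorem coker_seq {X Y Z W : 𝒞} (u : X ⟶ Y) (v : Y ⟶ Z) (t : Z ⟶ W) [Mono v] (hvt : v ≫ t = 0)
    (hex : (ShortComplex.mk v t hvt).Exact) (uv : X ⟶ Z) (huv : u ≫ v = uv) :
    ∃ (a : cokernel u ⟶ cokernel uv) (b : cokernel uv ⟶ W) (w : a ≫ b = 0),
      Mono a ∧ (ShortComplex.mk a b w).Exact := by
  subst huv
  let a : cokernel u ⟶ cokernel (u ≫ v) :=
    cokernel.desc u (v ≫ cokernel.π (u ≫ v)) (by rw [← Category.assoc, cokernel.condition])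
  let b : cokernel (u ≫ v) ⟶ W :=
    cokernel.desc (u ≫ v) t (by rw [Category.assoc, hvt, comp_zero])
  have ha : cokernel.π u ≫ a = v ≫ cokernel.π (u ≫ v) := cokernel.π_desc _ _ _
  have hb : cokernel.π (u ≫ v) ≫ b = t := cokernel.π_desc _ _ _
  have w : a ≫ b = 0 := by
    rw [← cancel_epi (cokernel.π u), ← Category.assoc, ha, Category.assoc, hb, hvt, comp_zero]
  refine ⟨a, b, w, ?_, ?_⟩
  · apply Preadditive.mono_of_cancel_zero
    intro T x hx
    obtain ⟨T', p, hp, y, hy⟩ := surjective_up_to_refinements_of_epi (cokernel.π u) x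
    have h1 : (y ≫ v) ≫ cokernel.π (u ≫ v) = 0 := by
      rw [Category.assoc, ← ha, ← Category.assoc, ← hy, Category.assoc, hx, comp_zero]
    obtain ⟨T'', p', hp', z, hz⟩ :=
      (ShortComplex.exact_cokernel (u ≫ v)).exact_up_to_refinements (y ≫ v) h1
    have h2 : p' ≫ y = z ≫ u := by
      rw [← cancel_mono v, Category.assoc, Category.assoc]
      exact hz
    have h3 : (p' ≫ p) ≫ x = (p' ≫ p) ≫ 0 := by
      rw [Category.assoc, hy, ← Category.assoc, h2, Category.assoc, cokernel.condition,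
        comp_zero, comp_zero]
    haveI : Epi (p' ≫ p) := epi_comp _ _
    exact (cancel_epi (p' ≫ p)).1 h3
  · rw [ShortComplex.exact_iff_exact_up_to_refinements]
    intro T x₂ hx₂
    change x₂ ≫ b = 0 at hx₂
    obtain ⟨T', p, hp, z, hz⟩ := surjective_up_to_refinements_of_epi (cokernel.π (u ≫ v)) x₂
    have h1 : z ≫ t = 0 := by
      rw [← hb, ← Category.assoc, ← hz, Category.assoc, hx₂, comp_zero]
    obtain ⟨T'', p', hp', y, hy⟩ := hex.exact_up_to_refinements z h1
    change p' ≫ z = y ≫ v at hy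
    haveI : Epi (p' ≫ p) := epi_comp _ _
    refine ⟨T'', p' ≫ p, inferInstance, y ≫ cokernel.π u, ?_⟩
    change (p' ≫ p) ≫ x₂ = (y ≫ cokernel.π u) ≫ a
    rw [Category.assoc, hz, ← Category.assoc, hy, Category.assoc, Category.assoc, ha]

/-- transport of a left exact sequence along isomorphisms -/
lemma edge_transport {X₁ X₂ X₃ Y₁ Y₂ Y₃ : 𝒞} (e₁ : X₁ ≅ Y₁) (e₂ : X₂ ≅ Y₂) (e₃ : X₃ ≅ Y₃)
    (h : ∃ (a : Y₁ ⟶ Y₂) (b : Y₂ ⟶ Y₃) (w : a ≫ b = 0), Mono a ∧ (ShortComplex.mk a b w).Exact) :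
    ∃ (a : X₁ ⟶ X₂) (b : X₂ ⟶ X₃) (w : a ≫ b = 0), Mono a ∧ (ShortComplex.mk a b w).Exact := by
  obtain ⟨a, b, w, ha, hex⟩ := h
  have w' : (e₁.hom ≫ a ≫ e₂.inv) ≫ (e₂.hom ≫ b ≫ e₃.inv) = 0 := by
    simp [reassoc_of% w]
  refine ⟨e₁.hom ≫ a ≫ e₂.inv, e₂.hom ≫ b ≫ e₃.inv, w', inferInstance, ?_⟩
  exact (ShortComplex.exact_iff_of_iso (ShortComplex.isoMk e₁ e₂ e₃ (by simp) (by simp))).2 hex

end coker

section edge

variable {𝒜 : Type u} [Category.{v} 𝒜] [Abelian 𝒜] [EnoughInjectives 𝒜]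
  {ℬ : Type u'} [Category.{v'} ℬ] [Abelian ℬ] [EnoughInjectives ℬ]
  {𝒞 : Type u''} [Category.{v''} 𝒞] [Abelian 𝒞]
  (G : 𝒜 ⥤ ℬ) [G.Additive] [PreservesFiniteLimits G]
  (H : ℬ ⥤ 𝒞) [H.Additive] [PreservesFiniteLimits H]
  (K : 𝒜 ⥤ 𝒞) [K.Additive] (e : G ⋙ H ≅ K)
  (hG : ∀ I : 𝒜, Injective I → Injective (G.obj I))

/-- `0 → G A → G I → im(G I → G A₁) → 0` -/
noncomputable abbrev sc₁ (A : 𝒜) : ShortComplex ℬ :=
  ShortComplex.mk (G.map (injSC A).f) (Abelian.factorThruImage (G.map (injSC A).g)) (by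
    rw [← cancel_mono (Abelian.image.ι (G.map (injSC A).g)), Category.assoc, Abelian.image.fac,
      zero_comp, ← G.map_comp, (injSC A).zero, G.map_zero])

lemma sc₁_shortExact (A : 𝒜) : (sc₁ G A).ShortExact := by
  have hS := injSC_shortExact A
  have hm : Mono (injSC A).f := hS.mono_f
  have h1 : ((injSC A).map G).Exact := hS.exact.map_of_mono_of_preservesKernel G hm inferInstance
  let φ : sc₁ G A ⟶ (injSC A).map G :=
    { τ₁ := 𝟙 _
      τ₂ := 𝟙 _
      τ₃ := Abelian.image.ι (G.map (injSC A).g)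
      comm₁₂ := (Category.id_comp _).trans (Category.comp_id _).symm
      comm₂₃ := (Category.id_comp _).trans (Abelian.image.fac _).symm }
  have : Epi φ.τ₁ := inferInstanceAs (Epi (𝟙 _))
  have : IsIso φ.τ₂ := inferInstanceAs (IsIso (𝟙 _))
  have : Mono φ.τ₃ := inferInstanceAs (Mono (Abelian.image.ι _))
  have h2 : (sc₁ G A).Exact := (ShortComplex.exact_iff_of_epi_of_isIso_of_mono φ).2 h1
  have h3 : Mono (sc₁ G A).f := inferInstanceAs (Mono (G.map (injSC A).f))
  have h4 : Epi (sc₁ G A).g := inferInstanceAs (Epi (Abelian.factorThruImage _))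
  exact ShortComplex.ShortExact.mk' h2 h3 h4

/-- `0 → im(G I → G A₁) → G A₁ → coker(G I → G A₁) → 0` -/
noncomputable abbrev sc₂ (A : 𝒜) : ShortComplex ℬ :=
  ShortComplex.mk (Abelian.image.ι (G.map (injSC A).g)) (cokernel.π (G.map (injSC A).g))
    (kernel.condition _)

lemma sc₂_shortExact (A : 𝒜) : (sc₂ G A).ShortExact := by
  have h2 : (sc₂ G A).Exact := ShortComplex.exact_of_f_is_kernel _ (kernelIsKernel _)
  have h3 : Mono (sc₂ G A).f := inferInstanceAs (Mono (Abelian.image.ι _))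
  have h4 : Epi (sc₂ G A).g := inferInstanceAs (Epi (cokernel.π _))
  exact ShortComplex.ShortExact.mk' h2 h3 h4

include e hG in
/-- **Edge sequence.**  If `G` preserves injectives and `R^q G A = 0` for `1 ≤ q ≤ n`, there is an
exact sequence `0 → R^{n+1}H(G A) → R^{n+1}(G ⋙ H)(A) → H(R^{n+1}G A)`. -/
theorem exists_edge_exact (n : ℕ) (A : 𝒜)
    (hA : ∀ q : ℕ, q < n → IsZero ((G.rightDerived (q + 1)).obj A)) :
    ∃ (a : (H.rightDerived (n + 1)).obj (G.obj A) ⟶ (K.rightDerived (n + 1)).obj A)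
      (b : (K.rightDerived (n + 1)).obj A ⟶ H.obj ((G.rightDerived (n + 1)).obj A))
      (w : a ≫ b = 0), Mono a ∧ (ShortComplex.mk a b w).Exact := by
  have : PreservesFiniteLimits (G ⋙ H) := comp_preservesFiniteLimits G H
  have : PreservesFiniteLimits K := preservesFiniteLimits_of_natIso e
  induction n generalizing A with
  | zero =>
    have hS := injSC_shortExact A
    have hS₁ := sc₁_shortExact G A
    have : Injective (sc₁ G A).X₂ := hG _ (inferInstanceAs (Injective (injSC A).X₂))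
    let g' := G.map (injSC A).g
    have e1 := rightDerivedOneIso H (sc₁ G A) hS₁
    have e2 := rightDerivedOneIso K (injSC A) hS
    have e3 : cokernel (H.map g') ≅ cokernel (K.map (injSC A).g) :=
      cokernel.mapIso _ _ (e.app _) (e.app _) (e.hom.naturality (injSC A).g)
    have e4 := rightDerivedOneIso G (injSC A) hS
    have hm : Mono (sc₂ G A).f := (sc₂_shortExact G A).mono_f
    have hex2 : ((sc₂ G A).map H).Exact :=
      (sc₂_shortExact G A).exact.map_of_mono_of_preservesKernel H hm inferInstance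
    haveI : Mono (H.map (Abelian.image.ι g')) := inferInstance
    have huv : H.map (Abelian.factorThruImage g') ≫ H.map (Abelian.image.ι g') = H.map g' := by
      rw [← H.map_comp, Abelian.image.fac]
    have key := coker_seq (H.map (Abelian.factorThruImage g')) (H.map (Abelian.image.ι g'))
      (H.map (cokernel.π g')) ((sc₂ G A).map H).zero hex2 (H.map g') huv
    exact edge_transport e1 (e2 ≪≫ e3.symm) (H.mapIso e4) key
  | succ n ih =>
    have hS := injSC_shortExact A
    have hex : ((injSC A).map G).ShortExact :=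
      shortExact_map_of_epi' G hS
        ((isZero_rightDerived_one_iff G (injSC A) hS).1 (hA 0 (by omega)))
    have hQ : ∀ q, q < n → IsZero ((G.rightDerived (q + 1)).obj (injSC A).X₃) := fun q hq =>
      (isZero_rightDerived_succ_succ_iff G (injSC A) hS q).1 (hA (q + 1) (by omega))
    have : Injective ((injSC A).map G).X₂ := hG _ (inferInstanceAs (Injective (injSC A).X₂))
    have e1 := rightDerivedSuccSuccIso H ((injSC A).map G) hex n
    have e2 := rightDerivedSuccSuccIso K (injSC A) hS n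
    have e3 := rightDerivedSuccSuccIso G (injSC A) hS n
    exact edge_transport e1 e2 (H.mapIso e3) (ih (injSC A).X₃ hQ)

end edge

section syz

variable {𝒜 : Type u} [Category.{v} 𝒜] [Abelian 𝒜] [EnoughInjectives 𝒜]
  {𝒟 : Type u'} [Category.{v'} 𝒟] [Abelian 𝒟]

/-- iterated cosyzygies -/
noncomputable def syz : ℕ → 𝒜 → 𝒜
  | 0, A => A
  | (k + 1), A => syz k (injSC A).X₃

lemma syz_succ (k : ℕ) (A : 𝒜) : syz (k + 1) A = syz k (injSC A).X₃ := rfl

theorem nonempty_syz_iso (T : 𝒜 ⥤ 𝒟) [T.Additive] (k q : ℕ) (A : 𝒜) :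
    Nonempty ((T.rightDerived (q + 1)).obj (syz k A) ≅ (T.rightDerived (q + 1 + k)).obj A) := by
  induction k generalizing A with
  | zero => exact ⟨Iso.refl _⟩
  | succ k ih =>
    obtain ⟨i1⟩ := ih (injSC A).X₃
    have i2 := rightDerivedSuccSuccIso T (injSC A) (injSC_shortExact A) (q + k)
    have e1 : q + 1 + k = q + k + 1 := by omega
    have e2 : q + 1 + (k + 1) = q + k + 2 := by omega
    rw [e2]
    rw [e1] at i1
    exact ⟨i1 ≪≫ i2.symm⟩

end syz

section les

variable {𝒜 : Type u} [Category.{v} 𝒜] [Abelian 𝒜] [EnoughInjectives 𝒜]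
  {𝒟 : Type u'} [Category.{v'} 𝒟] [Abelian 𝒟]

open Groth.Agent.Lib.Helper22.DeltaMV in
/-- from the long exact sequence of derived functors -/
theorem mono_rightDerived_map_f (T : 𝒜 ⥤ 𝒟) [T.Additive] (S : ShortComplex 𝒜)
    (hS : S.ShortExact) (n : ℕ)
    (h : IsZero ((T.rightDerived n).obj S.X₃) ∨ Epi ((T.rightDerived n).map S.g)) :
    Mono ((T.rightDerived (n + 1)).map S.f) := by
  have h1 := (RD T).exact₁ S hS n (n + 1) rfl
  have h3 := (RD T).exact₃ S hS n (n + 1) rfl
  have hδ : (RD T).δ S hS n (n + 1) rfl = 0 := by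
    rcases h with h | h
    · exact h.eq_of_src _ _
    · exact h3.epi_f_iff.1 h
  exact h1.mono_g_iff.2 hδ

theorem epi_rightDerived_zero_map (T : 𝒜 ⥤ 𝒟) [T.Additive] [PreservesFiniteLimits T]
    {X Y : 𝒜} (g : X ⟶ Y) (h : Epi (T.map g)) : Epi ((T.rightDerived 0).map g) := by
  have e : (T.rightDerived 0).map g = T.rightDerivedZeroIsoSelf.hom.app X ≫ T.map g ≫
      T.rightDerivedZeroIsoSelf.inv.app Y := by
    rw [← NatTrans.naturality_assoc, Iso.hom_inv_id_app, Category.comp_id]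
  rw [e]
  infer_instance

end les

section dual

variable {𝒜 : Type u} [Category.{v} 𝒜] [Abelian 𝒜] [EnoughInjectives 𝒜]
  {ℬ : Type u'} [Category.{v'} ℬ] [Abelian ℬ] [EnoughInjectives ℬ]
  {𝒞 : Type u''} [Category.{v''} 𝒞] [Abelian 𝒞]
  (G : 𝒜 ⥤ ℬ) [G.Additive] [PreservesFiniteLimits G]
  (H : ℬ ⥤ 𝒞) [H.Additive] [PreservesFiniteLimits H]
  (K : 𝒜 ⥤ 𝒞) [K.Additive] (e : G ⋙ H ≅ K)
  (hG : ∀ I : 𝒜, Injective I → Injective (G.obj I))

include e hG in
/-- **Injectivity of the other edge map.** -/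
theorem exists_mono_dualEdge (n : ℕ) (A : 𝒜)
    (hvan : ∀ p q : ℕ, 1 ≤ p → 1 ≤ q → p + q = n →
      IsZero ((H.rightDerived p).obj ((G.rightDerived q).obj A)))
    (hepi : 1 ≤ n → Epi (H.map (cokernel.π (G.map (injSC (syz (n - 1) A)).g)))) :
    ∃ j : (H.rightDerived (n + 1)).obj (G.obj A) ⟶ (K.rightDerived (n + 1)).obj A, Mono j := by
  induction n generalizing A with
  | zero =>
    obtain ⟨a, -, -, ha, -⟩ := exists_edge_exact G H K e hG 0 A (fun q hq => by omega)
    exact ⟨a, ha⟩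
  | succ n ih =>
    have hS := injSC_shortExact A
    have hS₁ := sc₁_shortExact G A
    have hS₂ := sc₂_shortExact G A
    have : Injective (sc₁ G A).X₂ := hG _ (inferInstanceAs (Injective (injSC A).X₂))
    have e1 := rightDerivedSuccSuccIso H (sc₁ G A) hS₁ n
    have e2 := rightDerivedSuccSuccIso K (injSC A) hS n
    have e4 := rightDerivedOneIso G (injSC A) hS
    -- the middle map is mono
    have hμ : Mono ((H.rightDerived (n + 1)).map (sc₂ G A).f) := by
      apply mono_rightDerived_map_f H (sc₂ G A) hS₂ n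
      cases n with
      | zero =>
        right
        apply epi_rightDerived_zero_map
        exact hepi (by omega)
      | succ m =>
        left
        have hz := hvan (m + 1) 1 (by omega) (by omega) (by omega)
        exact hz.of_iso ((H.rightDerived (m + 1)).mapIso e4.symm)
    -- induction hypothesis
    have hvan' : ∀ p q : ℕ, 1 ≤ p → 1 ≤ q → p + q = n →
        IsZero ((H.rightDerived p).obj ((G.rightDerived q).obj (injSC A).X₃)) := by
      intro p q hp hq hpq
      obtain ⟨q', rfl⟩ : ∃ q', q = q' + 1 := ⟨q - 1, by omega⟩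
      have i := rightDerivedSuccSuccIso G (injSC A) hS q'
      have hz := hvan p (q' + 2) hp (by omega) (by omega)
      exact hz.of_iso ((H.rightDerived p).mapIso i.symm)
    have hepi' : 1 ≤ n → Epi (H.map (cokernel.π (G.map (injSC (syz (n - 1) (injSC A).X₃)).g))) := by
      intro hn
      obtain ⟨m, rfl⟩ : ∃ m, n = m + 1 := ⟨n - 1, by omega⟩
      exact hepi (by omega)
    obtain ⟨j₁, hj₁⟩ := ih (injSC A).X₃ hvan' hepi'
    exact ⟨e1.hom ≫ (H.rightDerived (n + 1)).map (sc₂ G A).f ≫ j₁ ≫ e2.inv, inferInstance⟩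

end dual

end Groth.Agent.Lib.Helper5.SiteCmpEdge
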