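import Mathlib
import Groth.Prelude.Def_SiteCmp
import Groth.Prelude.Def_WeakSerre
import Groth.Prelude.Def_CohSite
import Groth.Prelude.Def_RDer
import Groth.Agent.S0487
import Groth.Agent.Lib.Helper22.EdgeIso.EdgeIn
import Groth.Agent.Lib.Helper5.HyOverCech

/-!
# Killing an equalized cohomology class (comparison of topologies)

Abstract part: locally vanishing of positive degree classes and the descent argument.
-/

set_option autoImplicit false

universe u

open CategoryTheory CategoryTheory.Limits Opposite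

namespace Groth.Agent.Lib.Helper5.SiteCmpKill

section generalities

/-- Higher right derived functors of an exact functor vanish. -/
theorem isZero_rightDerived_succ_of_preservesHomology {C : Type*} [Category C] [Abelian C]
    [HasInjectiveResolutions C] {E : Type*} [Category E] [Abelian E]
    (G : C ⥤ E) [G.Additive] [G.PreservesHomology] (n : ℕ) (A : C) :
    IsZero ((G.rightDerived (n + 1)).obj A) := by
  let I : InjectiveResolution A := injectiveResolution A
  refine IsZero.of_iso ?_ (I.isoRightDerivedObj G (n + 1))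
  have hex : (I.cocomplex.sc (n + 1)).Exact := I.cocomplex_exactAt_succ n
  have h2 : ((G.mapHomologicalComplex _).obj I.cocomplex).ExactAt (n + 1) := hex.map G
  exact h2.isZero_homology

end generalities

section abstract

variable {D : Type u} [SmallCategory D] (K : GrothendieckTopology D)

lemma subsingleton_sections_of_isZero {G : Sheaf K AddCommGrpCat.{u}} (hG : IsZero G) (U : D) :
    Subsingleton (G.obj.obj (op U)) := by
  have h := Functor.map_isZero (sheafToPresheaf K AddCommGrpCat.{u} ⋙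
    (evaluation Dᵒᵖ AddCommGrpCat.{u}).obj (op U)) hG
  exact AddCommGrpCat.subsingleton_of_isZero h

lemma sheaf_ext_zero (G : Sheaf K AddCommGrpCat.{u}) {U : D} (S : Sieve U) (hS : S ∈ K U)
    (x : G.obj.obj (op U))
    (h : ∀ ⦃V : D⦄ (s : V ⟶ U), S s → (G.obj.map s.op).hom x = 0) : x = 0 := by
  have hG : Presieve.IsSheaf K (G.obj ⋙ forget AddCommGrpCat.{u}) :=
    (isSheaf_iff_isSheaf_of_type _ _).1
      ((Presheaf.isSheaf_iff_isSheaf_forget K G.obj (forget AddCommGrpCat.{u})).1 G.property)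
  refine (hG S hS).isSeparatedFor.ext (t₁ := x) (t₂ := (0 : G.obj.obj (op U))) ?_
  intro V s hs
  change (G.obj.map s.op).hom x = (G.obj.map s.op).hom 0
  rw [h s hs, map_zero]

/-- positive-degree cohomology classes vanish locally -/
theorem exists_cover_res_eq_zero (F : Sheaf K AddCommGrpCat.{u}) (i : ℕ) (U : D)
    (x : CohSite.HU F (i + 1) U) :
    ∃ S ∈ K U, ∀ ⦃V : D⦄ (g : V ⟶ U), S g → CohSite.res F (i + 1) g x = 0 := by
  obtain ⟨φ⟩ := Groth.Agent.S0487.result K K (𝟭 D) F (i + 1)
  haveI : PreservesFiniteLimits (CohSite.push K K (𝟭 D)) :=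
    preservesFiniteLimits_of_natIso (Functor.sheafPushforwardContinuousId AddCommGrpCat.{u} K).symm
  haveI : PreservesFiniteColimits (CohSite.push K K (𝟭 D)) :=
    preservesFiniteColimits_of_natIso (Functor.sheafPushforwardContinuousId AddCommGrpCat.{u} K).symm
  have hz : IsZero ((CohSite.Rpush K K (𝟭 D) (i + 1)).obj F) :=
    isZero_rightDerived_succ_of_preservesHomology (CohSite.push K K (𝟭 D)) i F
  have hz' := hz.of_iso φ.symm
  let P : Dᵒᵖ ⥤ AddCommGrpCat.{u} := (𝟭 D).op ⋙ F.cohomologyPresheaf (i + 1)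
  haveI := subsingleton_sections_of_isZero K hz' U
  have h : (toSheafify K P).app (op U) x = (toSheafify K P).app (op U) 0 :=
    Subsingleton.elim _ _
  refine ⟨_, Presheaf.equalizerSieve_mem K (toSheafify K P) x 0 h, ?_⟩
  intro V g hg
  have hg' : P.map g.op x = P.map g.op 0 := hg
  exact hg'.trans (map_zero _)

variable (w : D ⥤ D) (ε : w ⟶ 𝟭 D) (F : Sheaf K AddCommGrpCat.{u}) (i : ℕ)

/-- the descent argument -/
theorem kill_abstract (G' : Sheaf K AddCommGrpCat.{u})
    (c : w.op ⋙ F.cohomologyPresheaf (i + 1) ⟶ G'.obj)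
    [Presheaf.IsLocallyInjective K c]
    {T Xf : D} (t : Xf ⟶ T) (ht : Function.Injective (G'.obj.map t.op).hom)
    (θT : CohSite.HU F (i + 1) (w.obj T)) (θ : CohSite.HU F (i + 1) Xf)
    (hθ : CohSite.res F (i + 1) (w.map t) θT = CohSite.res F (i + 1) (ε.app Xf) θ) :
    ∃ S ∈ K T, ∀ ⦃V : D⦄ (s : V ⟶ T), S s → CohSite.res F (i + 1) (w.map s) θT = 0 := by
  let P : Dᵒᵖ ⥤ AddCommGrpCat.{u} := w.op ⋙ F.cohomologyPresheaf (i + 1)
  have nat : ∀ {A B : D} (s : A ⟶ B) (y : P.obj (op B)),
      (G'.obj.map s.op).hom ((c.app (op B)).hom y) = (c.app (op A)).hom ((P.map s.op).hom y) := by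
    intro A B s y
    exact (congrArg (fun φ => φ.hom y) (c.naturality s.op)).symm
  have resres : ∀ {A B E : D} (a : A ⟶ B) (b : B ⟶ E) (y : CohSite.HU F (i + 1) E),
      CohSite.res F (i + 1) a (CohSite.res F (i + 1) b y) = CohSite.res F (i + 1) (a ≫ b) y := by
    intro A B E a b y
    have := congrArg (fun φ => φ.hom y) ((F.cohomologyPresheaf (i + 1)).map_comp b.op a.op)
    exact this.symm
  -- step 1: c_Xf (res ε θ) = 0
  have h1 : (c.app (op Xf)).hom (CohSite.res F (i + 1) (ε.app Xf) θ) = 0 := by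
    obtain ⟨S, hS, hS0⟩ := exists_cover_res_eq_zero K F i Xf θ
    refine sheaf_ext_zero K G' S hS _ ?_
    intro V s hs
    rw [nat s]
    have e1 : (P.map s.op).hom (CohSite.res F (i + 1) (ε.app Xf) θ) =
        CohSite.res F (i + 1) (w.map s) (CohSite.res F (i + 1) (ε.app Xf) θ) := rfl
    rw [e1, resres]
    have e2 : w.map s ≫ ε.app Xf = ε.app V ≫ s := ε.naturality s
    rw [e2, ← resres, hS0 s hs, map_zero, map_zero]
  -- step 2: c_T θT = 0
  have h2 : (c.app (op T)).hom θT = 0 := by
    apply ht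
    rw [nat t, map_zero]
    have e1 : (P.map t.op).hom θT = CohSite.res F (i + 1) (w.map t) θT := rfl
    rw [e1, hθ, h1]
  have h3 : c.app (op T) θT = c.app (op T) 0 := by
    change (c.app (op T)).hom θT = (c.app (op T)).hom 0
    rw [h2, map_zero]
  refine ⟨_, Presheaf.equalizerSieve_mem K c (X := op T) θT 0 h3, ?_⟩
  intro V s hs
  have hs' : P.map s.op θT = P.map s.op 0 := hs
  exact hs'.trans (map_zero _)

end abstract

section specific

variable {C : Type u} [SmallCategory C] (J' : GrothendieckTopology C) {X Y : C} (f : X ⟶ Y)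

/-- restriction of sheaves along `Over.map f` -/
noncomputable abbrev Φ : Sheaf (J'.over Y) AddCommGrpCat.{u} ⥤ Sheaf (J'.over X) AddCommGrpCat.{u} :=
  CohSite.push (J'.over Y) (J'.over X) (Over.map f)

/-- relocalisation pushforward -/
noncomputable abbrev fstar :
    Sheaf (J'.over X) AddCommGrpCat.{u} ⥤ Sheaf (J'.over Y) AddCommGrpCat.{u} :=
  (Over.map f).sheafPushforwardCocontinuous AddCommGrpCat.{u} (J'.over X) (J'.over Y)

instance fstar_additive : (fstar J' f).Additive :=
  ((Over.map f).sheafAdjunctionCocontinuous AddCommGrpCat.{u}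
    (J'.over X) (J'.over Y)).right_adjoint_additive

instance : PreservesFiniteColimits (Φ J' f) := by
  have := ((Over.map f).sheafAdjunctionCocontinuous AddCommGrpCat.{u}
    (J'.over X) (J'.over Y)).leftAdjoint_preservesColimits
  infer_instance

instance : PreservesFiniteLimits (Φ J' f) := by
  have := ((Over.map f).sheafAdjunctionContinuous AddCommGrpCat.{u}
    (J'.over X) (J'.over Y)).rightAdjoint_preservesLimits
  infer_instance

instance : (Φ J' f).PreservesInjectiveObjects := ⟨by
  intro I hI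
  let Xf : Over Y := Over.mk f
  haveI : Injective (I.over Xf) := inferInstance
  haveI i1 : Xf.iteratedSliceForward.IsContinuous ((J'.over Y).over Xf) (J'.over Xf.left) :=
    inferInstance
  haveI i2 : Xf.iteratedSliceBackward.IsContinuous (J'.over Xf.left) ((J'.over Y).over Xf) :=
    inferInstance
  let adj := Adjunction.sheafPushforwardContinuous (E := AddCommGrpCat.{u})
    (F := Xf.iteratedSliceForward) (G := Xf.iteratedSliceBackward)
    Xf.iteratedSliceEquiv.toAdjunction ((J'.over Y).over Xf) (J'.over Xf.left)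
  let adj' := Adjunction.sheafPushforwardContinuous (E := AddCommGrpCat.{u})
    (F := Xf.iteratedSliceBackward) (G := Xf.iteratedSliceForward)
    Xf.iteratedSliceEquiv.symm.toAdjunction (J'.over Xf.left) ((J'.over Y).over Xf)
  have : PreservesLimitsOfSize.{0, 0} (Xf.iteratedSliceForward.sheafPushforwardContinuous
    AddCommGrpCat.{u} ((J'.over Y).over Xf) (J'.over Xf.left)) := adj'.rightAdjoint_preservesLimits
  haveI : (Xf.iteratedSliceForward.sheafPushforwardContinuous AddCommGrpCat.{u}
    ((J'.over Y).over Xf) (J'.over Xf.left)).PreservesMonomorphisms := inferInstance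
  exact Injective.injective_of_adjoint adj (I.over Xf)⟩

variable [HasPullbacksAlong f]

instance pullback_isContinuous : (Over.pullback f).IsContinuous (J'.over Y) (J'.over X) :=
  (Over.mapPullbackAdj f).isContinuous_of_isCocontinuous _ _

instance w_isContinuous :
    (Over.pullback f ⋙ Over.map f).IsContinuous (J'.over Y) (J'.over Y) :=
  Functor.isContinuous_comp _ _ _ (J'.over X) _

/-- pushforward along the base change functor -/
noncomputable abbrev Ψ : Sheaf (J'.over X) AddCommGrpCat.{u} ⥤ Sheaf (J'.over Y) AddCommGrpCat.{u} :=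
  CohSite.push (J'.over X) (J'.over Y) (Over.pullback f)

/-- the relocalisation pushforward is the pushforward along the base change functor -/
noncomputable def fstarIso : fstar J' f ≅ Ψ J' f :=
  ((Over.map f).sheafAdjunctionCocontinuous AddCommGrpCat.{u}
    (J'.over X) (J'.over Y)).rightAdjointUniq
    ((Over.mapPullbackAdj f).sheafPushforwardContinuous (E := AddCommGrpCat.{u})
      (J'.over X) (J'.over Y))

theorem nonempty_iso_sheafify (F' : Sheaf (J'.over Y) AddCommGrpCat.{u}) (i : ℕ) :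
    Nonempty (((fstar J' f).rightDerived i).obj ((Φ J' f).obj F') ≅
      (presheafToSheaf (J'.over Y) AddCommGrpCat.{u}).obj
        ((Over.pullback f ⋙ Over.map f).op ⋙ F'.cohomologyPresheaf i)) := by
  let a1 := (RDer.rightDerivedIso (fstarIso J' f) i).app ((Φ J' f).obj F')
  have hv : ∀ q : ℕ, 0 < q → IsZero (((Φ J' f).rightDerived q).obj F') := by
    intro q hq
    obtain ⟨q, rfl⟩ := Nat.exists_eq_succ_of_ne_zero hq.ne'
    exact isZero_rightDerived_succ_of_preservesHomology (Φ J' f) q F'
  haveI := Groth.Agent.Lib.Helper22.EdgeIn.isIso_edgeIn (Φ J' f) (Ψ J' f) F' hv i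
  let a2 := asIso (RDer.edgeIn (Φ J' f) (Ψ J' f) i F')
  let a3 : ((Φ J' f ⋙ Ψ J' f).rightDerived i).obj F' ≅
      (CohSite.Rpush (J'.over Y) (J'.over Y) (Over.pullback f ⋙ Over.map f) i).obj F' := Iso.refl _
  obtain ⟨a4⟩ := Groth.Agent.S0487.result (J'.over Y) (J'.over Y)
    (Over.pullback f ⋙ Over.map f) F' i
  exact ⟨a1 ≪≫ a2 ≪≫ a3 ≪≫ a4⟩

lemma res_res {D : Type u} [SmallCategory D] {K : GrothendieckTopology D}
    (F : Sheaf K AddCommGrpCat.{u}) (i : ℕ) {A B E : D} (a : A ⟶ B) (b : B ⟶ E)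
    (y : CohSite.HU F i E) :
    CohSite.res F i a (CohSite.res F i b y) = CohSite.res F i (a ≫ b) y := by
  have := congrArg (fun φ => φ.hom y) ((F.cohomologyPresheaf i).map_comp b.op a.op)
  exact this.symm

set_option maxHeartbeats 1600000 in
theorem main {J : GrothendieckTopology C}
    (hcov : Sieve.ofArrows (fun _ : PUnit.{u + 1} => X) (fun _ => f) ∈ J Y)
    (F' : Sheaf (J'.over Y) AddCommGrpCat.{u}) (n : ℕ)
    (hG : Presheaf.IsSheaf (J.over Y)
      (((fstar J' f).rightDerived (n + 1)).obj ((Φ J' f).obj F')).obj)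
    (θ : CohSite.HU F' (n + 1) (Over.mk f))
    (hθ : ∀ (W : C) (p q : W ⟶ X) (hW : IsPullback p q f f),
      CohSite.res F' (n + 1) (Over.homMk p rfl : Over.mk (p ≫ f) ⟶ Over.mk f) θ =
        CohSite.res F' (n + 1) (Over.homMk q hW.w.symm : Over.mk (p ≫ f) ⟶ Over.mk f) θ) :
    ∃ (ι : Type u) (Z : ι → C) (g : ∀ i, Z i ⟶ Y), Sieve.ofArrows Z g ∈ J' Y ∧
      ∀ (i : ι) (W : C) (p : W ⟶ Z i) (q : W ⟶ X), IsPullback p q (g i) f →
        CohSite.res F' (n + 1) (Over.homMk q rfl : Over.mk (q ≫ f) ⟶ Over.mk f) θ = 0 := by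
  classical
  let K := J'.over Y
  let w : Over Y ⥤ Over Y := Over.pullback f ⋙ Over.map f
  let ε : w ⟶ 𝟭 (Over Y) := (Over.mapPullbackAdj f).counit
  let G' := ((fstar J' f).rightDerived (n + 1)).obj ((Φ J' f).obj F')
  obtain ⟨φ⟩ := nonempty_iso_sheafify J' f F' (n + 1)
  let P : (Over Y)ᵒᵖ ⥤ AddCommGrpCat.{u} := w.op ⋙ F'.cohomologyPresheaf (n + 1)
  let c : P ⟶ G'.obj := toSheafify K P ≫ φ.inv.hom
  haveI : IsIso φ.inv.hom := (inferInstance : IsIso ((sheafToPresheaf K _).map φ.inv))
  haveI : Presheaf.IsLocallyInjective K c := inferInstance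
  let T : Over Y := Over.mk (𝟙 Y)
  let Xf : Over Y := Over.mk f
  let t : Xf ⟶ T := Over.homMk f (by simp [Xf, T])
  -- injectivity of G'(t)
  have ht : Function.Injective (G'.obj.map t.op).hom := by
    rw [injective_iff_map_eq_zero]
    intro x hx
    let G'J : Sheaf (J.over Y) AddCommGrpCat.{u} := ⟨G'.obj, hG⟩
    refine sheaf_ext_zero (J.over Y) G'J ((Sieve.overEquiv T).symm
      (Sieve.ofArrows (fun _ : PUnit.{u + 1} => X) (fun _ => f)))
      (GrothendieckTopology.overEquiv_symm_mem_over J T _ hcov) x ?_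
    intro V s hs
    rw [Sieve.overEquiv_symm_iff, Sieve.mem_ofArrows_iff] at hs
    obtain ⟨-, a, ha⟩ := hs
    have hw : a ≫ Xf.hom = V.hom := by
      have := Over.w s
      simp only [T, Over.mk_hom] at this
      rw [← this, ha]
      simp [Xf]
    let a' : V ⟶ Xf := Over.homMk a hw
    have hs' : s = a' ≫ t := by
      ext
      simpa [a', t] using ha
    change (G'.obj.map s.op).hom x = 0
    rw [hs', op_comp, G'.obj.map_comp]
    change (G'.obj.map a'.op).hom ((G'.obj.map t.op).hom x) = 0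
    rw [hx, map_zero]
  let e : w.obj T ⟶ Xf := Over.homMk (pullback.snd (𝟙 Y) f) (by simp [w, Xf, T])
  let θT : CohSite.HU F' (n + 1) (w.obj T) := CohSite.res F' (n + 1) e θ
  have hθ' : CohSite.res F' (n + 1) (w.map t) θT = CohSite.res F' (n + 1) (ε.app Xf) θ := by
    have hW : IsPullback (pullback.fst f f) (pullback.snd f f) f f := IsPullback.of_hasPullback f f
    have h0 := hθ (pullback f f) (pullback.fst f f) (pullback.snd f f) hW
    let κ : w.obj Xf ⟶ Over.mk (pullback.fst f f ≫ f) :=
      Over.homMk (𝟙 _) (by simp [w, Xf, pullback.condition])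
    have e1 : ε.app Xf = κ ≫ (Over.homMk (pullback.fst f f) rfl :
        Over.mk (pullback.fst f f ≫ f) ⟶ Over.mk f) := by
      ext
      simp [ε, κ, Xf]
    have e2 : w.map t ≫ e = κ ≫ (Over.homMk (pullback.snd f f) hW.w.symm :
        Over.mk (pullback.fst f f ≫ f) ⟶ Over.mk f) := by
      ext
      simp [w, e, κ, t, Xf, T]
      exact pullback.lift_snd _ _ _
    change CohSite.res F' (n + 1) (w.map t) (CohSite.res F' (n + 1) e θ) = _
    rw [res_res, e2, e1, ← res_res, ← res_res, h0]
  obtain ⟨S, hS, hS0⟩ := kill_abstract K w ε F' n G' c t ht θT θ hθ'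
  refine ⟨(Σ V : Over Y, {s : V ⟶ T // S.arrows s}), fun i => i.1.left, fun i => i.1.hom, ?_, ?_⟩
  · have hS' : Sieve.overEquiv T S ∈ J' Y := (GrothendieckTopology.mem_over_iff J' S).1 hS
    refine J'.superset_covering ?_ hS'
    intro Z' h hh
    rw [Sieve.overEquiv_iff] at hh
    rw [Sieve.mem_ofArrows_iff]
    refine ⟨⟨Over.mk (h ≫ T.hom), Over.homMk h, hh⟩, 𝟙 _, ?_⟩
    simp [T]
  · rintro ⟨V, s, hs⟩ W p q hW
    have h0 := hS0 s hs
    change CohSite.res F' (n + 1) (w.map s) (CohSite.res F' (n + 1) e θ) = 0 at h0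
    rw [res_res] at h0
    let lam : Over.mk (q ≫ f) ⟶ w.obj V := Over.homMk hW.isoPullback.hom (by simp [w])
    have e3 : (Over.homMk q rfl : Over.mk (q ≫ f) ⟶ Over.mk f) = lam ≫ (w.map s ≫ e) := by
      ext
      simp [lam, w, e, Xf, T]
      erw [pullback.lift_snd]
      exact hW.isoPullback_hom_snd.symm
    rw [e3, ← res_res, h0, map_zero]

end specific

end Groth.Agent.Lib.Helper5.SiteCmpKill
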