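import Mathlib
import Groth.Prelude.Def_SiteCmp
import Groth.Prelude.Def_WeakSerre
import Groth.Prelude.Def_CohSite
import Groth.Prelude.Def_RDer
import Groth.Agent.S0487
import Groth.Agent.Lib.Helper22.DimShiftIso
import Groth.Agent.Lib.Helper20.CohPresheafInj
import Groth.Agent.Lib.Helper5.SiteCmpKill

/-!
# Comparison of topologies: relocalisation and `ε_*` commute on higher direct images (low degrees)
-/

set_option autoImplicit false

universe v v' v'' u u' u''

open CategoryTheory CategoryTheory.Limits Opposite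

namespace Groth.Agent.Lib.Helper5.SiteCmpRel

section PV

open Groth.Agent.Lib.Helper22.DimShift

variable {𝒜 : Type u} [Category.{v} 𝒜] [Abelian 𝒜] [EnoughInjectives 𝒜]
  {ℬ : Type u'} [Category.{v'} ℬ] [Abelian ℬ] [EnoughInjectives ℬ]
  {𝒞 : Type u''} [Category.{v''} 𝒞] [Abelian 𝒞]
  (G : 𝒜 ⥤ ℬ) [G.Additive] [PreservesFiniteLimits G]
  (H : ℬ ⥤ 𝒞) [H.Additive] [PreservesFiniteLimits H]
  (K : 𝒜 ⥤ 𝒞) [K.Additive] (e : G ⋙ H ≅ K)
  (hG : ∀ I : 𝒜, Injective I → Injective (G.obj I))

include e hG in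
/-- **Partially degenerate Grothendieck spectral sequence.**  If `G` preserves injectives and
`R^q G A = 0` for `1 ≤ q ≤ n`, then `R^pH(G A) ≅ R^p(G ⋙ H)(A)` for `p ≤ n`. -/
theorem nonempty_rightDerived_comp_iso_of_le (n p : ℕ) (hp : p ≤ n) (A : 𝒜)
    (hA : ∀ q : ℕ, q < n → IsZero ((G.rightDerived (q + 1)).obj A)) :
    Nonempty ((H.rightDerived p).obj (G.obj A) ≅ (K.rightDerived p).obj A) := by
  have : PreservesFiniteLimits (G ⋙ H) := comp_preservesFiniteLimits G H
  have : PreservesFiniteLimits K := preservesFiniteLimits_of_natIso e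
  induction n generalizing A p with
  | zero =>
    obtain rfl : p = 0 := by omega
    exact ⟨H.rightDerivedZeroIsoSelf.app (G.obj A) ≪≫ e.app A ≪≫
      (K.rightDerivedZeroIsoSelf.app A).symm⟩
  | succ n ih =>
    cases p with
    | zero =>
      exact ⟨H.rightDerivedZeroIsoSelf.app (G.obj A) ≪≫ e.app A ≪≫
        (K.rightDerivedZeroIsoSelf.app A).symm⟩
    | succ p =>
      have hex : ((injSC A).map G).ShortExact :=
        shortExact_map_of_epi' G (injSC_shortExact A)
          ((isZero_rightDerived_one_iff G (injSC A) (injSC_shortExact A)).1 (hA 0 (by omega)))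
      have hQ : ∀ q, q < n → IsZero ((G.rightDerived (q + 1)).obj (injSC A).X₃) := fun q hq =>
        (isZero_rightDerived_succ_succ_iff G (injSC A) (injSC_shortExact A) q).1
          (hA (q + 1) (by omega))
      have : Injective ((injSC A).map G).X₂ := hG _ (inferInstanceAs (Injective (injSC A).X₂))
      cases p with
      | zero =>
        have e1 := rightDerivedOneIso H ((injSC A).map G) hex
        have e2 := rightDerivedOneIso K (injSC A) (injSC_shortExact A)
        have e3 : cokernel (H.map ((injSC A).map G).g) ≅ cokernel (K.map (injSC A).g) :=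
          cokernel.mapIso _ _ (e.app _) (e.app _) (e.hom.naturality (injSC A).g)
        exact ⟨e1 ≪≫ e3 ≪≫ e2.symm⟩
      | succ p =>
        have e1 := rightDerivedSuccSuccIso H ((injSC A).map G) hex p
        have e2 := rightDerivedSuccSuccIso K (injSC A) (injSC_shortExact A) p
        obtain ⟨e3⟩ := ih (p + 1) (by omega) (injSC A).X₃ hQ
        exact ⟨e1 ≪≫ e3 ≪≫ e2.symm⟩

end PV

section sheaves

universe w

variable {D : Type w} [SmallCategory D]

/-- derived functors of the inclusion of sheaves into presheaves are the cohomology presheaves -/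
noncomputable def derivedIotaIso (K : GrothendieckTopology D) (F : Sheaf K AddCommGrpCat.{w})
    (i : ℕ) :
    ((sheafToPresheaf K AddCommGrpCat.{w}).rightDerived i).obj F ≅ F.cohomologyPresheaf i := by
  let I : InjectiveResolution F := Classical.choice (HasInjectiveResolution.out)
  let p := (ComplexShape.up ℕ).prev i
  let L := ((sheafToPresheaf K AddCommGrpCat.{w}).mapHomologicalComplex
    (ComplexShape.up ℕ)).obj I.cocomplex
  exact I.isoRightDerivedObj (sheafToPresheaf K AddCommGrpCat.{w}) i ≪≫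
    L.homologyIsoSc' p i (i + 1) rfl (by simp) ≪≫
    Groth.Agent.Lib.Helper20.CohPresheafInj.homologyIso K I p i rfl

variable {K K' : GrothendieckTopology D} (h : K' ≤ K)

instance epsSh_additive : (SiteCmp.epsSh h AddCommGrpCat.{w}).Additive where

instance epsSh_preservesFiniteLimits : PreservesFiniteLimits (SiteCmp.epsSh h AddCommGrpCat.{w}) := by
  haveI := SiteCmp.idContinuous h
  have : PreservesLimitsOfSize.{0, 0} (SiteCmp.epsSh h AddCommGrpCat.{w}) :=
    ((𝟭 D).sheafAdjunctionContinuous AddCommGrpCat.{w} K' K).rightAdjoint_preservesLimits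
  infer_instance

lemma epsSh_injective (I : Sheaf K AddCommGrpCat.{w}) (hI : Injective I) :
    Injective ((SiteCmp.epsSh h AddCommGrpCat.{w}).obj I) := by
  have h1 : Injective I.obj := Groth.Agent.Lib.Helper5.HyOverCech.injective_obj K I
  exact Groth.Agent.Lib.Helper5.HyOverCech.injective_of_injective_obj K'
    ((SiteCmp.epsSh h AddCommGrpCat.{w}).obj I) h1

/-- under `(V_n)` the cohomology presheaves for the two topologies agree up to degree `n` -/
theorem nonempty_cohomologyPresheaf_iso (F : Sheaf K AddCommGrpCat.{w}) (n i : ℕ) (hi : i ≤ n)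
    (hV : ∀ q : ℕ, 1 ≤ q → q ≤ n →
      IsZero (((SiteCmp.epsSh h AddCommGrpCat.{w}).rightDerived q).obj F)) :
    Nonempty (((SiteCmp.epsSh h AddCommGrpCat.{w}).obj F).cohomologyPresheaf i ≅
      F.cohomologyPresheaf i) := by
  obtain ⟨e⟩ := nonempty_rightDerived_comp_iso_of_le (SiteCmp.epsSh h AddCommGrpCat.{w})
    (sheafToPresheaf K' AddCommGrpCat.{w}) (sheafToPresheaf K AddCommGrpCat.{w}) (Iso.refl _)
    (epsSh_injective h) n i hi F (fun q hq => hV (q + 1) (by omega) (by omega))
  exact ⟨(derivedIotaIso K' _ i).symm ≪≫ e ≪≫ derivedIotaIso K F i⟩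

/-- if the `K'`-sheafification of a presheaf is a `K`-sheaf, it is the `K`-sheafification -/
theorem nonempty_sheafify_iso (P : Dᵒᵖ ⥤ AddCommGrpCat.{w})
    (hP : Presheaf.IsSheaf K ((presheafToSheaf K' AddCommGrpCat.{w}).obj P).obj) :
    Nonempty ((presheafToSheaf K' AddCommGrpCat.{w}).obj P ≅
      (SiteCmp.epsSh h AddCommGrpCat.{w}).obj ((presheafToSheaf K AddCommGrpCat.{w}).obj P)) := by
  let PK' := (presheafToSheaf K' AddCommGrpCat.{w}).obj P
  let PK := (presheafToSheaf K AddCommGrpCat.{w}).obj P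
  have hPK : Presheaf.IsSheaf K' PK.obj :=
    ((SiteCmp.epsSh h AddCommGrpCat.{w}).obj PK).property
  let a : PK'.obj ⟶ PK.obj := sheafifyLift K' (toSheafify K P) hPK
  let b : PK.obj ⟶ PK'.obj := sheafifyLift K (toSheafify K' P) hP
  have hab : a ≫ b = 𝟙 _ := by
    apply sheafify_hom_ext K' _ _ PK'.property
    rw [← Category.assoc, toSheafify_sheafifyLift, toSheafify_sheafifyLift, Category.comp_id]
  have hba : b ≫ a = 𝟙 _ := by
    apply sheafify_hom_ext K _ _ PK.property
    rw [← Category.assoc, toSheafify_sheafifyLift, toSheafify_sheafifyLift, Category.comp_id]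
  exact ⟨{ hom := ⟨a⟩, inv := ⟨b⟩, hom_inv_id := Sheaf.hom_ext hab, inv_hom_id := Sheaf.hom_ext hba }⟩

end sheaves

section main

universe w

open Groth.Agent.Lib.Helper5.SiteCmpKill

variable {C : Type w} [SmallCategory C] {J J' : GrothendieckTopology C} (h : J' ≤ J)
  {X Y : C} (f : X ⟶ Y) [HasPullbacksAlong f]

/-- higher relocalisation direct images are sheafified cohomology of the base changes -/
theorem nonempty_Rfstar_iso_sheafify (T : GrothendieckTopology C)
    (M : Sheaf (T.over X) AddCommGrpCat.{w}) (i : ℕ) :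
    Nonempty (((fstar T f).rightDerived i).obj M ≅
      (presheafToSheaf (T.over Y) AddCommGrpCat.{w}).obj
        ((Over.pullback f).op ⋙ M.cohomologyPresheaf i)) := by
  obtain ⟨a4⟩ := Groth.Agent.S0487.result (T.over X) (T.over Y) (Over.pullback f) M i
  exact ⟨(RDer.rightDerivedIso (fstarIso T f) i).app M ≪≫ a4⟩

theorem main (n : ℕ) (F : Sheaf (J.over X) AddCommGrpCat.{w})
    (hV : ∀ q, 1 ≤ q → q ≤ n → IsZero (((SiteCmp.epsSh (SiteCmp.over_le h X)
      AddCommGrpCat.{w}).rightDerived q).obj F))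
    (i : ℕ) (hi : i ≤ n)
    (hsh : Presheaf.IsSheaf (J.over Y) (((fstar J' f).rightDerived i).obj
      ((SiteCmp.epsSh (SiteCmp.over_le h X) AddCommGrpCat.{w}).obj F)).obj) :
    Nonempty (((fstar J' f).rightDerived i).obj
        ((SiteCmp.epsSh (SiteCmp.over_le h X) AddCommGrpCat.{w}).obj F) ≅
      (SiteCmp.epsSh (SiteCmp.over_le h Y) AddCommGrpCat.{w}).obj
        (((fstar J f).rightDerived i).obj F)) := by
  obtain ⟨b1⟩ := nonempty_Rfstar_iso_sheafify f J'
    ((SiteCmp.epsSh (SiteCmp.over_le h X) AddCommGrpCat.{w}).obj F) i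
  obtain ⟨pi⟩ := nonempty_cohomologyPresheaf_iso (SiteCmp.over_le h X) F n i hi hV
  let b2 := (presheafToSheaf (J'.over Y) AddCommGrpCat.{w}).mapIso
    (Functor.isoWhiskerLeft (Over.pullback f).op pi)
  obtain ⟨c1⟩ := nonempty_Rfstar_iso_sheafify f J F i
  let P := (Over.pullback f).op ⋙ F.cohomologyPresheaf i
  have hP : Presheaf.IsSheaf (J.over Y)
      ((presheafToSheaf (J'.over Y) AddCommGrpCat.{w}).obj P).obj :=
    (Presheaf.isSheaf_of_iso_iff ((sheafToPresheaf _ _).mapIso (b1 ≪≫ b2))).1 hsh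
  obtain ⟨s⟩ := nonempty_sheafify_iso (SiteCmp.over_le h Y) P hP
  exact ⟨b1 ≪≫ b2 ≪≫ s ≪≫
    ((SiteCmp.epsSh (SiteCmp.over_le h Y) AddCommGrpCat.{w}).mapIso c1).symm⟩

end main

end Groth.Agent.Lib.Helper5.SiteCmpRel
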