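import Mathlib
import Groth.Prelude.Def_SiteCmp
import Groth.Prelude.Def_CohSite
import Groth.Agent.S0487
import Groth.Agent.Lib.Helper5.SiteCmpKill
import Groth.Agent.Lib.Helper5.SiteCmpRel

/-!
# Locally vanishing elements of a presheaf of abelian groups
-/

set_option autoImplicit false

universe u

open CategoryTheory CategoryTheory.Limits Opposite

namespace Groth.Agent.Lib.Helper5.SiteCmpLZ

open Groth.Agent.Lib.Helper5.SiteCmpKill

variable {D : Type u} [SmallCategory D] (K' : GrothendieckTopology D)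

/-- an element of a presheaf which vanishes locally for the topology `K'` -/
def LZ (P : Dᵒᵖ ⥤ AddCommGrpCat.{u}) {U : D} (x : P.obj (op U)) : Prop :=
  ((toSheafify K' P).app (op U)).hom x = 0

variable {K'}

lemma lz_zero (P : Dᵒᵖ ⥤ AddCommGrpCat.{u}) (U : D) : LZ K' P (0 : P.obj (op U)) :=
  map_zero _

lemma lz_add {P : Dᵒᵖ ⥤ AddCommGrpCat.{u}} {U : D} {x y : P.obj (op U)}
    (hx : LZ K' P x) (hy : LZ K' P y) : LZ K' P (x + y) := by
  unfold LZ at *
  rw [map_add, hx, hy, add_zero]

lemma lz_sub {P : Dᵒᵖ ⥤ AddCommGrpCat.{u}} {U : D} {x y : P.obj (op U)}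
    (hx : LZ K' P x) (hy : LZ K' P y) : LZ K' P (x - y) := by
  unfold LZ at *
  rw [map_sub, hx, hy, sub_zero]

lemma lz_map {P P' : Dᵒᵖ ⥤ AddCommGrpCat.{u}} (α : P ⟶ P') {U : D} {x : P.obj (op U)}
    (hx : LZ K' P x) : LZ K' P' ((α.app (op U)).hom x) := by
  unfold LZ at *
  have h := congrArg (fun φ => (φ.app (op U)).hom x) (toSheafify_naturality K' α)
  change ((toSheafify K' P').app (op U)).hom ((α.app (op U)).hom x) =
    ((sheafifyMap K' α).app (op U)).hom (((toSheafify K' P).app (op U)).hom x) at h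
  rw [h, hx, map_zero]

lemma lz_iso {P P' : Dᵒᵖ ⥤ AddCommGrpCat.{u}} (α : P ≅ P') {U : D} (x : P.obj (op U)) :
    LZ K' P' ((α.hom.app (op U)).hom x) ↔ LZ K' P x := by
  constructor
  · intro h
    have h2 := lz_map α.inv h
    have e : (α.inv.app (op U)).hom ((α.hom.app (op U)).hom x) = x := by
      have := congrArg (fun φ => (φ.app (op U)).hom x) α.hom_inv_id
      exact this
    rwa [e] at h2
  · exact lz_map α.hom

lemma lz_res {P : Dᵒᵖ ⥤ AddCommGrpCat.{u}} {U V : D} (g : V ⟶ U) {x : P.obj (op U)}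
    (hx : LZ K' P x) : LZ K' P ((P.map g.op).hom x) := by
  unfold LZ at *
  have h := congrArg (fun φ => φ.hom x) ((toSheafify K' P).naturality g.op)
  change ((toSheafify K' P).app (op V)).hom ((P.map g.op).hom x) =
    ((sheafify K' P).map g.op).hom (((toSheafify K' P).app (op U)).hom x) at h
  rw [h, hx, map_zero]

lemma lz_iff_exists_sieve {P : Dᵒᵖ ⥤ AddCommGrpCat.{u}} {U : D} (x : P.obj (op U)) :
    LZ K' P x ↔ ∃ S ∈ K' U, ∀ ⦃V : D⦄ (g : V ⟶ U), S g → (P.map g.op).hom x = 0 := by
  constructor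
  · intro hx
    have h : (toSheafify K' P).app (op U) x = (toSheafify K' P).app (op U) 0 := by
      change ((toSheafify K' P).app (op U)).hom x = ((toSheafify K' P).app (op U)).hom 0
      rw [hx, map_zero]
    refine ⟨_, Presheaf.equalizerSieve_mem K' (toSheafify K' P) (X := op U) x 0 h, ?_⟩
    intro V g hg
    have hg' : P.map g.op x = P.map g.op 0 := hg
    exact hg'.trans (map_zero _)
  · rintro ⟨S, hS, h⟩
    refine sheaf_ext_zero K' ((presheafToSheaf K' AddCommGrpCat.{u}).obj P) S hS _ ?_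
    intro V g hg
    have h1 := congrArg (fun φ => φ.hom x) ((toSheafify K' P).naturality g.op)
    change ((toSheafify K' P).app (op V)).hom ((P.map g.op).hom x) =
      ((sheafify K' P).map g.op).hom (((toSheafify K' P).app (op U)).hom x) at h1
    rw [← h1, h g hg, map_zero]

lemma lz_of_cover {P : Dᵒᵖ ⥤ AddCommGrpCat.{u}} {U : D} (x : P.obj (op U)) (R : Sieve U)
    (hR : R ∈ K' U) (h : ∀ ⦃V : D⦄ (g : V ⟶ U), R g → LZ K' P ((P.map g.op).hom x)) :
    LZ K' P x := by
  refine sheaf_ext_zero K' ((presheafToSheaf K' AddCommGrpCat.{u}).obj P) R hR _ ?_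
  intro V g hg
  have h1 := congrArg (fun φ => φ.hom x) ((toSheafify K' P).naturality g.op)
  change ((toSheafify K' P).app (op V)).hom ((P.map g.op).hom x) =
    ((sheafify K' P).map g.op).hom (((toSheafify K' P).app (op U)).hom x) at h1
  rw [← h1]
  exact h g hg

lemma isZero_of_sections_eq_zero (G : Sheaf K' AddCommGrpCat.{u})
    (h : ∀ (U : D) (s : G.obj.obj (op U)), s = 0) : IsZero G := by
  rw [IsZero.iff_id_eq_zero]
  apply Sheaf.hom_ext
  apply NatTrans.ext
  funext U
  apply AddCommGrpCat.hom_ext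
  apply AddMonoidHom.ext
  intro s
  exact (h U.unop s).trans (h U.unop _).symm

/-- the sheafification vanishes iff all elements vanish locally -/
theorem isZero_sheafify_iff (P : Dᵒᵖ ⥤ AddCommGrpCat.{u}) :
    IsZero ((presheafToSheaf K' AddCommGrpCat.{u}).obj P) ↔
      ∀ (U : D) (x : P.obj (op U)), LZ K' P x := by
  constructor
  · intro hz U x
    haveI := subsingleton_sections_of_isZero K' hz U
    exact Subsingleton.elim _ _
  · intro h
    apply isZero_of_sections_eq_zero
    intro U s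
    have hs := Presheaf.imageSieve_mem K' (toSheafify K' P) (U := op U) s
    refine sheaf_ext_zero K' ((presheafToSheaf K' AddCommGrpCat.{u}).obj P) _ hs s ?_
    intro V g hg
    obtain ⟨t, ht⟩ := hg
    have : ((toSheafify K' P).app (op V)).hom t = 0 := h V t
    exact ht.symm.trans this

variable {K : GrothendieckTopology D} (h : K' ≤ K)

/-- `R^k ε_* M = 0` iff all classes in `H^k(-, M)` vanish locally for the coarser topology -/
theorem isZero_Reps_iff (M : Sheaf K AddCommGrpCat.{u}) (k : ℕ) :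
    IsZero (((SiteCmp.epsSh h AddCommGrpCat.{u}).rightDerived k).obj M) ↔
      ∀ (U : D) (x : CohSite.HU M k U), LZ K' (M.cohomologyPresheaf k) x := by
  haveI := SiteCmp.idContinuous h
  obtain ⟨φ⟩ := Groth.Agent.S0487.result K K' (𝟭 D) M k
  have e : IsZero (((SiteCmp.epsSh h AddCommGrpCat.{u}).rightDerived k).obj M) ↔
      IsZero ((presheafToSheaf K' AddCommGrpCat.{u}).obj ((𝟭 D).op ⋙ M.cohomologyPresheaf k)) :=
    φ.isZero_iff
  rw [e]
  exact isZero_sheafify_iff ((𝟭 D).op ⋙ M.cohomologyPresheaf k)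

end Groth.Agent.Lib.Helper5.SiteCmpLZ
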