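import Mathlib
import Groth.Prelude.Def_SiteCmp
import Groth.Prelude.Def_WeakSerre
import Groth.Prelude.Def_CohSite
import Groth.Agent.Lib.Helper5.SiteCmpKill
import Groth.Agent.Lib.Helper5.SiteCmpRel
import Groth.Agent.Lib.Helper5.SiteCmpLZ
import Groth.Agent.Lib.Helper5.SiteCmpEdge

/-!
# Comparison of topologies: the core injectivity statement for `R^{n+1} ε_*`
-/

set_option autoImplicit false

universe u

open CategoryTheory CategoryTheory.Limits Opposite

namespace Groth.Agent.Lib.Helper5.SiteCmpCore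

open Groth.Agent.Lib.Helper5.SiteCmpKill Groth.Agent.Lib.Helper5.SiteCmpRel
  Groth.Agent.Lib.Helper5.SiteCmpLZ Groth.Agent.Lib.Helper5.SiteCmpEdge
open Groth.Agent.Lib.Helper22.DimShift

section gen

variable {D : Type u} [SmallCategory D] {K K' : GrothendieckTopology D}

lemma sections_injective_of_mono {G₁ G₂ : Sheaf K' AddCommGrpCat.{u}} (m : G₁ ⟶ G₂) [Mono m]
    (Z : D) : Function.Injective (m.hom.app (op Z)).hom := by
  have h1 : Mono m.hom := (Sheaf.Hom.mono_iff_presheaf_mono K' _ m).1 inferInstance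
  have h2 : Mono (m.hom.app (op Z)) := inferInstance
  exact (AddCommGrpCat.mono_iff_injective _).1 h2

lemma exists_section_lift {G₁ G₂ G₃ : Sheaf K' AddCommGrpCat.{u}} (a : G₁ ⟶ G₂) (b : G₂ ⟶ G₃)
    (w : a ≫ b = 0) [Mono a] (hex : (ShortComplex.mk a b w).Exact) (Z : D)
    (x : G₂.obj.obj (op Z)) (hx : (b.hom.app (op Z)).hom x = 0) :
    ∃ y : G₁.obj.obj (op Z), (a.hom.app (op Z)).hom y = x := by
  let Fun := sheafToPresheaf K' AddCommGrpCat.{u} ⋙
    (evaluation Dᵒᵖ AddCommGrpCat.{u}).obj (op Z)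
  have h1 : ((ShortComplex.mk a b w).map Fun).Exact :=
    hex.map_of_mono_of_preservesKernel Fun (inferInstanceAs (Mono a)) inferInstance
  exact (ShortComplex.ab_exact_iff _).1 h1 x hx

lemma sheafHom_naturality_apply {G₁ G₂ : Sheaf K' AddCommGrpCat.{u}} (ψ : G₁ ⟶ G₂) {A B : D}
    (g : A ⟶ B) (x : G₁.obj.obj (op B)) :
    (ψ.hom.app (op A)).hom ((G₁.obj.map g.op).hom x) =
      (G₂.obj.map g.op).hom ((ψ.hom.app (op B)).hom x) :=
  congrArg (fun θ => θ.hom x) (ψ.hom.naturality g.op)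

lemma map_eq_zero_of_naturality {G₁ G₂ : Sheaf K' AddCommGrpCat.{u}} (ψ : G₁ ⟶ G₂) {A B : D}
    (g : A ⟶ B) (x : G₁.obj.obj (op B)) (hx : (G₁.obj.map g.op).hom x = 0) :
    (G₂.obj.map g.op).hom ((ψ.hom.app (op B)).hom x) = 0 := by
  rw [← sheafHom_naturality_apply, hx, map_zero]

lemma injective_map_of_section {P : Dᵒᵖ ⥤ AddCommGrpCat.{u}} {A B : D} (α : A ⟶ B) (β : B ⟶ A)
    (hβ : β ≫ α = 𝟙 B) : Function.Injective (P.map α.op).hom := by
  have h : P.map α.op ≫ P.map β.op = 𝟙 _ := by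
    rw [← P.map_comp, ← op_comp, hβ, op_id, P.map_id]
  have e : ∀ z : P.obj (op B), (P.map β.op).hom ((P.map α.op).hom z) = z := fun z =>
    congrArg (fun φ => φ.hom z) h
  intro x y hxy
  rw [← e x, ← e y, hxy]

/-- cokernels of maps between sheaves lying over the weak Serre class are computed in the coarser
topology -/
theorem coker_trick (h : K' ≤ K) (A' : ObjectProperty (Sheaf K' AddCommGrpCat.{u}))
    [WSerre.IsWeakSerre A']
    (h3 : ∀ F' : Sheaf K' AddCommGrpCat.{u}, A' F' → Presheaf.IsSheaf K F'.obj)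
    {F₁ F₂ : Sheaf K AddCommGrpCat.{u}} (a : F₁ ⟶ F₂)
    (h₁ : A' ((SiteCmp.epsSh h AddCommGrpCat.{u}).obj F₁))
    (h₂ : A' ((SiteCmp.epsSh h AddCommGrpCat.{u}).obj F₂)) :
    A' ((SiteCmp.epsSh h AddCommGrpCat.{u}).obj (cokernel a)) ∧
      Epi ((SiteCmp.epsSh h AddCommGrpCat.{u}).map (cokernel.π a)) := by
  let ε := SiteCmp.epsSh h AddCommGrpCat.{u}
  let Q' := cokernel (ε.map a)
  have hQ' : A' Q' := A'.prop_cokernel (ε.map a) h₁ h₂
  let Q'' : Sheaf K AddCommGrpCat.{u} := ⟨Q'.obj, h3 Q' hQ'⟩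
  let π'' : F₂ ⟶ Q'' := ⟨(cokernel.π (ε.map a)).hom⟩
  have hπ'' : a ≫ π'' = 0 := by
    apply Sheaf.hom_ext
    exact congrArg (fun φ => φ.hom) (cokernel.condition (ε.map a))
  let d'' : cokernel a ⟶ Q'' := cokernel.desc a π'' hπ''
  let c : Q' ⟶ ε.obj (cokernel a) := cokernel.desc (ε.map a) (ε.map (cokernel.π a))
    (by rw [← ε.map_comp, cokernel.condition, ε.map_zero])
  let d : ε.obj (cokernel a) ⟶ Q' := ⟨d''.hom⟩
  let c'' : Q'' ⟶ cokernel a := ⟨c.hom⟩
  have hc : cokernel.π (ε.map a) ≫ c = ε.map (cokernel.π a) := cokernel.π_desc _ _ _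
  have hd : cokernel.π a ≫ d'' = π'' := cokernel.π_desc _ _ _
  have h1 : c ≫ d = 𝟙 Q' := by
    rw [← cancel_epi (cokernel.π (ε.map a)), ← Category.assoc, hc, Category.comp_id]
    apply Sheaf.hom_ext
    exact congrArg (fun φ => φ.hom) hd
  have h2 : d'' ≫ c'' = 𝟙 (cokernel a) := by
    rw [← cancel_epi (cokernel.π a), ← Category.assoc, hd, Category.comp_id]
    apply Sheaf.hom_ext
    exact congrArg (fun φ => φ.hom) hc
  have h2' : d ≫ c = 𝟙 _ := by
    apply Sheaf.hom_ext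
    exact congrArg (fun φ => φ.hom) h2
  let i : Q' ≅ ε.obj (cokernel a) := ⟨c, d, h1, h2'⟩
  refine ⟨A'.prop_of_iso i hQ', ?_⟩
  have hiso : IsIso c := ⟨d, h1, h2'⟩
  have e : ε.map (cokernel.π a) = cokernel.π (ε.map a) ≫ c := hc.symm
  rw [e]
  infer_instance

lemma isLocallySurjective_toSheafify_of_isSheaf (h : K' ≤ K) (P : Dᵒᵖ ⥤ AddCommGrpCat.{u})
    (hP : Presheaf.IsSheaf K ((presheafToSheaf K' AddCommGrpCat.{u}).obj P).obj) :
    Presheaf.IsLocallySurjective K' (toSheafify K P) := by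
  let PK' := (presheafToSheaf K' AddCommGrpCat.{u}).obj P
  let PK := (presheafToSheaf K AddCommGrpCat.{u}).obj P
  have hPK : Presheaf.IsSheaf K' PK.obj :=
    ((SiteCmp.epsSh h AddCommGrpCat.{u}).obj PK).property
  let a : PK'.obj ⟶ PK.obj := sheafifyLift K' (toSheafify K P) hPK
  let b : PK.obj ⟶ PK'.obj := sheafifyLift K (toSheafify K' P) hP
  have hab : a ≫ b = 𝟙 _ := by
    apply sheafify_hom_ext K' _ _ PK'.property
    rw [← Category.assoc, toSheafify_sheafifyLift, toSheafify_sheafifyLift, Category.comp_id]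
  have hba : b ≫ a = 𝟙 _ := by
    apply sheafify_hom_ext K _ _ PK.property
    rw [← Category.assoc, toSheafify_sheafifyLift, toSheafify_sheafifyLift, Category.comp_id]
  have hiso : IsIso a := ⟨b, hab, hba⟩
  have fac : toSheafify K' P ≫ a = toSheafify K P := toSheafify_sheafifyLift _ _ _
  rw [← fac]
  infer_instance

/-- the cokernel of a pushed forward map stays an epimorphism in the coarser topology, if the
coarse sheafification of the presheaf cokernel is a sheaf for the finer topology -/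
theorem epi_eps_cokernel_push (h : K' ≤ K) (w : D ⥤ D) [w.IsContinuous K K]
    {I B₁ : Sheaf K AddCommGrpCat.{u}} (g : I ⟶ B₁)
    (hsh : Presheaf.IsSheaf K ((presheafToSheaf K' AddCommGrpCat.{u}).obj
      (w.op ⋙ cokernel ((sheafToPresheaf K AddCommGrpCat.{u}).map g))).obj) :
    Epi ((SiteCmp.epsSh h AddCommGrpCat.{u}).map (cokernel.π ((CohSite.push K K w).map g))) := by
  let ε := SiteCmp.epsSh h AddCommGrpCat.{u}
  let ι := sheafToPresheaf K AddCommGrpCat.{u}
  let aK := presheafToSheaf K AddCommGrpCat.{u}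
  let adj := sheafificationAdjunction K AddCommGrpCat.{u}
  let g₁ := (CohSite.push K K w).map g
  let P := cokernel (ι.map g₁)
  -- Step A
  let W := (Functor.whiskeringLeft Dᵒᵖ Dᵒᵖ AddCommGrpCat.{u}).obj w.op
  have eW : W.map (ι.map g) = ι.map g₁ := rfl
  let iA : w.op ⋙ cokernel (ι.map g) ≅ P :=
    PreservesCokernel.iso W (ι.map g) ≪≫ cokernelIsoOfEq eW
  have hP : Presheaf.IsSheaf K ((presheafToSheaf K' AddCommGrpCat.{u}).obj P).obj :=
    (Presheaf.isSheaf_of_iso_iff ((sheafToPresheaf K' _).mapIso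
      ((presheafToSheaf K' AddCommGrpCat.{u}).mapIso iA))).1 hsh
  -- Step B
  haveI hB : Presheaf.IsLocallySurjective K' (toSheafify K P) :=
    isLocallySurjective_toSheafify_of_isSheaf h P hP
  -- Step C
  haveI hC : Presheaf.IsLocallySurjective K' (cokernel.π (ι.map g₁)) := by
    apply Presheaf.isLocallySurjective_of_surjective
    intro U
    have : Epi ((cokernel.π (ι.map g₁)).app U) := inferInstance
    exact (AddCommGrpCat.epi_iff_surjective _).1 this
  -- Step D
  have hD : Presheaf.IsLocallySurjective K' (aK.map (cokernel.π (ι.map g₁))).hom := by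
    have fac : toSheafify K (ι.obj ((CohSite.push K K w).obj B₁)) ≫
        (aK.map (cokernel.π (ι.map g₁))).hom = cokernel.π (ι.map g₁) ≫ toSheafify K P :=
      (toSheafify_naturality K (cokernel.π (ι.map g₁))).symm
    haveI : Presheaf.IsLocallySurjective K' (cokernel.π (ι.map g₁) ≫ toSheafify K P) :=
      inferInstance
    exact Presheaf.isLocallySurjective_of_isLocallySurjective_fac K' fac
  have hD' : Epi (ε.map (aK.map (cokernel.π (ι.map g₁)))) := by
    rw [← Sheaf.isLocallySurjective_iff_epi']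
    exact hD
  -- Step E
  let κ₁ := adj.counit.app ((CohSite.push K K w).obj I)
  let κ₂ := adj.counit.app ((CohSite.push K K w).obj B₁)
  have nat : aK.map (ι.map g₁) ≫ κ₂ = κ₁ ≫ g₁ := adj.counit.naturality g₁
  let mI : cokernel (aK.map (ι.map g₁)) ≅ cokernel g₁ :=
    cokernel.mapIso _ _ (asIso κ₁) (asIso κ₂) nat
  have hm : cokernel.π (aK.map (ι.map g₁)) ≫ mI.hom = κ₂ ≫ cokernel.π g₁ := by
    simp [mI]
  let iE := PreservesCokernel.iso aK (ι.map g₁)
  have hE : aK.map (cokernel.π (ι.map g₁)) ≫ iE.hom = cokernel.π (aK.map (ι.map g₁)) :=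
    PreservesCokernel.π_iso_hom aK (ι.map g₁)
  have key : κ₂ ≫ cokernel.π g₁ = aK.map (cokernel.π (ι.map g₁)) ≫ (iE.hom ≫ mI.hom) := by
    rw [← hm, ← hE, Category.assoc]
  have key' : ε.map κ₂ ≫ ε.map (cokernel.π g₁) =
      ε.map (aK.map (cokernel.π (ι.map g₁))) ≫ ε.map (iE.hom ≫ mI.hom) := by
    rw [← ε.map_comp, ← ε.map_comp, key]
  haveI : Epi (ε.map κ₂ ≫ ε.map (cokernel.π g₁)) := by
    rw [key']
    infer_instance
  exact epi_of_epi (ε.map κ₂) (ε.map (cokernel.π g₁))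

end gen

section core

variable {C : Type u} [SmallCategory C] {J J' : GrothendieckTopology C} (h : J' ≤ J)
  {X Y : C} (f : X ⟶ Y) [HasPullbacksAlong f]

/-- base change to `X` followed by forgetting to `Y` -/
noncomputable abbrev wf : Over Y ⥤ Over Y := Over.pullback f ⋙ Over.map f

/-- `F ↦ f_* f^* F` -/
noncomputable abbrev ΦK (T : GrothendieckTopology C) :
    Sheaf (T.over Y) AddCommGrpCat.{u} ⥤ Sheaf (T.over Y) AddCommGrpCat.{u} :=
  CohSite.push (T.over Y) (T.over Y) (wf f)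

instance (T : GrothendieckTopology C) : PreservesFiniteLimits (ΦK f T) := by
  have : PreservesLimitsOfSize.{0, 0} (Ψ T f) :=
    ((Over.mapPullbackAdj f).sheafPushforwardContinuous (E := AddCommGrpCat.{u})
      (T.over X) (T.over Y)).rightAdjoint_preservesLimits
  have : PreservesFiniteLimits (Ψ T f) := inferInstance
  have e : Φ T f ⋙ Ψ T f ≅ ΦK f T := Iso.refl _
  exact preservesFiniteLimits_of_natIso e

lemma ΦK_injective (T : GrothendieckTopology C) (I : Sheaf (T.over Y) AddCommGrpCat.{u})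
    (hI : Injective I) : Injective ((ΦK f T).obj I) := by
  haveI : Injective ((Φ T f).obj I) := (Φ T f).injective_obj_of_injective hI
  exact Injective.injective_of_adjoint
    ((Over.mapPullbackAdj f).sheafPushforwardContinuous (E := AddCommGrpCat.{u})
      (T.over X) (T.over Y)) ((Φ T f).obj I)

/-- the unit `F → f_* f^* F` -/
noncomputable def unitΦ (T : GrothendieckTopology C) (F : Sheaf (T.over Y) AddCommGrpCat.{u}) :
    F ⟶ (ΦK f T).obj F :=
  ⟨Functor.whiskerRight (NatTrans.op (Over.mapPullbackAdj f).counit) F.obj⟩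

lemma unitΦ_app (T : GrothendieckTopology C) (F : Sheaf (T.over Y) AddCommGrpCat.{u})
    (Z : Over Y) : (unitΦ f T F).hom.app (op Z) =
      F.obj.map ((Over.mapPullbackAdj f).counit.app Z).op := rfl

include h in
lemma hle_dummy : J' ≤ J := h

variable {f}

lemma injective_map_counit
    (hcov : Sieve.ofArrows (fun _ : PUnit.{u + 1} => X) (fun _ => f) ∈ J Y)
    (G : Sheaf (J.over Y) AddCommGrpCat.{u}) (Z : Over Y) :
    Function.Injective (G.obj.map ((Over.mapPullbackAdj f).counit.app Z).op).hom := by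
  rw [injective_iff_map_eq_zero]
  intro x hx
  refine sheaf_ext_zero (J.over Y) G ((Sieve.overEquiv Z).symm
    (Sieve.pullback Z.hom (Sieve.ofArrows (fun _ : PUnit.{u + 1} => X) (fun _ => f))))
    (GrothendieckTopology.overEquiv_symm_mem_over J Z _ (J.pullback_stable Z.hom hcov)) x ?_
  intro V s hs
  rw [Sieve.overEquiv_symm_iff] at hs
  change (Sieve.ofArrows (fun _ : PUnit.{u + 1} => X) (fun _ => f)).arrows (s.left ≫ Z.hom) at hs
  rw [Sieve.mem_ofArrows_iff] at hs
  obtain ⟨-, a, ha⟩ := hs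
  let s' : V ⟶ (wf f).obj Z := Over.homMk (pullback.lift s.left a ha) (by
    have h0 := Over.w s
    change pullback.lift s.left a ha ≫ pullback.snd Z.hom f ≫ f = V.hom
    rw [pullback.lift_snd_assoc, ← ha]
    exact h0)
  have hs' : s = s' ≫ (Over.mapPullbackAdj f).counit.app Z := by
    ext
    simp [s']
    exact (pullback.lift_fst _ _ _).symm
  change (G.obj.map s.op).hom x = 0
  rw [hs', op_comp, G.obj.map_comp]
  change (G.obj.map s'.op).hom ((G.obj.map ((Over.mapPullbackAdj f).counit.app Z).op).hom x) = 0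
  rw [hx, map_zero]

lemma unitΦ_mono (hcov : Sieve.ofArrows (fun _ : PUnit.{u + 1} => X) (fun _ => f) ∈ J Y)
    (F : Sheaf (J.over Y) AddCommGrpCat.{u}) : Mono (unitΦ f J F) := by
  haveI : ∀ Z, Mono ((unitΦ f J F).hom.app Z) := fun Z => by
    rw [AddCommGrpCat.mono_iff_injective]
    exact injective_map_counit hcov F Z.unop
  haveI : Mono (unitΦ f J F).hom := NatTrans.mono_of_mono_app _
  exact Sheaf.Hom.mono_of_presheaf_mono _ _ _

variable (f) in
lemma counit_split (Z : Over Y) :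
    (Over.map f).map ((Over.mapPullbackAdj f).unit.app ((Over.pullback f).obj Z)) ≫
      (wf f).map ((Over.mapPullbackAdj f).counit.app Z) = 𝟙 ((wf f).obj Z) := by
  have h1 := (Over.mapPullbackAdj f).right_triangle_components Z
  change (Over.map f).map _ ≫ (Over.map f).map ((Over.pullback f).map _) = 𝟙 _
  rw [← Functor.map_comp, h1]
  exact (Over.map f).map_id _

section steps

variable (hcov : Sieve.ofArrows (fun _ : PUnit.{u + 1} => X) (fun _ => f) ∈ J Y)
  (A'Y : ObjectProperty (Sheaf (J'.over Y) AddCommGrpCat.{u})) [WSerre.IsWeakSerre A'Y]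
  (h3 : ∀ F' : Sheaf (J'.over Y) AddCommGrpCat.{u}, A'Y F' →
    Presheaf.IsSheaf (J.over Y) F'.obj)

include hcov h3 in
lemma step1 (n : ℕ)
    (hV : ∀ Q : Sheaf (J.over Y) AddCommGrpCat.{u},
      A'Y ((SiteCmp.epsSh (SiteCmp.over_le h Y) AddCommGrpCat.{u}).obj Q) →
      ∀ q : ℕ, 1 ≤ q → q ≤ n →
        IsZero (((SiteCmp.epsSh (SiteCmp.over_le h Y) AddCommGrpCat.{u}).rightDerived q).obj Q))
    (F : Sheaf (J.over Y) AddCommGrpCat.{u})
    (hF : A'Y ((SiteCmp.epsSh (SiteCmp.over_le h Y) AddCommGrpCat.{u}).obj F))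
    (hΦF : A'Y ((SiteCmp.epsSh (SiteCmp.over_le h Y) AddCommGrpCat.{u}).obj ((ΦK f J).obj F))) :
    Mono (((SiteCmp.epsSh (SiteCmp.over_le h Y) AddCommGrpCat.{u}).rightDerived (n + 1)).map
      (unitΦ f J F)) := by
  haveI := unitΦ_mono hcov F
  let SF : ShortComplex (Sheaf (J.over Y) AddCommGrpCat.{u}) :=
    ShortComplex.mk (unitΦ f J F) (cokernel.π (unitΦ f J F)) (cokernel.condition _)
  have hSF : SF.ShortExact := { exact := ShortComplex.exact_cokernel _ }
  obtain ⟨hQ, hQepi⟩ := coker_trick (SiteCmp.over_le h Y) A'Y h3 (unitΦ f J F) hF hΦF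
  apply mono_rightDerived_map_f (SiteCmp.epsSh (SiteCmp.over_le h Y) AddCommGrpCat.{u}) SF hSF n
  cases n with
  | zero =>
    right
    exact epi_rightDerived_zero_map _ _ hQepi
  | succ m =>
    left
    exact hV _ hQ (m + 1) (by omega) le_rfl

include h3 in
lemma step2 (n : ℕ)
    (hV : ∀ Q : Sheaf (J.over Y) AddCommGrpCat.{u},
      A'Y ((SiteCmp.epsSh (SiteCmp.over_le h Y) AddCommGrpCat.{u}).obj Q) →
      ∀ q : ℕ, 1 ≤ q → q ≤ n →
        IsZero (((SiteCmp.epsSh (SiteCmp.over_le h Y) AddCommGrpCat.{u}).rightDerived q).obj Q))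
    (F : Sheaf (J.over Y) AddCommGrpCat.{u})
    (hRK : ∀ q : ℕ, 1 ≤ q → q < n →
      A'Y ((SiteCmp.epsSh (SiteCmp.over_le h Y) AddCommGrpCat.{u}).obj
        (((ΦK f J).rightDerived q).obj F)))
    (hsh : 1 ≤ n → Presheaf.IsSheaf (J.over Y)
      ((presheafToSheaf (J'.over Y) AddCommGrpCat.{u}).obj
        ((wf f).op ⋙ F.cohomologyPresheaf n)).obj) :
    ∃ j : ((SiteCmp.epsSh (SiteCmp.over_le h Y) AddCommGrpCat.{u}).rightDerived (n + 1)).obj
        ((ΦK f J).obj F) ⟶
      ((ΦK f J ⋙ SiteCmp.epsSh (SiteCmp.over_le h Y) AddCommGrpCat.{u}).rightDerived (n + 1)).obj F,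
      Mono j := by
  apply exists_mono_dualEdge (ΦK f J) (SiteCmp.epsSh (SiteCmp.over_le h Y) AddCommGrpCat.{u})
    (ΦK f J ⋙ SiteCmp.epsSh (SiteCmp.over_le h Y) AddCommGrpCat.{u}) (Iso.refl _)
    (ΦK_injective f J) n F
  · intro p q hp hq hpq
    exact hV _ (hRK q hq (by omega)) p hp (by omega)
  · intro hn
    obtain ⟨m, rfl⟩ : ∃ m, n = m + 1 := ⟨n - 1, by omega⟩
    apply epi_eps_cokernel_push (SiteCmp.over_le h Y) (wf f)
    let ι := sheafToPresheaf (J.over Y) AddCommGrpCat.{u}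
    let B : Sheaf (J.over Y) AddCommGrpCat.{u} := syz m F
    have i1 := (rightDerivedOneIso ι (injSC B) (injSC_shortExact B)).symm
    obtain ⟨i2⟩ := nonempty_syz_iso ι m 0 F
    have e : 0 + 1 + m = m + 1 := by omega
    rw [e] at i2
    have i3 := derivedIotaIso (J.over Y) F (m + 1)
    let i : cokernel (ι.map (injSC B).g) ≅ F.cohomologyPresheaf (m + 1) := i1 ≪≫ i2 ≪≫ i3
    exact (Presheaf.isSheaf_of_iso_iff ((sheafToPresheaf (J'.over Y) _).mapIso
      ((presheafToSheaf (J'.over Y) AddCommGrpCat.{u}).mapIso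
        (Functor.isoWhiskerLeft (wf f).op i)))).2 (hsh (by omega))

lemma step3 (n : ℕ) (F : Sheaf (J.over Y) AddCommGrpCat.{u})
    (hVF : ∀ q : ℕ, 1 ≤ q → q ≤ n →
      IsZero (((SiteCmp.epsSh (SiteCmp.over_le h Y) AddCommGrpCat.{u}).rightDerived q).obj F)) :
    ∃ (a : ((ΦK f J').rightDerived (n + 1)).obj
          ((SiteCmp.epsSh (SiteCmp.over_le h Y) AddCommGrpCat.{u}).obj F) ⟶
        ((ΦK f J ⋙ SiteCmp.epsSh (SiteCmp.over_le h Y) AddCommGrpCat.{u}).rightDerived
          (n + 1)).obj F)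
      (b : ((ΦK f J ⋙ SiteCmp.epsSh (SiteCmp.over_le h Y) AddCommGrpCat.{u}).rightDerived
          (n + 1)).obj F ⟶
        (ΦK f J').obj (((SiteCmp.epsSh (SiteCmp.over_le h Y) AddCommGrpCat.{u}).rightDerived
          (n + 1)).obj F))
      (w : a ≫ b = 0), Mono a ∧ (ShortComplex.mk a b w).Exact :=
  exists_edge_exact (SiteCmp.epsSh (SiteCmp.over_le h Y) AddCommGrpCat.{u}) (ΦK f J')
    (ΦK f J ⋙ SiteCmp.epsSh (SiteCmp.over_le h Y) AddCommGrpCat.{u}) (Iso.refl _)
    (epsSh_injective (SiteCmp.over_le h Y)) n F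
    (fun q hq => hVF (q + 1) (by omega) (by omega))

include hcov h3 in
/-- **Core statement**: a section of `R^{n+1}ε_* F` which dies on the base change to `X` is zero. -/
theorem core (n : ℕ)
    (hV : ∀ Q : Sheaf (J.over Y) AddCommGrpCat.{u},
      A'Y ((SiteCmp.epsSh (SiteCmp.over_le h Y) AddCommGrpCat.{u}).obj Q) →
      ∀ q : ℕ, 1 ≤ q → q ≤ n →
        IsZero (((SiteCmp.epsSh (SiteCmp.over_le h Y) AddCommGrpCat.{u}).rightDerived q).obj Q))
    (F : Sheaf (J.over Y) AddCommGrpCat.{u})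
    (hF : A'Y ((SiteCmp.epsSh (SiteCmp.over_le h Y) AddCommGrpCat.{u}).obj F))
    (hΦF : A'Y ((SiteCmp.epsSh (SiteCmp.over_le h Y) AddCommGrpCat.{u}).obj ((ΦK f J).obj F)))
    (hR : A'Y (((ΦK f J').rightDerived (n + 1)).obj
      ((SiteCmp.epsSh (SiteCmp.over_le h Y) AddCommGrpCat.{u}).obj F)))
    (hRK : ∀ q : ℕ, 1 ≤ q → q < n →
      A'Y ((SiteCmp.epsSh (SiteCmp.over_le h Y) AddCommGrpCat.{u}).obj
        (((ΦK f J).rightDerived q).obj F)))
    (hsh : 1 ≤ n → Presheaf.IsSheaf (J.over Y)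
      ((presheafToSheaf (J'.over Y) AddCommGrpCat.{u}).obj
        ((wf f).op ⋙ F.cohomologyPresheaf n)).obj)
    (Z : Over Y)
    (s : (((SiteCmp.epsSh (SiteCmp.over_le h Y) AddCommGrpCat.{u}).rightDerived (n + 1)).obj
      F).obj.obj (op Z))
    (hs : ((((SiteCmp.epsSh (SiteCmp.over_le h Y) AddCommGrpCat.{u}).rightDerived (n + 1)).obj
      F).obj.map ((Over.mapPullbackAdj f).counit.app Z).op).hom s = 0) : s = 0 := by
  let ε := SiteCmp.epsSh (SiteCmp.over_le h Y) AddCommGrpCat.{u}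
  let G := (ε.rightDerived (n + 1)).obj F
  let εZ := (Over.mapPullbackAdj f).counit.app Z
  let m := (ε.rightDerived (n + 1)).map (unitΦ f J F)
  haveI hm : Mono m := step1 h hcov A'Y h3 n hV F hF hΦF
  obtain ⟨j, hj⟩ := step2 h A'Y h3 n hV F hRK hsh
  obtain ⟨a, b, w, ha, hex⟩ := step3 h (f := f) n F (hV F hF)
  haveI := hj
  haveI := ha
  let G' := ((ΦK f J').rightDerived (n + 1)).obj (ε.obj F)
  -- the image of `s`
  let s₁ := (m.hom.app (op Z)).hom s
  let s₂ := (j.hom.app (op Z)).hom s₁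
  let t := (b.hom.app (op Z)).hom s₂
  have hs₂ : ((((ΦK f J ⋙ ε).rightDerived (n + 1)).obj F).obj.map εZ.op).hom s₂ = 0 :=
    map_eq_zero_of_naturality j εZ _ (map_eq_zero_of_naturality m εZ s hs)
  have ht : t = 0 := by
    have h1 : (((ΦK f J').obj G).obj.map εZ.op).hom t = 0 :=
      map_eq_zero_of_naturality b εZ s₂ hs₂
    have h2 : Function.Injective (((ΦK f J').obj G).obj.map εZ.op).hom :=
      injective_map_of_section (P := G.obj) ((wf f).map εZ)
        ((Over.map f).map ((Over.mapPullbackAdj f).unit.app ((Over.pullback f).obj Z)))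
        (counit_split f Z)
    exact h2 (h1.trans (map_zero _).symm)
  obtain ⟨s', hs'⟩ := exists_section_lift a b w hex Z s₂ ht
  have h5 : (G'.obj.map εZ.op).hom s' = 0 := by
    apply sections_injective_of_mono a ((wf f).obj Z)
    have e := sheafHom_naturality_apply a εZ s'
    exact e.trans ((congrArg (fun y => ((((ΦK f J ⋙ ε).rightDerived (n + 1)).obj F).obj.map
      εZ.op).hom y) hs').trans (hs₂.trans (map_zero _).symm))
  have hG'sh : Presheaf.IsSheaf (J.over Y) G'.obj := h3 G' hR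
  have h6 : s' = 0 :=
    injective_map_counit hcov ⟨G'.obj, hG'sh⟩ Z (h5.trans (map_zero _).symm)
  have h7 : s₂ = 0 := by rw [← hs', h6, map_zero]
  have h8 : s₁ = 0 := sections_injective_of_mono j Z (h7.trans (map_zero _).symm)
  exact sections_injective_of_mono m Z (h8.trans (map_zero _).symm)

end steps

end core

end Groth.Agent.Lib.Helper5.SiteCmpCore
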