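import Mathlib
import Groth.Agent.Lib.Helper17.SG6
import Groth.Agent.Lib.Helper17.RAdjEquiv
import Groth.Agent.Lib.Helper17.DProdW
import Groth.Agent.Lib.Helper28.DCohRes1

/-!
# Unbounded equivalences `D_{A'} ≃ D_A` from an exact functor and its derived right adjoint,
under cohomological-dimension hypotheses on both sites (abstract core of S9070)
-/

set_option autoImplicit false
set_option linter.unusedSectionVars false
set_option linter.style.haveILetI false

universe w' w u

open CategoryTheory Limits Opposite Pretriangulated DerivedCategory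

namespace Groth.Agent.Lib.Helper5.SiteCmpDer1

section Rlim

variable {T : Type*} [Category T] [Preadditive T] [HasZeroObject T] [HasShift T ℤ]
  [∀ n : ℤ, (shiftFunctor T n).Additive] [Pretriangulated T]
  {T' : Type*} [Category T'] [Preadditive T'] [HasZeroObject T'] [HasShift T' ℤ]
  [∀ n : ℤ, (shiftFunctor T' n).Additive] [Pretriangulated T']

/-- a triangulated functor preserving the relevant product preserves derived limits -/
theorem isRlimVia_map (R : T ⥤ T') [R.CommShift ℤ] [R.IsTriangulated] [R.Additive]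
    (K : ℕ → T) (t : ∀ n, K (n + 1) ⟶ K n) [HasProduct K]
    [HasProduct fun n => R.obj (K n)] [PreservesLimit (Discrete.functor K) R]
    (X : T) (a : ∀ n, X ⟶ K n) (h : CohCx.IsRlimVia K t X a) :
    CohCx.IsRlimVia (fun n => R.obj (K n)) (fun n => R.map (t n)) (R.obj X)
      (fun n => R.map (a n)) := by
  obtain ⟨c, hc⟩ := h
  let e : R.obj (∏ᶜ K) ≅ ∏ᶜ fun n => R.obj (K n) := PreservesProduct.iso R K
  have he : ∀ n, e.hom ≫ Pi.π (fun n => R.obj (K n)) n = R.map (Pi.π K n) := fun n => by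
    simp [e]
  have c1 : R.map (Pi.lift a) ≫ e.hom = Pi.lift (fun n => R.map (a n)) := by
    apply Pi.hom_ext
    intro n
    rw [Category.assoc, he, ← Functor.map_comp, Pi.lift_π, Pi.lift_π]
  have c2 : R.map (Pi.lift fun n => Pi.π K n - Pi.π K (n + 1) ≫ t n) ≫ e.hom =
      e.hom ≫ Pi.lift (fun n => Pi.π (fun n => R.obj (K n)) n -
        Pi.π (fun n => R.obj (K n)) (n + 1) ≫ R.map (t n)) := by
    apply Pi.hom_ext
    intro n
    rw [Category.assoc, he, ← Functor.map_comp, Pi.lift_π, Category.assoc, Pi.lift_π,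
      Preadditive.comp_sub, he, ← Category.assoc, he, Functor.map_sub, Functor.map_comp]
  refine ⟨e.inv ≫ R.map c ≫ (R.commShiftIso (1 : ℤ)).hom.app X, ?_⟩
  refine isomorphic_distinguished _ (R.map_distinguished _ hc) _ ?_
  refine (Triangle.isoMk (R.mapTriangle.obj (Triangle.mk (Pi.lift a)
      (Pi.lift fun n => Pi.π K n - Pi.π K (n + 1) ≫ t n) c))
    (Triangle.mk (Pi.lift fun n => R.map (a n))
      (Pi.lift fun n => Pi.π (fun n => R.obj (K n)) n -
        Pi.π (fun n => R.obj (K n)) (n + 1) ≫ R.map (t n))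
      (e.inv ≫ R.map c ≫ (R.commShiftIso (1 : ℤ)).hom.app X)) (Iso.refl _) e e ?_ ?_ ?_).symm
  · change R.map (Pi.lift a) ≫ e.hom = 𝟙 _ ≫ Pi.lift (fun n => R.map (a n))
    rw [Category.id_comp]
    exact c1
  · exact c2
  · change (R.map c ≫ (R.commShiftIso (1 : ℤ)).hom.app X) ≫
        (shiftFunctor T' (1 : ℤ)).map (𝟙 (R.obj X)) =
      e.hom ≫ e.inv ≫ R.map c ≫ (R.commShiftIso (1 : ℤ)).hom.app X
    rw [CategoryTheory.Functor.map_id, Iso.hom_inv_id_assoc]
    exact Category.comp_id _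

/-- a right adjoint of a triangulated functor preserves derived limits -/
theorem isRlimVia_map_of_adj {L : T' ⥤ T} {R : T ⥤ T'} (adj : L ⊣ R) [L.Additive]
    [L.CommShift ℤ] [L.IsTriangulated]
    (K : ℕ → T) (t : ∀ n, K (n + 1) ⟶ K n) [HasProduct K]
    [HasProduct fun n => R.obj (K n)]
    (X : T) (a : ∀ n, X ⟶ K n) (h : CohCx.IsRlimVia K t X a) :
    CohCx.IsRlimVia (fun n => R.obj (K n)) (fun n => R.map (t n)) (R.obj X)
      (fun n => R.map (a n)) := by
  letI := adj.rightAdjointCommShift ℤ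
  haveI := adj.commShift_of_leftAdjoint ℤ
  haveI : R.IsTriangulated := adj.isTriangulated_rightAdjoint
  haveI : R.Additive := adj.right_adjoint_additive
  haveI : PreservesLimitsOfSize.{0, 0} R := adj.rightAdjoint_preservesLimits
  exact isRlimVia_map R K t X a h

end Rlim

section Reflect

variable {A : Type*} [Category A] {B : Type*} [Category B] (F : A ⥤ B)
  (PA : ObjectProperty A)
  (h2b : ∀ M M' : A, PA M → PA M' → Function.Bijective (fun φ : M ⟶ M' => F.map φ))

include h2b in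
lemma isIso_of_isIso_map {M M' : A} (hM : PA M) (hM' : PA M') (φ : M ⟶ M')
    (h : IsIso (F.map φ)) : IsIso φ := by
  obtain ⟨ψ, hψ⟩ := (h2b M' M hM' hM).2 (inv (F.map φ))
  have hψ' : F.map ψ = inv (F.map φ) := hψ
  refine ⟨ψ, (h2b M M hM hM).1 ?_, (h2b M' M' hM' hM').1 ?_⟩
  · show F.map (φ ≫ ψ) = F.map (𝟙 M)
    rw [F.map_comp, hψ', IsIso.hom_inv_id, F.map_id]
  · show F.map (ψ ≫ φ) = F.map (𝟙 M')
    rw [F.map_comp, hψ', IsIso.inv_hom_id, F.map_id]

end Reflect

section Core

open Groth.Agent.Lib.Helper17.SG1 Groth.Agent.Lib.Helper17.SG2 Groth.Agent.Lib.Helper17.SG6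
open Groth.Agent.Lib.Helper17.RAdjEquiv Groth.Agent.Lib.Helper17.RAdjTri
open Groth.Agent.Lib.Helper17.RL2 Groth.Agent.Lib.Helper17.RL4 Groth.Agent.Lib.Helper17.RL5
open Groth.Agent.Lib.Helper9 Groth.Agent.Lib.Helper28.DCohRes WSerre

variable {C : Type u} [SmallCategory C] {J : GrothendieckTopology C}
  {D : Type u} [SmallCategory D] {K : GrothendieckTopology D}
  {A : Type (u + 1)} [Category.{u} A] [Abelian A] [IsGrothendieckAbelian.{u} A]
  [HasDerivedCategory.{w} A] [HasExt.{w'} A]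
  {B : Type (u + 1)} [Category.{u} B] [Abelian B] [IsGrothendieckAbelian.{u} B]
  [HasDerivedCategory.{w} B] [HasExt.{w'} B]
  (sgA : SiteGens K A) (sgB : SiteGens J B)
  {F : A ⥤ B} [F.Additive] [PreservesFiniteLimits F] [PreservesFiniteColimits F]
  {R : DerivedCategory B ⥤ DerivedCategory A} (adj : F.mapDerivedCategory ⊣ R)
  (PA : ObjectProperty A) [IsWeakSerre PA] (PB : ObjectProperty B) [IsWeakSerre PB]
  (h2a : ∀ M : A, PA M → PB (F.obj M))
  (h2b : ∀ M M' : A, PA M → PA M' → Function.Bijective (fun φ : M ⟶ M' => F.map φ))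
  (h2c : ∀ N : B, PB N → ∃ M : A, PA M ∧ Nonempty (F.obj M ≅ N))
  (h3 : ∀ M : A, PA M → IsIso (adj.unit.app ((singleFunctor A 0).obj M)))
  (BC : Set C) (BD : Set D)
  (hBJ : ∀ U : C, ∃ (ι : Type u) (Y : ι → C) (g : ∀ i, Y i ⟶ U),
    Sieve.ofArrows Y g ∈ J U ∧ ∀ i, Y i ∈ BC)
  (hAJ : ∀ V ∈ BC, ∃ d : ℕ, ∀ T ∈ J V, ∃ (ι : Type u) (Y : ι → C) (g : ∀ i, Y i ⟶ V),
    (∀ i, T.arrows (g i)) ∧ Sieve.ofArrows Y g ∈ J V ∧
    ∀ (i : ι) (N : B), PB N → ∀ k : ℕ, d < k →
      Subsingleton (Abelian.Ext.{w'} (sgB.G (Y i)) N k))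
  (hBK : ∀ U : D, ∃ (ι : Type u) (Y : ι → D) (g : ∀ i, Y i ⟶ U),
    Sieve.ofArrows Y g ∈ K U ∧ ∀ i, Y i ∈ BD)
  (hAK : ∀ V ∈ BD, ∃ d : ℕ, ∀ T ∈ K V, ∃ (ι : Type u) (Y : ι → D) (g : ∀ i, Y i ⟶ V),
    (∀ i, T.arrows (g i)) ∧ Sieve.ofArrows Y g ∈ K V ∧
    ∀ (i : ι) (M : A), PA M → ∀ k : ℕ, d < k →
      Subsingleton (Abelian.Ext.{w'} (sgA.G (Y i)) M k))

include hBJ hAJ in
/-- `X = R lim τ_{≥ -n} X` for `X` with cohomology in `PB`. -/
theorem isRlimVia_truncTower_of_cohIn (X : DerivedCategory B) (hX : cohIn PB X)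
    [HasProduct (CohCx.truncTower X)] :
    CohCx.IsRlimVia (CohCx.truncTower X) (CohCx.truncTowerMap X) X (CohCx.toTruncTower X) := by
  apply isRlimVia_truncTower_gens.{w'} sgB X BC hBJ
  intro V hV
  obtain ⟨d, hd⟩ := hAJ V hV
  refine ⟨fun _ => (d : ℤ), fun T hT => ?_⟩
  obtain ⟨ι, Y, g, hgT, hcov, hv⟩ := hd T hT
  refine ⟨ι, Y, g, hgT, hcov, fun i m k hk => ?_⟩
  exact hv i _ (hX (m - k)) k (Int.ofNat_lt.mp hk)

lemma cohInPlus_truncTower (X : DerivedCategory B) (hX : cohIn PB X) (n : ℕ) :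
    cohInPlus PB (CohCx.truncTower X n) :=
  ⟨prop_homology_truncGE PB (fun Z hZ => PB.prop_of_isZero hZ) X _ hX, -(n : ℤ),
    (inferInstance : ((TStructure.t.truncGE (-(n : ℤ))).obj X).IsGE (-(n : ℤ)))⟩

lemma isIso_homology_truncTowerMap (X : DerivedCategory B) (j : ℤ) (n : ℕ) (hn : -(n : ℤ) ≤ j) :
    IsIso ((homologyFunctor B j).map (CohCx.truncTowerMap X n)) := by
  have h1 : CohCx.toTruncTower X (n + 1) ≫ CohCx.truncTowerMap X n = CohCx.toTruncTower X n := by
    dsimp [CohCx.toTruncTower, CohCx.truncTowerMap]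
    simp
  have h2 := isIso_homology_truncGEπ X (-((n + 1 : ℕ) : ℤ)) j (by push_cast; omega)
  have h3 := isIso_homology_truncGEπ X (-(n : ℤ)) j hn
  have h4 : (homologyFunctor B j).map (CohCx.toTruncTower X (n + 1)) ≫
      (homologyFunctor B j).map (CohCx.truncTowerMap X n) =
      (homologyFunctor B j).map (CohCx.toTruncTower X n) := by
    rw [← Functor.map_comp, h1]
  exact IsIso.of_isIso_fac_left h4

omit [IsGrothendieckAbelian.{u} A] [HasExt.{w'} A] [IsGrothendieckAbelian.{u} B] [HasExt.{w'} B] in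
lemma isIso_map_homology_of_isIso (F : A ⥤ B) [F.Additive] [PreservesFiniteLimits F]
    [PreservesFiniteColimits F] {K₁ K₂ : DerivedCategory A} (φ : K₁ ⟶ K₂) (j : ℤ)
    (h : IsIso ((homologyFunctor B j).map (F.mapDerivedCategory.map φ))) :
    IsIso (F.map ((homologyFunctor A j).map φ)) := by
  have hn := (mapDHomologyIso F j).hom.naturality φ
  dsimp at hn
  have h5 : F.map ((homologyFunctor A j).map φ) =
      (mapDHomologyIso F j).inv.app K₁ ≫ (homologyFunctor B j).map
        (F.mapDerivedCategory.map φ) ≫ (mapDHomologyIso F j).hom.app K₂ := by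
    rw [hn]
    simp
  rw [h5]
  infer_instance

include adj h2b h2c h3 hBJ hAJ hBK hAK in
/-- **counit part**: for `X ∈ D_{PB}`, `R X ∈ D_{PA}` and the counit is invertible. -/
theorem counit_part_unbounded (X : DerivedCategory B) (hX : cohIn PB X) :
    cohIn PA (R.obj X) ∧ IsIso (adj.counit.app X) := by
  haveI : HasProducts.{u} (DerivedCategory A) :=
    Groth.Agent.Lib.Helper17.DProdW.derivedCategory_hasProducts
  haveI : HasProducts.{u} (DerivedCategory B) :=
    Groth.Agent.Lib.Helper17.DProdW.derivedCategory_hasProducts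
  haveI : HasProducts.{0} (DerivedCategory A) := has_smallest_products_of_hasProducts
  haveI : HasProducts.{0} (DerivedCategory B) := has_smallest_products_of_hasProducts
  have hL := isRlimVia_truncTower_of_cohIn sgB PB BC hBJ hAJ X hX
  have hRL := isRlimVia_map_of_adj adj (CohCx.truncTower X) (CohCx.truncTowerMap X) X
    (CohCx.toTruncTower X) hL
  have hEn := cohInPlus_truncTower PB X hX
  have hREn : ∀ n, cohInPlus PA (R.obj (CohCx.truncTower X n)) := fun n =>
    cohInPlus_R adj PB PA h2c h3 _ (hEn n)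
  have hcn : ∀ n, IsIso (adj.counit.app (CohCx.truncTower X n)) := fun n =>
    counit_part adj PB PA h2c h3 _ (hEn n)
  have hconst : ∀ j : ℤ, ∃ n₀ : ℕ, ∀ n, n₀ ≤ n →
      IsIso ((homologyFunctor A j).map (R.map (CohCx.truncTowerMap X n))) := by
    intro j
    refine ⟨(-j).toNat, fun n hn => ?_⟩
    have h1 := isIso_homology_truncTowerMap X j n (by omega)
    have hnat := adj.counit.naturality (CohCx.truncTowerMap X n)
    dsimp at hnat
    haveI := hcn n
    haveI := hcn (n + 1)
    have h2 : F.mapDerivedCategory.map (R.map (CohCx.truncTowerMap X n)) =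
        adj.counit.app (CohCx.truncTower X (n + 1)) ≫ CohCx.truncTowerMap X n ≫
          inv (adj.counit.app (CohCx.truncTower X n)) := by
      rw [← reassoc_of% hnat, IsIso.hom_inv_id, Category.comp_id]
    have h3' : IsIso ((homologyFunctor B j).map
        (F.mapDerivedCategory.map (R.map (CohCx.truncTowerMap X n)))) := by
      rw [h2, Functor.map_comp, Functor.map_comp]
      infer_instance
    have h4 := isIso_map_homology_of_isIso F (R.map (CohCx.truncTowerMap X n)) j h3'
    exact isIso_of_isIso_map F PA h2b ((hREn (n + 1)).1 j) ((hREn n).1 j) _ h4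
  have hK : ∀ n, (∀ q : ℤ, PA ((homologyFunctor A q).obj (R.obj (CohCx.truncTower X n)))) ∧
      ∃ c : ℤ, (R.obj (CohCx.truncTower X n)).IsGE c := fun n => by
    obtain ⟨h1, h2⟩ := (ObjectProperty.prop_inf_iff _ _ _).1 (hREn n)
    exact ⟨h1, h2⟩
  have hmain := fun j => isIso_homology_rlim_of_eventually_constant.{w'} sgA PA BD hBK hAK
    (fun n => R.obj (CohCx.truncTower X n)) (fun n => R.map (CohCx.truncTowerMap X n)) hK hconst
    (R.obj X) (fun n => R.map (CohCx.toTruncTower X n)) hRL j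
  refine ⟨fun j => ?_, ?_⟩
  · obtain ⟨n₀, hn₀⟩ := hmain j
    haveI := hn₀ n₀ le_rfl
    exact PA.prop_of_iso (asIso ((homologyFunctor A j).map
      (R.map (CohCx.toTruncTower X n₀)))).symm ((hREn n₀).1 j)
  · rw [DerivedCategory.isIso_iff]
    intro j
    obtain ⟨n₀, hn₀⟩ := hmain j
    obtain ⟨n, hn1, hn2⟩ : ∃ n : ℕ, n₀ ≤ n ∧ (-j).toNat ≤ n :=
      ⟨max n₀ (-j).toNat, le_max_left _ _, le_max_right _ _⟩
    have h1 := hn₀ n hn1
    have h2 : IsIso ((homologyFunctor B j).map (CohCx.toTruncTower X n)) :=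
      isIso_homology_truncGEπ X (-(n : ℤ)) j (by omega)
    haveI := hcn n
    have h3' := isIso_homology_map_mapDerivedCategory F (R.map (CohCx.toTruncTower X n)) j h1
    have hnat := adj.counit.naturality (CohCx.toTruncTower X n)
    dsimp at hnat
    have h4 : (homologyFunctor B j).map (adj.counit.app X) ≫
        (homologyFunctor B j).map (CohCx.toTruncTower X n) =
        (homologyFunctor B j).map (F.mapDerivedCategory.map (R.map (CohCx.toTruncTower X n))) ≫
          (homologyFunctor B j).map (adj.counit.app _) := by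
      rw [← Functor.map_comp, ← Functor.map_comp, hnat]
    have h5 : IsIso ((homologyFunctor B j).map (adj.counit.app X) ≫
        (homologyFunctor B j).map (CohCx.toTruncTower X n)) := by
      rw [h4]
      infer_instance
    exact IsIso.of_isIso_comp_right _ ((homologyFunctor B j).map (CohCx.toTruncTower X n))

include adj h2a h2b h2c h3 hBJ hAJ hBK hAK in
/-- **unit part**: for `Y ∈ D_{PA}`, `L Y ∈ D_{PB}` and the unit is invertible. -/
theorem unit_part_unbounded (Y : DerivedCategory A) (hY : cohIn PA Y) :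
    cohIn PB (F.mapDerivedCategory.obj Y) ∧ IsIso (adj.unit.app Y) := by
  have hLY : cohIn PB (F.mapDerivedCategory.obj Y) := cohIn_map PB PA h2a Y hY
  refine ⟨hLY, ?_⟩
  obtain ⟨hRX, hcX⟩ := counit_part_unbounded sgA sgB adj PA PB h2b h2c h3 BC BD hBJ hAJ hBK hAK
    _ hLY
  have htri := adj.left_triangle_components Y
  have hLu : IsIso (F.mapDerivedCategory.map (adj.unit.app Y)) := by
    haveI := hcX
    have h0 : F.mapDerivedCategory.map (adj.unit.app Y) =
        inv (adj.counit.app (F.mapDerivedCategory.obj Y)) := by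
      refine (cancel_mono (adj.counit.app (F.mapDerivedCategory.obj Y))).1 ?_
      rw [htri, IsIso.inv_hom_id]
      rfl
    rw [h0]
    infer_instance
  rw [DerivedCategory.isIso_iff]
  intro j
  have h1 : IsIso ((homologyFunctor B j).map (F.mapDerivedCategory.map (adj.unit.app Y))) :=
    inferInstance
  have h4 := isIso_map_homology_of_isIso F (adj.unit.app Y) j h1
  exact isIso_of_isIso_map F PA h2b (hY j) (hRX j) _ h4

end Core

end Groth.Agent.Lib.Helper5.SiteCmpDer1
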