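import Mathlib
import Groth.Agent.Lib.Helper17.SG6
import Groth.Agent.Lib.Helper17.RFAmp
import Groth.Agent.Lib.Helper5.SiteCmpDer1

/-!
# `H^j(Rf_* K) ≅ H^j(Rf_* τ_{≥ -n} K)` for `j ≥ N - n` (abstract core of S9066)

Local criteria on the cohomology objects of `RF L` for a right adjoint `G = f_*`, "across" the
functor: sections of `H^m(RF L)` over site generators `G_V` of the target are controlled by
`Hom(S_0 (P G_V), L[m])` in the source, where `P ⊣ G`.
-/

set_option autoImplicit false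
set_option linter.unusedSectionVars false
set_option linter.style.haveILetI false

universe w' w w₁ w₂ v v₁ v₂ u u₁ u₂

open CategoryTheory Limits Opposite Pretriangulated DerivedCategory

namespace Groth.Agent.Lib.Helper5.SiteCmpDer2

open Groth.Agent.Lib.Helper17.SG1 Groth.Agent.Lib.Helper17.SG2 Groth.Agent.Lib.Helper17.SG6
open Groth.Agent.Lib.Helper17.HDU1 Groth.Agent.Lib.Helper17.RL1 Groth.Agent.Lib.Helper17.RL2
open Groth.Agent.Lib.Helper17.RFTri Groth.Agent.Lib.Helper17.DerKInj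
open Groth.Agent.Lib.Helper17.RFAmp WSerre

section Across

variable {D : Type u} [Category.{v} D] {K : GrothendieckTopology D}
  {A : Type u₁} [Category.{v₁} A] [Abelian A] [IsGrothendieckAbelian.{v₁} A]
  [HasDerivedCategory.{w₁} A]
  {B : Type u₂} [Category.{v₂} B] [Abelian B] [HasDerivedCategory.{w₂} B]
  (sg : SiteGens K B) {P : B ⥤ A} {G : A ⥤ B} (adj : P ⊣ G) [G.Additive] [P.Additive]
  [(Φ G).HasRightDerivedFunctor (HomotopyCategory.quasiIso A (ComplexShape.up ℤ))]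

lemma homEquiv_symm_zero (X : B) (Y : A) : (adj.homEquiv X Y).symm 0 = 0 := by
  rw [adj.homEquiv_counit, P.map_zero, zero_comp]

/-- K-injective models of a morphism and the induced description of `H^m(RF φ)`. -/
lemma exists_model {L L' : DerivedCategory A} (φ : L ⟶ L') (m : ℤ) :
    ∃ (IL IK : CochainComplex A ℤ) (_ : IL.IsKInjective) (_ : IK.IsKInjective) (ψ : IL ⟶ IK)
      (eL : L ≅ Q.obj IL) (eK : L' ≅ Q.obj IK)
      (eHL : (homologyFunctor B m).obj ((RF G).obj L) ≅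
        ((G.mapHomologicalComplex (ComplexShape.up ℤ)).obj IL).homology m)
      (eHK : (homologyFunctor B m).obj ((RF G).obj L') ≅
        ((G.mapHomologicalComplex (ComplexShape.up ℤ)).obj IK).homology m),
      Q.map ψ = eL.inv ≫ φ ≫ eK.hom ∧
      (homologyFunctor B m).map ((RF G).map φ) ≫ eHK.hom =
        eHL.hom ≫ HomologicalComplex.homologyMap
          ((G.mapHomologicalComplex (ComplexShape.up ℤ)).map ψ) m := by
  have hA : HasKInjRes A := hasKInjRes_of_isGrothendieckAbelian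
  obtain ⟨IL, hIL, ⟨eL⟩⟩ := Groth.Agent.Lib.Helper17.SG1.exists_kInjective_iso L
  obtain ⟨IK, hIK, ⟨eK⟩⟩ := Groth.Agent.Lib.Helper17.SG1.exists_kInjective_iso L'
  haveI := hIL
  haveI := hIK
  obtain ⟨ψ, hψ⟩ := Groth.Agent.Lib.Helper17.DProd.Q_map_surjective_of_isKInjective IL IK
    (eL.inv ≫ φ ≫ eK.hom)
  let fac := homologyFunctorFactors B m
  let GIL := (G.mapHomologicalComplex (ComplexShape.up ℤ)).obj IL
  let GIK := (G.mapHomologicalComplex (ComplexShape.up ℤ)).obj IK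
  let Gψ : GIL ⟶ GIK := (G.mapHomologicalComplex (ComplexShape.up ℤ)).map ψ
  let aL : (RF G).obj L ⟶ Q.obj GIL := (RF G).map eL.hom ≫ (RFIso G hA IL).hom
  let aK : (RF G).obj L' ⟶ Q.obj GIK := (RF G).map eK.hom ≫ (RFIso G hA IK).hom
  have h1 : φ ≫ eK.hom = eL.hom ≫ Q.map ψ := by rw [hψ]; simp
  have h2 : (RF G).map φ ≫ aK = aL ≫ Q.map Gψ := by
    dsimp only [aL, aK]
    rw [← Category.assoc, ← Functor.map_comp, h1, Functor.map_comp, Category.assoc, Category.assoc,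
      RFIso_hom_naturality]
  have h3 : (homologyFunctor B m).map ((RF G).map φ) ≫ (homologyFunctor B m).map aK =
      (homologyFunctor B m).map aL ≫ (homologyFunctor B m).map (Q.map Gψ) := by
    rw [← Functor.map_comp, ← Functor.map_comp, h2]
  refine ⟨IL, IK, hIL, hIK, ψ, eL, eK,
    (homologyFunctor B m).mapIso ((RF G).mapIso eL ≪≫ RFIso G hA IL) ≪≫ fac.app GIL,
    (homologyFunctor B m).mapIso ((RF G).mapIso eK ≪≫ RFIso G hA IK) ≪≫ fac.app GIK, hψ, ?_⟩
  change (homologyFunctor B m).map ((RF G).map φ) ≫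
      ((homologyFunctor B m).map aK ≫ fac.hom.app GIK) =
    ((homologyFunctor B m).map aL ≫ fac.hom.app GIL) ≫ HomologicalComplex.homologyMap Gψ m
  have h4 : (homologyFunctor B m).map (Q.map Gψ) ≫ fac.hom.app GIK =
      fac.hom.app GIL ≫ HomologicalComplex.homologyMap Gψ m := fac.hom.naturality Gψ
  exact (Category.assoc _ _ _).symm.trans ((congrArg (· ≫ fac.hom.app GIK) h3).trans
    ((Category.assoc _ _ _).trans ((congrArg ((homologyFunctor B m).map aL ≫ ·) h4).trans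
      (Category.assoc _ _ _).symm)))

include adj in
/-- **Key local lemma (injectivity), across `G`.** -/
theorem exists_sieve_of_comp_eq_zero_across {L L' : DerivedCategory A}
    (φ : L ⟶ L') (V : D) (m : ℤ) (σ : sg.G V ⟶ (homologyFunctor B m).obj ((RF G).obj L))
    (hσ : σ ≫ (homologyFunctor B m).map ((RF G).map φ) = 0) :
    ∃ T ∈ K V, ∀ ⦃Y : D⦄ (g : Y ⟶ V), T g → InjAt φ m (P.obj (sg.G Y)) → sg.Gm g ≫ σ = 0 := by
  obtain ⟨IL, IK, hIL, hIK, ψ, eL, eK, eHL, eHK, hψ, hsq⟩ := exists_model (G := G) φ m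
  haveI := hIL
  haveI := hIK
  let GIL := (G.mapHomologicalComplex (ComplexShape.up ℤ)).obj IL
  let GIK := (G.mapHomologicalComplex (ComplexShape.up ℤ)).obj IK
  let Gψ : GIL ⟶ GIK := (G.mapHomologicalComplex (ComplexShape.up ℤ)).map ψ
  let σ' : sg.G V ⟶ GIL.homology m := σ ≫ eHL.hom
  have hσ' : σ' ≫ HomologicalComplex.homologyMap Gψ m = 0 := by
    dsimp only [σ']
    rw [Category.assoc, ← hsq, reassoc_of% hσ, zero_comp]
  have hback : ∀ ⦃Y : D⦄ (g : Y ⟶ V), sg.Gm g ≫ σ' = 0 → sg.Gm g ≫ σ = 0 := by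
    intro Y g hg
    have h1 : σ = σ' ≫ eHL.inv := by simp [σ']
    rw [h1, ← Category.assoc, hg, zero_comp]
  obtain ⟨S1, hS1, h1⟩ := sg.exists_local_hcls GIL m σ'
  choose f1 hf1 hσ1 using h1
  have h2 : ∀ ⦃Y : D⦄ (g : Y ⟶ V) (hg : S1 g), ∃ S ∈ K Y, ∀ ⦃Y' : D⦄ (g' : Y' ⟶ Y), S g' →
      ∃ w : sg.G Y' ⟶ GIK.X (m - 1), w ≫ GIK.d (m - 1) m = sg.Gm g' ≫ f1 g hg ≫ Gψ.f m := by
    intro Y g hg
    have hz : hcls GIK m (f1 g hg ≫ Gψ.f m)
        (by rw [Category.assoc, Gψ.comm, reassoc_of% (hf1 g hg), zero_comp]) = 0 := by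
      rw [← hcls_map GIL m Gψ (f1 g hg) (hf1 g hg), ← hσ1, Category.assoc, hσ', comp_zero]
    exact sg.exists_local_boundary GIK m _ _ hz
  choose S2 hS2 h2' using h2
  refine ⟨Sieve.bind S1 (fun Y g hg => S2 g hg), K.bind_covering hS1 (fun Y g hg => hS2 g hg), ?_⟩
  intro Y k hk hinj
  obtain ⟨Y1, g', g, hg, hg', rfl⟩ := hk
  apply hback
  obtain ⟨w, hw⟩ := h2' g hg g' hg'
  have hinj' : InjAt (Q.map ψ) m (P.obj (sg.G Y)) := hinj.of_iso eL eK _ hψ
  let x : sg.G Y ⟶ G.obj (IL.X m) := sg.Gm g' ≫ f1 g hg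
  have hx : x ≫ G.map (IL.d m (m + 1)) = 0 := by
    dsimp only [x]
    rw [Category.assoc]
    exact (congrArg (fun y => sg.Gm g' ≫ y) (hf1 g hg)).trans comp_zero
  let z : P.obj (sg.G Y) ⟶ IL.X m := (adj.homEquiv _ _).symm x
  have hz : z ≫ IL.d m (m + 1) = 0 := by
    dsimp only [z]
    rw [← adj.homEquiv_naturality_right_symm, hx]
    exact homEquiv_symm_zero adj _ _
  let w' : P.obj (sg.G Y) ⟶ IK.X (m - 1) := (adj.homEquiv _ _).symm w
  have hw2 : w ≫ G.map (IK.d (m - 1) m) = x ≫ G.map (ψ.f m) := by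
    dsimp only [x]
    rw [Category.assoc]
    exact hw
  have hw' : w' ≫ IK.d (m - 1) m = z ≫ ψ.f m := by
    dsimp only [w', z]
    rw [← adj.homEquiv_naturality_right_symm, ← adj.homEquiv_naturality_right_symm]
    exact congrArg (adj.homEquiv _ _).symm hw2
  obtain ⟨b, hb⟩ := boundary_of_injAt IL IK ψ m (P.obj (sg.G Y)) hinj' z hz w' hw'
  rw [sg.Gm_comp, Category.assoc, hσ1 g hg, hcls_precomp]
  refine hcls_eq_zero_of_boundary _ _ _ _ (adj.homEquiv _ _ b) ?_
  change adj.homEquiv _ _ b ≫ G.map (IL.d (m - 1) m) = x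
  rw [← adj.homEquiv_naturality_right, hb]
  exact Equiv.apply_symm_apply _ _

include adj in
/-- **Injectivity criterion, across `G`.** -/
theorem comp_eq_zero_of_local_across {L L' : DerivedCategory A}
    (φ : L ⟶ L') (V : D) (m : ℤ)
    (h : ∀ T ∈ K V, ∃ (ι : Type u) (Y : ι → D) (f : ∀ i, Y i ⟶ V), (∀ i, T.arrows (f i)) ∧
      Sieve.ofArrows Y f ∈ K V ∧ ∀ i, InjAt φ m (P.obj (sg.G (Y i))))
    (σ : sg.G V ⟶ (homologyFunctor B m).obj ((RF G).obj L))
    (hσ : σ ≫ (homologyFunctor B m).map ((RF G).map φ) = 0) :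
    σ = 0 := by
  obtain ⟨T, hT, hT'⟩ := exists_sieve_of_comp_eq_zero_across sg adj φ V m σ hσ
  obtain ⟨ι, Y, f, hfT, hcov, hinj⟩ := h T hT
  apply sg.sep σ (Sieve.ofArrows Y f) hcov
  intro W k hk
  obtain ⟨_, k', _, ⟨i⟩, rfl⟩ := hk
  rw [sg.Gm_comp, Category.assoc, hT' (f i) (hfT i) (hinj i), comp_zero]

include adj in
/-- **Key local lemma (surjectivity), across `G`.** -/
theorem exists_sieve_lift_across {L L' : DerivedCategory A}
    (φ : L ⟶ L') (V : D) (m : ℤ) (σ : sg.G V ⟶ (homologyFunctor B m).obj ((RF G).obj L')) :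
    ∃ T ∈ K V, ∀ ⦃Y : D⦄ (g : Y ⟶ V), T g → SurjAt φ m (P.obj (sg.G Y)) →
      ∃ ρ : sg.G Y ⟶ (homologyFunctor B m).obj ((RF G).obj L),
        ρ ≫ (homologyFunctor B m).map ((RF G).map φ) = sg.Gm g ≫ σ := by
  obtain ⟨IL, IK, hIL, hIK, ψ, eL, eK, eHL, eHK, hψ, hsq⟩ := exists_model (G := G) φ m
  haveI := hIL
  haveI := hIK
  let GIL := (G.mapHomologicalComplex (ComplexShape.up ℤ)).obj IL
  let GIK := (G.mapHomologicalComplex (ComplexShape.up ℤ)).obj IK
  let Gψ : GIL ⟶ GIK := (G.mapHomologicalComplex (ComplexShape.up ℤ)).map ψ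
  let σ' : sg.G V ⟶ GIK.homology m := σ ≫ eHK.hom
  obtain ⟨S1, hS1, h1⟩ := sg.exists_local_hcls GIK m σ'
  refine ⟨S1, hS1, ?_⟩
  intro Y g hg hsurj
  obtain ⟨f1, hf1, hσ1⟩ := h1 g hg
  have hsurj' : SurjAt (Q.map ψ) m (P.obj (sg.G Y)) := hsurj.of_iso eL eK _ hψ
  let f1' : sg.G Y ⟶ G.obj (IK.X m) := f1
  have hf1' : f1' ≫ G.map (IK.d m (m + 1)) = 0 := hf1
  let z : P.obj (sg.G Y) ⟶ IK.X m := (adj.homEquiv _ _).symm f1'
  have hz : z ≫ IK.d m (m + 1) = 0 := by
    dsimp only [z]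
    rw [← adj.homEquiv_naturality_right_symm]
    exact (congrArg (adj.homEquiv _ _).symm hf1').trans (homEquiv_symm_zero adj _ _)
  obtain ⟨f, hf, w, hw⟩ := lift_of_surjAt IL IK ψ m (P.obj (sg.G Y)) hsurj' z hz
  let f' : sg.G Y ⟶ GIL.X m := adj.homEquiv _ _ f
  have hf' : f' ≫ GIL.d m (m + 1) = 0 := by
    change adj.homEquiv _ _ f ≫ G.map (IL.d m (m + 1)) = 0
    rw [← adj.homEquiv_naturality_right, hf, adj.homEquiv_unit, G.map_zero, comp_zero]
  let w'' : sg.G Y ⟶ GIK.X (m - 1) := adj.homEquiv _ _ w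
  have e1 : adj.homEquiv _ _ (f ≫ ψ.f m) = adj.homEquiv _ _ f ≫ G.map (ψ.f m) :=
    adj.homEquiv_naturality_right _ _
  have e2 : adj.homEquiv _ _ (z + w ≫ IK.d (m - 1) m) =
      f1' + adj.homEquiv _ _ w ≫ G.map (IK.d (m - 1) m) := by
    rw [adj.homEquiv_unit, G.map_add, Preadditive.comp_add, ← adj.homEquiv_unit,
      ← adj.homEquiv_unit, adj.homEquiv_naturality_right]
    congr 1
    exact Equiv.apply_symm_apply _ _
  have hfw : f' ≫ Gψ.f m = f1 + w'' ≫ GIK.d (m - 1) m := by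
    change adj.homEquiv _ _ f ≫ G.map (ψ.f m) =
      f1' + adj.homEquiv _ _ w ≫ G.map (IK.d (m - 1) m)
    rw [← e1, hw, e2]
  refine ⟨hcls GIL m f' hf' ≫ eHL.inv, ?_⟩
  have h3 : hcls GIL m f' hf' ≫ HomologicalComplex.homologyMap Gψ m = sg.Gm g ≫ σ' := by
    rw [hcls_map, hσ1]
    exact hcls_eq_of_boundary GIK m _ _ _ hf1 w'' hfw
  have h4 : eHL.inv ≫ (homologyFunctor B m).map ((RF G).map φ) =
      HomologicalComplex.homologyMap Gψ m ≫ eHK.inv := by
    rw [← cancel_mono eHK.hom, Category.assoc, hsq, Iso.inv_hom_id_assoc, Category.assoc,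
      Iso.inv_hom_id, Category.comp_id]
  rw [Category.assoc, h4, reassoc_of% h3]
  simp [σ']

end Across

section Step1

variable {A : Type u₁} [Category.{v₁} A] [Abelian A] [HasDerivedCategory.{w₁} A]
  {B : Type u₂} [Category.{v₂} B] [Abelian B] [HasDerivedCategory.{w₂} B]
  (G : A ⥤ B) [G.Additive]
  [(Φ G).HasRightDerivedFunctor (HomotopyCategory.quasiIso A (ComplexShape.up ℤ))]
  (hA : HasKInjRes A) [HasInjectiveResolutions A]
  (PA : ObjectProperty A) [PA.IsClosedUnderIsomorphisms]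
  (N : ℤ) (hN : ∀ M : A, PA M → ∀ p : ℕ, N < (p : ℤ) → IsZero ((G.rightDerived p).obj M))

include hA hN in
/-- vanishing of `H^i(RF E)` for `E` concentrated in degree `a` with cohomology in `PA`. -/
lemma isZero_HRF_of_conc (E : DerivedCategory A) (a : ℤ) [E.IsGE a] [E.IsLE a]
    (hE : PA ((homologyFunctor A a).obj E)) (i : ℤ) (hi : N + a < i) :
    IsZero ((HRF G i).obj E) := by
  obtain ⟨Y, ⟨e⟩⟩ := exists_iso_singleFunctor_obj_of_isGE_of_isLE E a
  have hY : PA Y := PA.prop_of_iso ((homologyFunctor A a).mapIso e ≪≫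
    (singleFunctorCompHomologyFunctorIso A a).app Y) hE
  refine IsZero.of_iso ?_ ((HRF G i).mapIso e)
  by_cases hia : i < a
  · exact isZero_HRF_single_of_lt G hA Y a i hia
  · obtain ⟨p, hp⟩ := Int.eq_ofNat_of_zero_le (show 0 ≤ i - a by omega)
    obtain rfl : i = a + p := by omega
    exact (hN Y hY p (by omega)).of_iso (HRFSingleIso G hA Y a p)

include hA hN in
/-- **Step 1**: a map `t : Z ⟶ W` which is an isomorphism on `H^q` for `q ≥ b`, with `W ≥ b`,
`Z ≥ b - 1` and `H^{b-1}(Z) ∈ PA`, induces isomorphisms on `H^j ∘ RF` for `j ≥ N + b`. -/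
theorem isIso_HRF_of_fiber {Z W : DerivedCategory A} (t : Z ⟶ W) (b : ℤ) [W.IsGE b]
    [Z.IsGE (b - 1)]
    (hiso : ∀ q, b ≤ q → IsIso ((homologyFunctor A q).map t))
    (hP : PA ((homologyFunctor A (b - 1)).obj Z)) (j : ℤ) (hj : N + b ≤ j) :
    IsIso ((homologyFunctor B j).map ((RF G).map t)) := by
  obtain ⟨Cn, u, v, hT⟩ := distinguished_cocone_triangle t
  have hu : ∀ q : ℤ, (homologyFunctor A q).map u = 0 := by
    intro q
    by_cases hqb : b ≤ q
    · haveI := hiso q hqb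
      exact (HomologySequence.epi_homologyMap_mor₁_iff _ hT q).1
        (inferInstance : Epi ((homologyFunctor A q).map t))
    · exact (W.isZero_of_isGE b q (by omega)).eq_of_src _ _
  have hδ : ∀ q : ℤ, q ≠ b - 2 → HomologySequence.δ (Triangle.mk t u v) q (q + 1) rfl = 0 := by
    intro q hq
    by_cases hqb : b ≤ q + 1
    · haveI := hiso (q + 1) hqb
      exact (HomologySequence.mono_homologyMap_mor₁_iff _ hT q (q + 1) rfl).1
        (inferInstance : Mono ((homologyFunctor A (q + 1)).map t))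
    · exact (Z.isZero_of_isGE (b - 1) (q + 1) (by omega)).eq_of_tgt _ _
  have hz : ∀ q : ℤ, q ≠ b - 2 → IsZero ((homologyFunctor A q).obj Cn) := fun q hq =>
    (HomologySequence.exact₃ _ hT q (q + 1) rfl).isZero_of_both_zeros (hu q) (hδ q hq)
  haveI : Cn.IsGE (b - 2) := by
    rw [DerivedCategory.isGE_iff]
    intro i hi
    exact hz i (by omega)
  haveI : Cn.IsLE (b - 2) := by
    rw [DerivedCategory.isLE_iff]
    intro i hi
    exact hz i (by omega)
  -- `H^{b-2}(Cn) ≅ H^{b-1}(Z)`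
  have hmono : Mono (HomologySequence.δ (Triangle.mk t u v) (b - 2) (b - 1) (by omega)) :=
    (HomologySequence.exact₃ _ hT (b - 2) (b - 1) (by omega)).mono_g (hu (b - 2))
  have hepi : Epi (HomologySequence.δ (Triangle.mk t u v) (b - 2) (b - 1) (by omega)) :=
    (HomologySequence.exact₁ _ hT (b - 2) (b - 1) (by omega)).epi_f
      ((W.isZero_of_isGE b (b - 1) (by omega)).eq_of_tgt _ _)
  have hδiso : IsIso (HomologySequence.δ (Triangle.mk t u v) (b - 2) (b - 1) (by omega)) :=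
    isIso_of_mono_of_epi _
  have hCn : PA ((homologyFunctor A (b - 2)).obj Cn) :=
    PA.prop_of_iso (@asIso _ _ _ _ _ hδiso).symm hP
  haveI := isHomological_HRF G hA j
  -- epi
  have hE : Epi ((HRF G j).map t) := by
    have hex := (HRF G j).map_distinguished_exact _ hT
    have h0 : IsZero ((HRF G j).obj Cn) :=
      isZero_HRF_of_conc G hA PA N hN Cn (b - 2) hCn j (by omega)
    exact hex.epi_f (h0.eq_of_tgt _ _)
  -- mono
  have hM : Mono ((HRF G j).map t) := by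
    have hT' := inv_rot_of_distTriang _ hT
    have hex := (HRF G j).map_distinguished_exact _ hT'
    haveI : (Cn⟦(-1 : ℤ)⟧).IsGE (b - 1) := TStructure.t.isGE_shift Cn (b - 2) (-1) (b - 1) (by omega)
    haveI : (Cn⟦(-1 : ℤ)⟧).IsLE (b - 1) := TStructure.t.isLE_shift Cn (b - 2) (-1) (b - 1) (by omega)
    have hCn' : PA ((homologyFunctor A (b - 1)).obj (Cn⟦(-1 : ℤ)⟧)) :=
      PA.prop_of_iso (((homologyFunctor A 0).shiftIso (-1) (b - 1) (b - 2) (by omega)).app Cn).symm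
        hCn
    have h0 : IsZero ((HRF G j).obj (Cn⟦(-1 : ℤ)⟧)) :=
      isZero_HRF_of_conc G hA PA N hN (Cn⟦(-1 : ℤ)⟧) (b - 1) hCn' j (by omega)
    exact hex.mono_g (h0.eq_of_src _ _)
  exact isIso_of_mono_of_epi ((HRF G j).map t)

end Step1

section Main

open Groth.Agent.Lib.Helper17.RL4 Groth.Agent.Lib.Helper17.RL5 Groth.Agent.Lib.Helper9

variable {C : Type u} [SmallCategory C] {J : GrothendieckTopology C}
  {D : Type u} [SmallCategory D] {K : GrothendieckTopology D}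
  {A : Type (u + 1)} [Category.{u} A] [Abelian A] [IsGrothendieckAbelian.{u} A]
  [HasDerivedCategory.{w} A] [HasExt.{w'} A] [HasInjectiveResolutions A]
  {B : Type (u + 1)} [Category.{u} B] [Abelian B] [HasDerivedCategory.{w} B]
  (sgA : SiteGens J A) (sgB : SiteGens K B)
  {P : B ⥤ A} {G : A ⥤ B} (adj : P ⊣ G) [G.Additive] [P.Additive]
  [(Φ G).HasRightDerivedFunctor (HomotopyCategory.quasiIso A (ComplexShape.up ℤ))]
  (PA : ObjectProperty A) [IsWeakSerre PA]
  (BC : Set C) (BD : Set D)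
  (hBJ : ∀ U : C, ∃ (ι : Type u) (Y : ι → C) (g : ∀ i, Y i ⟶ U),
    Sieve.ofArrows Y g ∈ J U ∧ ∀ i, Y i ∈ BC)
  (hAJ : ∀ V ∈ BC, ∃ d : ℕ, ∀ T ∈ J V, ∃ (ι : Type u) (Y : ι → C) (g : ∀ i, Y i ⟶ V),
    (∀ i, T.arrows (g i)) ∧ Sieve.ofArrows Y g ∈ J V ∧
    ∀ (i : ι) (M : A), PA M → ∀ k : ℕ, d < k →
      Subsingleton (Abelian.Ext.{w'} (sgA.G (Y i)) M k))
  (hBK : ∀ U : D, ∃ (ι : Type u) (Y : ι → D) (g : ∀ i, Y i ⟶ U),
    Sieve.ofArrows Y g ∈ K U ∧ ∀ i, Y i ∈ BD)
  (hAK : ∀ V ∈ BD, ∃ d : ℕ, ∀ T ∈ K V, ∃ (ι : Type u) (Y : ι → D) (g : ∀ i, Y i ⟶ V),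
    (∀ i, T.arrows (g i)) ∧ Sieve.ofArrows Y g ∈ K V ∧
    ∀ (i : ι) (M : A), PA M → ∀ k : ℕ, d < k →
      Subsingleton (Abelian.Ext.{w'} (P.obj (sgB.G (Y i))) M k))
  (N : ℤ) (hN : ∀ M : A, PA M → ∀ p : ℕ, N < (p : ℤ) → IsZero ((G.rightDerived p).obj M))

include hN in
lemma isIso_HRF_truncTowerMap (X : DerivedCategory A) (hX : cohIn PA X) (n : ℕ) (j : ℤ)
    (hj : N - (n : ℤ) ≤ j) :
    IsIso ((homologyFunctor B j).map ((RF G).map (CohCx.truncTowerMap X n))) := by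
  have hA : HasKInjRes A := hasKInjRes_of_isGrothendieckAbelian
  haveI : (CohCx.truncTower X n).IsGE (-(n : ℤ)) :=
    (inferInstance : ((TStructure.t.truncGE (-(n : ℤ))).obj X).IsGE (-(n : ℤ)))
  haveI : (CohCx.truncTower X (n + 1)).IsGE (-(n : ℤ) - 1) := by
    rw [show (-(n : ℤ) - 1) = -((n + 1 : ℕ) : ℤ) by push_cast; ring]
    exact (inferInstance :
      ((TStructure.t.truncGE (-((n + 1 : ℕ) : ℤ))).obj X).IsGE (-((n + 1 : ℕ) : ℤ)))
  refine isIso_HRF_of_fiber G hA PA N hN (CohCx.truncTowerMap X n) (-(n : ℤ))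
    (fun q hq => SiteCmpDer1.isIso_homology_truncTowerMap X q n hq) ?_ j (by omega)
  exact prop_homology_truncGE PA (fun Z hZ => PA.prop_of_isZero hZ) X _ hX _

lemma isIso_HRF_transition (X : DerivedCategory A) (n : ℕ) (j : ℤ)
    (h : ∀ n', n ≤ n' →
      IsIso ((homologyFunctor B j).map ((RF G).map (CohCx.truncTowerMap X n')))) :
    ∀ k : ℕ, IsIso ((homologyFunctor B j).map ((RF G).map
      (CohCx.transition (CohCx.truncTower X) (CohCx.truncTowerMap X) n k)))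
  | 0 => by
    change IsIso ((homologyFunctor B j).map ((RF G).map (𝟙 (CohCx.truncTower X n))))
    rw [CategoryTheory.Functor.map_id, CategoryTheory.Functor.map_id]
    infer_instance
  | k + 1 => by
    change IsIso ((homologyFunctor B j).map ((RF G).map (CohCx.truncTowerMap X (n + k) ≫
      CohCx.transition (CohCx.truncTower X) (CohCx.truncTowerMap X) n k)))
    rw [Functor.map_comp, Functor.map_comp]
    have := h (n + k) (by omega)
    have := isIso_HRF_transition X n j h k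
    infer_instance

include adj hBJ hAJ hBK hAK hN in
/-- **Main theorem**: `H^j(RF X) ⟶ H^j(RF τ_{≥ -n} X)` is an isomorphism for `j ≥ N - n`. -/
theorem isIso_HRF_toTruncTower (X : DerivedCategory A) (hX : cohIn PA X) (n : ℕ) (j : ℤ)
    (hj : N - (n : ℤ) ≤ j) :
    IsIso ((homologyFunctor B j).map ((RF G).map (CohCx.toTruncTower X n))) := by
  haveI : HasProducts.{u} (DerivedCategory A) :=
    Groth.Agent.Lib.Helper17.DProdW.derivedCategory_hasProducts
  haveI : HasProducts.{0} (DerivedCategory A) := has_smallest_products_of_hasProducts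
  have hL := SiteCmpDer1.isRlimVia_truncTower_of_cohIn sgA PA BC hBJ hAJ X hX
  have hEn := SiteCmpDer1.cohInPlus_truncTower PA X hX
  have hK : ∀ n, (∀ q : ℤ, PA ((homologyFunctor A q).obj (CohCx.truncTower X n))) ∧
      ∃ c : ℤ, (CohCx.truncTower X n).IsGE c := fun n => by
    obtain ⟨h1, h2⟩ := (ObjectProperty.prop_inf_iff _ _ _).1 (hEn n)
    exact ⟨h1, h2⟩
  have hn₀ : ∀ (q : ℤ) (n : ℕ), (-q).toNat ≤ n →
      IsIso ((homologyFunctor A q).map (CohCx.truncTowerMap X n)) :=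
    fun q n hn => SiteCmpDer1.isIso_homology_truncTowerMap X q n (by omega)
  have hstep : ∀ n', n ≤ n' →
      IsIso ((homologyFunctor B j).map ((RF G).map (CohCx.truncTowerMap X n'))) :=
    fun n' hn' => isIso_HRF_truncTowerMap PA N hN X hX n' j (by
      have : (n : ℤ) ≤ (n' : ℤ) := by exact_mod_cast hn'
      omega)
  have hfac : ∀ N', n ≤ N' → ∃ β : (homologyFunctor B j).obj ((RF G).obj (CohCx.truncTower X N')) ⟶
      (homologyFunctor B j).obj ((RF G).obj (CohCx.truncTower X n)),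
      IsIso β ∧ (homologyFunctor B j).map ((RF G).map (CohCx.toTruncTower X N')) ≫ β =
        (homologyFunctor B j).map ((RF G).map (CohCx.toTruncTower X n)) := by
    intro N' hN'
    obtain ⟨k, rfl⟩ := Nat.exists_eq_add_of_le hN'
    refine ⟨(homologyFunctor B j).map ((RF G).map
      (CohCx.transition (CohCx.truncTower X) (CohCx.truncTowerMap X) n k)),
      isIso_HRF_transition X n j hstep k, ?_⟩
    rw [← Functor.map_comp, ← Functor.map_comp, a_transition hL n k]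
  have hNd : ∀ d : ℕ, ∃ N' : ℕ, n ≤ N' ∧ ∀ q : ℤ, j - 1 - d ≤ q → q ≤ j → (-q).toNat ≤ N' := by
    intro d
    refine ⟨max n ((d : ℤ) + 1 - j).toNat, le_max_left _ _, fun q h1 h2 => ?_⟩
    have : (-q).toNat ≤ ((d : ℤ) + 1 - j).toNat := Int.toNat_le_toNat (by omega)
    exact le_trans this (le_max_right _ _)
  have hmono : Mono ((homologyFunctor B j).map ((RF G).map (CohCx.toTruncTower X n))) := by
    apply mono_of_local sgB _ BD hBK
    intro V hV σ hσ
    obtain ⟨d, hd⟩ := hAK V hV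
    obtain ⟨N', hnN, hN'⟩ := hNd d
    obtain ⟨β, hβ, hβ'⟩ := hfac N' hnN
    have hσ' : σ ≫ (homologyFunctor B j).map ((RF G).map (CohCx.toTruncTower X N')) = 0 := by
      rw [← cancel_mono β, Category.assoc, hβ', hσ, zero_comp]
    apply comp_eq_zero_of_local_across sgB adj (CohCx.toTruncTower X N') V j _ σ hσ'
    intro T hT
    obtain ⟨ι, Yf, g, hgT, hcov, hv⟩ := hd T hT
    refine ⟨ι, Yf, g, hgT, hcov, fun i => ?_⟩
    exact injAt_of_bijective _ _ _
      (a_bijective.{w'} PA (CohCx.truncTower X) (CohCx.truncTowerMap X) hK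
        (fun q => (-q).toNat) hn₀ hL (P.obj (sgB.G (Yf i))) d (hv i) j N' hN').1
  have hepi : Epi ((homologyFunctor B j).map ((RF G).map (CohCx.toTruncTower X n))) := by
    apply epi_of_local sgB _ BD hBK
    intro V hV σ
    obtain ⟨d, hd⟩ := hAK V hV
    obtain ⟨N', hnN, hN'⟩ := hNd d
    obtain ⟨β, hβ, hβ'⟩ := hfac N' hnN
    obtain ⟨T, hT, hT'⟩ := exists_sieve_lift_across sgB adj (CohCx.toTruncTower X N') V j
      (σ ≫ inv β)
    obtain ⟨ι, Yf, g, hgT, hcov, hv⟩ := hd T hT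
    refine ⟨Sieve.ofArrows Yf g, hcov, ?_⟩
    intro W k hk
    obtain ⟨_, k', _, ⟨i⟩, rfl⟩ := hk
    obtain ⟨ρ, hρ⟩ := hT' (g i) (hgT i) (surjAt_of_surjective _ _ _
      (a_bijective.{w'} PA (CohCx.truncTower X) (CohCx.truncTowerMap X) hK
        (fun q => (-q).toNat) hn₀ hL (P.obj (sgB.G (Yf i))) d (hv i) j N' hN').2)
    refine ⟨sgB.Gm k' ≫ ρ, ?_⟩
    rw [Category.assoc, ← hβ', reassoc_of% hρ, sgB.Gm_comp, Category.assoc,
      IsIso.inv_hom_id, Category.comp_id]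
  exact isIso_of_mono_of_epi _

end Main

end Groth.Agent.Lib.Helper5.SiteCmpDer2
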