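import Mathlib
import Groth.Agent.Lib.Helper17.SG4
import Groth.Agent.Lib.Helper5.SiteCmpDer2
import Groth.Prelude.Def_SiteCmp

/-!
# `f^*` of the free module on a representable is the free module on its image; concrete form of
the S9066 core for morphisms of ringed sites
-/

set_option autoImplicit false
set_option linter.unusedSectionVars false

universe u

open CategoryTheory Limits Opposite Abelian

namespace Groth.Agent.Lib.Helper5.SiteCmpDer3

open Groth.Agent.Lib.Helper17.SG1 Groth.Agent.Lib.Helper17.SG3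
open Groth.Agent.Lib.Helper20.FreeSheaf

section Yoneda

variable {𝒞 : Type*} [Category 𝒞]

/-- co-Yoneda: a natural bijection `Hom(X, -) ≃ Hom(Y, -)` gives an isomorphism `X ≅ Y`. -/
lemma nonempty_iso_of_natural_bijection {X Y : 𝒞} (e : ∀ M : 𝒞, (X ⟶ M) ≃ (Y ⟶ M))
    (hnat : ∀ (M M' : 𝒞) (φ : X ⟶ M) (θ : M ⟶ M'), e M' (φ ≫ θ) = e M φ ≫ θ) :
    Nonempty (X ≅ Y) := by
  have h1 : ∀ (M : 𝒞) (φ : X ⟶ M), e M φ = e X (𝟙 X) ≫ φ := fun M φ => by
    rw [← hnat, Category.id_comp]
  refine ⟨⟨(e Y).symm (𝟙 Y), e X (𝟙 X), ?_, ?_⟩⟩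
  · apply (e X).injective
    rw [h1 X ((e Y).symm (𝟙 Y) ≫ e X (𝟙 X)), ← Category.assoc, ← h1, Equiv.apply_symm_apply,
      Category.id_comp]
  · rw [← h1, Equiv.apply_symm_apply]

end Yoneda

section Ext

variable {𝒞 : Type*} [Category 𝒞] [Abelian 𝒞] [HasExt 𝒞]

lemma subsingleton_ext_of_iso {X X' : 𝒞} (e : X ≅ X') (Y : 𝒞) (k : ℕ)
    (h : Subsingleton (Ext X' Y k)) : Subsingleton (Ext X Y k) := by
  have hinj : Function.Injective
      (fun z : Ext X Y k => (Ext.mk₀ e.inv).comp z (zero_add k)) := by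
    intro z z' hz
    have h1 := congrArg (fun w => (Ext.mk₀ e.hom).comp w (zero_add k)) hz
    simp only [Ext.mk₀_comp_mk₀_assoc, Iso.hom_inv_id, Ext.mk₀_id_comp] at h1
    exact h1
  exact hinj.subsingleton

end Ext

section Pull

variable {C : Type u} [SmallCategory C] {J : GrothendieckTopology C}
  {O_C : Sheaf J CommRingCat.{u}}
  {D : Type u} [SmallCategory D] {K : GrothendieckTopology D} {O_D : Sheaf K CommRingCat.{u}}
  (f : ModSite.RMor O_C O_D)

/-- maps out of `R[h_U]^#` are sections over `U`. -/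
noncomputable def secC (U : C) (M : ModSite.Mod O_C) :
    (GR (ModSite.ringSh O_C) U ⟶ M) ≃
      ((SheafOfModules.toSheaf (ModSite.ringSh O_C)).obj M).obj.obj (op U) :=
  (Equiv.ofBijective _ (β_bijective (ModSite.ringSh O_C) (yoneda.obj U) M)).trans (a J U _)

lemma secC_nat (U : C) {M M' : ModSite.Mod O_C} (ψ : GR (ModSite.ringSh O_C) U ⟶ M)
    (θ : M ⟶ M') :
    secC U M' (ψ ≫ θ) =
      ((SheafOfModules.toSheaf (ModSite.ringSh O_C)).map θ).hom.app (op U) (secC U M ψ) := by
  unfold secC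
  simp only [Equiv.trans_apply, Equiv.ofBijective_apply]
  rw [β_comp, a_nat]

/-- maps out of `f^* R[h_V]^#` are sections of the pushforward over `V`. -/
noncomputable def secD (V : D) (M : ModSite.Mod O_C) :
    (f.pull.obj (GR (ModSite.ringSh O_D) V) ⟶ M) ≃
      ((SheafOfModules.toSheaf (ModSite.ringSh O_D)).obj (f.push.obj M)).obj.obj (op V) :=
  (f.adj.homEquiv _ _).trans
    ((Equiv.ofBijective _ (β_bijective (ModSite.ringSh O_D) (yoneda.obj V) (f.push.obj M))).trans
      (a K V _))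

lemma secD_nat (V : D) {M M' : ModSite.Mod O_C}
    (φ : f.pull.obj (GR (ModSite.ringSh O_D) V) ⟶ M) (θ : M ⟶ M') :
    secD f V M' (φ ≫ θ) =
      ((SheafOfModules.toSheaf (ModSite.ringSh O_D)).map (f.push.map θ)).hom.app (op V)
        (secD f V M φ) := by
  unfold secD
  simp only [Equiv.trans_apply, Equiv.ofBijective_apply]
  rw [Adjunction.homEquiv_naturality_right, β_comp, a_nat]

/-- sections of `f_* M` over `V` are sections of `M` over `f.fn V`. -/
def castSec (V : D) (M : ModSite.Mod O_C) :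
    ((SheafOfModules.toSheaf (ModSite.ringSh O_D)).obj (f.push.obj M)).obj.obj (op V) ≃
      ((SheafOfModules.toSheaf (ModSite.ringSh O_C)).obj M).obj.obj (op (f.fn.obj V)) :=
  Equiv.refl _

lemma castSec_nat (V : D) {M M' : ModSite.Mod O_C} (θ : M ⟶ M')
    (x : ((SheafOfModules.toSheaf (ModSite.ringSh O_D)).obj (f.push.obj M)).obj.obj (op V)) :
    castSec f V M'
      (((SheafOfModules.toSheaf (ModSite.ringSh O_D)).map (f.push.map θ)).hom.app (op V) x) =
    ((SheafOfModules.toSheaf (ModSite.ringSh O_C)).map θ).hom.app (op (f.fn.obj V))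
      (castSec f V M x) := rfl

/-- **`f^* (O_D[h_V]^#) ≅ O_C[h_{f V}]^#`.** -/
theorem nonempty_pullGRIso (V : D) :
    Nonempty (f.pull.obj (GR (ModSite.ringSh O_D) V) ≅
      GR (ModSite.ringSh O_C) (f.fn.obj V)) := by
  refine nonempty_iso_of_natural_bijection
    (fun M => (secD f V M).trans ((castSec f V M).trans (secC (f.fn.obj V) M).symm)) ?_
  intro M M' φ θ
  apply (secC (f.fn.obj V) M').injective
  simp only [Equiv.trans_apply, Equiv.apply_symm_apply]
  rw [secC_nat, Equiv.apply_symm_apply, secD_nat, castSec_nat]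

end Pull

end Groth.Agent.Lib.Helper5.SiteCmpDer3
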