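import Mathlib
import Groth.Agent.Lib.Helper5.SiteCmpDer2

/-!
# Unbounded equivalences `D_{A'} ≃ D_A` when the cohomological-dimension hypothesis downstairs is
expressed upstairs (abstract core of S9080)
-/

set_option autoImplicit false
set_option linter.unusedSectionVars false
set_option linter.style.haveILetI false

universe w' w u

open CategoryTheory Limits Opposite Pretriangulated DerivedCategory

namespace Groth.Agent.Lib.Helper5.SiteCmpDer4

open Groth.Agent.Lib.Helper17.SG1 Groth.Agent.Lib.Helper17.SG2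
open Groth.Agent.Lib.Helper17.RAdjEquiv Groth.Agent.Lib.Helper17.RAdjTri
open Groth.Agent.Lib.Helper17.RL4
open Groth.Agent.Lib.Helper17.RFTri Groth.Agent.Lib.Helper17.DerKInj
open Groth.Agent.Lib.Helper17.RFAmp
open Groth.Agent.Lib.Helper9 Groth.Agent.Lib.Helper28.DCohRes WSerre
open Groth.Agent.Lib.Helper5.SiteCmpDer1

section General

variable {A : Type (u + 1)} [Category.{u} A] [Abelian A] [HasDerivedCategory.{w} A]
  {B : Type (u + 1)} [Category.{u} B] [Abelian B] [IsGrothendieckAbelian.{u} B]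
  [HasDerivedCategory.{w} B]
  {F : A ⥤ B} [F.Additive] [PreservesFiniteLimits F] [PreservesFiniteColimits F]
  {R : DerivedCategory B ⥤ DerivedCategory A} (adj : F.mapDerivedCategory ⊣ R)
  (PA : ObjectProperty A) [IsWeakSerre PA] (PB : ObjectProperty B) [IsWeakSerre PB]
  (h2a : ∀ M : A, PA M → PB (F.obj M))
  (h2b : ∀ M M' : A, PA M → PA M' → Function.Bijective (fun φ : M ⟶ M' => F.map φ))
  (h2c : ∀ N : B, PB N → ∃ M : A, PA M ∧ Nonempty (F.obj M ≅ N))
  (h3 : ∀ M : A, PA M → IsIso (adj.unit.app ((singleFunctor A 0).obj M)))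

include h2c h3 in
/-- counit part from the comparison with truncations. -/
theorem counit_part_of_trunc (X : DerivedCategory B) (hX : cohIn PB X)
    (hmain : ∀ j : ℤ, ∃ n₀ : ℕ, ∀ n, n₀ ≤ n →
      IsIso ((homologyFunctor A j).map (R.map (CohCx.toTruncTower X n)))) :
    cohIn PA (R.obj X) ∧ IsIso (adj.counit.app X) := by
  have hEn := cohInPlus_truncTower PB X hX
  have hREn : ∀ n, cohInPlus PA (R.obj (CohCx.truncTower X n)) := fun n =>
    cohInPlus_R adj PB PA h2c h3 _ (hEn n)
  have hcn : ∀ n, IsIso (adj.counit.app (CohCx.truncTower X n)) := fun n =>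
    counit_part adj PB PA h2c h3 _ (hEn n)
  refine ⟨fun j => ?_, ?_⟩
  · obtain ⟨n₀, hn₀⟩ := hmain j
    haveI := hn₀ n₀ le_rfl
    exact PA.prop_of_iso (asIso ((homologyFunctor A j).map
      (R.map (CohCx.toTruncTower X n₀)))).symm ((hREn n₀).1 j)
  · rw [DerivedCategory.isIso_iff]
    intro j
    obtain ⟨n₀, hn₀⟩ := hmain j
    obtain ⟨n, hn1, hn2⟩ : ∃ n : ℕ, n₀ ≤ n ∧ (-j).toNat ≤ n :=
      ⟨max n₀ (-j).toNat, le_max_left _ _, le_max_right _ _⟩
    have h1 := hn₀ n hn1
    have h2 : IsIso ((homologyFunctor B j).map (CohCx.toTruncTower X n)) :=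
      isIso_homology_truncGEπ X (-(n : ℤ)) j (by omega)
    haveI := hcn n
    have h3' := isIso_homology_map_mapDerivedCategory F (R.map (CohCx.toTruncTower X n)) j h1
    have hnat := adj.counit.naturality (CohCx.toTruncTower X n)
    dsimp at hnat
    have h4 : (homologyFunctor B j).map (adj.counit.app X) ≫
        (homologyFunctor B j).map (CohCx.toTruncTower X n) =
        (homologyFunctor B j).map (F.mapDerivedCategory.map (R.map (CohCx.toTruncTower X n))) ≫
          (homologyFunctor B j).map (adj.counit.app _) := by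
      rw [← Functor.map_comp, ← Functor.map_comp, hnat]
    have h5 : IsIso ((homologyFunctor B j).map (adj.counit.app X) ≫
        (homologyFunctor B j).map (CohCx.toTruncTower X n)) := by
      rw [h4]
      infer_instance
    exact IsIso.of_isIso_comp_right _ ((homologyFunctor B j).map (CohCx.toTruncTower X n))

include h2a h2b in
/-- unit part from the counit part. -/
theorem unit_part_of_counit (Y : DerivedCategory A) (hY : cohIn PA Y)
    (hc : cohIn PA (R.obj (F.mapDerivedCategory.obj Y)) ∧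
      IsIso (adj.counit.app (F.mapDerivedCategory.obj Y))) :
    cohIn PB (F.mapDerivedCategory.obj Y) ∧ IsIso (adj.unit.app Y) := by
  have hLY : cohIn PB (F.mapDerivedCategory.obj Y) := cohIn_map PB PA h2a Y hY
  refine ⟨hLY, ?_⟩
  obtain ⟨hRX, hcX⟩ := hc
  have htri := adj.left_triangle_components Y
  have hLu : IsIso (F.mapDerivedCategory.map (adj.unit.app Y)) := by
    haveI := hcX
    have h0 : F.mapDerivedCategory.map (adj.unit.app Y) =
        inv (adj.counit.app (F.mapDerivedCategory.obj Y)) := by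
      refine (cancel_mono (adj.counit.app (F.mapDerivedCategory.obj Y))).1 ?_
      rw [htri, IsIso.inv_hom_id]
      rfl
    rw [h0]
    infer_instance
  rw [DerivedCategory.isIso_iff]
  intro j
  have h1 : IsIso ((homologyFunctor B j).map (F.mapDerivedCategory.map (adj.unit.app Y))) :=
    inferInstance
  have hn := (mapDHomologyIso F j).hom.naturality (adj.unit.app Y)
  have h4 : IsIso (F.map ((homologyFunctor A j).map (adj.unit.app Y))) := by
    have h5 : F.map ((homologyFunctor A j).map (adj.unit.app Y)) =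
        (mapDHomologyIso F j).inv.app _ ≫ (homologyFunctor B j).map
          (F.mapDerivedCategory.map (adj.unit.app Y)) ≫ (mapDHomologyIso F j).hom.app _ := by
      have hn' : (homologyFunctor B j).map (F.mapDerivedCategory.map (adj.unit.app Y)) ≫
          (mapDHomologyIso F j).hom.app _ =
          (mapDHomologyIso F j).hom.app _ ≫ F.map ((homologyFunctor A j).map (adj.unit.app Y)) :=
        hn
      rw [hn', Iso.inv_hom_id_app_assoc]
    rw [h5]
    infer_instance
  exact isIso_of_isIso_map F PA h2b (hY j) (hRX j) _ h4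

end General

section Core

variable {C : Type u} [SmallCategory C] {J : GrothendieckTopology C}
  {D : Type u} [SmallCategory D] {K : GrothendieckTopology D}
  {A : Type (u + 1)} [Category.{u} A] [Abelian A] [HasDerivedCategory.{w} A]
  {B : Type (u + 1)} [Category.{u} B] [Abelian B] [IsGrothendieckAbelian.{u} B]
  [HasDerivedCategory.{w} B] [HasExt.{w'} B] [HasInjectiveResolutions B]
  (sgA : SiteGens K A) (sgB : SiteGens J B)
  {F : A ⥤ B} [F.Additive] [PreservesFiniteLimits F] [PreservesFiniteColimits F]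
  {G : B ⥤ A} [G.Additive] (adj0 : F ⊣ G)
  [(Φ G).HasRightDerivedFunctor (HomotopyCategory.quasiIso B (ComplexShape.up ℤ))]
  (adj : F.mapDerivedCategory ⊣ RF G)
  (PA : ObjectProperty A) [IsWeakSerre PA] (PB : ObjectProperty B) [IsWeakSerre PB]
  (h2a : ∀ M : A, PA M → PB (F.obj M))
  (h2b : ∀ M M' : A, PA M → PA M' → Function.Bijective (fun φ : M ⟶ M' => F.map φ))
  (h2c : ∀ N : B, PB N → ∃ M : A, PA M ∧ Nonempty (F.obj M ≅ N))
  (h3 : ∀ M : A, PA M → IsIso (adj.unit.app ((singleFunctor A 0).obj M)))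
  (BC : Set C) (BD : Set D)
  (hBJ : ∀ U : C, ∃ (ι : Type u) (Y : ι → C) (g : ∀ i, Y i ⟶ U),
    Sieve.ofArrows Y g ∈ J U ∧ ∀ i, Y i ∈ BC)
  (hAJ : ∀ V ∈ BC, ∃ d : ℕ, ∀ T ∈ J V, ∃ (ι : Type u) (Y : ι → C) (g : ∀ i, Y i ⟶ V),
    (∀ i, T.arrows (g i)) ∧ Sieve.ofArrows Y g ∈ J V ∧
    ∀ (i : ι) (N : B), PB N → ∀ k : ℕ, d < k →
      Subsingleton (Abelian.Ext.{w'} (sgB.G (Y i)) N k))
  (hBK : ∀ U : D, ∃ (ι : Type u) (Y : ι → D) (g : ∀ i, Y i ⟶ U),
    Sieve.ofArrows Y g ∈ K U ∧ ∀ i, Y i ∈ BD)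
  (hAK : ∀ V ∈ BD, ∃ d : ℕ, ∀ T ∈ K V, ∃ (ι : Type u) (Y : ι → D) (g : ∀ i, Y i ⟶ V),
    (∀ i, T.arrows (g i)) ∧ Sieve.ofArrows Y g ∈ K V ∧
    ∀ (i : ι) (N : B), PB N → ∀ k : ℕ, d < k →
      Subsingleton (Abelian.Ext.{w'} (F.obj (sgA.G (Y i))) N k))

include adj h2c h3 in
/-- the higher derived functors of `G` vanish on `PB`. -/
lemma isZero_rightDerived_of_unit (M : B) (hM : PB M) (p : ℕ) (hp : (0 : ℤ) < (p : ℤ)) :
    IsZero ((G.rightDerived p).obj M) := by
  have hB : HasKInjRes B := hasKInjRes_of_isGrothendieckAbelian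
  obtain ⟨M', hM', ⟨e⟩⟩ := h2c M hM
  haveI := h3 M' hM'
  have e' : F.mapDerivedCategory.obj ((singleFunctor A 0).obj M') ≅ (singleFunctor B 0).obj M :=
    (F.mapDerivedCategorySingleFunctor 0).app M' ≪≫ (singleFunctor B 0).mapIso e
  have e'' : (singleFunctor A 0).obj M' ≅ (RF G).obj ((singleFunctor B 0).obj M) :=
    asIso (adj.unit.app ((singleFunctor A 0).obj M')) ≪≫ (RF G).mapIso e'
  have hz : IsZero ((homologyFunctor A (0 + (p : ℤ))).obj ((singleFunctor A 0).obj M')) :=
    ((singleFunctor A 0).obj M').isZero_of_isLE 0 _ (by omega)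
  have hz' : IsZero ((HRF G (0 + (p : ℤ))).obj ((singleFunctor B 0).obj M)) :=
    hz.of_iso ((homologyFunctor A (0 + (p : ℤ))).mapIso e''.symm)
  exact hz'.of_iso (HRFSingleIso G hB M 0 p).symm

include adj0 adj h2c h3 hBJ hAJ hBK hAK in
/-- **counit part** (S9080 form). -/
theorem counit_part_upstairs (X : DerivedCategory B) (hX : cohIn PB X) :
    cohIn PA ((RF G).obj X) ∧ IsIso (adj.counit.app X) := by
  apply counit_part_of_trunc adj PA PB h2c h3 X hX
  intro j
  refine ⟨(-j).toNat, fun n hn => ?_⟩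
  exact SiteCmpDer2.isIso_HRF_toTruncTower.{w'} sgB sgA adj0 PB BC BD hBJ hAJ hBK hAK 0
    (fun M hM p hp => isZero_rightDerived_of_unit adj PA PB h2c h3 M hM p hp) X hX n j (by omega)

include adj0 adj h2a h2b h2c h3 hBJ hAJ hBK hAK in
/-- **unit part** (S9080 form). -/
theorem unit_part_upstairs (Y : DerivedCategory A) (hY : cohIn PA Y) :
    cohIn PB (F.mapDerivedCategory.obj Y) ∧ IsIso (adj.unit.app Y) :=
  unit_part_of_counit adj PA PB h2a h2b Y hY
    (counit_part_upstairs sgA sgB adj0 adj PA PB h2c h3 BC BD hBJ hAJ hBK hAK _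
      (cohIn_map PB PA h2a Y hY))

end Core

end Groth.Agent.Lib.Helper5.SiteCmpDer4
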