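import Mathlib
import Groth.Prelude.Def_SiteCmp
import Groth.Prelude.Def_WeakSerre
import Groth.Prelude.Def_CohSite
import Groth.Agent.Lib.Helper22.RightDerivedExact
import Groth.Agent.Lib.Helper5.SiteCmpCore

/-!
# Comparison of topologies: vanishing of `R^i ε_*` on the subcategories `A_X`
-/

set_option autoImplicit false

universe u

open CategoryTheory CategoryTheory.Limits Opposite

namespace Groth.Agent.Lib.Helper5.SiteCmpMain

open Groth.Agent.Lib.Helper5.SiteCmpKill Groth.Agent.Lib.Helper5.SiteCmpRel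
  Groth.Agent.Lib.Helper5.SiteCmpLZ Groth.Agent.Lib.Helper5.SiteCmpEdge
  Groth.Agent.Lib.Helper5.SiteCmpCore
open Groth.Agent.Lib.Helper22.DimShift

section gen

variable {D : Type u} [SmallCategory D] {K' : GrothendieckTopology D}

lemma sheafIso_hom_inv_apply {G₁ G₂ : Sheaf K' AddCommGrpCat.{u}} (φ : G₁ ≅ G₂) (T : D)
    (y : G₂.obj.obj (op T)) :
    (φ.hom.hom.app (op T)).hom ((φ.inv.hom.app (op T)).hom y) = y :=
  congrArg (fun θ => (θ.hom.app (op T)).hom y) φ.inv_hom_id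

lemma sheafIso_inv_hom_apply {G₁ G₂ : Sheaf K' AddCommGrpCat.{u}} (φ : G₁ ≅ G₂) (T : D)
    (x : G₁.obj.obj (op T)) :
    (φ.inv.hom.app (op T)).hom ((φ.hom.hom.app (op T)).hom x) = x :=
  congrArg (fun θ => (θ.hom.app (op T)).hom x) φ.hom_inv_id

end gen

section overSec

variable {C : Type u} [SmallCategory C]

lemma mem_of_overEquiv_left {Y : C} {U : Over Y} (S : Sieve U) {T : Over Y} (t : T ⟶ U)
    (ht : (Sieve.overEquiv U S).arrows t.left) : S.arrows t := by
  have h := (Sieve.overEquiv_symm_iff (Sieve.overEquiv U S) t).2 ht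
  rwa [OrderIso.symm_apply_apply] at h

end overSec

section fixed

variable {C : Type u} [SmallCategory C] {X Y : C} (f : X ⟶ Y)

instance (T : GrothendieckTopology C) : PreservesFiniteLimits (fstar T f) := by
  have : PreservesLimitsOfSize.{0, 0} (fstar T f) :=
    ((Over.map f).sheafAdjunctionCocontinuous AddCommGrpCat.{u}
      (T.over X) (T.over Y)).rightAdjoint_preservesLimits
  infer_instance

variable [HasPullbacksAlong f]

theorem nonempty_Rfstar_iso_RΦK (T : GrothendieckTopology C)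
    (F' : Sheaf (T.over Y) AddCommGrpCat.{u}) (i : ℕ) :
    Nonempty (((fstar T f).rightDerived i).obj ((Φ T f).obj F') ≅
      ((ΦK f T).rightDerived i).obj F') := by
  let a1 := (RDer.rightDerivedIso (fstarIso T f) i).app ((Φ T f).obj F')
  have hv : ∀ q : ℕ, 0 < q → IsZero (((Φ T f).rightDerived q).obj F') := by
    intro q hq
    obtain ⟨q, rfl⟩ := Nat.exists_eq_succ_of_ne_zero hq.ne'
    exact isZero_rightDerived_succ_of_preservesHomology (Φ T f) q F'
  haveI := Groth.Agent.Lib.Helper22.EdgeIn.isIso_edgeIn (Φ T f) (Ψ T f) F' hv i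
  let a2 := asIso (RDer.edgeIn (Φ T f) (Ψ T f) i F')
  let a3 : ((Φ T f ⋙ Ψ T f).rightDerived i).obj F' ≅ ((ΦK f T).rightDerived i).obj F' :=
    Iso.refl _
  exact ⟨a1 ≪≫ a2 ≪≫ a3⟩

end fixed

section main

variable {C : Type u} [SmallCategory C] {J J' : GrothendieckTopology C} (h : J' ≤ J)
  (P : MorphismProperty C)
  (A' : ∀ X : C, ObjectProperty (Sheaf (J'.over X) AddCommGrpCat.{u}))
  [∀ X : C, WSerre.IsWeakSerre (A' X)]

/-- the statement `(V_n)` -/
def VV (n : ℕ) : Prop :=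
  ∀ (Y : C) (F : Sheaf (J.over Y) AddCommGrpCat.{u}),
    A' Y ((SiteCmp.epsSh (SiteCmp.over_le h Y) AddCommGrpCat.{u}).obj F) →
    ∀ q : ℕ, 1 ≤ q → q ≤ n →
      IsZero (((SiteCmp.epsSh (SiteCmp.over_le h Y) AddCommGrpCat.{u}).rightDerived q).obj F)

/-- localisation: `R^k ε_*` commutes with restriction to `C/V` -/
theorem nonempty_loc_iso {V Y : C} (v : V ⟶ Y) (F : Sheaf (J.over Y) AddCommGrpCat.{u}) (k : ℕ) :
    Nonempty (((SiteCmp.epsSh (SiteCmp.over_le h V) AddCommGrpCat.{u}).rightDerived k).obj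
        ((Φ J v).obj F) ≅
      (Φ J' v).obj (((SiteCmp.epsSh (SiteCmp.over_le h Y) AddCommGrpCat.{u}).rightDerived k).obj
        F)) := by
  let εV := SiteCmp.epsSh (SiteCmp.over_le h V) AddCommGrpCat.{u}
  let εY := SiteCmp.epsSh (SiteCmp.over_le h Y) AddCommGrpCat.{u}
  have hv : ∀ q : ℕ, IsZero (((Φ J v).rightDerived (q + 1)).obj F) := fun q =>
    isZero_rightDerived_succ_of_preservesHomology (Φ J v) q F
  obtain ⟨e1⟩ := nonempty_rightDerived_comp_iso (Φ J v) εV (Φ J v ⋙ εV) (Iso.refl _)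
    (fun I hI => (Φ J v).injective_obj_of_injective hI) k F hv
  let e0 : Φ J v ⋙ εV ≅ εY ⋙ Φ J' v := Iso.refl _
  let e2 := (rightDerivedIsoOfNatIso e0 k).app F
  let e3 := rightDerivedCompExactIso εY (Φ J' v) k F
  exact ⟨e1 ≪≫ e2 ≪≫ e3⟩

variable
  (h1 : ∀ ⦃X Y : C⦄ (f : X ⟶ Y), P f → ∀ ⦃Y' : C⦄ (g : Y' ⟶ Y),
    ∃ (W : C) (p : W ⟶ Y') (q : W ⟶ X), IsPullback p q g f ∧ P p)
  (h2 : ∀ ⦃X Y : C⦄ (f : X ⟶ Y) (F' : Sheaf (J'.over Y) AddCommGrpCat.{u}), A' Y F' →
    A' X ((CohSite.push (J'.over Y) (J'.over X) (Over.map f)).obj F'))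
  (h3 : ∀ (X : C) (F' : Sheaf (J'.over X) AddCommGrpCat.{u}), A' X F' →
    Presheaf.IsSheaf (J.over X) F'.obj)
  (h4 : ∀ ⦃X Y : C⦄ (f : X ⟶ Y)
    [((Over.map f).sheafPushforwardCocontinuous AddCommGrpCat.{u} (J'.over X)
      (J'.over Y)).Additive],
    P f → ∀ (F' : Sheaf (J'.over X) AddCommGrpCat.{u}), A' X F' → ∀ i : ℕ,
      A' Y ((((Over.map f).sheafPushforwardCocontinuous AddCommGrpCat.{u} (J'.over X)
        (J'.over Y)).rightDerived i).obj F'))
  (h5 : ∀ (U : C) (S : Sieve U), S ∈ J U → ∃ (ι : Type u) (V : ι → C) (v : ∀ j, V j ⟶ U),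
    Sieve.ofArrows V v ∈ J' U ∧ ∀ j, ∃ (W : C) (w : W ⟶ V j), P w ∧
      Sieve.ofArrows (fun _ : PUnit.{u + 1} => W) (fun _ => w) ∈ J (V j) ∧
      ∃ (κ : Type u) (Wk : κ → C) (wk : ∀ k, Wk k ⟶ W), Sieve.ofArrows Wk wk ∈ J' W ∧
        ∀ k, S.arrows (wk k ≫ w ≫ v j))

include h2 h3 h4 in
/-- injectivity of restriction to a covering in `P`, over an arbitrary base -/
theorem inj_of_cover (n : ℕ) (hVn : VV h A' n) {V W : C} (g : W ⟶ V) [HasPullbacksAlong g]
    (hP : P g) (hcov : Sieve.ofArrows (fun _ : PUnit.{u + 1} => W) (fun _ => g) ∈ J V)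
    (F : Sheaf (J.over V) AddCommGrpCat.{u})
    (hF : A' V ((SiteCmp.epsSh (SiteCmp.over_le h V) AddCommGrpCat.{u}).obj F))
    (Z : Over V)
    (s : (((SiteCmp.epsSh (SiteCmp.over_le h V) AddCommGrpCat.{u}).rightDerived (n + 1)).obj
      F).obj.obj (op Z))
    (hs : ((((SiteCmp.epsSh (SiteCmp.over_le h V) AddCommGrpCat.{u}).rightDerived (n + 1)).obj
      F).obj.map ((Over.mapPullbackAdj g).counit.app Z).op).hom s = 0) : s = 0 := by
  let εV := SiteCmp.epsSh (SiteCmp.over_le h V) AddCommGrpCat.{u}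
  let εW := SiteCmp.epsSh (SiteCmp.over_le h W) AddCommGrpCat.{u}
  have hFW : A' W ((Φ J' g).obj (εV.obj F)) := h2 g _ hF
  have hFW' : A' W (εW.obj ((Φ J g).obj F)) := hFW
  refine core h hcov (A' V) (h3 V) n (fun Q hQ q hq1 hqn => hVn V Q hQ q hq1 hqn) F hF
    ?hΦF ?hR ?hRK ?hsh Z s hs
  case hΦF =>
    have h0 := h4 g hP _ hFW 0
    have i0 : ((fstar J' g).rightDerived 0).obj ((Φ J' g).obj (εV.obj F)) ≅
        (Ψ J' g).obj ((Φ J' g).obj (εV.obj F)) :=
      (fstar J' g).rightDerivedZeroIsoSelf.app _ ≪≫ (fstarIso J' g).app _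
    have h1' := (A' V).prop_of_iso i0 h0
    exact h1'
  case hR =>
    obtain ⟨i⟩ := nonempty_Rfstar_iso_RΦK g J' (εV.obj F) (n + 1)
    exact (A' V).prop_of_iso i (h4 g hP _ hFW (n + 1))
  case hRK =>
    intro q hq1 hqn
    obtain ⟨i1⟩ := nonempty_Rfstar_iso_RΦK g J F q
    have hVW : ∀ q' : ℕ, 1 ≤ q' → q' ≤ n →
        IsZero ((εW.rightDerived q').obj ((Φ J g).obj F)) :=
      fun q' a b => hVn W _ hFW' q' a b
    have hA : A' V (((fstar J' g).rightDerived q).obj (εW.obj ((Φ J g).obj F))) :=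
      h4 g hP _ hFW' q
    obtain ⟨i2⟩ := SiteCmpRel.main h g n ((Φ J g).obj F) hVW q (by omega) (h3 V _ hA)
    exact (A' V).prop_of_iso (i2 ≪≫ εV.mapIso i1) hA
  case hsh =>
    intro hn
    obtain ⟨pi⟩ := nonempty_cohomologyPresheaf_iso (SiteCmp.over_le h V) F n n le_rfl
      (hVn V F hF)
    obtain ⟨φ⟩ := nonempty_iso_sheafify J' g (εV.obj F) n
    have hA := h3 V _ (h4 g hP _ hFW n)
    exact (Presheaf.isSheaf_of_iso_iff ((sheafToPresheaf _ _).mapIso
      (φ ≪≫ (presheafToSheaf (J'.over V) AddCommGrpCat.{u}).mapIso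
        (Functor.isoWhiskerLeft (wf g).op pi)))).1 hA

include h1 h2 h3 h4 h5 in
/-- the inductive step -/
theorem step (n : ℕ) (ih : VV h A' n) (Y : C) (F : Sheaf (J.over Y) AddCommGrpCat.{u})
    (hF : A' Y ((SiteCmp.epsSh (SiteCmp.over_le h Y) AddCommGrpCat.{u}).obj F)) :
    IsZero (((SiteCmp.epsSh (SiteCmp.over_le h Y) AddCommGrpCat.{u}).rightDerived (n + 1)).obj
      F) := by
  rw [isZero_Reps_iff (SiteCmp.over_le h Y) F (n + 1)]
  intro U ξ
  let K := J.over Y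
  let K' := J'.over Y
  let P₀ := F.cohomologyPresheaf (n + 1)
  let εY := SiteCmp.epsSh (SiteCmp.over_le h Y) AddCommGrpCat.{u}
  let G := (εY.rightDerived (n + 1)).obj F
  haveI := SiteCmp.idContinuous (SiteCmp.over_le h Y)
  obtain ⟨φ⟩ := Groth.Agent.S0487.result K K' (𝟭 (Over Y)) F (n + 1)
  let ψ : P₀ ⟶ G.obj := toSheafify K' ((𝟭 (Over Y)).op ⋙ P₀) ≫ φ.inv.hom
  have hψ : ∀ {T : Over Y} (x : P₀.obj (op T)), (ψ.app (op T)).hom x = 0 → LZ K' P₀ x := by
    intro T x hx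
    have h0 : (φ.inv.hom.app (op T)).hom
        (((toSheafify K' ((𝟭 (Over Y)).op ⋙ P₀)).app (op T)).hom x) = 0 := hx
    have h1' := congrArg (fun z => (φ.hom.hom.app (op T)).hom z) h0
    simp only [sheafIso_hom_inv_apply, map_zero] at h1'
    exact h1'
  have hψ' : ∀ {T : Over Y} (x : P₀.obj (op T)), LZ K' P₀ x → (ψ.app (op T)).hom x = 0 := by
    intro T x hx
    have h0 : ((toSheafify K' ((𝟭 (Over Y)).op ⋙ P₀)).app (op T)).hom x = 0 := hx
    show (φ.inv.hom.app (op T)).hom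
        (((toSheafify K' ((𝟭 (Over Y)).op ⋙ P₀)).app (op T)).hom x) = 0
    rw [h0, map_zero]
  have ψnat : ∀ {A B : Over Y} (k : A ⟶ B) (x : P₀.obj (op B)),
      (ψ.app (op A)).hom ((P₀.map k.op).hom x) = (G.obj.map k.op).hom ((ψ.app (op B)).hom x) :=
    fun k x => congrArg (fun θ => θ.hom x) (ψ.naturality k.op)
  have P₀comp : ∀ {A B E : Over Y} (a : A ⟶ B) (b : B ⟶ E) (x : P₀.obj (op E)),
      (P₀.map a.op).hom ((P₀.map b.op).hom x) = (P₀.map (a ≫ b).op).hom x := by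
    intro A B E a b x
    have := congrArg (fun θ => θ.hom x) (P₀.map_comp b.op a.op)
    exact this.symm
  -- (a) the class vanishes locally for the fine topology
  obtain ⟨S, hS, hS0⟩ := exists_cover_res_eq_zero K F n U ξ
  have hSC : Sieve.overEquiv U S ∈ J U.left := (GrothendieckTopology.mem_over_iff J S).1 hS
  obtain ⟨ι, V, v, hVcov, hW⟩ := h5 U.left (Sieve.overEquiv U S) hSC
  refine lz_of_cover ξ ((Sieve.overEquiv U).symm (Sieve.ofArrows V v))
    (GrothendieckTopology.overEquiv_symm_mem_over J' U _ hVcov) ?_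
  intro T g hg
  rw [Sieve.overEquiv_symm_iff, Sieve.mem_ofArrows_iff] at hg
  obtain ⟨j, a, ha⟩ := hg
  obtain ⟨W, w, hPw, hwcov, κ, Wk, wk, hWkcov, hWk⟩ := hW j
  let vY : V j ⟶ Y := v j ≫ U.hom
  let T₀ : Over (V j) := Over.mk (𝟙 (V j))
  let Vh : Over Y := (Over.map vY).obj T₀
  let gj : Vh ⟶ U := Over.homMk (v j) (by simp [Vh, T₀, vY])
  let ah : T ⟶ Vh := Over.homMk a (by
    rw [← Over.w g, ha]
    simp [Vh, T₀, vY])
  have hg' : g = ah ≫ gj := by
    ext
    simp [ah, gj, ha]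
  suffices key : LZ K' P₀ ((P₀.map gj.op).hom ξ) by
    have e : (P₀.map g.op).hom ξ = (P₀.map ah.op).hom ((P₀.map gj.op).hom ξ) := by
      rw [P₀comp, hg']
    rw [e]
    exact lz_res ah key
  apply hψ
  -- localisation to `V j`
  haveI : HasPullbacksAlong w := fun g' => by
    obtain ⟨W', p, q, hpb, -⟩ := h1 w hPw g'
    exact hpb.hasPullback
  let FV := (Φ J vY).obj F
  have hFV : A' (V j) ((SiteCmp.epsSh (SiteCmp.over_le h (V j)) AddCommGrpCat.{u}).obj FV) :=
    h2 vY _ hF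
  obtain ⟨lam⟩ := nonempty_loc_iso h vY F (n + 1)
  let s : G.obj.obj (op Vh) := (ψ.app (op Vh)).hom ((P₀.map gj.op).hom ξ)
  let GV := ((SiteCmp.epsSh (SiteCmp.over_le h (V j)) AddCommGrpCat.{u}).rightDerived
    (n + 1)).obj FV
  let sV : GV.obj.obj (op T₀) := (lam.inv.hom.app (op T₀)).hom s
  have hsV : sV = 0 := by
    apply inj_of_cover h P A' h2 h3 h4 n ih w hPw hwcov FV hFV T₀ sV
    let ρ : (wf w).obj T₀ ⟶ Over.mk w :=
      Over.homMk (pullback.snd (𝟙 (V j)) w) (by simp [wf, T₀])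
    let wh : Over.mk w ⟶ T₀ := Over.homMk w (by simp [T₀])
    have hfac : (Over.mapPullbackAdj w).counit.app T₀ = ρ ≫ wh := by
      ext
      simp [ρ, wh, T₀]
      simpa using (pullback.condition (f := 𝟙 (V j)) (g := w))
    -- restriction of `sV` along `wh` vanishes
    have h0 : (GV.obj.map wh.op).hom sV = 0 := by
      have e1 := sheafHom_naturality_apply lam.inv wh s
      -- e1 : lam.inv (res wh s) = res wh (lam.inv s)
      refine e1.symm.trans ?_
      have e2 : (((Φ J' vY).obj G).obj.map wh.op).hom s = 0 := by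
        let k : (Over.map vY).obj (Over.mk w) ⟶ Vh := (Over.map vY).map wh
        show (G.obj.map k.op).hom s = 0
        rw [← ψnat k, P₀comp]
        apply hψ'
        rw [lz_iff_exists_sieve]
        refine ⟨(Sieve.overEquiv ((Over.map vY).obj (Over.mk w))).symm (Sieve.ofArrows Wk wk),
          GrothendieckTopology.overEquiv_symm_mem_over J' _ _ hWkcov, ?_⟩
        intro T' t ht
        rw [Sieve.overEquiv_symm_iff, Sieve.mem_ofArrows_iff] at ht
        obtain ⟨k', b, hb⟩ := ht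
        rw [P₀comp]
        apply hS0
        apply mem_of_overEquiv_left
        have e3 : (t ≫ k ≫ gj).left = b ≫ (wk k' ≫ w ≫ v j) := by
          simp [k, gj, wh, hb]
        rw [e3]
        exact (Sieve.overEquiv U S).downward_closed (hWk k') b
      rw [e2, map_zero]
    rw [hfac, op_comp, GV.obj.map_comp]
    show (GV.obj.map ρ.op).hom ((GV.obj.map wh.op).hom sV) = 0
    rw [h0, map_zero]
  have hs0 : s = 0 := by
    have e := sheafIso_hom_inv_apply lam T₀ s
    rw [← e]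
    show (lam.hom.hom.app (op T₀)).hom sV = 0
    rw [hsV, map_zero]
  exact hs0

include h1 h2 h3 h4 h5 in
theorem V_all (n : ℕ) : VV h A' n := by
  induction n with
  | zero =>
    intro Y F hF q hq1 hq0
    omega
  | succ n ih =>
    intro Y F hF q hq1 hqn
    rcases Nat.lt_or_ge q (n + 1) with hlt | hge
    · exact ih Y F hF q hq1 (by omega)
    · obtain rfl : q = n + 1 := by omega
      exact step h P A' h1 h2 h3 h4 h5 n ih Y F hF

end main

end Groth.Agent.Lib.Helper5.SiteCmpMain
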