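import Mathlib
import Groth.Prelude.Def_SiteCmp
import Groth.Prelude.Def_WeakSerre
import Groth.Prelude.Def_CohSite
import Groth.Agent.Lib.Helper5.SiteCmpMain

/-!
# Comparison of topologies: `A_X` is weak Serre, and cohomology of `ε^{-1}F'`
-/

set_option autoImplicit false

universe u

open CategoryTheory CategoryTheory.Limits Opposite

namespace Groth.Agent.Lib.Helper5.SiteCmpSerre

open Groth.Agent.Lib.Helper5.SiteCmpKill Groth.Agent.Lib.Helper5.SiteCmpRel
  Groth.Agent.Lib.Helper5.SiteCmpLZ Groth.Agent.Lib.Helper5.SiteCmpEdge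
  Groth.Agent.Lib.Helper5.SiteCmpCore Groth.Agent.Lib.Helper5.SiteCmpMain
open Groth.Agent.Lib.Helper22.DimShift

section gen

variable {𝒜 : Type*} [Category 𝒜] [Abelian 𝒜] [EnoughInjectives 𝒜]
  {𝒟 : Type*} [Category 𝒟] [Abelian 𝒟]

open Groth.Agent.Lib.Helper22.DeltaMV in
/-- a left exact functor keeps a short exact sequence exact if `R^1` of the kernel vanishes -/
theorem shortExact_map_of_isZero_R1 (T : 𝒜 ⥤ 𝒟) [T.Additive] [PreservesFiniteLimits T]
    (S : ShortComplex 𝒜) (hS : S.ShortExact) (hz : IsZero ((T.rightDerived 1).obj S.X₁)) :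
    (S.map T).ShortExact := by
  have h3 := (RD T).exact₃ S hS 0 1 rfl
  have hδ : (RD T).δ S hS 0 1 rfl = 0 := hz.eq_of_tgt _ _
  have hepi0 : Epi ((T.rightDerived 0).map S.g) := h3.epi_f_iff.2 hδ
  have e : T.map S.g = T.rightDerivedZeroIsoSelf.inv.app _ ≫ (T.rightDerived 0).map S.g ≫
      T.rightDerivedZeroIsoSelf.hom.app _ := by
    rw [T.rightDerivedZeroIsoSelf.hom.naturality S.g, Iso.inv_hom_id_app_assoc]
  have hepi : Epi (T.map S.g) := by
    rw [e]
    infer_instance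
  have hm : Mono S.f := hS.mono_f
  have h1 : (S.map T).Exact := hS.exact.map_of_mono_of_preservesKernel T hm inferInstance
  have h2 : Mono (S.map T).f := inferInstanceAs (Mono (T.map S.f))
  exact ShortComplex.ShortExact.mk' h1 h2 hepi

end gen

section sheaves

variable {D : Type u} [SmallCategory D] {K K' : GrothendieckTopology D} (h : K' ≤ K)

/-- `ε_*` is fully faithful -/
def epsFullyFaithful : (SiteCmp.epsSh h AddCommGrpCat.{u}).FullyFaithful where
  preimage φ := ⟨φ.hom⟩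
  map_preimage φ := by
    apply Sheaf.hom_ext
    rfl
  preimage_map f := by
    apply Sheaf.hom_ext
    rfl

/-- a `K'`-sheaf which is a `K`-sheaf, as a `K`-sheaf -/
def liftSheaf (F' : Sheaf K' AddCommGrpCat.{u}) (hF' : Presheaf.IsSheaf K F'.obj) :
    Sheaf K AddCommGrpCat.{u} := ⟨F'.obj, hF'⟩

def epsLiftIso (F' : Sheaf K' AddCommGrpCat.{u}) (hF' : Presheaf.IsSheaf K F'.obj) :
    (SiteCmp.epsSh h AddCommGrpCat.{u}).obj (liftSheaf F' hF') ≅ F' where
  hom := ⟨𝟙 F'.obj⟩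
  inv := ⟨𝟙 F'.obj⟩
  hom_inv_id := by
    apply Sheaf.hom_ext
    exact Category.comp_id _
  inv_hom_id := by
    apply Sheaf.hom_ext
    exact Category.comp_id _

end sheaves

section main

variable {C : Type u} [SmallCategory C] {J J' : GrothendieckTopology C} (h : J' ≤ J)
  (P : MorphismProperty C)
  (A' : ∀ X : C, ObjectProperty (Sheaf (J'.over X) AddCommGrpCat.{u}))
  [∀ X : C, WSerre.IsWeakSerre (A' X)]
  (h1 : ∀ ⦃X Y : C⦄ (f : X ⟶ Y), P f → ∀ ⦃Y' : C⦄ (g : Y' ⟶ Y),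
    ∃ (W : C) (p : W ⟶ Y') (q : W ⟶ X), IsPullback p q g f ∧ P p)
  (h2 : ∀ ⦃X Y : C⦄ (f : X ⟶ Y) (F' : Sheaf (J'.over Y) AddCommGrpCat.{u}), A' Y F' →
    A' X ((CohSite.push (J'.over Y) (J'.over X) (Over.map f)).obj F'))
  (h3 : ∀ (X : C) (F' : Sheaf (J'.over X) AddCommGrpCat.{u}), A' X F' →
    Presheaf.IsSheaf (J.over X) F'.obj)
  (h4 : ∀ ⦃X Y : C⦄ (f : X ⟶ Y)
    [((Over.map f).sheafPushforwardCocontinuous AddCommGrpCat.{u} (J'.over X)
      (J'.over Y)).Additive],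
    P f → ∀ (F' : Sheaf (J'.over X) AddCommGrpCat.{u}), A' X F' → ∀ i : ℕ,
      A' Y ((((Over.map f).sheafPushforwardCocontinuous AddCommGrpCat.{u} (J'.over X)
        (J'.over Y)).rightDerived i).obj F'))
  (h5 : ∀ (U : C) (S : Sieve U), S ∈ J U → ∃ (ι : Type u) (V : ι → C) (v : ∀ j, V j ⟶ U),
    Sieve.ofArrows V v ∈ J' U ∧ ∀ j, ∃ (W : C) (w : W ⟶ V j), P w ∧
      Sieve.ofArrows (fun _ : PUnit.{u + 1} => W) (fun _ => w) ∈ J (V j) ∧
      ∃ (κ : Type u) (Wk : κ → C) (wk : ∀ k, Wk k ⟶ W), Sieve.ofArrows Wk wk ∈ J' W ∧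
        ∀ k, S.arrows (wk k ≫ w ≫ v j))

include h1 h2 h3 h4 h5 in
theorem isWeakSerre (X : C) :
    WSerre.IsWeakSerre
      ((A' X).inverseImage (SiteCmp.epsSh (SiteCmp.over_le h X) AddCommGrpCat.{u})) := by
  let ε := SiteCmp.epsSh (SiteCmp.over_le h X) AddCommGrpCat.{u}
  have hV1 := V_all h P A' h1 h2 h3 h4 h5 1
  haveI : ((A' X).inverseImage ε).ContainsZero := inferInstance
  haveI : ((A' X).inverseImage ε).IsClosedUnderKernels := ⟨by
    rintro _ ⟨f, k, hk, ⟨h₁, h₂⟩⟩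
    exact (A' X).prop_of_isLimit_kernelFork (KernelFork.mapIsLimit k hk ε) h₁ h₂⟩
  haveI : ((A' X).inverseImage ε).IsClosedUnderCokernels := ⟨by
    rintro _ ⟨f, k, hk, ⟨h₁, h₂⟩⟩
    have hc := (coker_trick (SiteCmp.over_le h X) (A' X) (h3 X) f h₁ h₂).1
    let i := IsColimit.coconePointUniqueUpToIso (cokernelIsCokernel f) hk
    exact (A' X).prop_of_iso (ε.mapIso i) hc⟩
  haveI : ((A' X).inverseImage ε).IsClosedUnderExtensions := ⟨by
    intro S hS h₁ h₃
    have hz : IsZero ((ε.rightDerived 1).obj S.X₁) := hV1 X S.X₁ h₁ 1 le_rfl le_rfl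
    have hS' := shortExact_map_of_isZero_R1 ε S hS hz
    exact (A' X).prop_X₂_of_shortExact hS' h₁ h₃⟩
  exact { }

include h1 h2 h3 h4 h5 in
theorem nonempty_cohomology_equiv (X : C) (F' : Sheaf (J'.over X) AddCommGrpCat.{u})
    (hF' : A' X F') (n : ℕ) (U : Over X) :
    Nonempty (CohSite.HU F' n U ≃+
      CohSite.HU ((SiteCmp.epsShInv (SiteCmp.over_le h X) AddCommGrpCat.{u}).obj F') n U) := by
  let K := J.over X
  let K' := J'.over X
  have hle : K' ≤ K := SiteCmp.over_le h X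
  let ε := SiteCmp.epsSh (SiteCmp.over_le h X) AddCommGrpCat.{u}
  let εi := SiteCmp.epsShInv (SiteCmp.over_le h X) AddCommGrpCat.{u}
  let adj := SiteCmp.epsShAdj (SiteCmp.over_le h X) AddCommGrpCat.{u}
  let F'' : Sheaf K AddCommGrpCat.{u} := liftSheaf F' (h3 X F' hF')
  let iF : ε.obj F'' ≅ F' := epsLiftIso (SiteCmp.over_le h X) F' (h3 X F' hF')
  haveI : ε.Full := (epsFullyFaithful (SiteCmp.over_le h X)).full
  haveI : ε.Faithful := (epsFullyFaithful (SiteCmp.over_le h X)).faithful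
  haveI : IsIso (adj.counit.app F'') := inferInstance
  let iM : εi.obj F' ≅ F'' := εi.mapIso iF.symm ≪≫ asIso (adj.counit.app F'')
  have hA'' : A' X (ε.obj F'') := (A' X).prop_of_iso iF.symm hF'
  have hV := V_all h P A' h1 h2 h3 h4 h5 n X F'' hA''
  obtain ⟨p1⟩ := nonempty_cohomologyPresheaf_iso (SiteCmp.over_le h X) F'' n n le_rfl hV
  let p0 : F'.cohomologyPresheaf n ≅ (ε.obj F'').cohomologyPresheaf n :=
    (Sheaf.cohomologyPresheafFunctor K' n).mapIso iF.symm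
  let p2 : F''.cohomologyPresheaf n ≅ (εi.obj F').cohomologyPresheaf n :=
    (Sheaf.cohomologyPresheafFunctor K n).mapIso iM.symm
  let p := p0 ≪≫ p1 ≪≫ p2
  exact ⟨(p.app (op U)).addCommGroupIsoToAddEquiv⟩

end main

end Groth.Agent.Lib.Helper5.SiteCmpSerre
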