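import Mathlib
import Groth.Agent.Lib.Helper5.SiteCmpSerre
import Groth.Agent.Lib.Helper5.SiteCmpDer2

/-!
# Abstract ingredients for S9071: essential image of a weak Serre class under a fully faithful
right adjoint, refinement of coverings, local vanishing of `H^m(RF (S_0 N))`
-/

set_option autoImplicit false
set_option linter.unusedSectionVars false
set_option linter.style.haveILetI false

universe w' w w₁ w₂ v v₁ v₂ u u₁ u₂

open CategoryTheory Limits Opposite

namespace Groth.Agent.Lib.Helper5.SiteCmpDer5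

section Refine

variable {C : Type u} [SmallCategory C] (J : GrothendieckTopology C) (B : Set C)
  (hB : ∀ U : C, ∃ (ι : Type u) (Y : ι → C) (g : ∀ i, Y i ⟶ U),
    Sieve.ofArrows Y g ∈ J U ∧ ∀ i, Y i ∈ B)

include hB in
/-- every covering sieve contains a covering family with members in `B`. -/
lemma exists_refinement (V : C) (T : Sieve V) (hT : T ∈ J V) :
    ∃ (ι : Type u) (Y : ι → C) (g : ∀ i, Y i ⟶ V),
      (∀ i, T.arrows (g i)) ∧ Sieve.ofArrows Y g ∈ J V ∧ ∀ i, Y i ∈ B := by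
  choose ι Y g hcov hYB using hB
  refine ⟨Σ (W : C) (k : W ⟶ V), PLift (T.arrows k) × ι W,
    fun x => Y x.1 x.2.2.2, fun x => g x.1 x.2.2.2 ≫ x.2.1,
    fun x => T.downward_closed x.2.2.1.down _, ?_, fun x => hYB _ _⟩
  refine J.superset_covering ?_ (J.bind_covering hT (fun W k _ => hcov W))
  rintro Z m ⟨W, m', k, hk, hm', rfl⟩
  obtain ⟨_, m'', _, ⟨i⟩, rfl⟩ := hm'
  refine ⟨_, m'', _, Presieve.ofArrows.mk (⟨W, k, ⟨hk⟩, i⟩ : Σ (W : C) (k : W ⟶ V),
    PLift (T.arrows k) × ι W), ?_⟩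
  simp

end Refine

section Adj

variable {𝒜 : Type*} [Category 𝒜] {𝒜' : Type*} [Category 𝒜']
  {L : 𝒜' ⥤ 𝒜} {G : 𝒜 ⥤ 𝒜'} (adj : L ⊣ G)

lemma isIso_unit_app_obj [IsIso adj.counit] (N : 𝒜) : IsIso (adj.unit.app (G.obj N)) := by
  have h := adj.right_triangle_components N
  have h0 : adj.unit.app (G.obj N) = inv (G.map (adj.counit.app N)) := by
    refine (cancel_mono (G.map (adj.counit.app N))).1 ?_
    rw [h, IsIso.inv_hom_id]
    rfl
  rw [h0]
  infer_instance

lemma isIso_unit_app_of_iso [IsIso adj.counit] {M : 𝒜'} {N : 𝒜} (e : G.obj N ≅ M) :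
    IsIso (adj.unit.app M) := by
  haveI := isIso_unit_app_obj adj N
  rw [← NatTrans.isIso_app_iff_of_iso adj.unit e]
  infer_instance

/-- `L` is bijective on morphisms into an object at which the unit is invertible. -/
lemma map_bijective_of_isIso_unit (M M' : 𝒜') [IsIso (adj.unit.app M')] :
    Function.Bijective (fun φ : M ⟶ M' => L.map φ) := by
  have h1 : ∀ φ : M ⟶ M', adj.homEquiv M (L.obj M') (L.map φ) = φ ≫ adj.unit.app M' := by
    intro φ
    rw [adj.homEquiv_unit]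
    exact (adj.unit.naturality φ).symm
  constructor
  · intro φ φ' hφ
    have h2 : φ ≫ adj.unit.app M' = φ' ≫ adj.unit.app M' := by
      rw [← h1, ← h1]
      exact congrArg _ hφ
    exact (cancel_mono _).1 h2
  · intro χ
    refine ⟨adj.homEquiv M (L.obj M') χ ≫ inv (adj.unit.app M'), ?_⟩
    apply (adj.homEquiv M (L.obj M')).injective
    rw [h1, Category.assoc, IsIso.inv_hom_id, Category.comp_id]

end Adj

section WS

open WSerre Groth.Agent.Lib.Helper5.SiteCmpSerre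

variable {𝒜 : Type*} [Category 𝒜] [Abelian 𝒜] [EnoughInjectives 𝒜]
  {𝒜' : Type*} [Category 𝒜'] [Abelian 𝒜']
  {L : 𝒜' ⥤ 𝒜} {G : 𝒜 ⥤ 𝒜'} (adj : L ⊣ G) [G.Additive] [L.Additive]
  [PreservesFiniteLimits L] [PreservesFiniteColimits L] [PreservesFiniteLimits G]
  [G.Full] [G.Faithful]
  (P : ObjectProperty 𝒜) [IsWeakSerre P]
  (hR1 : ∀ N, P N → IsZero ((G.rightDerived 1).obj N))

include adj hR1 in
/-- **the essential image of a weak Serre class under a fully faithful right adjoint of an exact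
functor, on which `R^1` vanishes, is weak Serre.** -/
theorem isWeakSerre_map : IsWeakSerre (P.map G) := by
  haveI : IsIso adj.counit := inferInstance
  haveI : (P.map G).ContainsZero := ⟨by
    obtain ⟨Z, hZ, hPZ⟩ := P.exists_prop_of_containsZero
    exact ⟨G.obj Z, G.map_isZero hZ, P.prop_map_obj G hPZ⟩⟩
  haveI : (P.map G).IsClosedUnderKernels := ⟨by
    rintro _ ⟨f, k, hk, ⟨⟨N₁, hN₁, ⟨e₁⟩⟩, ⟨N₂, hN₂, ⟨e₂⟩⟩⟩⟩
    let ψ : N₁ ⟶ N₂ := G.preimage (e₁.hom ≫ f ≫ e₂.inv)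
    have hψ : G.map ψ = e₁.hom ≫ f ≫ e₂.inv := G.map_preimage _
    have hker : P (kernel ψ) := P.prop_of_isLimit_kernelFork (limit.isLimit (parallelPair ψ 0)) hN₁ hN₂
    refine ⟨kernel ψ, hker, ⟨PreservesKernel.iso G ψ ≪≫
      kernel.mapIso (G.map ψ) f e₁ e₂ (by rw [hψ]; simp) ≪≫
      IsLimit.conePointUniqueUpToIso (limit.isLimit (parallelPair f 0)) hk⟩⟩⟩
  haveI : (P.map G).IsClosedUnderCokernels := ⟨by
    rintro _ ⟨f, c, hc, ⟨⟨N₁, hN₁, ⟨e₁⟩⟩, ⟨N₂, hN₂, ⟨e₂⟩⟩⟩⟩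
    let ψ : N₁ ⟶ N₂ := G.preimage (e₁.hom ≫ f ≫ e₂.inv)
    have hψ : G.map ψ = e₁.hom ≫ f ≫ e₂.inv := G.map_preimage _
    have hker : P (kernel ψ) := P.prop_of_isLimit_kernelFork (limit.isLimit (parallelPair ψ 0)) hN₁ hN₂
    have hcoker : P (cokernel ψ) :=
      P.prop_of_isColimit_cokernelCofork (colimit.isColimit (parallelPair ψ 0)) hN₁ hN₂
    have him : P (Abelian.image ψ) :=
      P.prop_of_isLimit_kernelFork (limit.isLimit (parallelPair (cokernel.π ψ) 0)) hN₂ hcoker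
    -- the two short exact sequences
    let S₁ : ShortComplex 𝒜 := ShortComplex.mk (kernel.ι ψ) (Abelian.factorThruImage ψ) (by
      rw [← cancel_mono (Abelian.image.ι ψ), Category.assoc, Abelian.image.fac, kernel.condition,
        zero_comp])
    have hS₁ : S₁.ShortExact := by
      have hex : S₁.Exact := ShortComplex.exact_of_f_is_kernel S₁
        (isKernelOfComp (Abelian.image.ι ψ) ψ (kernelIsKernel ψ) S₁.zero (Abelian.image.fac ψ))
      exact ShortComplex.ShortExact.mk' hex (inferInstanceAs (Mono (kernel.ι ψ)))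
        (inferInstanceAs (Epi (Abelian.factorThruImage ψ)))
    let S₂ : ShortComplex 𝒜 := ShortComplex.mk (Abelian.image.ι ψ) (cokernel.π ψ) (by simp)
    have hS₂ : S₂.ShortExact := by
      have hex : S₂.Exact := ShortComplex.exact_of_f_is_kernel S₂ (kernelIsKernel (cokernel.π ψ))
      exact ShortComplex.ShortExact.mk' hex (inferInstanceAs (Mono (Abelian.image.ι ψ)))
        (inferInstanceAs (Epi (cokernel.π ψ)))
    have hS₁' := shortExact_map_of_isZero_R1 G S₁ hS₁ (hR1 _ hker)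
    have hS₂' := shortExact_map_of_isZero_R1 G S₂ hS₂ (hR1 _ him)
    have hepi₁ : Epi (G.map (Abelian.factorThruImage ψ)) := hS₁'.epi_g
    haveI : Epi (S₂.map G).g := hS₂'.epi_g
    have hcok := hS₂'.exact.gIsCokernel
    have hcok' := isCokernelEpiComp hcok (G.map (Abelian.factorThruImage ψ)) (hg := hepi₁)
      (show G.map ψ = G.map (Abelian.factorThruImage ψ) ≫ (S₂.map G).f by
        change G.map ψ = G.map (Abelian.factorThruImage ψ) ≫ G.map (Abelian.image.ι ψ)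
        rw [← G.map_comp, Abelian.image.fac])
    refine ⟨cokernel ψ, hcoker, ⟨?_⟩⟩
    exact (IsColimit.coconePointUniqueUpToIso (cokernelIsCokernel (G.map ψ)) hcok').symm ≪≫
      cokernel.mapIso (G.map ψ) f e₁ e₂ (by rw [hψ]; simp) ≪≫
      IsColimit.coconePointUniqueUpToIso (colimit.isColimit (parallelPair f 0)) hc⟩
  haveI : (P.map G).IsClosedUnderExtensions := ⟨by
    intro S hS h₁ h₃
    obtain ⟨N₁, hN₁, ⟨e₁⟩⟩ := h₁
    obtain ⟨N₃, hN₃, ⟨e₃⟩⟩ := h₃
    have hLS : (S.map L).ShortExact := hS.map_of_exact L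
    have i₁ : L.obj S.X₁ ≅ N₁ := (L.mapIso e₁).symm ≪≫ asIso (adj.counit.app N₁)
    have i₃ : L.obj S.X₃ ≅ N₃ := (L.mapIso e₃).symm ≪≫ asIso (adj.counit.app N₃)
    have hP₁ : P (L.obj S.X₁) := P.prop_of_iso i₁.symm hN₁
    have hP₃ : P (L.obj S.X₃) := P.prop_of_iso i₃.symm hN₃
    have hP₂ : P (L.obj S.X₂) := P.prop_X₂_of_shortExact hLS hP₁ hP₃
    have hGLS : ((S.map L).map G).ShortExact :=
      shortExact_map_of_isZero_R1 G (S.map L) hLS (hR1 _ hP₁)
    let φ : S ⟶ (S.map L).map G :=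
      { τ₁ := adj.unit.app S.X₁
        τ₂ := adj.unit.app S.X₂
        τ₃ := adj.unit.app S.X₃
        comm₁₂ := (adj.unit.naturality S.f).symm
        comm₂₃ := (adj.unit.naturality S.g).symm }
    haveI : IsIso φ.τ₁ := isIso_unit_app_of_iso adj e₁
    haveI : IsIso φ.τ₃ := isIso_unit_app_of_iso adj e₃
    haveI : IsIso (adj.unit.app S.X₂) :=
      ShortComplex.isIso₂_of_shortExact_of_isIso₁₃ φ hS hGLS
    exact ⟨L.obj S.X₂, hP₂, ⟨(asIso (adj.unit.app S.X₂)).symm⟩⟩⟩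
  exact { }

end WS

section Vanish

open DerivedCategory Groth.Agent.Lib.Helper17.SG1 Groth.Agent.Lib.Helper17.SG2
open Groth.Agent.Lib.Helper17.RFTri Groth.Agent.Lib.Helper17.DerKInj
open Groth.Agent.Lib.Helper5.SiteCmpDer2

variable {D : Type u} [Category.{v} D] {K : GrothendieckTopology D}
  {A : Type u₁} [Category.{v₁} A] [Abelian A] [IsGrothendieckAbelian.{v₁} A]
  [HasDerivedCategory.{w₁} A] [HasExt.{w'} A]
  {B : Type u₂} [Category.{v₂} B] [Abelian B] [HasDerivedCategory.{w₂} B]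
  (sg : SiteGens K B) {P : B ⥤ A} {G : A ⥤ B} (adj : P ⊣ G) [G.Additive] [P.Additive]
  [(Φ G).HasRightDerivedFunctor (HomotopyCategory.quasiIso A (ComplexShape.up ℤ))]

include adj in
/-- local vanishing of `Ext^k(P G_V, N)` forces `H^k(RF (S_0 N)) = 0`. -/
theorem isZero_HRF_single_of_local (N : A) (k : ℕ) (BD : Set D)
    (hBK : ∀ U : D, ∃ (ι : Type u) (Y : ι → D) (g : ∀ i, Y i ⟶ U),
      Sieve.ofArrows Y g ∈ K U ∧ ∀ i, Y i ∈ BD)
    (hAK : ∀ V ∈ BD, ∀ T ∈ K V, ∃ (ι : Type u) (Y : ι → D) (g : ∀ i, Y i ⟶ V),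
      (∀ i, T.arrows (g i)) ∧ Sieve.ofArrows Y g ∈ K V ∧
      ∀ i, Subsingleton (Abelian.Ext.{w'} (P.obj (sg.G (Y i))) N k)) :
    IsZero ((HRF G (k : ℤ)).obj ((singleFunctor A 0).obj N)) := by
  have hA : HasKInjRes A := hasKInjRes_of_isGrothendieckAbelian
  haveI : (RF G).PreservesZeroMorphisms := preservesZeroMorphisms_RF G hA
  let E := (HRF G (k : ℤ)).obj ((singleFunctor A 0).obj N)
  haveI : Mono (0 : E ⟶ E) := by
    apply mono_of_local sg _ BD hBK
    intro V hV σ _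
    have hσ : σ ≫ (homologyFunctor B (k : ℤ)).map
        ((RF G).map (0 : (singleFunctor A 0).obj N ⟶ (singleFunctor A 0).obj N)) = 0 := by
      rw [Functor.map_zero, Functor.map_zero, comp_zero]
    apply comp_eq_zero_of_local_across sg adj
      (0 : (singleFunctor A 0).obj N ⟶ (singleFunctor A 0).obj N) V (k : ℤ) _ σ hσ
    intro T hT
    obtain ⟨ι, Y, g, hgT, hcov, hv⟩ := hAK V hV T hT
    refine ⟨ι, Y, g, hgT, hcov, fun i => ?_⟩
    intro y _
    haveI := hv i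
    have hsub : Subsingleton (ShiftedHom ((singleFunctor A 0).obj (P.obj (sg.G (Y i))))
        ((singleFunctor A 0).obj N) ((k : ℕ) : ℤ)) :=
      (Abelian.Ext.homEquiv (X := P.obj (sg.G (Y i))) (Y := N) (n := k)).symm.subsingleton
    exact hsub.elim y 0
  exact IsZero.of_mono_zero E E

end Vanish

end Groth.Agent.Lib.Helper5.SiteCmpDer5
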