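import Mathlib
import Groth.Agent.Lib.Helper17.DerKInjH
import Groth.Agent.Lib.Helper5.SiteCmpDer3
import Groth.Agent.Lib.Helper5.SiteCmpDer4
import Groth.Agent.Lib.Helper5.SiteCmpDer5

/-!
# S9071: comparing two topologies, unbounded derived equivalence `D_{ε_* A}(O_τ') ≃ D_A(O_τ)`
-/

set_option autoImplicit false
set_option linter.unusedSectionVars false
set_option linter.style.haveILetI false

universe u

open CategoryTheory Limits Opposite DerivedCategory

attribute [local instance] HasDerivedCategory.standard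

namespace Groth.Agent.Lib.Helper5.SiteCmpDer6

open Groth.Agent.Lib.Helper17.SG1 Groth.Agent.Lib.Helper17.SG3 Groth.Agent.Lib.Helper17.SG4
open Groth.Agent.Lib.Helper17.RFTri Groth.Agent.Lib.Helper17.DerKInj
open Groth.Agent.Lib.Helper17.RFAmp Groth.Agent.Lib.Helper17.DerKInjH
open Groth.Agent.Lib.Helper5.SiteCmpDer3 Groth.Agent.Lib.Helper5.SiteCmpDer4
open Groth.Agent.Lib.Helper5.SiteCmpDer5 WSerre

variable {C : Type u} [SmallCategory C] {J J' : GrothendieckTopology C} (h : J' ≤ J)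
  (O : Sheaf J CommRingCat.{u})

/-- `ε_*` on modules is fully faithful (same underlying presheaves of modules). -/
noncomputable def epsPushFullyFaithful : (SiteCmp.eps h O).push.FullyFaithful where
  preimage χ := ⟨χ.val⟩
  map_preimage _ := rfl
  preimage_map _ := rfl

instance : (SiteCmp.eps h O).push.Full := (epsPushFullyFaithful h O).full

instance : (SiteCmp.eps h O).push.Faithful := (epsPushFullyFaithful h O).faithful

theorem main [PreservesFiniteLimits (SiteCmp.eps h O).pull] [SiteCmp.HasRpushD (SiteCmp.eps h O)]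
    (adj : SiteCmp.pullD (SiteCmp.eps h O) ⊣ SiteCmp.RpushD (SiteCmp.eps h O))
    (A : ObjectProperty (ModSite.Mod O)) [WSerre.IsWeakSerre A] (B : Set C)
    (h3 : ∀ U : C, ∃ (ι : Type u) (Y : ι → C) (g : ∀ i, Y i ⟶ U),
      Sieve.ofArrows Y g ∈ J' U ∧ ∀ i, Y i ∈ B)
    (h4 : ∀ U ∈ B, ∀ F : ModSite.Mod O, A F → ∀ p : ℕ, 0 < p →
      Subsingleton (ModSite.HU O F p U)) :
    WSerre.IsWeakSerre (A.map (SiteCmp.eps h O).push) ∧
    (∀ Y : DerivedCategory (ModSite.Mod (SiteCmp.epsRing h O)),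
      WSerre.cohIn (A.map (SiteCmp.eps h O).push) Y →
      WSerre.cohIn A ((SiteCmp.pullD (SiteCmp.eps h O)).obj Y) ∧ IsIso (adj.unit.app Y)) ∧
    (∀ X : DerivedCategory (ModSite.Mod O), WSerre.cohIn A X →
      WSerre.cohIn (A.map (SiteCmp.eps h O).push) ((SiteCmp.RpushD (SiteCmp.eps h O)).obj X) ∧
      IsIso (adj.counit.app X)) := by
  haveI : IsGrothendieckAbelian.{u} (ModSite.Mod O) :=
    Groth.Agent.S0484.result J (ModSite.ringSh O)
  haveI : HasExt.{u} (ModSite.Mod O) := hasExt_of_enoughInjectives _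
  haveI : HasInjectiveResolutions (ModSite.Mod O) := inferInstance
  have hA : HasKInjRes (ModSite.Mod O) := hasKInjRes_of_isGrothendieckAbelian
  let ε := SiteCmp.eps h O
  let G := ε.push
  let L := ε.pull
  haveI : PreservesLimitsOfSize.{0, 0} G := ε.adj.rightAdjoint_preservesLimits
  haveI : PreservesFiniteLimits G := inferInstance
  haveI : IsIso ε.adj.counit := inferInstance
  let sg' := modGens (ModSite.ringSh (SiteCmp.epsRing h O))
  let sg := modGens (ModSite.ringSh O)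
  -- coverings by members of `B`
  have hBJ : ∀ U : C, ∃ (ι : Type u) (Y : ι → C) (g : ∀ i, Y i ⟶ U),
      Sieve.ofArrows Y g ∈ J U ∧ ∀ i, Y i ∈ B := by
    intro U
    obtain ⟨ι, Y, g, hcov, hY⟩ := h3 U
    exact ⟨ι, Y, g, h _ hcov, hY⟩
  -- vanishing of Ext on members of `B`
  have hExt : ∀ U ∈ B, ∀ N : ModSite.Mod O, A N → ∀ k : ℕ, 0 < k →
      Subsingleton (Abelian.Ext.{u} (sg.G U) N k) := fun U hU N hN k hk =>
    subsingleton_ext_GR (ModSite.ringSh O) U N k (h4 U hU N hN k hk)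
  have hExt' : ∀ U ∈ B, ∀ N : ModSite.Mod O, A N → ∀ k : ℕ, 0 < k →
      Subsingleton (Abelian.Ext.{u} (L.obj (sg'.G U)) N k) := fun U hU N hN k hk =>
    subsingleton_ext_of_iso (nonempty_pullGRIso ε U).some N k (hExt U hU N hN k hk)
  have hAJ : ∀ V ∈ B, ∃ d : ℕ, ∀ T ∈ J V, ∃ (ι : Type u) (Y : ι → C) (g : ∀ i, Y i ⟶ V),
      (∀ i, T.arrows (g i)) ∧ Sieve.ofArrows Y g ∈ J V ∧
      ∀ (i : ι) (N : ModSite.Mod O), A N → ∀ k : ℕ, d < k →
        Subsingleton (Abelian.Ext.{u} (sg.G (Y i)) N k) := by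
    intro V _
    refine ⟨0, fun T hT => ?_⟩
    obtain ⟨ι, Y, g, hgT, hcov, hY⟩ := exists_refinement J B hBJ V T hT
    exact ⟨ι, Y, g, hgT, hcov, fun i N hN k hk => hExt (Y i) (hY i) N hN k hk⟩
  have hAK : ∀ V ∈ B, ∃ d : ℕ, ∀ T ∈ J' V, ∃ (ι : Type u) (Y : ι → C) (g : ∀ i, Y i ⟶ V),
      (∀ i, T.arrows (g i)) ∧ Sieve.ofArrows Y g ∈ J' V ∧
      ∀ (i : ι) (N : ModSite.Mod O), A N → ∀ k : ℕ, d < k →
        Subsingleton (Abelian.Ext.{u} (L.obj (sg'.G (Y i))) N k) := by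
    intro V _
    refine ⟨0, fun T hT => ?_⟩
    obtain ⟨ι, Y, g, hgT, hcov, hY⟩ := exists_refinement J' B h3 V T hT
    exact ⟨ι, Y, g, hgT, hcov, fun i N hN k hk => hExt' (Y i) (hY i) N hN k hk⟩
  -- vanishing of the higher cohomology of `R (S_0 N)`
  have hvan : ∀ N : ModSite.Mod O, A N → ∀ k : ℕ, 0 < k →
      IsZero ((HRF G (k : ℤ)).obj ((singleFunctor (ModSite.Mod O) 0).obj N)) := by
    intro N hN k hk
    refine isZero_HRF_single_of_local.{u} sg' ε.adj N k B h3 ?_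
    intro V _ T hT
    obtain ⟨ι, Y, g, hgT, hcov, hY⟩ := exists_refinement J' B h3 V T hT
    exact ⟨ι, Y, g, hgT, hcov, fun i => hExt' (Y i) (hY i) N hN k hk⟩
  have hR1 : ∀ N : ModSite.Mod O, A N → IsZero ((G.rightDerived 1).obj N) := by
    intro N hN
    have h1 := hvan N hN 1 Nat.one_pos
    have e := HRFSingleIso G hA N 0 1
    have h2 : IsZero ((HRF G ((0 : ℤ) + ((1 : ℕ) : ℤ))).obj
        ((singleFunctor (ModSite.Mod O) 0).obj N)) := by
      rw [zero_add]
      exact h1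
    exact h2.of_iso e.symm
  have WS : WSerre.IsWeakSerre (A.map G) := isWeakSerre_map ε.adj A hR1
  haveI := WS
  -- the counit of the given adjunction is invertible
  let dAdj := derivedAdj hA L G ε.adj (SiteCmp.RpushD ε)
    ((SiteCmp.pushKh ε).totalRightDerivedUnit DerivedCategory.Qh
      (HomotopyCategory.quasiIso (ModSite.Mod O) (ComplexShape.up ℤ)))
  haveI hdc : IsIso dAdj.counit := isIso_derivedAdj_counit hA L G ε.adj (SiteCmp.RpushD ε) _
  haveI hc : IsIso adj.counit := by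
    haveI : ∀ x, IsIso (adj.counit.app x) := fun x => by
      rw [← Adjunction.rightAdjointUniq_hom_app_counit adj dAdj x]
      infer_instance
    exact NatIso.isIso_of_isIso_app _
  -- `R (S_0 N) ≅ S_0 (G N)`
  have hsingle : ∀ N : ModSite.Mod O, A N →
      Nonempty ((SiteCmp.RpushD ε).obj ((singleFunctor (ModSite.Mod O) 0).obj N) ≅
        (singleFunctor (ModSite.Mod (SiteCmp.epsRing h O)) 0).obj (G.obj N)) := by
    intro N hN
    let Z := (RF G).obj ((singleFunctor (ModSite.Mod O) 0).obj N)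
    haveI : Z.IsGE 0 := by
      rw [DerivedCategory.isGE_iff]
      intro i hi
      exact isZero_HRF_single_of_lt G hA N 0 i hi
    haveI : Z.IsLE 0 := by
      rw [DerivedCategory.isLE_iff]
      intro i hi
      obtain ⟨k, rfl⟩ := Int.eq_ofNat_of_zero_le hi.le
      exact hvan N hN k (by exact_mod_cast hi)
    obtain ⟨Y₀, ⟨e⟩⟩ := exists_iso_singleFunctor_obj_of_isGE_of_isLE Z 0
    have e1 : (homologyFunctor _ 0).obj Z ≅ Y₀ :=
      (homologyFunctor _ 0).mapIso e ≪≫ (singleFunctorCompHomologyFunctorIso _ 0).app Y₀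
    have e2 : (HRF G ((0 : ℤ) + ((0 : ℕ) : ℤ))).obj ((singleFunctor (ModSite.Mod O) 0).obj N) ≅
        (G.rightDerived 0).obj N := HRFSingleIso G hA N 0 0
    have e2' : (homologyFunctor _ 0).obj Z ≅ (G.rightDerived 0).obj N := e2
    have e3 : (G.rightDerived 0).obj N ≅ G.obj N := G.rightDerivedZeroIsoSelf.app N
    exact ⟨e ≪≫ (singleFunctor _ 0).mapIso (e1.symm ≪≫ e2' ≪≫ e3)⟩
  have h3' : ∀ M : ModSite.Mod (SiteCmp.epsRing h O), (A.map G) M →
      IsIso (adj.unit.app ((singleFunctor (ModSite.Mod (SiteCmp.epsRing h O)) 0).obj M)) := by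
    rintro M ⟨N, hN, ⟨e⟩⟩
    obtain ⟨e'⟩ := hsingle N hN
    exact isIso_unit_app_of_iso adj (e' ≪≫ (singleFunctor _ 0).mapIso e)
  have h2c : ∀ N : ModSite.Mod O, A N → ∃ M : ModSite.Mod (SiteCmp.epsRing h O),
      (A.map G) M ∧ Nonempty (L.obj M ≅ N) := fun N hN =>
    ⟨G.obj N, A.prop_map_obj G hN, ⟨asIso (ε.adj.counit.app N)⟩⟩
  have h2a : ∀ M : ModSite.Mod (SiteCmp.epsRing h O), (A.map G) M → A (L.obj M) := by
    rintro M ⟨N, hN, ⟨e⟩⟩
    have i : L.obj M ≅ N := (L.mapIso e).symm ≪≫ asIso (ε.adj.counit.app N)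
    exact A.prop_of_iso i.symm hN
  have h2b : ∀ M M' : ModSite.Mod (SiteCmp.epsRing h O), (A.map G) M → (A.map G) M' →
      Function.Bijective (fun φ : M ⟶ M' => L.map φ) := by
    rintro M M' _ ⟨N', _, ⟨e'⟩⟩
    haveI := isIso_unit_app_of_iso ε.adj e'
    exact map_bijective_of_isIso_unit ε.adj M M'
  refine ⟨WS, fun Y hY => ?_, fun X hX => ?_⟩
  · exact unit_part_upstairs.{u} sg' sg ε.adj adj (A.map G) A h2a h2b h2c h3' B B hBJ hAJ h3 hAK
      Y hY
  · exact counit_part_upstairs.{u} sg' sg ε.adj adj (A.map G) A h2c h3' B B hBJ hAJ h3 hAK X hX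

end Groth.Agent.Lib.Helper5.SiteCmpDer6
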