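import Groth.Agent.Lib.Helper5.CptSect

/-!
# Soft sheaves on compact Hausdorff spaces are acyclic
-/

set_option autoImplicit false
set_option linter.unusedSectionVars false

universe u

open CategoryTheory CategoryTheory.Limits TopologicalSpace Opposite TopCat Abelian

namespace Groth.Agent.Lib.Helper5.SoftSheaf

open Groth.Agent.Lib.Helper5.PullStalk Groth.Agent.Lib.Helper5.SubspaceSect
  Groth.Agent.Lib.Helper5.CptSep Groth.Agent.Lib.Helper5.CptSect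
  Groth.Agent.Lib.Helper5.BasisFlasque Groth.Agent.Lib.Helper5.RpushColim

variable {T : TopCat.{u}}

/-- soft sheaves: sections near a closed set extend to global sections -/
def Soft (G : CohTop.Ab T) : Prop :=
  ∀ (A : Set T), IsClosed A → ∀ (W : Opens T), A ⊆ (W : Set T) → ∀ t : G.obj.obj (op W),
    ∃ (g : G.obj.obj (op ⊤)) (W' : Opens T) (h : W' ≤ W), A ⊆ (W' : Set T) ∧
      rs G (le_top : W' ≤ ⊤) g = rs G h t

lemma soft_of_flasque (G : CohTop.Ab T) [TopCat.Sheaf.IsFlasque G] : Soft G := by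
  intro A _ W hAW t
  have hepi : Epi (G.obj.map (homOfLE (le_top : W ≤ ⊤)).op) :=
    TopCat.Presheaf.IsFlasque.epi (F := G.obj) _
  obtain ⟨g, hg⟩ := (AddCommGrpCat.epi_iff_surjective _).1 hepi t
  exact ⟨g, W, le_rfl, hAW, Eq.trans hg (rs_self _ _ _).symm⟩

variable (S : ShortComplex (CohTop.Ab T))

/-- `t` lifts to the middle term near `C` -/
def Lift (W : Opens T) (t : S.X₃.obj.obj (op W)) (C : Set T) : Prop :=
  ∃ (W' : Opens T) (h : W' ≤ W) (g : S.X₂.obj.obj (op W')), C ⊆ (W' : Set T) ∧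
    (S.g.hom.app (op W')).hom g = rs S.X₃ h t

variable {S}

lemma Lift.mono {W : Opens T} {t : S.X₃.obj.obj (op W)} {C C' : Set T} (hC : C ⊆ C')
    (h : Lift S W t C') : Lift S W t C := by
  obtain ⟨W', h, g, hCW, e⟩ := h
  exact ⟨W', h, g, hC.trans hCW, e⟩

lemma lift_empty (W : Opens T) (t : S.X₃.obj.obj (op W)) : Lift S W t ∅ :=
  ⟨⊥, bot_le, 0, Set.empty_subset _, subsingleton_bot _ _ _⟩

lemma gf_zero (A : Opens T) (y : S.X₁.obj.obj (op A)) :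
    (S.g.hom.app (op A)).hom ((S.f.hom.app (op A)).hom y) = 0 := by
  have h0 := congrArg (fun k => (k.hom.app (op A)).hom y) S.zero
  exact h0

lemma lift_union [T2Space T] (hS : S.ShortExact) (hsoft : Soft S.X₁) {A : Set T} (hrel : RelT2 A)
    (W : Opens T) (t : S.X₃.obj.obj (op W)) (C₁ C₂ : Set T) (hC₁ : IsCompact C₁)
    (hC₂ : IsCompact C₂) (h₁A : C₁ ⊆ A) (h₂A : C₂ ⊆ A) (H₁ : Lift S W t C₁)
    (H₂ : Lift S W t C₂) : Lift S W t (C₁ ∪ C₂) := by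
  obtain ⟨W₁, h₁, g₁, hC₁W, e₁⟩ := H₁
  obtain ⟨W₂, h₂, g₂, hC₂W, e₂⟩ := H₂
  have hd : (S.g.hom.app (op (W₁ ⊓ W₂))).hom
      (rs S.X₂ (inf_le_left : W₁ ⊓ W₂ ≤ W₁) g₁ - rs S.X₂ (inf_le_right : W₁ ⊓ W₂ ≤ W₂) g₂) = 0 := by
    rw [map_sub, app_rs, app_rs, e₁, e₂, rs_rs, rs_rs, sub_self]
  obtain ⟨b, hb⟩ := exists_of_app_g_eq_zero S hS _ _ hd
  obtain ⟨bt, N, hN, hCN, hbt⟩ := hsoft (C₁ ∩ C₂) (hC₁.isClosed.inter hC₂.isClosed) (W₁ ⊓ W₂)
    (fun x hx => ⟨hC₁W hx.1, hC₂W hx.2⟩) b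
  have hN₁ : N ≤ W₁ := hN.trans inf_le_left
  have hN₂ : N ≤ W₂ := hN.trans inf_le_right
  let g₂' : S.X₂.obj.obj (op W₂) :=
    g₂ + (S.f.hom.app (op W₂)).hom (rs S.X₁ (le_top : W₂ ≤ ⊤) bt)
  have e₂' : (S.g.hom.app (op W₂)).hom g₂' = rs S.X₃ h₂ t := by
    simp only [g₂']
    rw [map_add, gf_zero, add_zero, e₂]
  have hagree : rs S.X₂ hN₁ g₁ = rs S.X₂ hN₂ g₂' := by
    simp only [g₂']
    rw [map_add, ← app_rs, rs_rs]
    have e3 : rs S.X₁ (hN₂.trans le_top) bt = rs S.X₁ hN b := hbt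
    rw [e3, app_rs, hb, map_sub, rs_rs, rs_rs]
    abel
  obtain ⟨O₁s, O₂s, hO₁, hO₂, hCO₁, hCO₂, hdis⟩ :=
    exists_disjoint_opens_diff hrel hC₁ hC₂ h₁A h₂A N.2 hCN
  let O₁ : Opens T := ⟨O₁s, hO₁⟩
  let O₂ : Opens T := ⟨O₂s, hO₂⟩
  have hdO : Disjoint O₁ O₂ := by
    rw [disjoint_iff_inf_le]
    rintro x ⟨hx1, hx2⟩
    exact (Set.disjoint_left.1 hdis hx1 hx2).elim
  obtain ⟨g, hg₁, hg₂⟩ := glue_near S.X₂ W₁ W₂ N O₁ O₂ hN₁ hN₂ hdO g₁ g₂' hagree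
  have hW₁' : W₁ ⊓ O₁ ⊔ N ≤ W₁ := sup_le inf_le_left hN₁
  have hW₂' : W₂ ⊓ O₂ ⊔ N ≤ W₂ := sup_le inf_le_left hN₂
  have hW' : (W₁ ⊓ O₁ ⊔ N) ⊔ (W₂ ⊓ O₂ ⊔ N) ≤ W := sup_le (hW₁'.trans h₁) (hW₂'.trans h₂)
  refine ⟨(W₁ ⊓ O₁ ⊔ N) ⊔ (W₂ ⊓ O₂ ⊔ N), hW', g, ?_, ?_⟩
  · rintro a (ha | ha)
    · by_cases haN : a ∈ N
      · exact Opens.mem_sup.2 (Or.inl (Opens.mem_sup.2 (Or.inr haN)))
      · exact Opens.mem_sup.2 (Or.inl (Opens.mem_sup.2 (Or.inl ⟨hC₁W ha, hCO₁ ⟨ha, haN⟩⟩)))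
    · by_cases haN : a ∈ N
      · exact Opens.mem_sup.2 (Or.inl (Opens.mem_sup.2 (Or.inr haN)))
      · exact Opens.mem_sup.2 (Or.inr (Opens.mem_sup.2 (Or.inl ⟨hC₂W ha, hCO₂ ⟨ha, haN⟩⟩)))
  · apply eq_of_two S.X₃ (W₁ ⊓ O₁ ⊔ N) (W₂ ⊓ O₂ ⊔ N)
    · rw [← app_rs, hg₁, app_rs, e₁, rs_rs, rs_rs]
    · rw [← app_rs, hg₂, app_rs, e₂', rs_rs, rs_rs]

/-- **Sections of the quotient lift near closed subsets when the kernel is soft.** -/
theorem exists_lift_near [T2Space T] (hS : S.ShortExact) (hsoft : Soft S.X₁) {A : Set T}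
    (hA : IsCompact A) (W : Opens T) (hAW : A ⊆ (W : Set T)) (t : S.X₃.obj.obj (op W)) :
    Lift S W t A := by
  have hrel : RelT2 A := relT2_of_t2 A
  have hepi := hS.epi_g
  refine induction_closure hA (Lift S W t) (lift_empty W t) (fun C C' h => Lift.mono h)
    (fun C₁ C₂ h₁ h₂ h₁A h₂A => lift_union hS hsoft hrel W t C₁ C₂ h₁ h₂ h₁A h₂A) ?_
  intro a ha
  obtain ⟨V', hV', haV', g', hg'⟩ := epi_local_lift S.g W t a (hAW ha)
  obtain ⟨O, hO, haO, hsub⟩ := exists_open_closure_subset hA hrel ha V'.2 haV'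
  exact ⟨O, hO, haO, V', hV', g', hsub, hg'⟩

/-- global sections lift when the kernel is soft -/
theorem surjective_app_g_top [CompactSpace T] [T2Space T] (hS : S.ShortExact)
    (hsoft : Soft S.X₁) : Function.Surjective (S.g.hom.app (op ⊤)).hom := by
  intro t
  obtain ⟨W', h, g, hW', e⟩ := exists_lift_near hS hsoft isCompact_univ ⊤ (fun _ _ => trivial) t
  have hle : (⊤ : Opens T) ≤ W' := fun x _ => hW' (Set.mem_univ x)
  refine ⟨rs S.X₂ hle g, ?_⟩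
  rw [app_rs, e, rs_rs]
  exact rs_self _ _ _

/-- the quotient of a soft sheaf by a soft sheaf is soft -/
theorem soft_X₃ [CompactSpace T] [T2Space T] (hS : S.ShortExact) (h₁ : Soft S.X₁)
    (h₂ : Soft S.X₂) : Soft S.X₃ := by
  intro A hA W hAW t
  obtain ⟨W', h, g, hAW', e⟩ := exists_lift_near hS h₁ hA.isCompact W hAW t
  obtain ⟨gt, W'', h'', hAW'', e''⟩ := h₂ A hA W' hAW' g
  refine ⟨(S.g.hom.app (op ⊤)).hom gt, W'', h''.trans h, hAW'', ?_⟩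
  rw [← app_rs, e'', app_rs, e, rs_rs]

/-- **Soft sheaves on a compact Hausdorff space are acyclic.** -/
theorem subsingleton_H_succ [CompactSpace T] [T2Space T] (G : CohTop.Ab T) (hG : Soft G)
    (p : ℕ) : Subsingleton (CohTop.H G (p + 1)) := by
  have h := Groth.Agent.Lib.Helper22.Cech.ext_succ_eq_zero_of_class (X := T) Soft {⊤}
    (fun F hF U hU => by
      rw [Set.mem_singleton_iff] at hU
      subst hU
      exact surjective_app_g_top (Groth.Agent.Lib.Helper22.CohTop.injSC_shortExact F) hF)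
    (fun F hF => soft_X₃ (Groth.Agent.Lib.Helper22.CohTop.injSC_shortExact F) hF
      (soft_of_flasque _)) p G hG ⊤ rfl
  obtain ⟨e⟩ := HTerminal.nonempty_H_addEquiv_HU (Opens.grothendieckTopology T)
    (isTerminalTop : IsTerminal (⊤ : Opens T)) G (p + 1)
  have hs : Subsingleton (CohSite.HU G (p + 1) (⊤ : Opens T)) :=
    subsingleton_of_forall_eq 0 fun x => h x
  exact e.toEquiv.subsingleton

end Groth.Agent.Lib.Helper5.SoftSheaf
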