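import Groth.Agent.Lib.Helper5.SubspaceAcyclic
import Groth.Agent.Lib.Helper5.TopDim

/-!
# Subspaces of spectral spaces cut out by directed intersections of quasi-compact opens

* a space with a good basis is compact, prespectral and quasi-separated;
* a subspace stable under generalization of a quasi-sober space is quasi-sober;
* a directed intersection of quasi-compact opens of a spectral space is spectral;
* a spectral space of dimension `≤ 0` is totally separated;
* a dimension drop lemma.
-/

set_option autoImplicit false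

universe u

open CategoryTheory TopologicalSpace Opposite Topology

namespace Groth.Agent.Lib.Helper5.SpectralSub

open Groth.Agent.Lib.Helper5.SubspaceSect Groth.Agent.Lib.Helper5.BasisFlasque
  Groth.Agent.Lib.Helper5.SubspaceAcyclic Groth.Agent.Lib.Helper5.SpectralInter

section GoodBasisInst

variable {T : TopCat.{u}} {B : Set (Opens T)}

lemma finset_sup_mem (hB : GoodBasis B) {κ : Type*} (s : Finset κ) (f : κ → Opens T)
    (hf : ∀ k ∈ s, f k ∈ B) : s.sup f ∈ B := by
  classical
  induction s using Finset.induction_on with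
  | empty => exact hB.bot_mem
  | insert a s ha ih =>
    rw [Finset.sup_insert]
    exact hB.sup_mem _ (hf a (Finset.mem_insert_self a s)) _
      (ih fun k hk => hf k (Finset.mem_insert_of_mem hk))

lemma mem_of_isCompact (hB : GoodBasis B) (W : Opens T) (hW : IsCompact (W : Set T)) : W ∈ B := by
  classical
  have key : ∀ x : W, ∃ A ∈ B, x.1 ∈ A ∧ A ≤ W := fun x => hB.basis W x.1 x.2
  choose A hAB hxA hAW using key
  obtain ⟨t, ht⟩ := hW.elim_finite_subcover (fun x : W => (A x : Set T)) (fun x => (A x).2)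
    (fun x hx => Set.mem_iUnion.2 ⟨⟨x, hx⟩, hxA ⟨x, hx⟩⟩)
  have e : W = t.sup A := by
    apply le_antisymm
    · intro x hx
      obtain ⟨i, hi⟩ := Set.mem_iUnion.1 (ht hx)
      obtain ⟨hit, hxi⟩ := Set.mem_iUnion.1 hi
      exact (Finset.le_sup (f := A) hit) hxi
    · exact Finset.sup_le fun i _ => hAW i
  rw [e]
  exact finset_sup_mem hB t A fun k _ => hAB k

lemma compactSpace (hB : GoodBasis B) : CompactSpace T :=
  isCompact_univ_iff.1 (by simpa using hB.compact ⊤ hB.top_mem)

lemma prespectralSpace (hB : GoodBasis B) : PrespectralSpace T := by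
  refine PrespectralSpace.of_isTopologicalBasis
    (B := {s : Set T | ∃ A ∈ B, (A : Set T) = s}) ?_ ?_
  · refine TopologicalSpace.isTopologicalBasis_of_isOpen_of_nhds ?_ ?_
    · rintro _ ⟨A, _, rfl⟩
      exact A.2
    · intro a u hau hu
      obtain ⟨A, hA, haA, hAu⟩ := hB.basis ⟨u, hu⟩ a hau
      exact ⟨A, ⟨A, hA, rfl⟩, haA, hAu⟩
  · rintro _ ⟨A, hA, rfl⟩
    exact hB.compact A hA

lemma quasiSeparatedSpace (hB : GoodBasis B) : QuasiSeparatedSpace T where
  inter_isCompact U V hUo hUc hVo hVc := by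
    have h1 := mem_of_isCompact hB ⟨U, hUo⟩ hUc
    have h2 := mem_of_isCompact hB ⟨V, hVo⟩ hVc
    exact hB.compact _ (hB.inf_mem _ h1 _ h2)

end GoodBasisInst

/-- a subspace stable under generalization of a quasi-sober space is quasi-sober -/
lemma quasiSober_of_stableUnderGeneralization {X : Type*} [TopologicalSpace X] [QuasiSober X]
    (Z : Set X) (hZ : StableUnderGeneralization Z) : QuasiSober Z where
  sober {S} hS hS' := by
    have hS'' : IsIrreducible (Subtype.val '' S) :=
      hS.image _ continuous_subtype_val.continuousOn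
    obtain ⟨x, hx⟩ := QuasiSober.sober hS''.closure isClosed_closure
    obtain ⟨s, hs⟩ := hS.1
    have hxs : x ⤳ s.1 := by
      rw [specializes_iff_mem_closure, hx.def]
      exact subset_closure ⟨s, hs, rfl⟩
    have hxZ : x ∈ Z := hZ hxs s.2
    refine ⟨⟨x, hxZ⟩, ?_⟩
    change closure {(⟨x, hxZ⟩ : Z)} = S
    rw [Topology.IsEmbedding.subtypeVal.closure_eq_preimage_closure_image, Set.image_singleton,
      hx.def, ← Topology.IsEmbedding.subtypeVal.closure_eq_preimage_closure_image, hS'.closure_eq]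

section Sys

variable {X : TopCat.{u}} [SpectralSpace X] (S : Sys X)

lemma stableUnderGeneralization_Z : StableUnderGeneralization S.Z := by
  intro x y hyx hx
  rw [S.mem_Z] at hx ⊢
  intro U hU
  exact hyx.mem_open U.2 (hx U hU)

/-- a directed intersection of quasi-compact opens of a spectral space is a spectral space -/
theorem spectralSpace_Z : SpectralSpace (TopCat.of S.Z) := by
  have hB := goodBasis_Bs S
  haveI : CompactSpace (TopCat.of S.Z) := compactSpace hB
  haveI : PrespectralSpace (TopCat.of S.Z) := prespectralSpace hB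
  haveI : QuasiSeparatedSpace (TopCat.of S.Z) := quasiSeparatedSpace hB
  haveI : QuasiSober (TopCat.of S.Z) :=
    quasiSober_of_stableUnderGeneralization S.Z (stableUnderGeneralization_Z S)
  haveI : T0Space (TopCat.of S.Z) := inferInstanceAs (T0Space S.Z)
  exact {}

end Sys

lemma le_of_natCast_le {a b : ℕ} (h : ((a : ℕ) : WithBot ℕ∞) ≤ ((b : ℕ) : WithBot ℕ∞)) : a ≤ b := by
  have h' : (((a : ℕ∞)) : WithBot ℕ∞) ≤ (((b : ℕ∞)) : WithBot ℕ∞) := h
  rw [WithBot.coe_le_coe, Nat.cast_le] at h'
  exact h'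

lemma natCast_le_of_le {a b : ℕ} (h : a ≤ b) : ((a : ℕ) : WithBot ℕ∞) ≤ ((b : ℕ) : WithBot ℕ∞) :=
  Nat.cast_le.2 h

section Dim

attribute [local instance] specializationOrder

/-- in a spectral space of dimension `≤ 0` specialization is trivial -/
lemma eq_of_specializes_of_dim_zero {X : Type*} [TopologicalSpace X] [QuasiSober X] [T0Space X]
    (h0 : topologicalKrullDim X ≤ 0) {x z : X} (h : x ⤳ z) : x = z := by
  rw [topologicalKrullDim_eq_krullDim] at h0
  have hmin := Order.krullDim_nonpos_iff_forall_isMin.1 h0 x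
  have h1 : z ≤ x := h
  exact le_antisymm (hmin h1) h1

/-- quasi-compact opens of a spectral space of dimension `≤ 0` are closed -/
theorem isClosed_of_dim_zero {X : Type*} [TopologicalSpace X] [SpectralSpace X]
    (h0 : topologicalKrullDim X ≤ 0) {U : Set X} (hUo : IsOpen U) (hUc : IsCompact U) :
    IsClosed U := by
  rw [← closure_subset_iff_isClosed]
  intro z hz
  by_contra hzU
  let 𝒩 : Set (Set X) := {V | IsOpen V ∧ IsCompact V ∧ z ∈ V}
  have hsub : (⋂₀ 𝒩) ∩ U ⊆ (∅ : Set X) := by
    rintro x ⟨hx𝒩, hxU⟩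
    have hxz : x ⤳ z := by
      rw [specializes_iff_forall_open]
      intro O hO hzO
      obtain ⟨V, ⟨hVo, hVc⟩, hzV, hVO⟩ :=
        PrespectralSpace.isTopologicalBasis.exists_subset_of_mem_open hzO hO
      exact hVO (hx𝒩 V ⟨hVo, hVc, hzV⟩)
    have := eq_of_specializes_of_dim_zero h0 hxz
    exact hzU (this ▸ hxU)
  obtain ⟨V, hV, hVU⟩ := exists_inter_subset 𝒩 ⟨Set.univ, isOpen_univ, isCompact_univ, Set.mem_univ z⟩
    (fun V h => h.1) (fun V h => h.2.1)
    (fun V₁ h₁ V₂ h₂ => ⟨V₁ ∩ V₂, ⟨h₁.1.inter h₂.1,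
      QuasiSeparatedSpace.inter_isCompact _ _ h₁.1 h₁.2.1 h₂.1 h₂.2.1, h₁.2.2, h₂.2.2⟩, le_rfl⟩)
    U hUo hUc ∅ isOpen_empty hsub
  obtain ⟨y, hy⟩ := mem_closure_iff.1 hz V hV.1 hV.2.2
  exact hVU hy

/-- a spectral space of dimension `≤ 0` is totally separated -/
theorem totallySeparatedSpace_of_dim_zero {X : Type*} [TopologicalSpace X] [SpectralSpace X]
    (h0 : topologicalKrullDim X ≤ 0) : TotallySeparatedSpace X := by
  rw [totallySeparatedSpace_iff_exists_isClopen]
  intro x y hxy
  obtain ⟨O, hO, hne⟩ := exists_isOpen_xor'_mem hxy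
  rcases hne with ⟨hx, hy⟩ | ⟨hy, hx⟩
  · obtain ⟨V, ⟨hVo, hVc⟩, hxV, hVO⟩ :=
      PrespectralSpace.isTopologicalBasis.exists_subset_of_mem_open hx hO
    exact ⟨V, ⟨isClosed_of_dim_zero h0 hVo hVc, hVo⟩, hxV, fun h => hy (hVO h)⟩
  · obtain ⟨V, ⟨hVo, hVc⟩, hyV, hVO⟩ :=
      PrespectralSpace.isTopologicalBasis.exists_subset_of_mem_open hy hO
    have hcl : IsClopen V := ⟨isClosed_of_dim_zero h0 hVo hVc, hVo⟩
    exact ⟨Vᶜ, hcl.compl, fun h => hx (hVO h), fun h => h hyV⟩

/-- dimension drop: if every point of the subspace `T` specializes to a point outside `T`, the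
dimension of `T` is smaller than the dimension of `X` -/
theorem dim_sub_le {X : Type*} [TopologicalSpace X] [QuasiSober X] [T0Space X] (T : Set X)
    [QuasiSober T] (d : ℕ) (hX : topologicalKrullDim X ≤ ((d + 1 : ℕ) : WithBot ℕ∞))
    (hT : ∀ t ∈ T, ∃ z, z ∉ T ∧ t ⤳ z) : topologicalKrullDim T ≤ ((d : ℕ) : WithBot ℕ∞) := by
  rw [topologicalKrullDim_eq_krullDim] at hX ⊢
  unfold Order.krullDim
  apply iSup_le
  intro p
  have hsmono : @StrictMono T X (specializationOrder T).toPreorder
      (specializationOrder X).toPreorder Subtype.val := by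
    intro a b hab
    obtain ⟨h1, h2⟩ := (@lt_iff_le_not_ge T (specializationOrder T).toPreorder a b).1 hab
    have h1' : b ⤳ a := h1
    have h2' : ¬ a ⤳ b := h2
    refine (@lt_iff_le_not_ge X (specializationOrder X).toPreorder a.1 b.1).2 ⟨?_, ?_⟩
    · exact (Topology.IsInducing.subtypeVal.specializes_iff).2 h1'
    · intro h
      exact h2' ((Topology.IsInducing.subtypeVal.specializes_iff).1 h)
  let p' : LTSeries X := @LTSeries.map T X (specializationOrder T).toPreorder
    (specializationOrder X).toPreorder p Subtype.val hsmono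
  have hp'len : p'.length = p.length := rfl
  have hp'head : p'.head = p.head.1 := rfl
  obtain ⟨z, hzT, hz⟩ := hT p.head.1 p.head.2
  have hlt : z < p'.head := by
    rw [hp'head]
    have h1 : z ≤ p.head.1 := hz
    exact lt_of_le_of_ne h1 fun e => hzT (e ▸ p.head.2)
  let q := p'.cons z hlt
  have h1 : (q.length : WithBot ℕ∞) ≤ Order.krullDim X := Order.LTSeries.length_le_krullDim q
  have h2 : q.length = p.length + 1 := by simp [q, hp'len]
  have h3 : ((p.length + 1 : ℕ) : WithBot ℕ∞) ≤ ((d + 1 : ℕ) : WithBot ℕ∞) := by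
    rw [← h2]
    exact h1.trans hX
  have h4 : p.length + 1 ≤ d + 1 := le_of_natCast_le h3
  have h5 : p.length ≤ d := by omega
  exact natCast_le_of_le h5

end Dim

end Groth.Agent.Lib.Helper5.SpectralSub
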