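import Mathlib
import Groth.Prelude.Def_HTor
import Groth.Agent.Lib.Helper11.Kun5
import Groth.Agent.Lib.Helper5.AbCls

/-!
# The staircase filtration of an augmented double complex of abelian groups (helper5)

`B` is a cochain complex (indexed by `ℕ`, the "Čech" direction) of cochain complexes of abelian groups
(indexed by `ℤ`), `ε : Γ ⟶ B.X 0` an augmentation with exact rows.  The cohomology of `Γ` carries the
filtration by the length of the staircases (zig-zags) starting at a cocycle; its graded pieces are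
subquotients of `E₂^{p,q} = H^p(H^q(B))`.  No total complex is used.
-/

set_option autoImplicit false

universe u

open CategoryTheory CategoryTheory.Limits

namespace Groth.Agent.Lib.Helper5.StairFil

open Groth.Agent.Lib.Helper5.AbCls

section SubQ

lemma isSubquotient_of_rel {R : Type*} [CommRing R] {N T : Type u} {Z : Type*}
    [AddCommGroup N] [Module R N] [AddCommGroup T] [Module R T] [AddCommGroup Z] [Module R Z]
    (α : Z →ₗ[R] T) (β : Z →ₗ[R] N) (hβ : Function.Surjective β)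
    (h : ∀ z, α z = 0 → β z = 0) : HTor.IsSubquotient R N T := by
  rw [Groth.Agent.Lib.Helper11.Kun.isSubquotient_iff]
  have hker : LinearMap.ker α ≤ LinearMap.ker β := fun z hz => h z hz
  refine ⟨LinearMap.range α,
    ((LinearMap.ker α).liftQ β hker) ∘ₗ α.quotKerEquivRange.symm.toLinearMap, ?_⟩
  intro y
  obtain ⟨z, rfl⟩ := hβ y
  refine ⟨α.quotKerEquivRange (Submodule.Quotient.mk z), ?_⟩
  simp

lemma isSubquotient_of_rel_int {N T : Type u} {Z : Type*} [AddCommGroup N] [mN : Module ℤ N]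
    [AddCommGroup T] [mT : Module ℤ T] [AddCommGroup Z] (α : Z →+ T) (β : Z →+ N)
    (hβ : Function.Surjective β) (h : ∀ z, α z = 0 → β z = 0) : HTor.IsSubquotient ℤ N T := by
  obtain rfl : mN = AddCommGroup.toIntModule N := Subsingleton.elim _ _
  obtain rfl : mT = AddCommGroup.toIntModule T := Subsingleton.elim _ _
  exact isSubquotient_of_rel α.toIntLinearMap β.toIntLinearMap hβ h

end SubQ

variable (B : CochainComplex (CochainComplex AddCommGrpCat.{u} ℤ) ℕ)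
  (Γ : CochainComplex AddCommGrpCat.{u} ℤ) (ε : Γ ⟶ B.X 0)

section Identities

lemma dv_dv (p : ℕ) (i j k : ℤ) (x : (B.X p).X i) : (B.X p).d j k ((B.X p).d i j x) = 0 := by
  have h := (B.X p).d_comp_d i j k
  exact congrArg (fun φ => φ x) (congrArg AddCommGrpCat.Hom.hom h)

lemma dh_dh (p p' p'' : ℕ) (q : ℤ) (x : (B.X p).X q) :
    (B.d p' p'').f q ((B.d p p').f q x) = 0 := by
  have h := HomologicalComplex.congr_hom (B.d_comp_d p p' p'') q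
  exact congrArg (fun φ => φ x) (congrArg AddCommGrpCat.Hom.hom h)

lemma dh_dv (p p' : ℕ) (q q' : ℤ) (x : (B.X p).X q) :
    (B.X p').d q q' ((B.d p p').f q x) = (B.d p p').f q' ((B.X p).d q q' x) := by
  have h := (B.d p p').comm q q'
  exact congrArg (fun φ => φ x) (congrArg AddCommGrpCat.Hom.hom h)

variable {B Γ} in
lemma dv_ε (q q' : ℤ) (s : Γ.X q) : (B.X 0).d q q' (ε.f q s) = ε.f q' (Γ.d q q' s) := by
  have h := ε.comm q q'
  exact congrArg (fun φ => φ s) (congrArg AddCommGrpCat.Hom.hom h)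

variable {B Γ} in
lemma dh_ε (hε : ε ≫ B.d 0 1 = 0) (q : ℤ) (s : Γ.X q) : (B.d 0 1).f q (ε.f q s) = 0 := by
  have h := HomologicalComplex.congr_hom hε q
  exact congrArg (fun φ => φ s) (congrArg AddCommGrpCat.Hom.hom h)

end Identities

variable (n : ℤ)

/-- `Stair s p y`: there is a staircase of length `p` starting at `s` and ending at `y`. -/
def Stair (s : Γ.X (n - ((0 : ℕ) : ℤ))) : (p : ℕ) → (B.X p).X (n - (p : ℤ)) → Prop
  | 0, y => y = ε.f (n - ((0 : ℕ) : ℤ)) s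
  | (p + 1), y => ∃ x : (B.X p).X (n - ((p + 1 : ℕ) : ℤ)),
      Stair s p ((B.X p).d (n - ((p + 1 : ℕ) : ℤ)) (n - (p : ℤ)) x) ∧
        y = (B.d p (p + 1)).f (n - ((p + 1 : ℕ) : ℤ)) x

lemma stair_zero (s : Γ.X (n - ((0 : ℕ) : ℤ))) (y : (B.X 0).X (n - ((0 : ℕ) : ℤ))) :
    Stair B Γ ε n s 0 y ↔ y = ε.f (n - ((0 : ℕ) : ℤ)) s := Iff.rfl

lemma stair_succ (s : Γ.X (n - ((0 : ℕ) : ℤ))) (p : ℕ)
    (y : (B.X (p + 1)).X (n - ((p + 1 : ℕ) : ℤ))) :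
    Stair B Γ ε n s (p + 1) y ↔ ∃ x : (B.X p).X (n - ((p + 1 : ℕ) : ℤ)),
      Stair B Γ ε n s p ((B.X p).d (n - ((p + 1 : ℕ) : ℤ)) (n - (p : ℤ)) x) ∧
        y = (B.d p (p + 1)).f (n - ((p + 1 : ℕ) : ℤ)) x := Iff.rfl

lemma stair_add (s s' : Γ.X (n - ((0 : ℕ) : ℤ))) (p : ℕ) :
    ∀ (y y' : (B.X p).X (n - (p : ℤ))), Stair B Γ ε n s p y → Stair B Γ ε n s' p y' →
      Stair B Γ ε n (s + s') p (y + y') := by
  induction p with
  | zero =>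
    intro y y' h h'
    rw [stair_zero] at h h' ⊢
    rw [h, h', map_add]
  | succ p ih =>
    intro y y' h h'
    rw [stair_succ] at h h' ⊢
    obtain ⟨x, hx, rfl⟩ := h
    obtain ⟨x', hx', rfl⟩ := h'
    refine ⟨x + x', ?_, (map_add _ _ _).symm⟩
    rw [map_add]
    exact ih _ _ hx hx'

lemma stair_zero_zero (p : ℕ) : Stair B Γ ε n 0 p 0 := by
  induction p with
  | zero => rw [stair_zero, map_zero]
  | succ p ih =>
    rw [stair_succ]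
    exact ⟨0, by rw [map_zero]; exact ih, (map_zero _).symm⟩

lemma stair_neg (s : Γ.X (n - ((0 : ℕ) : ℤ))) (p : ℕ) :
    ∀ (y : (B.X p).X (n - (p : ℤ))), Stair B Γ ε n s p y → Stair B Γ ε n (-s) p (-y) := by
  induction p with
  | zero =>
    intro y h
    rw [stair_zero] at h ⊢
    rw [h, map_neg]
  | succ p ih =>
    intro y h
    rw [stair_succ] at h ⊢
    obtain ⟨x, hx, rfl⟩ := h
    exact ⟨-x, by rw [map_neg]; exact ih _ hx, (map_neg _ _).symm⟩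

variable {B Γ ε n}

lemma stair_dh (hε : ε ≫ B.d 0 1 = 0) (s : Γ.X (n - ((0 : ℕ) : ℤ))) (p : ℕ)
    (y : (B.X p).X (n - (p : ℤ))) (h : Stair B Γ ε n s p y) :
    (B.d p (p + 1)).f (n - (p : ℤ)) y = 0 := by
  cases p with
  | zero =>
    rw [stair_zero] at h
    rw [h]
    exact dh_ε ε hε _ s
  | succ p =>
    rw [stair_succ] at h
    obtain ⟨x, hx, rfl⟩ := h
    exact dh_dh B p (p + 1) (p + 1 + 1) _ x

lemma stair_dh_all (hε : ε ≫ B.d 0 1 = 0) (s : Γ.X (n - ((0 : ℕ) : ℤ))) (p : ℕ)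
    (y : (B.X p).X (n - (p : ℤ))) (h : Stair B Γ ε n s p y) (k : ℕ) :
    (B.d p k).f (n - (p : ℤ)) y = 0 := by
  by_cases hk : (ComplexShape.up ℕ).Rel p k
  · obtain rfl : p + 1 = k := hk
    exact stair_dh hε s p y h
  · rw [B.shape _ _ hk]
    rfl

lemma stair_dv (hε : ε ≫ B.d 0 1 = 0) (s : Γ.X (n - ((0 : ℕ) : ℤ)))
    (hs : ∀ k, Γ.d (n - ((0 : ℕ) : ℤ)) k s = 0) (p : ℕ)
    (y : (B.X p).X (n - (p : ℤ))) (h : Stair B Γ ε n s p y) (k : ℤ) :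
    (B.X p).d (n - (p : ℤ)) k y = 0 := by
  cases p with
  | zero =>
    rw [stair_zero] at h
    rw [h, dv_ε, hs, map_zero]
  | succ p =>
    rw [stair_succ] at h
    obtain ⟨x, hx, rfl⟩ := h
    rw [dh_dv]
    by_cases hk : (ComplexShape.up ℤ).Rel (n - ((p + 1 : ℕ) : ℤ)) k
    · have hk' : n - ((p + 1 : ℕ) : ℤ) + 1 = k := hk
      obtain rfl : k = n - (p : ℤ) := by
        rw [← hk']
        push_cast
        ring
      exact stair_dh hε s p _ hx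
    · have h0 : (B.X p).d (n - ((p + 1 : ℕ) : ℤ)) k x = 0 := by
        rw [(B.X p).shape _ _ hk]
        rfl
      rw [h0, map_zero]

lemma stair_cobdry_succ (hε : ε ≫ B.d 0 1 = 0) (t : Γ.X (n - ((0 + 1 : ℕ) : ℤ))) (p : ℕ) :
    Stair B Γ ε n (Γ.d (n - ((0 + 1 : ℕ) : ℤ)) (n - ((0 : ℕ) : ℤ)) t) (p + 1) 0 := by
  induction p with
  | zero =>
    rw [stair_succ]
    refine ⟨ε.f _ t, ?_, (dh_ε ε hε _ t).symm⟩
    rw [stair_zero, dv_ε]
  | succ p ih =>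
    rw [stair_succ]
    exact ⟨0, by rw [map_zero]; exact ih, (map_zero _).symm⟩

lemma stair_cobdry (hε : ε ≫ B.d 0 1 = 0) (t : Γ.X (n - ((0 + 1 : ℕ) : ℤ))) (p : ℕ) :
    ∃ y, Stair B Γ ε n (Γ.d (n - ((0 + 1 : ℕ) : ℤ)) (n - ((0 : ℕ) : ℤ)) t) p y := by
  cases p with
  | zero => exact ⟨_, (stair_zero B Γ ε n _ _).2 rfl⟩
  | succ p => exact ⟨0, stair_cobdry_succ hε t p⟩

lemma stair_extend_zero (s : Γ.X (n - ((0 : ℕ) : ℤ))) (y : (B.X 0).X (n - ((0 : ℕ) : ℤ)))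
    (h : Stair B Γ ε n s 0 y) (w : (B.X 0).X (n - ((0 + 1 : ℕ) : ℤ)))
    (hw : (B.X 0).d (n - ((0 + 1 : ℕ) : ℤ)) (n - ((0 : ℕ) : ℤ)) w = y) :
    ∃ y'', Stair B Γ ε n s (0 + 1) y'' := by
  refine ⟨_, (stair_succ B Γ ε n s 0 _).2 ⟨w, ?_, rfl⟩⟩
  rw [hw]
  exact h

lemma stair_extend_succ (s : Γ.X (n - ((0 : ℕ) : ℤ))) (p : ℕ)
    (y : (B.X (p + 1)).X (n - ((p + 1 : ℕ) : ℤ))) (h : Stair B Γ ε n s (p + 1) y)
    (z : (B.X p).X (n - ((p + 1 : ℕ) : ℤ)))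
    (hz : (B.X p).d (n - ((p + 1 : ℕ) : ℤ)) (n - (p : ℤ)) z = 0)
    (w : (B.X (p + 1)).X (n - ((p + 1 + 1 : ℕ) : ℤ)))
    (hy : y = (B.d p (p + 1)).f (n - ((p + 1 : ℕ) : ℤ)) z +
      (B.X (p + 1)).d (n - ((p + 1 + 1 : ℕ) : ℤ)) (n - ((p + 1 : ℕ) : ℤ)) w) :
    ∃ y'', Stair B Γ ε n s (p + 1 + 1) y'' := by
  rw [stair_succ] at h
  obtain ⟨x, hx, hyx⟩ := h
  refine ⟨_, (stair_succ B Γ ε n s (p + 1) _).2 ⟨w, ?_, rfl⟩⟩
  rw [stair_succ]
  refine ⟨x - z, ?_, ?_⟩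
  · rw [map_sub, hz, sub_zero]
    exact hx
  · rw [map_sub, ← hyx, hy]
    abel

lemma stair_coboundary (hinj : ∀ q, Function.Injective (ε.f q))
    (hex0 : ∀ (q : ℤ) (x : (B.X 0).X q), (B.d 0 1).f q x = 0 → ∃ t, ε.f q t = x)
    (hex : ∀ (p : ℕ) (q : ℤ) (x : (B.X (p + 1)).X q),
      (B.d (p + 1) (p + 1 + 1)).f q x = 0 → ∃ v, (B.d p (p + 1)).f q v = x)
    (s : Γ.X (n - ((0 : ℕ) : ℤ))) (k : ℕ) :
    ∀ (y : (B.X (k + 1)).X (n - ((k + 1 : ℕ) : ℤ))), Stair B Γ ε n s (k + 1) y →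
      ∀ (r : ℤ) (u : (B.X k).X r),
        y = (B.X (k + 1)).d r (n - ((k + 1 : ℕ) : ℤ)) ((B.d k (k + 1)).f r u) →
        ∃ t : Γ.X (n - ((0 + 1 : ℕ) : ℤ)),
          Γ.d (n - ((0 + 1 : ℕ) : ℤ)) (n - ((0 : ℕ) : ℤ)) t = s := by
  induction k with
  | zero =>
    intro y h r u hy
    rw [stair_succ] at h
    obtain ⟨x, hx, hyx⟩ := h
    rw [stair_zero] at hx
    have h0 : (B.d 0 (0 + 1)).f (n - ((0 + 1 : ℕ) : ℤ))
        (x - (B.X 0).d r (n - ((0 + 1 : ℕ) : ℤ)) u) = 0 := by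
      rw [map_sub, ← hyx, hy, dh_dv, sub_self]
    obtain ⟨t, ht⟩ := hex0 _ _ h0
    refine ⟨t, ?_⟩
    apply hinj
    rw [← dv_ε, ht, map_sub, hx, dv_dv, sub_zero]
  | succ k ih =>
    intro y h r u hy
    rw [stair_succ] at h
    obtain ⟨x, hx, hyx⟩ := h
    have h0 : (B.d (k + 1) (k + 1 + 1)).f (n - ((k + 1 + 1 : ℕ) : ℤ))
        (x - (B.X (k + 1)).d r (n - ((k + 1 + 1 : ℕ) : ℤ)) u) = 0 := by
      rw [map_sub, ← hyx, hy, dh_dv, sub_self]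
    obtain ⟨v, hv⟩ := hex k _ _ h0
    refine ih _ hx (n - ((k + 1 + 1 : ℕ) : ℤ)) v ?_
    rw [hv, map_sub, dv_dv, sub_zero]

variable (B) in
/-- the `E₁`-complex in row `q` -/
noncomputable abbrev E1 (q : ℤ) : CochainComplex AddCommGrpCat.{u} ℕ :=
  ((HomologicalComplex.homologyFunctor AddCommGrpCat.{u} (ComplexShape.up ℤ)
    q).mapHomologicalComplex (ComplexShape.up ℕ)).obj B

lemma e1_cocycle (hε : ε ≫ B.d 0 1 = 0) (s : Γ.X (n - ((0 : ℕ) : ℤ)))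
    (hs : ∀ k, Γ.d (n - ((0 : ℕ) : ℤ)) k s = 0) (p : ℕ)
    (y : (B.X p).X (n - (p : ℤ))) (h : Stair B Γ ε n s p y) (k : ℕ) :
    (E1 B (n - (p : ℤ))).d p k (cls (B.X p) (n - (p : ℤ)) y (stair_dv hε s hs p y h)) = 0 := by
  show HomologicalComplex.homologyMap (B.d p k) (n - (p : ℤ))
    (cls (B.X p) (n - (p : ℤ)) y (stair_dv hε s hs p y h)) = 0
  rw [map_cls, cls_congr (B.X k) _ _ 0 _ (stair_dh_all hε s p y h k)]
  exact cls_zero _ _

lemma stair_succ_of_cls_eq_zero (hε : ε ≫ B.d 0 1 = 0) (s : Γ.X (n - ((0 : ℕ) : ℤ)))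
    (hs : ∀ k, Γ.d (n - ((0 : ℕ) : ℤ)) k s = 0) (p : ℕ)
    (y : (B.X p).X (n - (p : ℤ))) (h : Stair B Γ ε n s p y)
    (h0 : cls (E1 B (n - (p : ℤ))) p (cls (B.X p) (n - (p : ℤ)) y (stair_dv hε s hs p y h))
      (e1_cocycle hε s hs p y h) = 0) :
    ∃ y'', Stair B Γ ε n s (p + 1) y'' := by
  cases p with
  | zero =>
    rw [cls_eq_zero_iff _ 0 0 CochainComplex.prev_nat_zero] at h0
    obtain ⟨w', hw'⟩ := h0
    have hd : (E1 B (n - ((0 : ℕ) : ℤ))).d 0 0 = 0 := (E1 B _).shape _ _ (by simp)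
    rw [hd] at hw'
    have h1 : cls (B.X 0) (n - ((0 : ℕ) : ℤ)) y (stair_dv hε s hs 0 y h) = 0 := hw'.symm
    rw [cls_eq_zero_iff _ (n - ((0 + 1 : ℕ) : ℤ)) _ (by
      rw [CochainComplex.prev]
      push_cast
      ring)] at h1
    obtain ⟨w, hw⟩ := h1
    exact stair_extend_zero s y h w hw
  | succ p =>
    rw [cls_eq_zero_iff _ p (p + 1) (CochainComplex.prev_nat_succ p)] at h0
    obtain ⟨w', hw'⟩ := h0
    obtain ⟨z, hz, rfl⟩ := exists_cls (B.X p) (n - ((p + 1 : ℕ) : ℤ)) w'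
    have e : (E1 B (n - ((p + 1 : ℕ) : ℤ))).d p (p + 1)
        (cls (B.X p) (n - ((p + 1 : ℕ) : ℤ)) z hz) =
        cls (B.X (p + 1)) (n - ((p + 1 : ℕ) : ℤ))
          ((B.d p (p + 1)).f (n - ((p + 1 : ℕ) : ℤ)) z) (d_map (B.d p (p + 1)) _ z hz) :=
      map_cls (B.d p (p + 1)) _ z hz
    rw [e] at hw'
    have h2 := cls_sub (B.X (p + 1)) (n - ((p + 1 : ℕ) : ℤ)) y
      ((B.d p (p + 1)).f (n - ((p + 1 : ℕ) : ℤ)) z) (stair_dv hε s hs (p + 1) y h)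
      (d_map (B.d p (p + 1)) _ z hz)
    rw [← hw', sub_self] at h2
    have h3 := (cls_eq_zero_iff (B.X (p + 1)) (n - ((p + 1 + 1 : ℕ) : ℤ)) _ (by
      rw [CochainComplex.prev]
      push_cast
      ring) _ _).1 h2.symm
    obtain ⟨w, hw⟩ := h3
    exact stair_extend_succ s p y h z (hz _) w (by rw [hw]; abel)

variable (B Γ ε n)

/-- the staircase filtration on the cohomology of `Γ`. -/
def GG (p : ℕ) : AddSubgroup (Γ.homology (n - ((0 : ℕ) : ℤ))) where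
  carrier := {h | ∃ (s : Γ.X (n - ((0 : ℕ) : ℤ))) (hs : ∀ k, Γ.d (n - ((0 : ℕ) : ℤ)) k s = 0)
    (y : (B.X p).X (n - (p : ℤ))), cls Γ _ s hs = h ∧ Stair B Γ ε n s p y}
  add_mem' := by
    rintro _ _ ⟨s, hs, y, rfl, h⟩ ⟨s', hs', y', rfl, h'⟩
    exact ⟨s + s', _, y + y', (cls_add Γ _ s s' hs hs').symm, stair_add B Γ ε n s s' p y y' h h'⟩
  zero_mem' := ⟨0, fun _ => map_zero _, 0, cls_zero Γ _, stair_zero_zero B Γ ε n p⟩
  neg_mem' := by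
    rintro _ ⟨s, hs, y, rfl, h⟩
    exact ⟨-s, _, -y, (cls_neg Γ _ s hs).symm, stair_neg B Γ ε n s p y h⟩

variable {B Γ ε n}

lemma mem_GG_iff (hε : ε ≫ B.d 0 1 = 0) (p : ℕ) (s : Γ.X (n - ((0 : ℕ) : ℤ)))
    (hs : ∀ k, Γ.d (n - ((0 : ℕ) : ℤ)) k s = 0) :
    cls Γ _ s hs ∈ GG B Γ ε n p ↔ ∃ y, Stair B Γ ε n s p y := by
  constructor
  · rintro ⟨s', hs', y', e, h'⟩
    have h1 := cls_sub Γ _ s s' hs hs'
    rw [e, sub_self] at h1
    obtain ⟨t, ht⟩ := (cls_eq_zero_iff Γ (n - ((0 + 1 : ℕ) : ℤ)) _ (by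
      rw [CochainComplex.prev]
      push_cast
      ring) _ _).1 h1.symm
    obtain ⟨yt, hyt⟩ := stair_cobdry hε t p
    rw [ht] at hyt
    have h2 := stair_add B Γ ε n s' (s - s') p y' yt h' hyt
    rw [add_sub_cancel] at h2
    exact ⟨_, h2⟩
  · rintro ⟨y, h⟩
    exact ⟨s, hs, y, rfl, h⟩

variable (B Γ ε n)

/-- the group of staircases of length `p` -/
def ZZ (p : ℕ) : AddSubgroup (Γ.X (n - ((0 : ℕ) : ℤ)) × (B.X p).X (n - (p : ℤ))) where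
  carrier := {z | (∀ k, Γ.d (n - ((0 : ℕ) : ℤ)) k z.1 = 0) ∧ Stair B Γ ε n z.1 p z.2}
  add_mem' := by
    rintro ⟨s, y⟩ ⟨s', y'⟩ ⟨hs, h⟩ ⟨hs', h'⟩
    exact ⟨fun k => by
      show Γ.d _ k (s + s') = 0
      rw [map_add, hs, hs', add_zero], stair_add B Γ ε n s s' p y y' h h'⟩
  zero_mem' := ⟨fun _ => map_zero _, stair_zero_zero B Γ ε n p⟩
  neg_mem' := by
    rintro ⟨s, y⟩ ⟨hs, h⟩
    exact ⟨fun k => by
      show Γ.d _ k (-s) = 0
      rw [map_neg, hs, neg_zero], stair_neg B Γ ε n s p y h⟩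

variable {B Γ ε n}

/-- the map from staircases to `E₂`. -/
noncomputable def αα (hε : ε ≫ B.d 0 1 = 0) (p : ℕ) :
    ↥(ZZ B Γ ε n p) →+ (E1 B (n - (p : ℤ))).homology p :=
  AddMonoidHom.mk' (fun z => cls (E1 B (n - (p : ℤ))) p
      (cls (B.X p) (n - (p : ℤ)) z.1.2 (stair_dv hε z.1.1 z.2.1 p z.1.2 z.2.2))
      (e1_cocycle hε z.1.1 z.2.1 p z.1.2 z.2.2))
    (by
      rintro ⟨⟨s, y⟩, hs, h⟩ ⟨⟨s', y'⟩, hs', h'⟩
      rw [cls_add]
      exact cls_congr _ _ _ _ _ (cls_add (B.X p) _ y y' _ _).symm)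

/-- the map from staircases to the graded piece. -/
noncomputable def ββ (p : ℕ) :
    ↥(ZZ B Γ ε n p) →+
      HTor.grDesc (fun p => AddSubgroup.toIntSubmodule (GG B Γ ε n p)) p :=
  AddMonoidHom.mk' (fun z => Submodule.Quotient.mk
      ⟨cls Γ _ z.1.1 z.2.1, ⟨z.1.1, z.2.1, z.1.2, rfl, z.2.2⟩⟩)
    (by
      rintro ⟨⟨s, y⟩, hs, h⟩ ⟨⟨s', y'⟩, hs', h'⟩
      rw [← Submodule.Quotient.mk_add]
      congr 1
      apply Subtype.ext
      exact (cls_add Γ _ s s' hs hs').symm)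

/-- **Main theorem**: the staircase filtration. -/
theorem main (hε : ε ≫ B.d 0 1 = 0) (a : ℤ)
    (hbdd : ∀ (p : ℕ) (q : ℤ), q < a → Subsingleton ((B.X p).X q))
    (hinj : ∀ q, Function.Injective (ε.f q))
    (hex0 : ∀ (q : ℤ) (x : (B.X 0).X q), (B.d 0 1).f q x = 0 → ∃ t, ε.f q t = x)
    (hex : ∀ (p : ℕ) (q : ℤ) (x : (B.X (p + 1)).X q),
      (B.d (p + 1) (p + 1 + 1)).f q x = 0 → ∃ v, (B.d p (p + 1)).f q v = x) :
    ∃ (N : ℕ) (G : ℕ → Submodule ℤ (Γ.homology (n - ((0 : ℕ) : ℤ)))),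
      Antitone G ∧ G 0 = ⊤ ∧ G N = ⊥ ∧
      G 1 = AddSubgroup.toIntSubmodule
        (HomologicalComplex.homologyMap ε (n - ((0 : ℕ) : ℤ))).hom.ker ∧
      ∀ p : ℕ, HTor.IsSubquotient ℤ (HTor.grDesc G p) ((E1 B (n - (p : ℤ))).homology p) := by
  refine ⟨(n - a).toNat + 1, fun p => AddSubgroup.toIntSubmodule (GG B Γ ε n p),
    ?_, ?_, ?_, ?_, ?_⟩
  · apply antitone_nat_of_succ_le
    intro p x hx
    obtain ⟨s, hs, y, rfl, h⟩ := hx
    rw [stair_succ] at h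
    obtain ⟨x', hx', -⟩ := h
    exact ⟨s, hs, _, rfl, hx'⟩
  · rw [eq_top_iff]
    intro x _
    obtain ⟨s, hs, rfl⟩ := exists_cls Γ _ x
    exact ⟨s, hs, _, rfl, (stair_zero B Γ ε n s _).2 rfl⟩
  · rw [eq_bot_iff]
    intro x hx
    obtain ⟨s, hs, y, rfl, h⟩ := hx
    have hsub : Subsingleton ((B.X ((n - a).toNat + 1)).X
        (n - (((n - a).toNat + 1 : ℕ) : ℤ))) := hbdd _ _ (by
      push_cast
      omega)
    obtain ⟨t, ht⟩ := stair_coboundary hinj hex0 hex s (n - a).toNat y h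
      (n - (((n - a).toNat + 1 : ℕ) : ℤ)) 0 (Subsingleton.elim _ _)
    rw [Submodule.mem_bot]
    exact (cls_eq_zero_iff Γ (n - ((0 + 1 : ℕ) : ℤ)) _ (by
      rw [CochainComplex.prev]
      push_cast
      ring) s hs).2 ⟨t, ht⟩
  · ext x
    obtain ⟨s, hs, rfl⟩ := exists_cls Γ _ x
    show cls Γ _ s hs ∈ GG B Γ ε n (0 + 1) ↔
      (HomologicalComplex.homologyMap ε (n - ((0 : ℕ) : ℤ))).hom (cls Γ _ s hs) = 0
    rw [mem_GG_iff hε]
    have e : (HomologicalComplex.homologyMap ε (n - ((0 : ℕ) : ℤ))).hom (cls Γ _ s hs) =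
        cls (B.X 0) _ (ε.f _ s) (d_map ε _ s hs) := map_cls ε _ s hs
    rw [e, cls_eq_zero_iff (B.X 0) (n - ((0 + 1 : ℕ) : ℤ)) _ (by
      rw [CochainComplex.prev]
      push_cast
      ring)]
    constructor
    · rintro ⟨y, h⟩
      rw [stair_succ] at h
      obtain ⟨w, hw, -⟩ := h
      rw [stair_zero] at hw
      exact ⟨w, hw⟩
    · rintro ⟨w, hw⟩
      exact stair_extend_zero s _ ((stair_zero B Γ ε n s _).2 rfl) w hw
  · intro p
    refine isSubquotient_of_rel_int (αα hε p) (ββ p) ?_ ?_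
    · intro w
      obtain ⟨⟨x, hx⟩, rfl⟩ := Submodule.Quotient.mk_surjective _ w
      obtain ⟨s, hs, y, rfl, h⟩ := hx
      exact ⟨⟨(s, y), hs, h⟩, rfl⟩
    · rintro ⟨⟨s, y⟩, hs, h⟩ h0
      obtain ⟨y'', h''⟩ := stair_succ_of_cls_eq_zero hε s hs p y h h0
      show Submodule.Quotient.mk _ = 0
      rw [Submodule.Quotient.mk_eq_zero]
      exact ⟨s, hs, y'', rfl, h''⟩

end Groth.Agent.Lib.Helper5.StairFil
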