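import Groth.Agent.Lib.Helper5.BasisFlasque

/-!
# Inverse images of flasque sheaves on a directed intersection of quasi-compact opens are acyclic
-/

set_option autoImplicit false

universe u

open CategoryTheory CategoryTheory.Limits TopologicalSpace Opposite TopCat Abelian

namespace Groth.Agent.Lib.Helper5.SubspaceAcyclic

open Groth.Agent.Lib.Helper5.PullStalk Groth.Agent.Lib.Helper5.SubspaceSect
  Groth.Agent.Lib.Helper5.BasisFlasque

variable {X : TopCat.{u}} [SpectralSpace X] (S : Sys X)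

/-- the basis of the subspace given by the quasi-compact opens of the ambient space -/
def Bs : Set (Opens (TopCat.of S.Z)) :=
  {W' | ∃ V : Opens X, IsCompact (V : Set X) ∧ W' = pre S.Z V}

lemma goodBasis_Bs : GoodBasis (Bs S) where
  bot_mem := ⟨⊥, by simp, by
    ext x
    constructor
    · intro hx
      exact hx.elim
    · intro hx
      exact ((mem_pre S.Z ⊥ x).1 hx).elim⟩
  top_mem := ⟨⊤, by simpa using isCompact_univ, by
    ext x
    exact ⟨fun _ => trivial, fun _ => trivial⟩⟩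
  inf_mem := by
    rintro _ ⟨V₁, hV₁, rfl⟩ _ ⟨V₂, hV₂, rfl⟩
    exact ⟨V₁ ⊓ V₂, QuasiSeparatedSpace.inter_isCompact _ _ V₁.2 hV₁ V₂.2 hV₂, rfl⟩
  sup_mem := by
    rintro _ ⟨V₁, hV₁, rfl⟩ _ ⟨V₂, hV₂, rfl⟩
    refine ⟨V₁ ⊔ V₂, by simpa using hV₁.union hV₂, ?_⟩
    ext x
    constructor
    · rintro (hx | hx)
      · exact (mem_pre S.Z (V₁ ⊔ V₂) x).2 (Or.inl hx)
      · exact (mem_pre S.Z (V₁ ⊔ V₂) x).2 (Or.inr hx)
    · intro hx
      rcases (mem_pre S.Z (V₁ ⊔ V₂) x).1 hx with h | h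
      · exact Or.inl h
      · exact Or.inr h
  compact := by
    rintro _ ⟨V, hV, rfl⟩
    rw [Subtype.isCompact_iff]
    have e : (Subtype.val '' ((pre S.Z V : Opens (TopCat.of S.Z)) : Set S.Z)) =
        S.Z ∩ (V : Set X) := by
      ext z
      constructor
      · rintro ⟨x, hx, rfl⟩
        exact ⟨x.2, hx⟩
      · rintro ⟨hzZ, hzV⟩
        exact ⟨⟨z, hzZ⟩, hzV, rfl⟩
    rw [e]
    exact S.isCompact_inter V hV
  basis := by
    intro W' x hx
    obtain ⟨N, hNo, hN⟩ := isOpen_induced_iff.1 W'.2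
    have hxN : x.1 ∈ N := by
      have : x ∈ Subtype.val ⁻¹' N := by
        rw [hN]
        exact hx
      exact this
    obtain ⟨Vb, ⟨hVbo, hVbc⟩, hxVb, hVbsub⟩ :=
      PrespectralSpace.isTopologicalBasis.exists_subset_of_mem_open hxN hNo
    refine ⟨pre S.Z ⟨Vb, hVbo⟩, ⟨⟨Vb, hVbo⟩, hVbc, rfl⟩, hxVb, ?_⟩
    intro y hy
    have : y ∈ Subtype.val ⁻¹' N := hVbsub hy
    rw [hN] at this
    exact this

/-- the inverse image of a flasque sheaf is flasque relative to the basis -/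
theorem BF_Gs (F : CohTop.Ab X) [TopCat.Sheaf.IsFlasque F] : BF (Bs S) (Gs S.Z F) := by
  rintro _ ⟨V, hV, rfl⟩ t
  obtain ⟨U, hU, s, hs⟩ := S.exists_cmp_eq F V hV t
  have hepi : Epi (F.obj.map (homOfLE (le_top : U ⊓ V ≤ ⊤)).op) :=
    TopCat.Presheaf.IsFlasque.epi (F := F.obj) _
  obtain ⟨st, hst⟩ := (AddCommGrpCat.epi_iff_surjective _).1 hepi s
  have hst' : rs F (le_top : U ⊓ V ≤ ⊤) st = s := hst
  refine ⟨cmp S.Z F (le_top : (⊤ : Opens (TopCat.of S.Z)) ≤ pre S.Z ⊤) st, ?_⟩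
  rw [← cmp_res S.Z F (le_top : (⊤ : Opens (TopCat.of S.Z)) ≤ pre S.Z ⊤)
    (S.pre_le_pre_inf hU V) (le_top : U ⊓ V ≤ ⊤) le_top st, hst', hs]

/-- **The inverse image of a flasque sheaf is acyclic.** -/
theorem subsingleton_H_succ (F : CohTop.Ab X) [TopCat.Sheaf.IsFlasque F] (p : ℕ) :
    Subsingleton (CohTop.H (Gs S.Z F) (p + 1)) :=
  BasisFlasque.subsingleton_H_succ (goodBasis_Bs S) _ (BF_Gs S F) p

end Groth.Agent.Lib.Helper5.SubspaceAcyclic
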