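import Groth.Agent.Lib.Helper5.SubspaceColim

/-!
# Cohomology of a subspace as a colimit: the abstract argument

The argument of `SubspaceCoh` and `SubspaceColim` for an abstract directed system of open
neighbourhoods of a subspace `Z` satisfying: sections of inverse images on `Z` are the colimit of
the sections over the members of the system, and inverse images of flasque sheaves are acyclic.
-/

set_option autoImplicit false
set_option linter.unusedSectionVars false
set_option linter.style.haveILetI false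

universe u

open CategoryTheory CategoryTheory.Limits TopologicalSpace Opposite TopCat Abelian

namespace Groth.Agent.Lib.Helper5.SubspaceCohGen

open Groth.Agent.Lib.Helper5.PullStalk Groth.Agent.Lib.Helper5.SubspaceSect
  Groth.Agent.Lib.Helper5.SubspaceCoh

open Groth.Agent.Lib.Helper22.CohTop (ZU freeSheafFunctor unitSec homEquivSections
  homEquivSections_apply homEquivSections_naturality_left homAddEquivSections
  homAddEquivSections_apply freeSheafFunctor_map_unitSec injSC injSC_shortExact)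

variable {X : TopCat.{u}}

/-- a directed system of open neighbourhoods of a subspace with the colimit property for
sections and acyclicity of inverse images of flasque sheaves -/
structure NSys (X : TopCat.{u}) where
  /-- the family of opens -/
  𝒩 : Set (Opens X)
  inf_mem : ∀ U₁ ∈ 𝒩, ∀ U₂ ∈ 𝒩, U₁ ⊓ U₂ ∈ 𝒩
  top_mem : ⊤ ∈ 𝒩
  /-- the subspace -/
  Z : Set X
  Z_le : ∀ U ∈ 𝒩, Z ⊆ (U : Set X)
  rep0 : ∀ (F : CohTop.Ab X) (t : (Gs Z F).obj.obj (op ⊤)),
    ∃ (U : Opens X) (hU : U ∈ 𝒩) (s : F.obj.obj (op U)),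
      cmp Z F (show (⊤ : Opens (TopCat.of Z)) ≤ pre Z U from fun x _ => Z_le U hU x.2) s = t
  zero0 : ∀ (F : CohTop.Ab X) (U : Opens X) (hU : U ∈ 𝒩) (s : F.obj.obj (op U)),
    cmp Z F (show (⊤ : Opens (TopCat.of Z)) ≤ pre Z U from fun x _ => Z_le U hU x.2) s = 0 →
      ∃ (U' : Opens X) (_ : U' ∈ 𝒩) (h : U' ≤ U), rs F h s = 0
  acyc : ∀ (F : CohTop.Ab X) [TopCat.Sheaf.IsFlasque F] (p : ℕ),
    Subsingleton (CohTop.H (Gs Z F) (p + 1))

variable (S : NSys X)

/-- representability and injectivity in the colimit, simultaneously in all sheaves -/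
theorem rep_and_zero (p : ℕ) :
    (∀ (F : CohTop.Ab X) (y : Sheaf.H ((CohPull.inv (incl S.Z)).obj F) p),
      ∃ (U : Opens X) (hU : U ∈ S.𝒩) (x : Ext (ZU U) F p),
        rho S.Z U (S.Z_le U hU) F p x = y) ∧
    (∀ (F : CohTop.Ab X) (U : Opens X) (hU : U ∈ S.𝒩) (x : Ext (ZU U) F p),
      rho S.Z U (S.Z_le U hU) F p x = 0 →
        ∃ (U' : Opens X) (_ : U' ∈ S.𝒩) (h : U' ≤ U), rsM F p (homOfLE h) x = 0) := by
  induction p with
  | zero =>
    constructor
    · intro F y
      let t := Sheaf.H.equiv₀ ((CohPull.inv (incl S.Z)).obj F) isTerminalTop y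
      obtain ⟨U, hU, s, hs⟩ := S.rep0 F t
      refine ⟨U, hU, Ext.mk₀ ((homEquivSections U F).symm s), ?_⟩
      apply (Sheaf.H.equiv₀ ((CohPull.inv (incl S.Z)).obj F) isTerminalTop).injective
      refine (rho_zero S.Z U (S.Z_le U hU) F _).trans ?_
      rw [Equiv.apply_symm_apply]
      exact hs
    · intro F U hU x hx
      obtain ⟨ψ, rfl⟩ := (Ext.mk₀_bijective (ZU U) F).2 x
      have hU'' : (⊤ : Opens (TopCat.of S.Z)) ≤ pre S.Z U := fun x _ => S.Z_le U hU x.2
      have h0 : cmp S.Z F hU'' (homEquivSections U F ψ) = 0 := by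
        refine (rho_zero S.Z U (S.Z_le U hU) F ψ).symm.trans ?_
        rw [hx]
        exact map_zero _
      obtain ⟨U', hU', hle, hs⟩ := S.zero0 F U hU (homEquivSections U F ψ) h0
      refine ⟨U', hU', hle, ?_⟩
      rw [rsM_apply, Ext.mk₀_comp_mk₀]
      have e : (freeSheafFunctor X).map (homOfLE hle) ≫ ψ = 0 := by
        apply (homAddEquivSections U' F).injective
        rw [map_zero, homAddEquivSections_apply, homEquivSections_naturality_left]
        exact hs
      rw [e, Ext.mk₀_zero]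
  | succ p ih =>
    constructor
    · intro F y
      have hA := injSC_shortExact F
      have hA' := hA.map_of_exact (CohPull.inv (incl S.Z))
      have h0 : y.comp (Ext.mk₀ ((injSC F).map (CohPull.inv (incl S.Z))).f) (add_zero (p + 1)) = 0 :=
        (S.acyc (injSC F).X₂ p).elim _ _
      obtain ⟨z, hz⟩ := Ext.covariant_sequence_exact₁ _ hA' y h0 rfl
      obtain ⟨U, hU, x', hx'⟩ := ih.1 (injSC F).X₃ z
      refine ⟨U, hU, x'.comp hA.extClass rfl, ?_⟩
      refine (rho_extClass S.Z U (S.Z_le U hU) hA p x').trans ?_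
      rw [hx']
      exact hz
    · intro F U hU x hx
      have hA := injSC_shortExact F
      have hA' := hA.map_of_exact (CohPull.inv (incl S.Z))
      have h0 : x.comp (Ext.mk₀ (injSC F).f) (add_zero (p + 1)) = 0 := Ext.eq_zero_of_injective _
      obtain ⟨x', rfl⟩ := Ext.covariant_sequence_exact₁ _ hA x h0 rfl
      have hx2 : (rho S.Z U (S.Z_le U hU) (injSC F).X₃ p x').comp hA'.extClass rfl = 0 :=
        (rho_extClass S.Z U (S.Z_le U hU) hA p x').symm.trans hx
      obtain ⟨w, hw⟩ := Ext.covariant_sequence_exact₃ _ hA' _ rfl hx2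
      obtain ⟨U₁, hU₁, w', hw'⟩ := ih.1 (injSC F).X₂ w
      have hU₂ : U₁ ⊓ U ∈ S.𝒩 := S.inf_mem _ hU₁ _ hU
      let d : Ext (ZU (U₁ ⊓ U)) (injSC F).X₃ p :=
        rsM _ p (homOfLE (inf_le_right : U₁ ⊓ U ≤ U)) x' -
          (rsM _ p (homOfLE (inf_le_left : U₁ ⊓ U ≤ U₁)) w').comp (Ext.mk₀ (injSC F).g) (add_zero p)
      have hd : rho S.Z (U₁ ⊓ U) (S.Z_le _ hU₂) (injSC F).X₃ p d = 0 := by
        rw [map_sub, rho_rsM S.Z _ (S.Z_le _ hU₂) (S.Z_le _ hU), rho_map,
          rho_rsM S.Z _ (S.Z_le _ hU₂) (S.Z_le _ hU₁), hw', sub_eq_zero]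
        exact hw.symm
      obtain ⟨U₃, hU₃, h₃, hd₃⟩ := ih.2 _ (U₁ ⊓ U) hU₂ d hd
      refine ⟨U₃, hU₃, h₃.trans inf_le_right, ?_⟩
      rw [rsM_comp]
      have e : rsM _ p (homOfLE (h₃.trans (inf_le_right : U₁ ⊓ U ≤ U))) x' =
          (rsM _ p (homOfLE (h₃.trans (inf_le_left : U₁ ⊓ U ≤ U₁))) w').comp
            (Ext.mk₀ (injSC F).g) (add_zero p) := by
        have h4 := hd₃
        rw [map_sub, sub_eq_zero, rsM_rsM _ p _ _ (homOfLE (h₃.trans inf_le_right)),
          rsM_comp, rsM_rsM _ p _ _ (homOfLE (h₃.trans inf_le_left))] at h4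
        exact h4
      rw [e]
      exact PushEdge.comp_g_extClass' hA _

section colim

variable (P : ObjectProperty (Opens X)ᵒᵖ) (hP : ∀ U : (Opens X)ᵒᵖ, P U ↔ U.unop ∈ S.𝒩)

include hP in
lemma isFiltered : IsFiltered P.FullSubcategory := by
  haveI : Nonempty P.FullSubcategory := ⟨⟨op ⊤, (hP _).2 S.top_mem⟩⟩
  haveI : IsFilteredOrEmpty P.FullSubcategory :=
    { cocone_objs := fun U V =>
        ⟨⟨op (U.obj.unop ⊓ V.obj.unop),
            (hP _).2 (S.inf_mem _ ((hP _).1 U.property) _ ((hP _).1 V.property))⟩,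
          ObjectProperty.homMk (homOfLE inf_le_left).op,
          ObjectProperty.homMk (homOfLE inf_le_right).op, trivial⟩
      cocone_maps := fun U V f g => ⟨V, 𝟙 V, by
        have e : f = g := ObjectProperty.hom_ext _ (Quiver.Hom.unop_inj (Subsingleton.elim _ _))
        rw [e]⟩ }
  exact {}

/-- the diagram of the cohomology groups of the members of the system -/
noncomputable abbrev D (F : CohTop.Ab X) (p : ℕ) : P.FullSubcategory ⥤ AddCommGrpCat.{u} :=
  P.ι ⋙ (Sheaf.cohomologyPresheafFunctor (Opens.grothendieckTopology X) p).obj F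

/-- the cocone given by the maps `rho` -/
noncomputable def cocone (F : CohTop.Ab X) (p : ℕ) : Cocone (D P F p) where
  pt := AddCommGrpCat.of (Sheaf.H ((CohPull.inv (incl S.Z)).obj F) p)
  ι :=
    { app := fun U => AddCommGrpCat.ofHom
        (rho S.Z U.obj.unop (S.Z_le _ ((hP U.obj).1 U.property)) F p)
      naturality := fun U V f => by
        ext x
        exact rho_rsM S.Z f.hom.unop (S.Z_le _ ((hP V.obj).1 V.property))
          (S.Z_le _ ((hP U.obj).1 U.property)) F p x }

/-- the cocone is a colimit cocone -/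
noncomputable def isColimit (F : CohTop.Ab X) (p : ℕ) : IsColimit (cocone S P hP F p) := by
  haveI := isFiltered S P hP
  have : ReflectsColimit (D P F p) (forget AddCommGrpCat.{u}) :=
    reflectsColimit_of_reflectsIsomorphisms _ _
  apply isColimitOfReflects (forget AddCommGrpCat.{u})
  apply Types.FilteredColimit.isColimitOf'
  · intro y
    obtain ⟨U, hU, x, hx⟩ := (rep_and_zero S p).1 F y
    exact ⟨⟨op U, (hP _).2 hU⟩, x, hx.symm⟩
  · intro U x y hxy
    let x' : Ext (ZU U.obj.unop) F p := x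
    let y' : Ext (ZU U.obj.unop) F p := y
    have h0 : rho S.Z U.obj.unop (S.Z_le _ ((hP U.obj).1 U.property)) F p (x' - y') = 0 := by
      rw [map_sub, sub_eq_zero]
      exact hxy
    obtain ⟨U', hU', h, hz⟩ := (rep_and_zero S p).2 F U.obj.unop ((hP _).1 U.property)
      (x' - y') h0
    refine ⟨⟨op U', (hP _).2 hU'⟩, ObjectProperty.homMk (homOfLE h).op, ?_⟩
    rw [map_sub, sub_eq_zero] at hz
    exact hz

include hP in
/-- **Cohomology of the subspace as a colimit.** -/
theorem nonempty_addEquiv (F : CohTop.Ab X) (p : ℕ) :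
    Nonempty ((colimit (P.ι ⋙ (Sheaf.cohomologyPresheafFunctor
        (Opens.grothendieckTopology X) p).obj F) : AddCommGrpCat.{u}) ≃+
      CohTop.H ((CohTop.pull (incl S.Z)).obj F) p) := by
  let e : colimit (D P F p) ≅ (cocone S P hP F p).pt :=
    (colimit.isColimit _).coconePointUniqueUpToIso (isColimit S P hP F p)
  exact ⟨e.addCommGroupIsoToAddEquiv⟩

end colim

end Groth.Agent.Lib.Helper5.SubspaceCohGen
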