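import Groth.Agent.Lib.Helper5.SubspaceCoh

/-!
# The colimit form of the cohomology of a directed intersection of quasi-compact opens
-/

set_option autoImplicit false
set_option linter.unusedSectionVars false
set_option linter.style.haveILetI false

universe u

open CategoryTheory CategoryTheory.Limits TopologicalSpace Opposite TopCat Abelian

namespace Groth.Agent.Lib.Helper5.SubspaceColim

open Groth.Agent.Lib.Helper5.PullStalk Groth.Agent.Lib.Helper5.SubspaceSect
  Groth.Agent.Lib.Helper22.CohTop Groth.Agent.Lib.Helper5.SubspaceCoh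

variable {X : TopCat.{u}} [SpectralSpace X] (S : Sys X) (P : ObjectProperty (Opens X)ᵒᵖ)
  (hP : ∀ U : (Opens X)ᵒᵖ, P U ↔ U.unop ∈ S.𝒩)

include hP in
lemma isFiltered : IsFiltered P.FullSubcategory := by
  haveI : Nonempty P.FullSubcategory := ⟨⟨op ⊤, (hP _).2 S.top_mem⟩⟩
  haveI : IsFilteredOrEmpty P.FullSubcategory :=
    { cocone_objs := fun U V =>
        ⟨⟨op (U.obj.unop ⊓ V.obj.unop),
            (hP _).2 (S.inf_mem _ ((hP _).1 U.property) _ ((hP _).1 V.property))⟩,
          ObjectProperty.homMk (homOfLE inf_le_left).op,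
          ObjectProperty.homMk (homOfLE inf_le_right).op, trivial⟩
      cocone_maps := fun U V f g => ⟨V, 𝟙 V, by
        have e : f = g := ObjectProperty.hom_ext _ (Quiver.Hom.unop_inj (Subsingleton.elim _ _))
        rw [e]⟩ }
  exact {}

/-- the diagram of the cohomology groups of the members of the system -/
noncomputable abbrev D (F : CohTop.Ab X) (p : ℕ) : P.FullSubcategory ⥤ AddCommGrpCat.{u} :=
  P.ι ⋙ (Sheaf.cohomologyPresheafFunctor (Opens.grothendieckTopology X) p).obj F

/-- the cocone given by the maps `rho` -/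
noncomputable def cocone (F : CohTop.Ab X) (p : ℕ) : Cocone (D P F p) where
  pt := AddCommGrpCat.of (Sheaf.H ((CohPull.inv (incl S.Z)).obj F) p)
  ι :=
    { app := fun U => AddCommGrpCat.ofHom
        (rho S.Z U.obj.unop (S.Z_le ((hP U.obj).1 U.property)) F p)
      naturality := fun U V f => by
        ext x
        exact rho_rsM S.Z f.hom.unop (S.Z_le ((hP V.obj).1 V.property))
          (S.Z_le ((hP U.obj).1 U.property)) F p x }

/-- the cocone is a colimit cocone -/
noncomputable def isColimit (F : CohTop.Ab X) (p : ℕ) : IsColimit (cocone S P hP F p) := by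
  haveI := isFiltered S P hP
  have : ReflectsColimit (D P F p) (forget AddCommGrpCat.{u}) :=
    reflectsColimit_of_reflectsIsomorphisms _ _
  apply isColimitOfReflects (forget AddCommGrpCat.{u})
  apply Types.FilteredColimit.isColimitOf'
  · intro y
    obtain ⟨U, hU, x, hx⟩ := (rep_and_zero S p).1 F y
    exact ⟨⟨op U, (hP _).2 hU⟩, x, hx.symm⟩
  · intro U x y hxy
    let x' : Ext (ZU U.obj.unop) F p := x
    let y' : Ext (ZU U.obj.unop) F p := y
    have h0 : rho S.Z U.obj.unop (S.Z_le ((hP U.obj).1 U.property)) F p (x' - y') = 0 := by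
      rw [map_sub, sub_eq_zero]
      exact hxy
    obtain ⟨U', hU', h, hz⟩ := (rep_and_zero S p).2 F U.obj.unop ((hP _).1 U.property)
      (x' - y') h0
    refine ⟨⟨op U', (hP _).2 hU'⟩, ObjectProperty.homMk (homOfLE h).op, ?_⟩
    rw [map_sub, sub_eq_zero] at hz
    exact hz

include hP in
/-- **Cohomology of the intersection as a colimit.** -/
theorem nonempty_addEquiv (F : CohTop.Ab X) (p : ℕ) :
    Nonempty ((colimit (P.ι ⋙ (Sheaf.cohomologyPresheafFunctor
        (Opens.grothendieckTopology X) p).obj F) : AddCommGrpCat.{u}) ≃+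
      CohTop.H ((CohTop.pull (incl S.Z)).obj F) p) := by
  let e : colimit (D P F p) ≅ (cocone S P hP F p).pt :=
    (colimit.isColimit _).coconePointUniqueUpToIso (isColimit S P hP F p)
  exact ⟨e.addCommGroupIsoToAddEquiv⟩

end Groth.Agent.Lib.Helper5.SubspaceColim
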