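import Groth.Agent.Lib.Helper5.TopSS
import Groth.Agent.Lib.Helper22.CohTop.Pushforward

/-
Helper5: the Leray spectral sequence of a continuous map `f : X ⟶ Y` over an open `V` of `Y`:
`E₂^{p,q} = Hᵖ(V, R^q f_* F) ⇒ H^{p+q}(f⁻¹V, F)` (existence form, as an instance of the
Grothendieck spectral sequence).
-/

set_option autoImplicit false
set_option maxSynthPendingDepth 3

universe u
open CategoryTheory CategoryTheory.Limits TopologicalSpace Opposite Abelian

namespace Groth.Agent.Lib.Helper5.TopSS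

open Groth.Agent.Lib.Helper5 Groth.Agent.Lib.Helper22.CohTop

variable {X Y : TopCat.{u}} (f : X ⟶ Y) (V : Opens Y)

/-- `f_* ⋙ Γ(V, -) ≅ Γ(f⁻¹V, -)`. -/
noncomputable def pushΓVIso : CohTop.push f ⋙ ΓV V ≅ ΓV ((Opens.map f).obj V) :=
  NatIso.ofComponents (fun F => Iso.refl _) (by
    intro F G φ
    simp only [Iso.refl_hom, Category.comp_id, Category.id_comp]
    rfl)

/-- `Rⁿ(f_* ⋙ Γ(V, -))(F) ≅ Hⁿ(f⁻¹V, F)`. -/
noncomputable def RpushΓVObjIso (F : CohTop.Ab X) (n : ℕ) :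
    ((CohTop.push f ⋙ ΓV V).rightDerived n).obj F ≅
      AddCommGrpCat.of (CohTop.HU F n ((Opens.map f).obj V)) :=
  (ExtDer.rightDerivedMapIso (pushΓVIso f V) n).app F ≪≫ RΓVObjIso _ n F

theorem pushΓV_acyclic (Q : CohTop.Ab X) (hQ : Injective Q) (q : ℕ) (hq : 0 < q) :
    IsZero (((ΓV V).rightDerived q).obj ((CohTop.push f).obj Q)) := by
  obtain ⟨q, rfl⟩ : ∃ k, q = k + 1 := ⟨q - 1, by lia⟩
  have : TopCat.Sheaf.IsFlasque Q := isFlasque_of_injective Q
  have : TopCat.Sheaf.IsFlasque ((CohTop.push f).obj Q) :=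
    TopCat.Sheaf.IsFlasque.pushforward_isFlasque Q f
  exact isZero_RΓV_succ_of_flasque V _ q

/-- The Leray spectral sequence over an open `V` of the base. -/
theorem leraySS (F : CohTop.Ab X) :
    ∃ (E : E₂CohomologicalSpectralSequence AddCommGrpCat.{u})
      (a : SpSeq.Abutment E (fun n : ℤ =>
        if 0 ≤ n then AddCommGrpCat.of (CohTop.HU F n.toNat ((Opens.map f).obj V))
          else AddCommGrpCat.of PUnit.{u + 1})),
      (∀ n : ℤ, a.IsFinite n) ∧ SpSeq.IsBounded E ∧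
      ∀ p q : ℤ, Nonempty ((E.page 2 le_rfl).X (p, q) ≅
        (if 0 ≤ p ∧ 0 ≤ q then
          AddCommGrpCat.of (CohTop.HU ((CohTop.Rpush f q.toNat).obj F) p.toNat V)
          else AddCommGrpCat.of PUnit.{u + 1})) :=
  GrothSSInst.main' (CohTop.push f) (ΓV V)
    (fun Q hQ q hq => pushΓV_acyclic f V Q hQ q hq) F
    (fun n => AddCommGrpCat.of (CohTop.HU F n ((Opens.map f).obj V)))
    (fun p q => AddCommGrpCat.of (CohTop.HU ((CohTop.Rpush f q).obj F) p V))
    (AddCommGrpCat.of PUnit.{u + 1}) (AddCommGrpCat.of PUnit.{u + 1})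
    (AddCommGrpCat.isZero_of_subsingleton _) (AddCommGrpCat.isZero_of_subsingleton _)
    (fun n => ⟨RpushΓVObjIso f V F n⟩)
    (fun p q => ⟨RΓVObjIso V p _⟩)

end Groth.Agent.Lib.Helper5.TopSS
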