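import Groth.Agent.Lib.Helper5.TopSS
import Groth.Agent.S6027

/-
Helper5: local cohomology `Γ_Z(X, -)` on topological spaces as a derived functor:
`RⁿΓ_Z(X, -)(F) ≅ Hⁿ_Z(X, F)` (`RHZObjIso`), vanishing on flasque sheaves, and
`f_* ⋙ Γ_{Y'}(Y, -) ≅ Γ_{f⁻¹Y'}(X, -)` (`pushGammaIso`).
-/

set_option autoImplicit false
set_option maxSynthPendingDepth 3

universe u
open CategoryTheory CategoryTheory.Limits TopologicalSpace Opposite Abelian

namespace Groth.Agent.Lib.Helper5.TopSS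

open Groth.Agent.Lib.Helper5 Groth.Agent.Lib.Helper5.SectSupp Groth.Agent.Lib.Helper22.CohTop

variable {X Y : TopCat.{u}} (f : X ⟶ Y) (V : Opens Y)

/-- The middle identification. -/
noncomputable def midEquiv (F : CohTop.Ab X) :
    LocCohZ.sectZ ((CohTop.push f).obj F) (inf_le_left : (⊤ : Opens Y) ⊓ V ≤ ⊤) ≃+
      LocCohZ.sectZ F (inf_le_left : (⊤ : Opens X) ⊓ (Opens.map f).obj V ≤ ⊤) :=
  AddEquiv.refl _

lemma ι_sectEquiv_symm {X : TopCat.{u}} (U : Opens X) (F : CohTop.Ab X) (W : Opens X)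
    (s : LocCohZ.sectZ F (inf_le_left : W ⊓ U ≤ W)) :
    ((ι U F).hom.app (op W)).hom ((sectEquiv U F W).symm s) = s.1 := by
  rw [← sectEquiv_apply, AddEquiv.apply_symm_apply]

/-- `Γ_{Y'}(Y, f_* F) ≃+ Γ_{f⁻¹Y'}(X, F)`. -/
noncomputable def pushGammaEquiv (F : CohTop.Ab X) :
    ((LocCohZ.sectSuppF V).obj ((CohTop.push f).obj F)).obj.obj (op ⊤) ≃+
      ((LocCohZ.sectSuppF ((Opens.map f).obj V)).obj F).obj.obj (op ⊤) :=
  (sectEquiv V ((CohTop.push f).obj F) ⊤).trans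
    ((midEquiv f V F).trans (sectEquiv ((Opens.map f).obj V) F ⊤).symm)

lemma ι_pushGammaEquiv (F : CohTop.Ab X)
    (t : ((LocCohZ.sectSuppF V).obj ((CohTop.push f).obj F)).obj.obj (op ⊤)) :
    ((ι ((Opens.map f).obj V) F).hom.app (op ⊤)).hom (pushGammaEquiv f V F t) =
      ((ι V ((CohTop.push f).obj F)).hom.app (op ⊤)).hom t := by
  dsimp only [pushGammaEquiv, AddEquiv.trans_apply]
  rw [ι_sectEquiv_symm]
  rfl

lemma pushGammaEquiv_naturality {F G : CohTop.Ab X} (φ : F ⟶ G)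
    (t : ((LocCohZ.sectSuppF V).obj ((CohTop.push f).obj F)).obj.obj (op ⊤)) :
    pushGammaEquiv f V G
        ((((LocCohZ.sectSuppF V).map ((CohTop.push f).map φ)).hom.app (op ⊤)).hom t) =
      (((LocCohZ.sectSuppF ((Opens.map f).obj V)).map φ).hom.app (op ⊤)).hom
          (pushGammaEquiv f V F t) := by
  apply ι_app_injective ((Opens.map f).obj V) G ⊤
  rw [ι_pushGammaEquiv, sectSuppF_map_ι_apply, sectSuppF_map_ι_apply, ι_pushGammaEquiv]
  rfl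

/-- `f_* ⋙ Γ_{Y'}(Y, -) ≅ Γ_{f⁻¹Y'}(X, -)`. -/
noncomputable def pushGammaIso :
    CohTop.push f ⋙ LocCohZ.gammaZF V ≅ LocCohZ.gammaZF ((Opens.map f).obj V) :=
  NatIso.ofComponents (fun F => (pushGammaEquiv f V F).toAddCommGrpIso) (by
    intro F G φ
    ext t
    exact pushGammaEquiv_naturality f V φ t)

noncomputable instance preservesFiniteLimits_gammaZF {X : TopCat.{u}} (U : Opens X) :
    PreservesFiniteLimits (LocCohZ.gammaZF U) :=
  inferInstanceAs (PreservesFiniteLimits (LocCohZ.sectSuppF U ⋙ ΓV (⊤ : Opens X)))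

/-- `Rⁿ(Γ_Z(X, -))(F) ≅ Hⁿ_Z(X, F)`. -/
noncomputable def RHZObjIso {X : TopCat.{u}} (U : Opens X) (F : CohTop.Ab X) (n : ℕ) :
    ((LocCohZ.gammaZF U).rightDerived n).obj F ≅ AddCommGrpCat.of (LocCohZ.HZc F n U) :=
  (ExtDer.extIsoOfIso _ (LocCohZ.gammaZF U) (Groth.Agent.S6027.gammaIso U) n).app F ≪≫
    ((Abelian.extFunctor n).mapIso
      (Groth.Agent.S6027.zqCongr (inf_le_left : (⊤ : Opens X) ⊓ U ≤ ⊤) (le_top : U ≤ ⊤)
        (top_inf_eq U)).symm.op).app F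

lemma isZero_RHZ_succ_of_flasque {X : TopCat.{u}} (U : Opens X) (F : CohTop.Ab X)
    [TopCat.Sheaf.IsFlasque F] (q : ℕ) :
    IsZero (((LocCohZ.gammaZF U).rightDerived (q + 1)).obj F) := by
  refine IsZero.of_iso ?_ (RHZObjIso U F (q + 1))
  have := subsingleton_HZ_succ_of_flasque F (le_top : U ≤ ⊤) q
  exact AddCommGrpCat.isZero_of_subsingleton _

/-- `Rⁿ(f_* ⋙ Γ_{Y'}(Y, -))(F) ≅ Hⁿ_{f⁻¹Y'}(X, F)`. -/
noncomputable def RpushGammaObjIso (F : CohTop.Ab X) (n : ℕ) :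
    ((CohTop.push f ⋙ LocCohZ.gammaZF V).rightDerived n).obj F ≅
      AddCommGrpCat.of (LocCohZ.HZc F n ((Opens.map f).obj V)) :=
  (ExtDer.rightDerivedMapIso (pushGammaIso f V) n).app F ≪≫ RHZObjIso _ F n

end Groth.Agent.Lib.Helper5.TopSS
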