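import Groth.Agent.Lib.Helper5.TruncAbs
import Groth.Agent.Lib.Helper5.DRetract
import Groth.Agent.Lib.Helper5.DiagEZ
import Groth.Agent.Lib.Helper22.CohTop.ClosedEmb

/-!
# Truncation: cohomological descent only depends on the low levels in each degree

Let `f : D ⟶ X` be a morphism of simplicial diagrams of spaces over `S` which is an isomorphism on
the levels `< n`.  If `X` is of cohomological descent then the unit of `D` is an isomorphism
(`2 ≤ n`) and the higher direct images of the inverse images vanish in degrees `q + 1` with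
`q + 3 ≤ n`.
-/

set_option autoImplicit false

universe u

open CategoryTheory CategoryTheory.Limits Opposite TopologicalSpace Simplicial
open scoped ZeroObject

noncomputable section

namespace Groth.Agent.Lib.Helper5.Trunc

open Groth.Agent.Lib.Helper5.DSite Groth.Agent.Lib.Helper5.DPull Groth.Agent.Lib.Helper5.GermFam
  Groth.Agent.Lib.Helper5.LimPush Groth.Agent.Lib.Helper5.LimAdj Groth.Agent.Lib.Helper5.DCmp
  Groth.Agent.Lib.Helper5.DMor Groth.Agent.Lib.Helper5.DBiMain Groth.Agent.Lib.Helper5.DeltaSite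
  Groth.Agent.Lib.Helper5.DeltaAcyc Groth.Agent.Lib.Helper5.DRetract Groth.Agent.Lib.Helper22

variable {S : TopCat.{u}} (X : OverS 𝕀.{u} S)

instance : (limPush X).Additive := DBiAcyc.additive_limPush' X

instance : PreservesFiniteLimits (limPush X) := DBi.pfl_limPush X

/-- sheaves on the simplicial site all of whose levels `< n` vanish -/
def LowZero (n : ℕ) (G : Sh X.Y) : Prop :=
  ∀ k : ℕ, k < n → IsZero ((ev X.Y (up ⦋k⦌)).obj G)

/-! ### vanishing of the direct image of sheaves with vanishing low levels -/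

lemma isZero_lev' (G : Sh X.Y) (p q : ℕ) (hz : IsZero ((ev X.Y (up ⦋p⦌)).obj G)) :
    IsZero (((TΔ X ⋙ HomologicalComplex.eval (CohTop.Ab S) (ComplexShape.up ℕ) p).rightDerived
      q).obj G) := by
  have e1 := (DimShift.rightDerivedIsoOfNatIso (TΔevalIso X p) q).app G
  have e2 := (PrecompDelta.rightDerivedPrecompIso (ev X.Y (up ⦋p⦌))
    (CohTop.push (X.π (up ⦋p⦌))) (hacyc_ev X p) q).app G
  have h0 : IsZero (((CohTop.push (X.π (up ⦋p⦌))).rightDerived q).obj
      ((ev X.Y (up ⦋p⦌)).obj G)) :=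
    Functor.map_isZero _ hz
  exact IsZero.of_iso h0 (e1 ≪≫ e2)

theorem isZero_RD_of_lowZero (n : ℕ) (G : Sh X.Y) (hG : LowZero X n G) (b : ℕ) (hb : b < n) :
    IsZero (((limPush X).rightDerived b).obj G) := by
  obtain ⟨E, a, hfin, -, hE⟩ := DescentSSGen.exists_spectralSequence (TΔ X)
    (fun Q hQ k => by
      haveI := hQ
      exact isZero_homology_TΔ_of_injective X Q k) G (0 : CohTop.Ab S) (isZero_zero _)
  have h1 := TruncAbs.isZero_abut E a (b : ℤ) (hfin b) (fun p q hpq => by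
    obtain ⟨e⟩ := hE p q
    refine IsZero.of_iso ?_ e
    by_cases h : 0 ≤ p ∧ 0 ≤ q
    · rw [if_pos h]
      have hp : p.toNat < n := by omega
      exact isZero_lev' X G p.toNat q.toNat (hG p.toNat hp)
    · rw [if_neg h]
      exact isZero_zero _)
  rw [if_pos (Int.natCast_nonneg b), Int.toNat_natCast] at h1
  exact h1.of_iso ((DimShift.rightDerivedIsoOfNatIso (limPushIsoH0 X) b).app G)

/-! ### the higher direct images along a morphism which is an isomorphism in low levels -/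

variable {Y' : 𝕀.{u}ᵒᵖ ⥤ TopCat.{u}} (f : Y' ⟶ X.Y)

instance : PreservesFiniteLimits (pushK f) :=
  have : PreservesLimitsOfSize.{0, 0} (pushK f) := (adjK f).rightAdjoint_preservesLimits
  PreservesLimitsOfSize.preservesFiniteLimits _

lemma isClosedEmbedding_of_isIso {A B : TopCat.{u}} (g : A ⟶ B) [IsIso g] :
    Topology.IsClosedEmbedding g :=
  (TopCat.homeoOfIso (asIso g)).isClosedEmbedding

lemma hacyc_ev' (i : 𝕀.{u}) (Q : Sh Y') (hQ : Injective Q) (m : ℕ) :
    IsZero (((CohTop.push (κa f i)).rightDerived (m + 1)).obj ((ev Y' i).obj Q)) := by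
  haveI := hQ
  haveI := DYoneda.isFlasque_ev Y' Q i
  exact Groth.Agent.Lib.Helper22.CohTop.isZero_Rpush_succ_of_flasque (κa f i) m _

lemma lowZero_RD_pushK (n : ℕ) (hf : ∀ k : ℕ, k < n → IsIso (f.app (op (up ⦋k⦌))))
    (G : Sh Y') (c : ℕ) : LowZero X n (((pushK f).rightDerived (c + 1)).obj G) := by
  intro k hk
  haveI := hf k hk
  have e1 := DimShift.rightDerivedCompExactIso (pushK f) (ev X.Y (up ⦋k⦌)) (c + 1) G
  have e2 := (DimShift.rightDerivedIsoOfNatIso (pushKLevIso f (up ⦋k⦌)) (c + 1)).app G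
  have e3 := (PrecompDelta.rightDerivedPrecompIso (ev Y' (up ⦋k⦌))
    (CohTop.push (κa f (up ⦋k⦌))) (hacyc_ev' X f (up ⦋k⦌)) (c + 1)).app G
  have h0 : IsZero (((CohTop.push (κa f (up ⦋k⦌))).rightDerived (c + 1)).obj
      ((ev Y' (up ⦋k⦌)).obj G)) :=
    Groth.Agent.Lib.Helper22.CohTop.isZero_Rpush_succ_of_preservesEpi (κa f (up ⦋k⦌))
      (fun g _ => Groth.Agent.Lib.Helper22.CohTop.epi_push_map_of_isClosedEmbedding
        (κa f (up ⦋k⦌)) (isClosedEmbedding_of_isIso (f.app (op (up ⦋k⦌)))) g) c _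
  exact IsZero.of_iso h0 (e1.symm ≪≫ e2 ≪≫ e3)

/-- **Leray**: vanishing of the direct image of the source from vanishing of the direct image of
the direct image -/
theorem isZero_RD_comp (n : ℕ) (hf : ∀ k : ℕ, k < n → IsIso (f.app (op (up ⦋k⦌))))
    (G : Sh Y') (b : ℕ) (hb : b ≤ n)
    (h0 : IsZero (((limPush X).rightDerived b).obj ((pushK f).obj G))) :
    IsZero (((limPush (X.comp f)).rightDerived b).obj G) := by
  obtain ⟨E, a, hfin, -, hE⟩ := GrothSSMain.main (pushK f) (limPush X)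
    (fun Q hQ q hq => by
      haveI := hQ
      haveI := preservesInjective_pushK f Q
      obtain ⟨k, rfl⟩ : ∃ k, q = k + 1 := ⟨q - 1, by omega⟩
      exact Functor.isZero_rightDerived_obj_injective_succ (limPush X) k _) G
  have h1 := TruncAbs.isZero_abut E a (b : ℤ) (hfin b) (fun p q hpq => by
    obtain ⟨e⟩ := hE p q
    refine IsZero.of_iso ?_ e
    by_cases h : 0 ≤ p ∧ 0 ≤ q
    · rw [if_pos h]
      by_cases hq : q = 0
      · have hp : p.toNat = b := by omega
        rw [hq, hp]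
        exact h0.of_iso (((limPush X).rightDerived b).mapIso
          ((pushK f).rightDerivedZeroIsoSelf.app G))
      · obtain ⟨c, hc⟩ : ∃ c : ℕ, q.toNat = c + 1 := ⟨q.toNat - 1, by omega⟩
        rw [hc]
        exact isZero_RD_of_lowZero X n _ (lowZero_RD_pushK X f n hf G c) p.toNat (by omega)
    · rw [if_neg h]
      exact isZero_zero _)
  rw [if_pos (Int.natCast_nonneg b), Int.toNat_natCast] at h1
  have inst1 : (limPush (X.comp f)).Additive := inferInstance
  have e : (pushK f ⋙ limPush X).rightDerived b ≅ (limPush (X.comp f)).rightDerived b :=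
    @DimShift.rightDerivedIsoOfNatIso _ _ _ _ _ _ _ (pushK f ⋙ limPush X) (limPush (X.comp f))
      _ inst1 (pushLimIso X f) b
  exact h1.of_iso (e.app G).symm

/-! ### the comparison of the inverse images -/

/-- composition of families of germs with the morphism of diagrams -/
def preK (i : 𝕀.{u}) (P : (Opens S)ᵒᵖ ⥤ AddCommGrpCat.{u}) (U : Opens (Sp X.Y i)) :
    sec (X.π i) P U →+ sec ((X.comp f).π i) P ((Opens.map (κa f i)).obj U) where
  toFun s := ⟨fun q => s.1 ⟨κa f i q.w, q.y, q.hw, q.hy⟩, fun q => by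
    obtain ⟨V, t, W₁, hp, hq⟩ := s.2 ⟨κa f i q.w, q.y, q.hw, q.hy⟩
    exact ⟨V, t, (Opens.map (κa f i)).obj W₁, hp,
      fun q' hq' => hq ⟨κa f i q'.w, q'.y, q'.hw, q'.hy⟩ hq'⟩⟩
  map_zero' := rfl
  map_add' _ _ := rfl

lemma preK_val (i : 𝕀.{u}) (P : (Opens S)ᵒᵖ ⥤ AddCommGrpCat.{u}) (U : Opens (Sp X.Y i))
    (s : sec (X.π i) P U) (q : Pt ((X.comp f).π i) ((Opens.map (κa f i)).obj U)) :
    (preK X f i P U s).1 q = s.1 ⟨κa f i q.w, q.y, q.hw, q.hy⟩ := rfl

/-- the comparison of the inverse image to `X` with the direct image of the inverse image to the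
source -/
def θ (F : CohTop.Ab S) : (pullS X).obj F ⟶ (pushK f).obj ((pullS (X.comp f)).obj F) :=
  ⟨{ app := fun A => AddCommGrpCat.ofHom (preK X f A.unop.i F.obj A.unop.U)
     naturality := by
       intro A A' g
       refine AddCommGrpCat.hom_ext (AddMonoidHom.ext fun s => ?_)
       refine sec_ext ((X.comp f).π A'.unop.i) F.obj _ _ (fun q => ?_)
       let s' : sec (X.π A.unop.i) F.obj A.unop.U := s
       exact (val_congr (X.π A.unop.i) F.obj s' _ _ (κ_nat f g.unop.α q.w) _ _ _ _ _).symm }⟩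

/-- **compatibility of the units** -/
theorem unit_compat (F : CohTop.Ab S) :
    unitL (X.comp f) F = unitL X F ≫ (limPush X).map (θ X f F) ≫
      (pushLimIso X f).hom.app ((pullS (X.comp f)).obj F) := by
  apply CategoryTheory.Sheaf.hom_ext
  ext V t
  refine Subtype.ext (funext fun i => ?_)
  refine sec_ext ((X.comp f).π i) F.obj _ _ (fun q => ?_)
  rfl

section level

variable (i : 𝕀.{u}) [hi : IsIso (f.app (op i))]

/-- the inverse of the component of the morphism -/
abbrev gi : Sp X.Y i ⟶ Sp Y' i := inv (f.app (op i))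

lemma f_gi (w : Sp X.Y i) : κa f i (gi X f i w) = w :=
  ConcreteCategory.congr_hom (IsIso.inv_hom_id (f.app (op i))) w

lemma gi_f (w : Sp Y' i) : gi X f i (κa f i w) = w :=
  ConcreteCategory.congr_hom (IsIso.hom_inv_id (f.app (op i))) w

lemma bijective_preK (P : (Opens S)ᵒᵖ ⥤ AddCommGrpCat.{u}) (U : Opens (Sp X.Y i)) :
    Function.Bijective (preK X f i P U) := by
  constructor
  · intro s s' h
    refine sec_ext (X.π i) P _ _ (fun q => ?_)
    have hw : κa f i (gi X f i q.w) ∈ U := by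
      rw [f_gi]
      exact q.hw
    have hy : q.y = (X.comp f).π i (gi X f i q.w) := by
      change q.y = X.π i (κa f i (gi X f i q.w))
      rw [f_gi]
      exact q.hy
    have h1 := congrArg (fun r : sec ((X.comp f).π i) P ((Opens.map (κa f i)).obj U) =>
      r.1 ⟨gi X f i q.w, q.y, hw, hy⟩) h
    have e1 : ∀ r : sec (X.π i) P U, r.1 q = (preK X f i P U r).1 ⟨gi X f i q.w, q.y, hw, hy⟩ :=
      fun r => val_congr (X.π i) P r _ _ (f_gi X f i q.w).symm _ _ _ _ _
    rw [e1 s, e1 s']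
    exact h1
  · intro t
    have hmem : ∀ q : Pt (X.π i) U, gi X f i q.w ∈ (Opens.map (κa f i)).obj U := fun q => by
      change κa f i (gi X f i q.w) ∈ U
      rw [f_gi]
      exact q.hw
    have hyy : ∀ q : Pt (X.π i) U, q.y = (X.comp f).π i (gi X f i q.w) := fun q => by
      change q.y = X.π i (κa f i (gi X f i q.w))
      rw [f_gi]
      exact q.hy
    refine ⟨⟨fun q => t.1 ⟨gi X f i q.w, q.y, hmem q, hyy q⟩, fun q => ?_⟩, ?_⟩
    · obtain ⟨V, t', W₁, hp, hq⟩ := t.2 ⟨gi X f i q.w, q.y, hmem q, hyy q⟩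
      exact ⟨V, t', (Opens.map (gi X f i)).obj W₁, hp,
        fun q' hq' => hq ⟨gi X f i q'.w, q'.y, hmem q', hyy q'⟩ hq'⟩
    · refine sec_ext ((X.comp f).π i) P _ _ (fun q => ?_)
      exact val_congr ((X.comp f).π i) P t _ _ (gi_f X f i q.w) _ _ _ _ _

lemma isIso_ev_θ (F : CohTop.Ab S) : IsIso ((ev X.Y i).map (θ X f F)) := by
  have h1 : ∀ U : (Opens (Sp X.Y i))ᵒᵖ, IsIso (((ev X.Y i).map (θ X f F)).hom.app U) := by
    intro U
    rw [ConcreteCategory.isIso_iff_bijective]
    exact bijective_preK X f i F.obj U.unop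
  have h3 : IsIso ((ev X.Y i).map (θ X f F)).hom := NatIso.isIso_of_isIso_app _
  have h4 : IsIso ((sheafToPresheaf _ AddCommGrpCat.{u}).map ((ev X.Y i).map (θ X f F))) := h3
  exact isIso_of_reflects_iso _ (sheafToPresheaf _ AddCommGrpCat.{u})

end level

lemma lowZero_kernel_θ (n : ℕ) (hf : ∀ k : ℕ, k < n → IsIso (f.app (op (up ⦋k⦌))))
    (F : CohTop.Ab S) : LowZero X n (kernel (θ X f F)) := by
  intro k hk
  haveI := hf k hk
  haveI := isIso_ev_θ X f (up ⦋k⦌) F
  exact IsZero.of_iso (isZero_kernel_of_mono ((ev X.Y (up ⦋k⦌)).map (θ X f F)))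
    (PreservesKernel.iso (ev X.Y (up ⦋k⦌)) (θ X f F))

lemma lowZero_cokernel_θ (n : ℕ) (hf : ∀ k : ℕ, k < n → IsIso (f.app (op (up ⦋k⦌))))
    (F : CohTop.Ab S) : LowZero X n (cokernel (θ X f F)) := by
  intro k hk
  haveI := hf k hk
  haveI := isIso_ev_θ X f (up ⦋k⦌) F
  exact IsZero.of_iso (isZero_cokernel_of_epi ((ev X.Y (up ⦋k⦌)).map (θ X f F)))
    (PreservesCokernel.iso (ev X.Y (up ⦋k⦌)) (θ X f F))

/-! ### the main statements -/

theorem isIso_unit_of_trunc (hX : CD X) (n : ℕ) (hn : 2 ≤ n)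
    (hf : ∀ k : ℕ, k < n → IsIso (f.app (op (up ⦋k⦌)))) (F : CohTop.Ab S) :
    IsIso (unitL (X.comp f) F) := by
  have hK := lowZero_kernel_θ X f n hf F
  have hC := lowZero_cokernel_θ X f n hf F
  have h1 : IsIso ((limPush X).map (θ X f F)) :=
    TruncAbs.isIso_map_of_ker_coker (limPush X) (θ X f F)
      (isZero_RD_of_lowZero X n _ hK 0 (by omega))
      (isZero_RD_of_lowZero X n _ hK 1 (by omega))
      (isZero_RD_of_lowZero X n _ hC 0 (by omega))
  have h2 := hX.1 F
  rw [unit_compat]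
  infer_instance

theorem isZero_RD_of_trunc (hX : CD X) (n : ℕ)
    (hf : ∀ k : ℕ, k < n → IsIso (f.app (op (up ⦋k⦌)))) (F : CohTop.Ab S) (q : ℕ)
    (hq : q + 3 ≤ n) :
    IsZero (((limPush (X.comp f)).rightDerived (q + 1)).obj ((pullS (X.comp f)).obj F)) := by
  have hK := lowZero_kernel_θ X f n hf F
  have hC := lowZero_cokernel_θ X f n hf F
  have hB : IsZero (((limPush X).rightDerived (q + 1)).obj
      ((pushK f).obj ((pullS (X.comp f)).obj F))) :=
    TruncAbs.isZero_RD_of_ker_coker (limPush X) (θ X f F) (q + 1) (hX.2 F q)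
      (isZero_RD_of_lowZero X n _ hK (q + 1 + 1) (by omega))
      (isZero_RD_of_lowZero X n _ hC (q + 1) (by omega))
  exact isZero_RD_comp X f n hf _ (q + 1) (by omega) hB

/-- **a simplicial diagram over `S` which agrees in arbitrarily high degrees with diagrams of
cohomological descent is of cohomological descent** -/
theorem cd_of_truncations (D : OverS 𝕀.{u} S)
    (h : ∀ n : ℕ, ∃ (X : OverS 𝕀.{u} S) (Y' : 𝕀.{u}ᵒᵖ ⥤ TopCat.{u}) (f : Y' ⟶ X.Y),
      D = X.comp f ∧ CD X ∧ ∀ k : ℕ, k < n → IsIso (f.app (op (up ⦋k⦌)))) : CD D := by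
  refine ⟨fun F => ?_, fun F q => ?_⟩
  · obtain ⟨X, Y', f, hD, hX, hf⟩ := h 2
    subst hD
    exact isIso_unit_of_trunc X f hX 2 le_rfl hf F
  · obtain ⟨X, Y', f, hD, hX, hf⟩ := h (q + 3)
    subst hD
    exact isZero_RD_of_trunc X f hX (q + 3) hf F q le_rfl

end Groth.Agent.Lib.Helper5.Trunc
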