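import Groth.Agent.Lib.Helper5.SpSeqStat
import Groth.Agent.Lib.Helper22.Horseshoe.DerivedLES

/-!
# Abstract vanishing lemmas used in the truncation argument

* `isZero_abut`: the abutment of a spectral sequence vanishes in a degree in which all the terms of
  the first page vanish (finite filtration);
* `isZero_RD_of_ker_coker`, `isIso_map_of_ker_coker`: comparison of derived functors along a
  morphism whose kernel and cokernel have vanishing derived functors.
-/

set_option autoImplicit false

open CategoryTheory Limits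

namespace Groth.Agent.Lib.Helper5.TruncAbs

section abut

universe v u

variable {C : Type u} [Category.{v} C] [Abelian C] {r₀ : ℤ}
  (E : CohomologicalSpectralSequence C r₀) {H : ℤ → C} (a : SpSeq.Abutment E H)

lemma fil_succ_eq (p q n : ℤ) (h : p + q = n) (hz : IsZero ((E.page r₀ le_rfl).X (p, q))) :
    a.fil n (p + 1) = a.fil n p := by
  subst h
  have h1 : IsZero ((E.page (a.rk (p, q)) (a.stat (p, q)).1).X (p, q)) :=
    SpSeqStat.isZero_page_of_le E r₀ le_rfl (p, q) hz _ (a.stat (p, q)).1
  have h2 : IsZero (SpSeq.grPiece (a.fil (p + q)) (a.anti (p + q)) p) :=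
    h1.of_iso (a.β (p, q)).symm
  exact SpSeqStat.fil_succ_eq_of_isZero_gr _ _ p h2

theorem isZero_abut (n : ℤ) (hfin : a.IsFinite n)
    (hz : ∀ p q : ℤ, p + q = n → IsZero ((E.page r₀ le_rfl).X (p, q))) : IsZero (H n) := by
  have hstep : ∀ p, a.fil n (p + 1) = a.fil n p := fun p =>
    fil_succ_eq E a p (n - p) n (by ring) (hz p (n - p) (by ring))
  have h0 : ∀ p, a.fil n p = a.fil n 0 := by
    intro p
    induction p using Int.induction_on with
    | zero => rfl
    | succ i ih => rw [hstep]; exact ih
    | pred i ih =>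
      have h := hstep (-(i : ℤ) - 1)
      rw [show -(i : ℤ) - 1 + 1 = -i by ring] at h
      rw [← h]
      exact ih
  obtain ⟨⟨a0, ha0⟩, ⟨b0, hb0⟩⟩ := hfin
  have ha0' : a.fil n a0 = ⊤ := ha0
  have hb0' : a.fil n b0 = ⊥ := hb0
  have htb : (⊤ : Subobject (H n)) = ⊥ := by
    rw [← ha0', ← hb0', h0 a0, h0 b0]
  exact IsZero.of_iso (isZero_zero C)
    ((asIso (⊤ : Subobject (H n)).arrow).symm ≪≫
      eqToIso (congrArg (fun s : Subobject (H n) => (s : C)) htb) ≪≫ Subobject.botCoeIsoZero)

end abut

section kercoker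

universe v u v' u'

variable {𝒜 : Type u} [Category.{v} 𝒜] [Abelian 𝒜] [EnoughInjectives 𝒜]
  {ℬ : Type u'} [Category.{v'} ℬ] [Abelian ℬ] (F : 𝒜 ⥤ ℬ) [F.Additive]
  {A B : 𝒜} (φ : A ⟶ B)

/-- the kernel-image sequence -/
noncomputable def ses1 : ShortComplex 𝒜 :=
  ShortComplex.mk (kernel.ι φ) (Abelian.factorThruImage φ) (by
    rw [← cancel_mono (Abelian.image.ι φ), Category.assoc, Abelian.image.fac, kernel.condition,
      zero_comp])

lemma ses1_shortExact : (ses1 φ).ShortExact := by
  have hex : (ses1 φ).Exact :=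
    ShortComplex.exact_of_f_is_kernel _
      (isKernelOfComp (Abelian.image.ι φ) φ (kernelIsKernel φ) (ses1 φ).zero
        (Abelian.image.fac φ))
  have : Mono (ses1 φ).f := inferInstanceAs (Mono (kernel.ι φ))
  have : Epi (ses1 φ).g := inferInstanceAs (Epi (Abelian.factorThruImage φ))
  exact ShortComplex.ShortExact.mk hex

/-- the image-cokernel sequence -/
noncomputable def ses2 : ShortComplex 𝒜 :=
  ShortComplex.mk (Abelian.image.ι φ) (cokernel.π φ) (kernel.condition _)

lemma ses2_shortExact : (ses2 φ).ShortExact := by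
  have hex : (ses2 φ).Exact :=
    ShortComplex.exact_of_f_is_kernel _ (kernelIsKernel (cokernel.π φ))
  have : Mono (ses2 φ).f := inferInstanceAs (Mono (Abelian.image.ι φ))
  have : Epi (ses2 φ).g := inferInstanceAs (Epi (cokernel.π φ))
  exact ShortComplex.ShortExact.mk hex

open Groth.Agent.Lib.Helper22.Horseshoe in
/-- vanishing of a derived functor at the target of a morphism, from vanishing at the source, the
kernel and the cokernel -/
theorem isZero_RD_of_ker_coker (b : ℕ) (hA : IsZero ((F.rightDerived b).obj A))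
    (hK : IsZero ((F.rightDerived (b + 1)).obj (kernel φ)))
    (hC : IsZero ((F.rightDerived b).obj (cokernel φ))) :
    IsZero ((F.rightDerived b).obj B) := by
  have hI : IsZero ((F.rightDerived b).obj (Abelian.image φ)) := by
    have h := (derivedLES F).exact₃ (ses1 φ) (ses1_shortExact φ) b (b + 1) rfl
    exact h.isZero_X₂ (hA.eq_of_src _ _) (hK.eq_of_tgt _ _)
  have h := (derivedLES F).exact₂ (ses2 φ) (ses2_shortExact φ) b
  exact h.isZero_X₂ (hI.eq_of_src _ _) (hC.eq_of_tgt _ _)

open Groth.Agent.Lib.Helper22.Horseshoe in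
/-- a left exact functor inverts a morphism whose kernel and cokernel it kills, together with the
first derived functor of the kernel -/
theorem isIso_map_of_ker_coker [PreservesFiniteLimits F]
    (hK0 : IsZero ((F.rightDerived 0).obj (kernel φ)))
    (hK1 : IsZero ((F.rightDerived 1).obj (kernel φ)))
    (hC0 : IsZero ((F.rightDerived 0).obj (cokernel φ))) : IsIso (F.map φ) := by
  have e1 : IsIso ((F.rightDerived 0).map (Abelian.factorThruImage φ)) := by
    have h2 := (derivedLES F).exact₂ (ses1 φ) (ses1_shortExact φ) 0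
    have h3 := (derivedLES F).exact₃ (ses1 φ) (ses1_shortExact φ) 0 1 rfl
    have hm : Mono ((F.rightDerived 0).map (Abelian.factorThruImage φ)) :=
      h2.mono_g (hK0.eq_of_src _ _)
    have he : Epi ((F.rightDerived 0).map (Abelian.factorThruImage φ)) :=
      h3.epi_f (hK1.eq_of_tgt _ _)
    exact isIso_of_mono_of_epi _
  have e2 : IsIso ((F.rightDerived 0).map (Abelian.image.ι φ)) := by
    have h2 := (derivedLES F).exact₂ (ses2 φ) (ses2_shortExact φ) 0
    have hm : Mono ((F.rightDerived 0).map (Abelian.image.ι φ)) :=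
      mono_rightDerived_zero_map F (sesRes (ses2 φ) (ses2_shortExact φ))
    have he : Epi ((F.rightDerived 0).map (Abelian.image.ι φ)) :=
      h2.epi_f (hC0.eq_of_tgt _ _)
    exact isIso_of_mono_of_epi _
  have e3 : IsIso ((F.rightDerived 0).map φ) := by
    rw [← Abelian.image.fac φ, Functor.map_comp]
    infer_instance
  exact (NatIso.isIso_map_iff F.rightDerivedZeroIsoSelf φ).1 e3

end kercoker

end Groth.Agent.Lib.Helper5.TruncAbs
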