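import Groth.Agent.Lib.Helper5.GrothAcyc

/-
Helper5: when is the unit `Q(F K) ⟶ RF(Q K)` of the bounded below right derived functor an
isomorphism: iff `F` preserves the quasi-isomorphism to an injective resolution
(`isIso_unit_iff_quasiIso`); true for complexes with `F`-acyclic terms when `F` is left exact
(`isIso_unit_of_acyc`); at `X[0]` it forces `X` to be `F`-acyclic (`acyc_of_isIso_unit_single`).
-/

set_option autoImplicit false
set_option maxSynthPendingDepth 3

open CategoryTheory Limits

namespace Groth.Agent.Lib.Helper5.UnitIso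

open Groth.Agent.Lib.Helper5.GrothSS

universe w w' v v' u u'

variable {C : Type u} [Category.{v} C] [Abelian C] [HasDerivedCategory.{w} C] [EnoughInjectives C]
    {D : Type u'} [Category.{v'} D] [Abelian D] [HasDerivedCategory.{w'} D]
    (F : C ⥤ D) [F.Additive]

omit [EnoughInjectives C] in
lemma isIso_Qh_map_quotient_map_iff {K L : CochainComplex.Plus C} (f : K ⟶ L) :
    IsIso (DerivedCategory.Plus.Qh.map ((HomotopyCategory.Plus.quotient C).map f)) ↔
      QuasiIso f.hom := by
  rw [← DerivedCategory.isIso_Q_map_iff_quasiIso]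
  exact (isIso_iff_of_reflects_iso _ DerivedCategory.Plus.ι).symm

/-- The unit of `RF` at a bounded below complex `K` is an isomorphism iff `F` preserves the
quasi-isomorphism from `K` to an injective resolution. -/
lemma isIso_unit_iff_quasiIso (K₀ : CochainComplex C ℤ) (a : ℤ) [K₀.IsStrictlyGE a]
    (L : CochainComplex C ℤ) [L.IsStrictlyGE a] [∀ n, Injective (L.X n)] (j : K₀ ⟶ L) [QuasiIso j] :
    IsIso (F.rightDerivedFunctorPlusUnit.app
      ((HomotopyCategory.Plus.quotient C).obj ⟨K₀, a, inferInstance⟩)) ↔
      QuasiIso ((F.mapHomologicalComplex (ComplexShape.up ℤ)).map j) := by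
  let K' : CochainComplex.Plus C := ⟨K₀, a, inferInstance⟩
  let L' : CochainComplex.Plus C := (InjectiveObject.ι C).mapCochainComplexPlus.obj (liftInj L a)
  let jK : K' ⟶ L' := ObjectProperty.homMk j
  have nat := F.rightDerivedFunctorPlusUnit.naturality ((HomotopyCategory.Plus.quotient C).map jK)
  have h1 : IsIso (F.rightDerivedFunctorPlusUnit.app ((HomotopyCategory.Plus.quotient C).obj L')) :=
    inferInstance
  have h2 : IsIso ((DerivedCategory.Plus.Qh ⋙ F.rightDerivedFunctorPlus).map
      ((HomotopyCategory.Plus.quotient C).map jK)) := by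
    have : IsIso (DerivedCategory.Plus.Qh.map ((HomotopyCategory.Plus.quotient C).map jK)) :=
      (isIso_Qh_map_quotient_map_iff jK).2 (inferInstanceAs (QuasiIso j))
    rw [Functor.comp_map]; infer_instance
  have h3 : IsIso ((F.mapHomotopyCategoryPlus ⋙ DerivedCategory.Plus.Qh).map
      ((HomotopyCategory.Plus.quotient C).map jK)) ↔
      QuasiIso ((F.mapHomologicalComplex (ComplexShape.up ℤ)).map j) :=
    isIso_Qh_map_quotient_map_iff (F.mapCochainComplexPlus.map jK)
  rw [← h3]
  constructor
  · intro h
    have : IsIso ((F.mapHomotopyCategoryPlus ⋙ DerivedCategory.Plus.Qh).map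
        ((HomotopyCategory.Plus.quotient C).map jK) ≫
        F.rightDerivedFunctorPlusUnit.app ((HomotopyCategory.Plus.quotient C).obj L')) := by
      rw [nat]; infer_instance
    exact IsIso.of_isIso_comp_right _
      (F.rightDerivedFunctorPlusUnit.app ((HomotopyCategory.Plus.quotient C).obj L'))
  · intro h
    have : IsIso (F.rightDerivedFunctorPlusUnit.app ((HomotopyCategory.Plus.quotient C).obj K') ≫
        (DerivedCategory.Plus.Qh ⋙ F.rightDerivedFunctorPlus).map
          ((HomotopyCategory.Plus.quotient C).map jK)) := by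
      rw [← nat]; infer_instance
    exact IsIso.of_isIso_comp_right _ ((DerivedCategory.Plus.Qh ⋙ F.rightDerivedFunctorPlus).map
          ((HomotopyCategory.Plus.quotient C).map jK))

/-- Leray's acyclicity lemma in unit form. -/
lemma isIso_unit_of_acyc [PreservesFiniteLimits F] [HasInjectiveResolutions C]
    (K : CochainComplex.Plus C) (hK : ∀ m : ℤ, Acyc F (K.obj.X m)) :
    IsIso (F.rightDerivedFunctorPlusUnit.app ((HomotopyCategory.Plus.quotient C).obj K)) := by
  obtain ⟨K₀, a, hK₀⟩ := K
  have : K₀.IsStrictlyGE a := hK₀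
  obtain ⟨L, j, _, _, _⟩ := CochainComplex.Plus.modelCategoryQuillen.exists_quasiIso_injective K₀ a
  exact (isIso_unit_iff_quasiIso F K₀ a L j).2 ((isAdapted_acyc F).quasiIso_map a hK j)

lemma isIso_unit_single_iff (X : C) (R : InjectiveResolution X) :
    IsIso (F.rightDerivedFunctorPlusUnit.app ((HomotopyCategory.Plus.singleFunctor C 0).obj X)) ↔
      QuasiIso ((F.mapHomologicalComplex (ComplexShape.up ℤ)).map R.ι') :=
  isIso_unit_iff_quasiIso F ((CochainComplex.singleFunctor C 0).obj X) 0 R.cochainComplex R.ι'

omit [HasDerivedCategory C] [EnoughInjectives C] [HasDerivedCategory D] in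
lemma isZero_homology_map_single (X : C) (n : ℤ) (hn : n ≠ 0) :
    IsZero (((F.mapHomologicalComplex (ComplexShape.up ℤ)).obj
      ((CochainComplex.singleFunctor C 0).obj X)).homology n) := by
  apply HomologicalComplex.ExactAt.isZero_homology
  apply HomologicalComplex.ExactAt.of_isZero
  exact Functor.map_isZero F (HomologicalComplex.isZero_single_obj_X (ComplexShape.up ℤ) 0 X n hn)

lemma acyc_of_isIso_unit_single [HasInjectiveResolutions C] (X : C)
    (h : IsIso (F.rightDerivedFunctorPlusUnit.app
      ((HomotopyCategory.Plus.singleFunctor C 0).obj X))) : Acyc F X := by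
  intro k
  let R := Classical.choice (HasInjectiveResolution.out (Z := X))
  have hq := (isIso_unit_single_iff F X R).1 h
  have : IsIso (HomologicalComplex.homologyMap
      ((F.mapHomologicalComplex (ComplexShape.up ℤ)).map R.ι') ((k + 1 : ℕ) : ℤ)) := by
    rw [← quasiIsoAt_iff_isIso_homologyMap]; infer_instance
  exact ((isZero_homology_map_single F X _ (by lia)).of_iso
    (asIso (HomologicalComplex.homologyMap
      ((F.mapHomologicalComplex (ComplexShape.up ℤ)).map R.ι') ((k + 1 : ℕ) : ℤ))).symm).of_iso
    (Bridge.rightDerivedIso F R (k + 1)).symm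

end Groth.Agent.Lib.Helper5.UnitIso
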