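import Groth.Agent.Lib.Helper5.UnitIso

/-
Helper5: degree-zero part of the unit criterion: `F R.ι` is a quasi-isomorphism at `0` iff
`R.toRightDerivedZero` is an isomorphism (`F` additive only).
-/

set_option autoImplicit false
set_option maxSynthPendingDepth 3

open CategoryTheory Limits HomologicalComplex

namespace Groth.Agent.Lib.Helper5.UnitIso

universe w w' v v' u u'

variable {C : Type u} [Category.{v} C] [Abelian C]
    {D : Type u'} [Category.{v'} D] [Abelian D]
    (F : C ⥤ D) [F.Additive]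

lemma toRDZ_w (X : C) (R : InjectiveResolution X) :
    F.map (R.ι.f 0) ≫ F.map (R.cocomplex.d 0 1) = 0 := by
  rw [← F.map_comp, HomologicalComplex.Hom.comm, HomologicalComplex.single_obj_d,
      zero_comp, F.map_zero]

lemma isIso_toRightDerivedZero'_iff (X : C) (R : InjectiveResolution X) :
    IsIso (R.toRightDerivedZero' F) ↔
      (ShortComplex.mk (F.map (R.ι.f 0)) (F.map (R.cocomplex.d 0 1)) (toRDZ_w F X R)).Exact ∧
        Mono (F.map (R.ι.f 0)) :=
  CochainComplex.isIso_liftCycles_iff ((F.mapHomologicalComplex (ComplexShape.up ℕ)).obj R.cocomplex)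
    (F.map (R.ι.f 0)) (toRDZ_w F X R)

lemma toRDZ_w' (X : C) (R : InjectiveResolution X) :
    F.map (R.ι'.f 0) ≫ F.map (R.cochainComplex.d 0 1) = 0 := by
  rw [← F.map_comp, R.ι'.comm 0 1]
  have h1 : ((CochainComplex.singleFunctor C 0).obj X).d 0 1 = 0 :=
    HomologicalComplex.single_obj_d _ _ _ _ _
  rw [h1, zero_comp, F.map_zero]

omit [F.Additive] in
lemma exact_mono_transport {P Q T P' Q' T' : C} (a : P ≅ P') (b : Q ≅ Q') (c : T ≅ T')
    (f : P ⟶ Q) (g : Q ⟶ T) (f' : P' ⟶ Q') (g' : Q' ⟶ T')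
    (hf : f = a.hom ≫ f' ≫ b.inv) (hg : g = b.hom ≫ g' ≫ c.inv)
    (w : F.map f ≫ F.map g = 0) (w' : F.map f' ≫ F.map g' = 0) :
    ((ShortComplex.mk (F.map f) (F.map g) w).Exact ∧ Mono (F.map f)) ↔
      ((ShortComplex.mk (F.map f') (F.map g') w').Exact ∧ Mono (F.map f')) := by
  subst hf hg
  let e : ShortComplex.mk (F.map (a.hom ≫ f' ≫ b.inv)) (F.map (b.hom ≫ g' ≫ c.inv)) w ≅
      ShortComplex.mk (F.map f') (F.map g') w' :=
    ShortComplex.isoMk (F.mapIso a) (F.mapIso b) (F.mapIso c)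
      (by
        dsimp
        rw [← F.map_comp, ← F.map_comp]
        simp)
      (by
        dsimp
        rw [← F.map_comp, ← F.map_comp]
        simp)
  refine and_congr (ShortComplex.exact_iff_of_iso e) ?_
  have e3 : F.map (a.hom ≫ f' ≫ b.inv) = F.map a.hom ≫ F.map f' ≫ F.map b.inv := by
    rw [F.map_comp, F.map_comp]
  rw [e3]
  constructor
  · intro h
    have h'' : Mono (F.map f' ≫ F.map b.inv) :=
      (mono_comp_iff_of_isIso _ _).1 h
    exact (mono_comp_iff_of_mono _ _).1 h''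
  · intro h
    infer_instance

/-- exactness+mono criterion on the `ℤ` side. -/
lemma quasiIsoAt_zero_iff (X : C) (R : InjectiveResolution X) :
    QuasiIsoAt ((F.mapHomologicalComplex (ComplexShape.up ℤ)).map R.ι') 0 ↔
      (ShortComplex.mk (F.map (R.ι'.f 0)) (F.map (R.cochainComplex.d 0 1))
        (toRDZ_w' F X R)).Exact ∧ Mono (F.map (R.ι'.f 0)) := by
  rw [quasiIsoAt_iff]
  have h0 : ∀ i, R.cochainComplex.d i 0 = 0 := by
    intro i
    by_cases hi : i + 1 = 0
    · exact (R.cochainComplex.isZero_of_isStrictlyGE 0 i (by lia)).eq_of_src _ _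
    · exact R.cochainComplex.shape _ _ hi
  have h1 : ∀ i j, ((CochainComplex.singleFunctor C 0).obj X).d i j = 0 := by
    intro i j
    exact HomologicalComplex.single_obj_d _ _ _ _ _
  refine (ShortComplex.quasiIso_iff_of_zeros
    ((shortComplexFunctor D (ComplexShape.up ℤ) 0).map
      ((F.mapHomologicalComplex (ComplexShape.up ℤ)).map R.ι')) ?_ ?_ ?_).trans ?_
  · show F.map (((CochainComplex.singleFunctor C 0).obj X).d _ _) = 0
    rw [h1, F.map_zero]
  · show F.map (((CochainComplex.singleFunctor C 0).obj X).d _ _) = 0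
    rw [h1, F.map_zero]
  · show F.map (R.cochainComplex.d _ 0) = 0
    rw [h0, F.map_zero]
  · have key : ∀ (j : ℤ) (hj : (ComplexShape.up ℤ).next 0 = j)
        (w : F.map (R.ι'.f 0) ≫ F.map (R.cochainComplex.d 0 ((ComplexShape.up ℤ).next 0)) = 0)
        (w' : F.map (R.ι'.f 0) ≫ F.map (R.cochainComplex.d 0 j) = 0),
        (ShortComplex.mk _ _ w).Exact ↔ (ShortComplex.mk _ _ w').Exact := by
      rintro _ rfl _ _
      exact Iff.rfl
    exact and_congr (key 1 (by simp) _ _) Iff.rfl

lemma quasiIsoAt_zero_iff_isIso_toRightDerivedZero' (X : C) (R : InjectiveResolution X) :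
    QuasiIsoAt ((F.mapHomologicalComplex (ComplexShape.up ℤ)).map R.ι') 0 ↔
      IsIso (R.toRightDerivedZero' F) := by
  rw [quasiIsoAt_zero_iff, isIso_toRightDerivedZero'_iff]
  exact exact_mono_transport F (HomologicalComplex.singleObjXSelf (.up ℤ) 0 X)
    (R.cochainComplexXIso 0 0 (by simp)) (R.cochainComplexXIso 1 1 (by simp))
    (R.ι'.f 0) (R.cochainComplex.d 0 1) (R.ι.f 0) (R.cocomplex.d 0 1)
    R.ι'_f_zero (R.cochainComplex_d 0 1 0 1 (by simp) (by simp)) _ _

end Groth.Agent.Lib.Helper5.UnitIso
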