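import Groth.Agent.Lib.Helper5.LFProd
import Groth.Agent.Lib.Helper22.CohTop.Sections

/-!
# Sections of the free abelian sheaf `ℤ_U` on an open of a topological space

* `uu U W h`: the canonical section of `ℤ_U` over `W ≤ U`; `zm h : ℤ_V ⟶ ℤ_U` for `V ≤ U`;
* `hom_ext_ZU`, `secHom`: morphisms out of `ℤ_U` are sections over `U`;
* `ZU_local`: every section of `ℤ_U` is locally zero or an integral multiple of `uu`;
* `zsmul_uu_eq_zero`: `n • uu U W h = 0` with `W` nonempty forces `n = 0`;
* `eq_zero_of_pointwise`: a section which is locally zero is zero.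
-/

set_option autoImplicit false

universe u

open CategoryTheory CategoryTheory.Limits TopologicalSpace Opposite

noncomputable section

namespace Groth.Agent.Lib.Helper5.ZUSect

open Groth.Agent.Lib.Helper22.CohTop Groth.Agent.Lib.Helper5.PullStalk
  Groth.Agent.Lib.Helper5.SubspaceSect Groth.Agent.Lib.Helper5.LFProd

variable {X : TopCat.{u}}

/-! ### Free abelian groups on subsingletons -/

lemma exists_zsmul_of {α : Type*} [Subsingleton α] (a : α) (t : FreeAbelianGroup α) :
    ∃ n : ℤ, t = n • FreeAbelianGroup.of a := by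
  induction t using FreeAbelianGroup.induction_on with
  | zero => exact ⟨0, (zero_smul _ _).symm⟩
  | of b => exact ⟨1, by rw [one_smul, Subsingleton.elim b a]⟩
  | neg b _ => exact ⟨-1, by rw [neg_smul, one_smul, Subsingleton.elim b a]⟩
  | add x y hx hy =>
    obtain ⟨n, rfl⟩ := hx
    obtain ⟨m, rfl⟩ := hy
    exact ⟨n + m, (add_smul _ _ _).symm⟩

lemma eq_zero_of_isEmpty {α : Type*} [IsEmpty α] (t : FreeAbelianGroup α) : t = 0 :=
  Subsingleton.elim _ _

/-! ### A section which is locally zero is zero -/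

lemma eq_zero_of_pointwise (G : CohTop.Ab X) {W : Opens X} (s : G.obj.obj (op W))
    (h : ∀ x ∈ W, ∃ (W' : Opens X) (hW' : W' ≤ W), x ∈ W' ∧ rs G hW' s = 0) : s = 0 := by
  choose W' hW' hx h0 using h
  refine eq_zero_of_locally G (fun z : W => W' z.1 z.2) W (fun z => hW' z.1 z.2) ?_ s
    (fun z => h0 z.1 z.2)
  intro x hxW
  exact Opens.mem_iSup.2 ⟨⟨x, hxW⟩, hx x hxW⟩

lemma rs_zero' (G : CohTop.Ab X) {W' W : Opens X} (h : W' ≤ W) :
    rs G h (0 : G.obj.obj (op W)) = 0 := map_zero _

/-! ### The canonical sections -/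

/-- the canonical section of `ℤ_U` over `W ≤ U` -/
def uu (U W : Opens X) (h : W ≤ U) : (ZU U).obj.obj (op W) := rs (ZU U) h (unitSec U)

lemma uu_self (U : Opens X) : uu U U le_rfl = unitSec U := rs_self _ _ _

lemma rs_uu (U : Opens X) {W' W : Opens X} (h' : W' ≤ W) (h : W ≤ U) :
    rs (ZU U) h' (uu U W h) = uu U W' (h'.trans h) := rs_rs _ _ _ _

lemma rs_zsmul_uu (U : Opens X) {W' W : Opens X} (h' : W' ≤ W) (h : W ≤ U) (m : ℤ) :
    rs (ZU U) h' (m • uu U W h) = m • uu U W' (h'.trans h) := by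
  rw [map_zsmul, rs_uu]

/-- the transition map `ℤ_V ⟶ ℤ_U` for `V ≤ U` -/
abbrev zm {V U : Opens X} (h : V ≤ U) : ZU V ⟶ ZU U := (freeSheafFunctor X).map (homOfLE h)

lemma ap_zm_unit {V U : Opens X} (h : V ≤ U) : ap (zm h) V (unitSec V) = uu U V h :=
  freeSheafFunctor_map_unitSec (homOfLE h)

lemma ap_zm_uu {V U : Opens X} (h : V ≤ U) (W : Opens X) (hW : W ≤ V) :
    ap (zm h) W (uu V W hW) = uu U W (hW.trans h) := by
  unfold uu
  rw [ap_rs, ap_zm_unit]
  exact rs_rs _ _ _ _

/-- morphisms out of `ℤ_U` are determined by the image of the unit section -/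
lemma hom_ext_ZU {U : Opens X} {G : CohTop.Ab X} (f g : ZU U ⟶ G)
    (h : ap f U (unitSec U) = ap g U (unitSec U)) : f = g := by
  apply (homEquivSections U G).injective
  rw [homEquivSections_apply, homEquivSections_apply]
  exact h

/-- the morphism `ℤ_U ⟶ G` attached to a section of `G` over `U` -/
def secHom {U : Opens X} {G : CohTop.Ab X} (s : G.obj.obj (op U)) : ZU U ⟶ G :=
  (homEquivSections U G).symm s

lemma ap_secHom {U : Opens X} {G : CohTop.Ab X} (s : G.obj.obj (op U)) :
    ap (secHom s) U (unitSec U) = s := by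
  have h := (homEquivSections U G).apply_symm_apply s
  rw [homEquivSections_apply] at h
  exact h

lemma ap_uu {U : Opens X} {G : CohTop.Ab X} (f : ZU U ⟶ G) (W : Opens X) (hW : W ≤ U) :
    ap f W (uu U W hW) = rs G hW (ap f U (unitSec U)) := ap_rs f hW _

/-- the generator of the free presheaf over `W ≤ U` -/
def ee (U W : Opens X) (h : W ≤ U) : (ZUpre U).obj (op W) :=
  (FreeAbelianGroup.of (homOfLE h) : FreeAbelianGroup (W ⟶ U))

lemma ZUpre_map_ee (U : Opens X) {W' W : Opens X} (f : W' ⟶ W) (h : W ≤ U) :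
    ((ZUpre U).map f.op).hom (ee U W h) = ee U W' ((leOfHom f).trans h) :=
  (free_map_of ((yoneda.obj U).map f.op) (homOfLE h)).trans
    (congrArg FreeAbelianGroup.of (Subsingleton.elim (α := (W' ⟶ U)) _ _))

/-- `uu` in terms of the sheafification map -/
lemma uu_eq (U W : Opens X) (h : W ≤ U) :
    uu U W h = ((toSheafify (Opens.grothendieckTopology X) (ZUpre U)).app (op W)).hom
      (ee U W h) := by
  have h2 := ConcreteCategory.congr_hom
    ((toSheafify (Opens.grothendieckTopology X) (ZUpre U)).naturality (homOfLE h).op)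
    (ee U U le_rfl)
  have h3 : ((toSheafify (Opens.grothendieckTopology X) (ZUpre U)).app (op W)).hom
      (((ZUpre U).map (homOfLE h).op).hom (ee U U le_rfl)) =
      ((ZU U).obj.map (homOfLE h).op).hom (unitSec U) := h2
  rw [ZUpre_map_ee] at h3
  exact h3.symm

/-- every section of `ℤ_U` is locally zero or a multiple of the canonical section -/
lemma ZU_local (U : Opens X) {W : Opens X} (s : (ZU U).obj.obj (op W)) (x : X) (hx : x ∈ W) :
    ∃ (W' : Opens X) (hW' : W' ≤ W), x ∈ W' ∧
      (rs (ZU U) hW' s = 0 ∨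
        ∃ (hU : W' ≤ U) (n : ℤ), rs (ZU U) hW' s = n • uu U W' hU) := by
  have hmem := Presheaf.imageSieve_mem (Opens.grothendieckTopology X)
    (toSheafify (Opens.grothendieckTopology X) (ZUpre U)) (U := op W) s
  obtain ⟨W', f, ⟨t, ht⟩, hxW'⟩ := hmem x hx
  refine ⟨W', leOfHom f, hxW', ?_⟩
  have hrs : rs (ZU U) (leOfHom f) s =
      ((toSheafify (Opens.grothendieckTopology X) (ZUpre U)).app (op W')).hom t := ht.symm
  by_cases hU : W' ≤ U
  · right
    refine ⟨hU, ?_⟩
    obtain ⟨n, hn⟩ := exists_zsmul_of (α := (W' ⟶ U)) (homOfLE hU) t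
    have hn' : t = n • ee U W' hU := hn
    refine ⟨n, ?_⟩
    rw [hrs, hn', map_zsmul, ← uu_eq]
  · left
    have : IsEmpty (W' ⟶ U) := ⟨fun g => hU (leOfHom g)⟩
    have ht0 : t = 0 := eq_zero_of_isEmpty (α := (W' ⟶ U)) t
    rw [hrs, ht0, map_zero]

/-- a nonzero multiple of the canonical section over a nonempty open does not vanish -/
lemma zsmul_uu_eq_zero (U W : Opens X) (hU : W ≤ U) (n : ℤ) (x : X) (hx : x ∈ W)
    (h : n • uu U W hU = 0) : n = 0 := by
  have h1 : (toSheafify (Opens.grothendieckTopology X) (ZUpre U)).app (op W)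
      (n • ee U W hU) =
      (toSheafify (Opens.grothendieckTopology X) (ZUpre U)).app (op W) 0 := by
    change ((toSheafify (Opens.grothendieckTopology X) (ZUpre U)).app (op W)).hom
      (n • ee U W hU) =
      ((toSheafify (Opens.grothendieckTopology X) (ZUpre U)).app (op W)).hom 0
    rw [map_zsmul, ← uu_eq, h, map_zero]
  have hmem := Presheaf.equalizerSieve_mem (Opens.grothendieckTopology X)
    (toSheafify (Opens.grothendieckTopology X) (ZUpre U)) (X := op W)
    (n • ee U W hU) 0 h1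
  obtain ⟨W', f, hf, hxW'⟩ := hmem x hx
  have hf' : ((ZUpre U).map f.op).hom (n • ee U W hU) = ((ZUpre U).map f.op).hom 0 := hf
  rw [map_zsmul, map_zero, ZUpre_map_ee] at hf'
  have hf'' : n • (FreeAbelianGroup.of (homOfLE ((leOfHom f).trans hU)) :
      FreeAbelianGroup (W' ⟶ U)) = 0 := hf'
  have h3 := congrArg (FreeAbelianGroup.lift (fun _ : (W' ⟶ U) => (1 : ℤ))) hf''
  rw [map_zsmul, FreeAbelianGroup.lift_apply_of, map_zero, smul_eq_mul, mul_one] at h3
  exact h3

end Groth.Agent.Lib.Helper5.ZUSect
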